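import Cfsg.Agent.H65.LyPerm.Enum

/-! Generated lists of elements of the G2(5) model by images of a base. -/

set_option autoImplicit false
set_option maxRecDepth 100000
set_option maxHeartbeats 0

namespace H65.LyPerm.Data

def cjPar_0 : H52.TCert.Tr := .node (.node (.node (.node (.node (.node (.node (.node (.leaf 0) (.leaf 131072)) (.node (.leaf 196608) (.leaf 262144))) (.node (.node (.leaf 327680) (.leaf 393216)) (.node (.leaf 458752) (.leaf 524288)))) (.node (.node (.node (.leaf 589824) (.leaf 1048576)) (.node (.leaf 65537) (.leaf 131073))) (.node (.node (.leaf 262145) (.leaf 327681)) (.node (.leaf 393217) (.leaf 458753))))) (.node (.node (.node (.node (.leaf 524289) (.leaf 589825)) (.node (.leaf 786433) (.leaf 851969))) (.node (.node (.leaf 917505) (.leaf 983041)) (.node (.leaf 65538) (.leaf 196610)))) (.node (.node (.node (.leaf 262146) (.leaf 327682)) (.node (.leaf 393218) (.leaf 458754))) (.node (.node (.leaf 524290) (.leaf 589826)) (.node (.leaf 786434) (.leaf 851970)))))) (.node (.node (.node (.node (.node (.leaf 917506) (.leaf 983042)) (.node (.leaf 393219) (.leaf 458755))) (.node (.node (.leaf 524291) (.leaf 589827))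 (.node (.leaf 786435) (.leaf 851971)))) (.node (.node (.node (.leaf 393220) (.leaf 458756)) (.node (.leaf 524292) (.leaf 589828))) (.node (.node (.leaf 786436) (.leaf 851972)) (.node (.leaf 5) (.leaf 65541))))) (.node (.node (.node (.node (.leaf 393221) (.leaf 524293)) (.node (.leaf 786437) (.leaf 851973))) (.node (.node (.leaf 917509) (.leaf 983045)) (.node (.leaf 6) (.leaf 65542)))) (.node (.node (.node (.leaf 458758) (.leaf 589830)) (.node (.leaf 786438) (.leaf 851974))) (.node (.node (.leaf 917510) (.leaf 983046)) (.node (.leaf 7) (.leaf 65543))))))) (.node (.node (.node (.node (.node (.node (.leaf 524295) (.leaf 786439)) (.node (.leaf 851975) (.leaf 917511))) (.node (.node (.leaf 983047) (.leaf 8)) (.node (.leaf 65544) (.leaf 589832)))) (.node (.node (.node (.leaf 786440) (.leaf 851976)) (.node (.leaf 917512) (.leaf 983048))) (.node (.node (.leaf 9) (.leaf 65545)) (.node (.leaf 131081) (.leaf 196617))))) (.node (.node (.node (.node (.leaf 262153) (.leaf 327689)) (.node (.leaf 393225) (.leaf 458761))) (.node (.node (.leaf 524297) (.leaf 786441)) (.node (.leaf 851977) (.leaf 917513)))) (.node (.node (.node (.leaf 983049) (.leaf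 131082)) (.node (.leaf 196618) (.leaf 393226))) (.node (.node (.leaf 458762) (.leaf 524298)) (.node (.leaf 589834) (.leaf 262155)))))) (.node (.node (.node (.node (.node (.leaf 327691) (.leaf 393227)) (.node (.leaf 458763) (.leaf 524299))) (.node (.node (.leaf 589835) (.leaf 12)) (.node (.leaf 393228) (.leaf 458764)))) (.node (.node (.node (.leaf 524300) (.leaf 589836)) (.node (.leaf 786444) (.leaf 851980))) (.node (.node (.leaf 917516) (.leaf 983052)) (.node (.leaf 327693) (.leaf 393229))))) (.node (.node (.node (.node (.leaf 458765) (.leaf 524301)) (.node (.leaf 589837) (.leaf 786445))) (.node (.node (.leaf 851981) (.leaf 917517)) (.node (.leaf 983053) (.leaf 14)))) (.node (.node (.node (.leaf 65550) (.leaf 393230)) (.node (.leaf 524302) (.leaf 589838))) (.node (.node (.leaf 917518) (.leaf 983054)) (.node (.leaf 15) (.leaf 65551)))))))) (.node (.node (.node (.node (.node (.node (.node (.leaf 458767) (.leaf 524303)) (.node (.leaf 589839) (.leaf 917519))) (.node (.node (.leaf 16) (.leaf 65552)) (.node (.leaf 524304) (.leaf 786448)))) (.node (.node (.node (.leaf 851984) (.leaf 17)) (.node (.leaf 65553) (.leaf 589841))) (.node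 (.node (.leaf 917521) (.leaf 196626)) (.node (.leaf 262162) (.leaf 327698))))) (.node (.node (.node (.node (.leaf 393234) (.leaf 589842)) (.node (.leaf 131091) (.leaf 196627))) (.node (.node (.leaf 262163) (.leaf 327699)) (.node (.leaf 393235) (.leaf 589843)))) (.node (.node (.node (.leaf 131092) (.leaf 196628)) (.node (.leaf 262164) (.leaf 327700))) (.node (.node (.leaf 393236) (.leaf 458772)) (.node (.leaf 524308) (.leaf 589844)))))) (.node (.node (.node (.node (.node (.leaf 786452) (.leaf 851988)) (.node (.leaf 131093) (.leaf 196629))) (.node (.node (.leaf 262165) (.leaf 327701)) (.node (.leaf 458773) (.leaf 524309)))) (.node (.node (.node (.leaf 589845) (.leaf 851989)) (.node (.leaf 196630) (.leaf 393238))) (.node (.node (.leaf 458774) (.leaf 524310)) (.node (.leaf 589846) (.leaf 327703))))) (.node (.node (.node (.node (.leaf 393239) (.leaf 458775)) (.node (.leaf 524311) (.leaf 589847))) (.node (.node (.leaf 393240) (.leaf 524312)) (.node (.leaf 786456) (.leaf 851992)))) (.node (.node (.node (.leaf 917528) (.leaf 983064)) (.node (.leaf 393241) (.leaf 458777))) (.node (.node (.leaf 524313) (.leaf 589849)) (.node (.leaf 786457)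 (.leaf 851993))))))) (.node (.node (.node (.node (.node (.node (.leaf 917529) (.leaf 983065)) (.node (.leaf 26) (.leaf 65562))) (.node (.node (.leaf 393242) (.leaf 524314)) (.node (.leaf 917530) (.leaf 27)))) (.node (.node (.node (.leaf 65563) (.leaf 458779)) (.node (.leaf 524315) (.leaf 917531))) (.node (.node (.leaf 983067) (.leaf 28)) (.node (.leaf 524316) (.leaf 917532))))) (.node (.node (.node (.node (.leaf 29) (.leaf 65565)) (.node (.leaf 589853) (.leaf 786461))) (.node (.node (.leaf 851997) (.leaf 262174)) (.node (.leaf 327710) (.leaf 458782)))) (.node (.node (.node (.leaf 524318) (.leaf 131103)) (.node (.leaf 196639) (.leaf 262175))) (.node (.node (.leaf 327711) (.leaf 131104)) (.node (.leaf 196640) (.leaf 327712)))))) (.node (.node (.node (.node (.node (.leaf 524320) (.leaf 852000)) (.node (.leaf 131105) (.leaf 196641))) (.node (.node (.leaf 262177) (.leaf 327713)) (.node (.leaf 393249) (.leaf 524321)))) (.node (.node (.node (.leaf 589857) (.leaf 34)) (.node (.leaf 65570) (.leaf 393250))) (.node (.node (.leaf 524322) (.leaf 786466)) (.node (.leaf 852002) (.leaf 983074))))) (.node (.node (.node (.node (.leaf 458787) (.leaf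 36)) (.node (.leaf 65572) (.leaf 852004))) (.node (.node (.leaf 983076) (.leaf 589861)) (.node (.leaf 786469) (.leaf 852005)))) (.node (.node (.node (.leaf 131110) (.leaf 196646)) (.node (.leaf 262182) (.leaf 327718))) (.node (.node (.leaf 393254) (.leaf 458790)) (.node (.leaf 524326) (.leaf 589862))))))))

def cjPar_1 : H52.TCert.Tr := .node (.node (.node (.node (.node (.node (.node (.node (.leaf 131111) (.leaf 196647)) (.node (.leaf 262183) (.leaf 327719))) (.node (.node (.leaf 393255) (.leaf 458791)) (.node (.leaf 524327) (.leaf 589863)))) (.node (.node (.node (.leaf 41) (.leaf 458793)) (.node (.leaf 589865) (.leaf 786473))) (.node (.node (.leaf 852009) (.leaf 983081)) (.node (.leaf 524330) (.leaf 786474))))) (.node (.node (.node (.node (.leaf 852010) (.leaf 43)) (.node (.leaf 65579) (.leaf 983083))) (.node (.node (.leaf 131116) (.leaf 196652)) (.node (.leaf 327724) (.leaf 393260)))) (.node (.node (.node (.leaf 458796) (.leaf 524332)) (.node (.leaf 589868) (.leaf 131117))) (.node (.node (.leaf 196653) (.leaf 262189)) (.node (.leaf 327725) (.leaf 393261)))))) (.node (.node (.node (.node (.node (.leaf 458797) (.leaf 524333))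 (.node (.leaf 589869) (.leaf 131118))) (.node (.node (.leaf 786478) (.leaf 852014)) (.node (.leaf 917550) (.leaf 262191)))) (.node (.node (.node (.leaf 393263) (.leaf 458799)) (.node (.leaf 589871) (.leaf 852015))) (.node (.node (.leaf 983087) (.leaf 524336)) (.node (.leaf 49) (.leaf 65585))))) (.node (.node (.node (.node (.leaf 524337) (.leaf 852017)) (.node (.leaf 917553) (.leaf 983089))) (.node (.node (.leaf 50) (.leaf 65586)) (.node (.leaf 131122) (.leaf 196658)))) (.node (.node (.node (.leaf 262194) (.leaf 327730)) (.node (.leaf 393266) (.leaf 458802))) (.node (.node (.leaf 524338) (.leaf 589874)) (.node (.leaf 65587) (.leaf 131123))))))) (.node (.node (.node (.node (.node (.node (.leaf 262195) (.leaf 393267)) (.node (.leaf 458803) (.leaf 524339))) (.node (.node (.leaf 196660) (.leaf 327732)) (.node (.leaf 393268) (.leaf 458804)))) (.node (.node (.node (.leaf 524340) (.leaf 393269)) (.node (.leaf 458805) (.leaf 524341))) (.node (.node (.leaf 196662) (.leaf 852022)) (.node (.leaf 327735) (.leaf 393271))))) (.node (.node (.node (.node (.leaf 458807) (.leaf 524343)) (.node (.leaf 589880) (.leaf 57))) (.node (.node (.leaf 65593)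 (.leaf 589881)) (.node (.leaf 917561) (.leaf 983097)))) (.node (.node (.node (.leaf 65594) (.leaf 131130)) (.node (.leaf 262202) (.leaf 327738))) (.node (.node (.leaf 458810) (.leaf 524346)) (.node (.leaf 196667) (.leaf 327739)))))) (.node (.node (.node (.node (.node (.leaf 393275) (.leaf 458811)) (.node (.leaf 589883) (.leaf 131132))) (.node (.node (.leaf 262204) (.leaf 458812)) (.node (.leaf 393277) (.leaf 458813)))) (.node (.node (.node (.leaf 589885) (.leaf 393278)) (.node (.leaf 458814) (.leaf 524350))) (.node (.node (.leaf 589886) (.leaf 786494)) (.node (.leaf 917566) (.leaf 327743))))) (.node (.node (.node (.node (.leaf 393279) (.leaf 458815)) (.node (.leaf 524351) (.leaf 852031))) (.node (.node (.leaf 983103) (.leaf 65)) (.node (.leaf 131137) (.leaf 262209)))) (.node (.node (.node (.leaf 327745) (.leaf 393281)) (.node (.leaf 458817) (.leaf 524353))) (.node (.node (.leaf 589889) (.leaf 917569)) (.node (.leaf 983105) (.leaf 65602)))))))) (.node (.node (.node (.node (.node (.node (.node (.leaf 196674) (.leaf 262210)) (.node (.leaf 327746) (.leaf 393282))) (.node (.node (.leaf 458818) (.leaf 524354)) (.node (.leaf 589890)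 (.leaf 262211)))) (.node (.node (.node (.leaf 196676) (.leaf 262212)) (.node (.leaf 524356) (.leaf 524357))) (.node (.node (.leaf 262214) (.leaf 393286)) (.node (.leaf 458822) (.leaf 589894))))) (.node (.node (.node (.node (.leaf 196680) (.leaf 262216)) (.node (.leaf 327752) (.leaf 458824))) (.node (.node (.leaf 524360) (.leaf 983112)) (.node (.leaf 131145) (.leaf 262217)))) (.node (.node (.node (.leaf 327753) (.leaf 393289)) (.node (.leaf 458825) (.leaf 524361))) (.node (.node (.leaf 589897) (.leaf 327754)) (.node (.leaf 131147) (.leaf 327755)))))) (.node (.node (.node (.node (.node (.leaf 589899) (.leaf 76)) (.node (.leaf 131148) (.leaf 196684))) (.node (.node (.leaf 262220) (.leaf 327756)) (.node (.leaf 393292) (.leaf 458828)))) (.node (.node (.node (.leaf 524364) (.leaf 589900)) (.node (.leaf 655436) (.leaf 720972))) (.node (.node (.leaf 786508) (.leaf 852044)) (.node (.leaf 65613) (.leaf 131149))))) (.node (.node (.node (.node (.leaf 196685) (.leaf 262221)) (.node (.leaf 327757) (.leaf 458829))) (.node (.node (.leaf 524365) (.leaf 589901)) (.node (.leaf 852045) (.leaf 983117)))) (.node (.node (.node (.leaf 65614) (.leaf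 131150)) (.node (.leaf 262222) (.leaf 327758))) (.node (.node (.leaf 393294) (.leaf 458830)) (.node (.leaf 786510) (.leaf 852046))))))) (.node (.node (.node (.node (.node (.node (.leaf 917582) (.leaf 983118)) (.node (.leaf 65615) (.leaf 196687))) (.node (.node (.leaf 262223) (.leaf 327759)) (.node (.leaf 393295) (.leaf 524367)))) (.node (.node (.node (.leaf 786511) (.leaf 852047)) (.node (.leaf 917583) (.leaf 983119))) (.node (.node (.leaf 80) (.leaf 131152)) (.node (.leaf 196688) (.leaf 262224))))) (.node (.node (.node (.node (.leaf 393296) (.leaf 458832)) (.node (.leaf 589904) (.leaf 786512))) (.node (.node (.leaf 852048) (.leaf 917584)) (.node (.leaf 983120) (.leaf 81)))) (.node (.node (.node (.leaf 327761) (.leaf 393297)) (.node (.leaf 458833) (.leaf 524369))) (.node (.node (.leaf 589905) (.leaf 786513)) (.node (.leaf 852049) (.leaf 917585)))))) (.node (.node (.node (.node (.node (.leaf 983121) (.leaf 393298)) (.node (.leaf 589906) (.leaf 852050))) (.node (.node (.leaf 917586) (.leaf 983122)) (.node (.leaf 83) (.leaf 262227)))) (.node (.node (.node (.leaf 327763) (.leaf 458835)) (.node (.leaf 524371) (.leaf 786515))) (.node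 (.node (.leaf 852051) (.leaf 917587)) (.node (.leaf 983123) (.leaf 84))))) (.node (.node (.node (.node (.leaf 458836) (.leaf 524372)) (.node (.leaf 786516) (.leaf 852052))) (.node (.node (.leaf 917588) (.leaf 983124)) (.node (.leaf 262229) (.leaf 327765)))) (.node (.node (.node (.leaf 393301) (.leaf 458837)) (.node (.leaf 524373) (.leaf 196694))) (.node (.node (.leaf 262230) (.leaf 327766)) (.node (.leaf 393302) (.leaf 458838))))))))

def cjPar_2 : H52.TCert.Tr := .node (.node (.node (.node (.node (.node (.node (.node (.leaf 524374) (.leaf 589910)) (.node (.leaf 655446) (.leaf 720982))) (.node (.node (.leaf 131159) (.leaf 196695)) (.node (.leaf 262231) (.leaf 393303)))) (.node (.node (.node (.leaf 458839) (.leaf 786519)) (.node (.leaf 852055) (.leaf 131160))) (.node (.node (.leaf 196696) (.leaf 393304)) (.node (.leaf 458840) (.leaf 655448))))) (.node (.node (.node (.node (.leaf 720984) (.leaf 852056)) (.node (.leaf 65625) (.leaf 393305))) (.node (.node (.leaf 786521) (.leaf 852057)) (.node (.leaf 65626) (.leaf 196698)))) (.node (.node (.node (.leaf 393306) (.leaf 524378)) (.node (.leaf 786522) (.leaf 852058))) (.node (.node (.leaf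 917594) (.leaf 983130)) (.node (.leaf 65627) (.leaf 393307)))))) (.node (.node (.node (.node (.node (.leaf 524379) (.leaf 589915)) (.node (.leaf 458844) (.leaf 524380))) (.node (.node (.leaf 852060) (.leaf 983132)) (.node (.leaf 786525) (.leaf 983133)))) (.node (.node (.node (.leaf 458847) (.leaf 524383)) (.node (.leaf 589919) (.leaf 786527))) (.node (.node (.leaf 917599) (.leaf 393312)) (.node (.leaf 458848) (.leaf 524384))))) (.node (.node (.node (.node (.leaf 589920) (.leaf 852064)) (.node (.leaf 589921) (.leaf 917601))) (.node (.node (.leaf 98) (.leaf 524386)) (.node (.leaf 589922) (.leaf 852066)))) (.node (.node (.node (.leaf 917602) (.leaf 786531)) (.node (.leaf 852067) (.leaf 100))) (.node (.node (.leaf 852068) (.leaf 983140)) (.node (.leaf 101) (.leaf 393317))))))) (.node (.node (.node (.node (.node (.node (.leaf 524389) (.leaf 589925)) (.node (.leaf 65638) (.leaf 393318))) (.node (.node (.leaf 524390) (.leaf 103)) (.node (.leaf 65639) (.leaf 458855)))) (.node (.node (.node (.leaf 524391) (.leaf 524392)) (.node (.leaf 786536) (.leaf 852072))) (.node (.node (.leaf 983144) (.leaf 65642)) (.node (.leaf 131178) (.leaf 262250)))))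 (.node (.node (.node (.node (.leaf 196715) (.leaf 589931)) (.node (.leaf 983147) (.leaf 131180))) (.node (.node (.leaf 262252) (.leaf 458860)) (.node (.leaf 589932) (.leaf 196717)))) (.node (.node (.node (.leaf 327789) (.leaf 458861)) (.node (.leaf 524397) (.leaf 458862))) (.node (.node (.leaf 589934) (.leaf 786542)) (.node (.leaf 917614) (.leaf 112)))))) (.node (.node (.node (.node (.node (.leaf 458864) (.leaf 524400)) (.node (.leaf 589936) (.leaf 917616))) (.node (.node (.leaf 983152) (.leaf 786545)) (.node (.leaf 114) (.leaf 65650)))) (.node (.node (.node (.leaf 589938) (.leaf 917618)) (.node (.leaf 65651) (.leaf 131187))) (.node (.node (.leaf 393331) (.leaf 589939)) (.node (.leaf 917619) (.leaf 983155))))) (.node (.node (.node (.node (.leaf 196724) (.leaf 327796)) (.node (.leaf 393332) (.leaf 458868))) (.node (.node (.leaf 524404) (.leaf 131189)) (.node (.leaf 196726) (.leaf 262262)))) (.node (.node (.node (.leaf 327798) (.leaf 393334)) (.node (.leaf 589942) (.leaf 131191))) (.node (.node (.leaf 196727) (.leaf 917623)) (.node (.leaf 524408) (.leaf 122)))))))) (.node (.node (.node (.node (.node (.node (.node (.leaf 852090)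 (.leaf 917626)) (.node (.leaf 786555) (.leaf 393340))) (.node (.node (.leaf 524412) (.leaf 852092)) (.node (.leaf 131198) (.leaf 458878)))) (.node (.node (.node (.leaf 589950) (.leaf 524417)) (.node (.leaf 130) (.leaf 65666))) (.node (.node (.leaf 983170) (.leaf 131203)) (.node (.leaf 196739) (.leaf 393347))))) (.node (.node (.node (.node (.leaf 458883) (.leaf 458884)) (.node (.leaf 983173) (.leaf 917638))) (.node (.node (.leaf 393351) (.leaf 589959)) (.node (.leaf 262280) (.leaf 524426)))) (.node (.node (.node (.leaf 458892) (.leaf 786574)) (.node (.leaf 983182) (.leaf 327823))) (.node (.node (.leaf 393359) (.leaf 327826)) (.node (.leaf 393362) (.leaf 917650)))))) (.node (.node (.node (.node (.node (.leaf 589971) (.leaf 148)) (.node (.leaf 262292) (.leaf 393364))) (.node (.node (.leaf 917652) (.leaf 149)) (.node (.leaf 589973) (.leaf 917653)))) (.node (.node (.node (.leaf 786584) (.leaf 852120)) (.node (.leaf 589981) (.leaf 327840))) (.node (.node (.leaf 524448) (.leaf 131233)) (.node (.leaf 196769) (.leaf 524449))))) (.node (.node (.node (.node (.leaf 458914) (.leaf 983203)) (.node (.leaf 458916) (.leaf 852135))) (.node (.node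 (.leaf 262313) (.leaf 589993)) (.node (.leaf 458922) (.leaf 852139)))) (.node (.node (.node (.leaf 589996) (.leaf 393391)) (.node (.leaf 917680) (.leaf 180))) (.node (.node (.leaf 917684) (.leaf 196790)) (.node (.leaf 524470) (.leaf 983222))))))) (.node (.node (.node (.node (.node (.node (.leaf 262327) (.leaf 196792)) (.node (.leaf 262329) (.leaf 524473))) (.node (.node (.leaf 393402) (.leaf 65723)) (.node (.leaf 458939) (.leaf 590013)))) (.node (.node (.node (.leaf 786621) (.leaf 327870)) (.node (.leaf 131263) (.leaf 131265))) (.node (.node (.leaf 262337) (.leaf 393409)) (.node (.leaf 196802) (.leaf 524482))))) (.node (.node (.node (.node (.leaf 196806) (.leaf 393414)) (.node (.leaf 458950) (.leaf 196807))) (.node (.node (.leaf 458963) (.leaf 786646)) (.node (.leaf 262362) (.leaf 219)))) (.node (.node (.node (.leaf 262363) (.leaf 852200)) (.node (.leaf 590066) (.leaf 262388))) (.node (.node (.leaf 459001) (.leaf 590073)) (.node (.leaf 917753) (.leaf 917756)))))) (.node (.node (.node (.node (.node (.leaf 65789) (.leaf 590079)) (.node (.leaf 852228) (.leaf 983303))) (.node (.node (.leaf 327955) (.leaf 393492)) (.node (.leaf 524564)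 (.leaf 917780)))) (.node (.node (.node (.leaf 65815) (.leaf 524569)) (.node (.leaf 852256) (.leaf 983329))) (.node (.node (.leaf 393510) (.leaf 459052)) (.node (.leaf 393537) (.leaf 459105))))) (.node (.node (.node (.node (.leaf 262561) (.leaf 328097)) (.node (.leaf 262562) (.leaf 328098))) (.node (.node (.leaf 393634) (.leaf 459170)) (.node (.leaf 524706) (.leaf 590242)))) (.node (.node (.node (.leaf 786850) (.leaf 852386)) (.node (.leaf 983458) (.leaf 262563))) (.node (.node (.leaf 328099) (.leaf 393635)) (.node (.leaf 524707) (.leaf 590243))))))))

def cjPar_3 : H52.TCert.Tr := .node (.node (.node (.node (.node (.node (.node (.node (.leaf 655779) (.leaf 721315)) (.node (.leaf 786851) (.leaf 852387))) (.node (.node (.leaf 983459) (.leaf 131492)) (.node (.leaf 393636) (.leaf 459172)))) (.node (.node (.node (.leaf 524708) (.leaf 786852)) (.node (.leaf 852388) (.leaf 131493))) (.node (.node (.leaf 459173) (.leaf 590245)) (.node (.leaf 786853) (.leaf 852389))))) (.node (.node (.node (.node (.leaf 131494) (.leaf 524710)) (.node (.leaf 786854) (.leaf 131495))) (.node (.node (.leaf 197031) (.leaf 721319)) (.node (.leaf 65960) (.leaf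 197032)))) (.node (.node (.node (.leaf 393640) (.leaf 524712)) (.node (.leaf 655784) (.leaf 721320))) (.node (.node (.leaf 786856) (.leaf 852392)) (.node (.leaf 917928) (.leaf 983464)))))) (.node (.node (.node (.node (.node (.leaf 425) (.leaf 65961)) (.node (.leaf 131497) (.leaf 459177))) (.node (.node (.leaf 590249) (.leaf 721321)) (.node (.leaf 786857) (.leaf 852393)))) (.node (.node (.node (.leaf 917929) (.leaf 983465)) (.node (.leaf 786858) (.leaf 852394))) (.node (.node (.leaf 786859) (.leaf 852395)) (.node (.leaf 131500) (.leaf 197036))))) (.node (.node (.node (.node (.leaf 262572) (.leaf 328108)) (.node (.leaf 459180) (.leaf 524716))) (.node (.node (.leaf 590252) (.leaf 65965)) (.node (.leaf 197037) (.leaf 262573)))) (.node (.node (.node (.leaf 328109) (.leaf 393645)) (.node (.leaf 524717) (.leaf 262574))) (.node (.node (.leaf 328110) (.leaf 459182)) (.node (.leaf 524718) (.leaf 655790))))))) (.node (.node (.node (.node (.node (.node (.leaf 721326) (.leaf 65967)) (.node (.leaf 131503) (.leaf 262575))) (.node (.node (.leaf 328111) (.leaf 459183)) (.node (.leaf 590255) (.leaf 721327)))) (.node (.node (.node (.leaf 786863)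 (.leaf 917935)) (.node (.leaf 983471) (.leaf 65968))) (.node (.node (.leaf 197040) (.leaf 393648)) (.node (.leaf 459184) (.leaf 524720))))) (.node (.node (.node (.node (.leaf 590256) (.leaf 655792)) (.node (.leaf 721328) (.leaf 786864))) (.node (.node (.leaf 852400) (.leaf 917936)) (.node (.leaf 983472) (.leaf 459185)))) (.node (.node (.node (.leaf 524721) (.leaf 852401)) (.node (.leaf 983473) (.leaf 459186))) (.node (.node (.leaf 590258) (.leaf 852402)) (.node (.leaf 983474) (.leaf 435)))))) (.node (.node (.node (.node (.node (.leaf 197043) (.leaf 524723)) (.node (.leaf 590259) (.leaf 786867))) (.node (.node (.leaf 436) (.leaf 65972)) (.node (.leaf 197044) (.leaf 786868)))) (.node (.node (.node (.leaf 852404) (.leaf 917940)) (.node (.leaf 983476) (.leaf 437))) (.node (.node (.leaf 65973) (.leaf 131509)) (.node (.leaf 590261) (.leaf 786869))))) (.node (.node (.node (.node (.leaf 917941) (.leaf 983477)) (.node (.leaf 131510) (.leaf 197046))) (.node (.node (.leaf 328118) (.leaf 393654)) (.node (.leaf 459190) (.leaf 524726)))) (.node (.node (.node (.leaf 590262) (.leaf 655798)) (.node (.leaf 721334) (.leaf 262583))) (.node (.node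 (.leaf 328119) (.leaf 393655)) (.node (.leaf 459191) (.leaf 590263)))))))) (.node (.node (.node (.node (.node (.node (.node (.leaf 655799) (.leaf 721335)) (.node (.leaf 459192) (.leaf 590264))) (.node (.node (.leaf 328121) (.leaf 442)) (.node (.leaf 262586) (.leaf 393658)))) (.node (.node (.node (.leaf 786874) (.leaf 917946)) (.node (.leaf 443) (.leaf 328123))) (.node (.node (.leaf 590267) (.leaf 786875)) (.node (.leaf 852411) (.leaf 917947))))) (.node (.node (.node (.node (.leaf 983483) (.leaf 852412)) (.node (.leaf 917948) (.leaf 983484))) (.node (.node (.leaf 262589) (.leaf 65982)) (.node (.leaf 131518) (.leaf 328126)))) (.node (.node (.node (.leaf 393662) (.leaf 524734)) (.node (.leaf 197055) (.leaf 328127))) (.node (.node (.leaf 524735) (.leaf 131520)) (.node (.leaf 197056) (.leaf 262592)))))) (.node (.node (.node (.node (.node (.leaf 393664) (.leaf 459200)) (.node (.leaf 524736) (.leaf 786880))) (.node (.node (.leaf 852416) (.leaf 131521)) (.node (.leaf 197057) (.leaf 393665)))) (.node (.node (.node (.leaf 459201) (.leaf 524737)) (.node (.leaf 590273) (.leaf 852417))) (.node (.node (.leaf 197058) (.leaf 524738)) (.node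 (.leaf 590274) (.leaf 328131))))) (.node (.node (.node (.node (.leaf 452) (.leaf 262596)) (.node (.leaf 459204) (.leaf 590276))) (.node (.node (.leaf 917956) (.leaf 983492)) (.node (.leaf 453) (.leaf 328133)))) (.node (.node (.node (.leaf 393669) (.leaf 524741)) (.node (.leaf 917957) (.leaf 983493))) (.node (.node (.leaf 65992) (.leaf 328136)) (.node (.leaf 524744) (.leaf 197065))))))) (.node (.node (.node (.node (.node (.node (.leaf 262601) (.leaf 590281)) (.node (.leaf 131530) (.leaf 197066))) (.node (.node (.leaf 393674) (.leaf 459210)) (.node (.leaf 786890) (.leaf 852426)))) (.node (.node (.node (.leaf 393675) (.leaf 459211)) (.node (.leaf 852427) (.leaf 262604))) (.node (.node (.leaf 328140) (.leaf 393676)) (.node (.leaf 262605) (.leaf 393677))))) (.node (.node (.node (.node (.leaf 786893) (.leaf 917965)) (.node (.leaf 262606) (.leaf 786894))) (.node (.node (.leaf 917966) (.leaf 983502)) (.node (.leaf 393679) (.leaf 459215)))) (.node (.node (.node (.leaf 524751) (.leaf 590287)) (.node (.leaf 852431) (.leaf 983503))) (.node (.node (.leaf 262608) (.leaf 590288)) (.node (.leaf 786896) (.leaf 852432)))))) (.node (.node (.node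 (.node (.node (.leaf 917968) (.leaf 983504)) (.node (.leaf 465) (.leaf 459217))) (.node (.node (.leaf 524753) (.leaf 917969)) (.node (.leaf 983505) (.leaf 466)))) (.node (.node (.node (.leaf 393682) (.leaf 786898)) (.node (.leaf 852434) (.leaf 917970))) (.node (.node (.leaf 983506) (.leaf 467)) (.node (.leaf 66003) (.leaf 197075))))) (.node (.node (.node (.node (.leaf 328147) (.leaf 983507)) (.node (.leaf 131540) (.leaf 197076))) (.node (.node (.leaf 262612) (.leaf 393684)) (.node (.leaf 262613) (.leaf 328149)))) (.node (.node (.node (.leaf 393685) (.leaf 524757)) (.node (.leaf 590293) (.leaf 786901))) (.node (.node (.leaf 852437) (.leaf 131542)) (.node (.leaf 328150) (.leaf 459222))))))))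

def cjPar_4 : H52.TCert.Tr := .node (.node (.node (.node (.node (.node (.node (.node (.leaf 524758) (.leaf 852438)) (.node (.leaf 471) (.leaf 524759))) (.node (.node (.leaf 655831) (.leaf 721367)) (.node (.leaf 786903) (.leaf 917975)))) (.node (.node (.node (.leaf 393688) (.leaf 524760)) (.node (.leaf 590296) (.leaf 852440))) (.node (.node (.leaf 131545) (.leaf 328153)) (.node (.leaf 393689) (.leaf 786905))))) (.node (.node (.node (.node (.leaf 917977) (.leaf 983513)) (.node (.leaf 474) (.leaf 328154))) (.node (.node (.leaf 459226) (.leaf 524762)) (.node (.leaf 786906) (.leaf 917978)))) (.node (.node (.node (.leaf 459227) (.leaf 786907)) (.node (.leaf 852443) (.leaf 917979))) (.node (.node (.leaf 476) (.leaf 393692)) (.node (.leaf 852444) (.leaf 917980)))))) (.node (.node (.node (.node (.node (.leaf 66013) (.leaf 197085)) (.node (.leaf 262621) (.leaf 655837))) (.node (.node (.leaf 721373) (.leaf 983517)) (.node (.leaf 983518) (.leaf 262623)))) (.node (.node (.node (.leaf 328159) (.leaf 393695)) (.node (.leaf 590303) (.leaf 655839))) (.node (.node (.leaf 786911) (.leaf 852447)) (.node (.leaf 393696) (.leaf 590304))))) (.node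 (.node (.node (.node (.leaf 852448) (.leaf 328161)) (.node (.leaf 262627) (.leaf 590307))) (.node (.node (.leaf 393700) (.leaf 393701)) (.node (.leaf 786918) (.leaf 262631)))) (.node (.node (.node (.leaf 786919) (.leaf 917991)) (.node (.leaf 983527) (.leaf 488))) (.node (.node (.leaf 328168) (.leaf 459240)) (.node (.leaf 524776) (.leaf 917992))))))) (.node (.node (.node (.node (.node (.node (.leaf 262633) (.leaf 786922)) (.node (.leaf 852458) (.leaf 917994))) (.node (.node (.leaf 983530) (.leaf 262635)) (.node (.leaf 328172) (.leaf 131565)))) (.node (.node (.node (.leaf 197101) (.leaf 786925)) (.node (.leaf 852461) (.leaf 459246))) (.node (.node (.leaf 852462) (.leaf 786927)) (.node (.leaf 328179) (.leaf 393716))))) (.node (.node (.node (.node (.leaf 786932) (.leaf 852468)) (.node (.leaf 852469) (.leaf 502))) (.node (.node (.leaf 262646) (.leaf 393718)) (.node (.leaf 852470) (.leaf 197111)))) (.node (.node (.node (.leaf 459255) (.leaf 590327)) (.node (.leaf 852471) (.leaf 66040))) (.node (.node (.leaf 262648) (.leaf 918008)) (.node (.leaf 505) (.leaf 197113)))))) (.node (.node (.node (.node (.node (.leaf 506) (.leaf 918010))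 (.node (.leaf 262652) (.leaf 510))) (.node (.node (.leaf 197118) (.leaf 852478)) (.node (.leaf 131583) (.leaf 459263)))) (.node (.node (.node (.leaf 852479) (.leaf 197120)) (.node (.leaf 393728) (.leaf 852480))) (.node (.node (.leaf 918016) (.leaf 852481)) (.node (.leaf 66052) (.leaf 459268))))) (.node (.node (.node (.node (.leaf 786948) (.leaf 852484)) (.node (.leaf 393733) (.leaf 786949))) (.node (.node (.leaf 852485) (.leaf 983557)) (.node (.leaf 786950) (.leaf 197127)))) (.node (.node (.node (.leaf 328199) (.leaf 393735)) (.node (.leaf 786951) (.leaf 852487))) (.node (.node (.leaf 786952) (.leaf 852488)) (.node (.leaf 918024) (.leaf 983560)))))))) (.node (.node (.node (.node (.node (.node (.node (.leaf 328201) (.leaf 393737)) (.node (.leaf 459273) (.leaf 524809))) (.node (.node (.leaf 131594) (.leaf 262666)) (.node (.leaf 459274) (.leaf 590346)))) (.node (.node (.node (.leaf 590347) (.leaf 786955)) (.node (.leaf 852491) (.leaf 524812))) (.node (.node (.leaf 590348) (.leaf 786956)) (.node (.leaf 852492) (.leaf 983564))))) (.node (.node (.node (.node (.leaf 66061) (.leaf 786957)) (.node (.leaf 852493) (.leaf 459278))) (.node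 (.node (.leaf 786958) (.leaf 983566)) (.node (.leaf 852495) (.leaf 852496)))) (.node (.node (.node (.leaf 262673) (.leaf 328209)) (.node (.leaf 393745) (.leaf 459281))) (.node (.node (.leaf 524817) (.leaf 590353)) (.node (.leaf 459504) (.leaf 787184)))))) (.node (.node (.node (.node (.node (.leaf 590578) (.leaf 787186)) (.node (.leaf 852722) (.leaf 590579))) (.node (.node (.leaf 787187) (.leaf 787188)) (.node (.leaf 983796) (.leaf 787189)))) (.node (.node (.node (.leaf 852725) (.leaf 787190)) (.node (.leaf 131831) (.leaf 459511))) (.node (.node (.leaf 590583) (.leaf 787191)) (.node (.leaf 852727) (.leaf 918263))))) (.node (.node (.node (.node (.leaf 760) (.leaf 197368)) (.node (.leaf 262904) (.leaf 328440))) (.node (.node (.leaf 393976) (.leaf 459512)) (.node (.leaf 525048) (.leaf 590584)))) (.node (.node (.node (.leaf 656120) (.leaf 721656)) (.node (.leaf 66297) (.leaf 131833))) (.node (.node (.leaf 262905) (.leaf 328441)) (.node (.leaf 459513) (.leaf 525049))))))) (.node (.node (.node (.node (.node (.node (.leaf 656121) (.leaf 721657)) (.node (.leaf 721658) (.leaf 852731))) (.node (.node (.leaf 787196) (.leaf 852732)) (.node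 (.leaf 983804) (.leaf 197373)))) (.node (.node (.node (.leaf 393981) (.leaf 525053)) (.node (.leaf 787197) (.leaf 393982))) (.node (.node (.leaf 918270) (.leaf 66305)) (.node (.leaf 787201) (.leaf 262914))))) (.node (.node (.node (.node (.leaf 328450) (.leaf 525058)) (.node (.leaf 590594) (.leaf 197379))) (.node (.node (.leaf 262915) (.leaf 393987)) (.node (.leaf 525059) (.leaf 66312)))) (.node (.node (.node (.leaf 852744) (.leaf 131849)) (.node (.leaf 197385) (.leaf 459529))) (.node (.node (.leaf 393994) (.leaf 459530)) (.node (.leaf 590605) (.leaf 787213)))))) (.node (.node (.node (.node (.node (.leaf 262926) (.leaf 459534)) (.node (.leaf 590606) (.leaf 787216))) (.node (.node (.leaf 66321) (.leaf 525073)) (.node (.leaf 590611) (.leaf 787219)))) (.node (.node (.node (.leaf 525078) (.leaf 525080)) (.node (.leaf 787224) (.leaf 656153))) (.node (.node (.leaf 721689) (.leaf 852762)) (.node (.leaf 787227) (.leaf 796))))) (.node (.node (.node (.node (.leaf 66332) (.leaf 328476)) (.node (.leaf 525084) (.leaf 918300))) (.node (.node (.leaf 394013) (.leaf 459549)) (.node (.leaf 590621) (.leaf 262944)))) (.node (.node (.node (.leaf 806)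 (.leaf 66342)) (.node (.leaf 262950) (.leaf 394022))) (.node (.node (.leaf 918310) (.leaf 983846)) (.node (.leaf 66343) (.leaf 983847))))))))

def cjPar_5 : H52.TCert.Tr := .node (.node (.node (.node (.node (.node (.node (.node (.leaf 459560) (.leaf 131881)) (.node (.leaf 262954) (.leaf 66347))) (.node (.node (.leaf 66349) (.leaf 328493)) (.node (.leaf 66350) (.leaf 918318)))) (.node (.node (.node (.leaf 983854) (.leaf 394031)) (.node (.leaf 459567) (.leaf 918320))) (.node (.node (.leaf 328497) (.leaf 459569)) (.node (.leaf 818) (.leaf 66354))))) (.node (.node (.node (.node (.leaf 459570) (.leaf 983858)) (.node (.leaf 983859) (.leaf 820))) (.node (.node (.leaf 983860) (.leaf 131893)) (.node (.leaf 328501) (.leaf 394037)))) (.node (.node (.node (.leaf 525109) (.leaf 852790)) (.node (.leaf 823) (.leaf 131895))) (.node (.node (.leaf 824) (.leaf 825)) (.node (.leaf 66361) (.leaf 918329)))))) (.node (.node (.node (.node (.node (.leaf 983865) (.leaf 826)) (.node (.leaf 66362) (.leaf 525114))) (.node (.node (.leaf 918330) (.leaf 394049)) (.node (.leaf 721734) (.leaf 656203)))) (.node (.node (.node (.leaf 66382) (.leaf 787278)) (.node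 (.leaf 851) (.leaf 66387))) (.node (.node (.leaf 66396) (.leaf 66400)) (.node (.leaf 66402) (.leaf 721765))))) (.node (.node (.node (.node (.leaf 918375) (.leaf 983911)) (.node (.leaf 66408) (.leaf 197480))) (.node (.node (.leaf 394089) (.leaf 918379)) (.node (.leaf 656236) (.leaf 983916)))) (.node (.node (.node (.leaf 879) (.leaf 721775)) (.node (.leaf 66419) (.leaf 884))) (.node (.node (.leaf 983924) (.leaf 888)) (.node (.leaf 983928) (.leaf 894))))))) (.node (.node (.node (.node (.node (.node (.leaf 895) (.leaf 983947)) (.node (.leaf 787343) (.leaf 852879))) (.node (.node (.leaf 852880) (.leaf 394131)) (.node (.leaf 919) (.leaf 921)))) (.node (.node (.node (.leaf 787357) (.leaf 787358)) (.node (.leaf 852894) (.leaf 787359))) (.node (.node (.leaf 852895) (.leaf 328612)) (.node (.leaf 590772) (.leaf 852917))))) (.node (.node (.node (.node (.leaf 328634) (.leaf 787394)) (.node (.leaf 852930) (.leaf 787396))) (.node (.node (.leaf 787397) (.leaf 852933)) (.node (.leaf 132039) (.leaf 852960)))) (.node (.node (.node (.leaf 852982) (.leaf 525307)) (.node (.leaf 853032) (.leaf 787508))) (.node (.node (.leaf 787523) (.leaf 787528))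 (.node (.leaf 787531) (.leaf 0)))))) (.leaf 0))) (.leaf 0)

def cjPar : H52.TCert.Tr := .node (.node (.node (cjPar_0) (cjPar_1)) (.node (cjPar_2) (cjPar_3))) (.node (.node (cjPar_4) (cjPar_5)) (.node (.leaf 0) (.leaf 0)))

def cjCode_0 : H52.TCert.Tr := .node (.node (.node (.node (.node (.node (.node (.node (.leaf 9706458919276537610240) (.leaf 8773744754038304473088)) (.node (.leaf 15104426778470367559680) (.leaf 10119764789511609810944))) (.node (.node (.leaf 2902006165873183850496) (.leaf 7078956651374002110464)) (.node (.leaf 6841439938346476044288) (.leaf 9873631693128050212864)))) (.node (.node (.node (.leaf 11410469374074360102912) (.leaf 71492286738021285888)) (.node (.leaf 2898462923909604376576) (.leaf 9705295336908261883904))) (.node (.node (.leaf 6176691691927611834368) (.leaf 8003009527306248617984)) (.node (.leaf 2893847789838818279424) (.leaf 8079679533897060876288))))) (.node (.node (.node (.node (.leaf 4006455040616371257344) (.leaf 3073704282933231255552)) (.node (.leaf 224841366977984495616) (.leaf 3687048601344973897728))) (.node (.node (.leaf 21439157167152183967744) (.leaf 7088170277390254243840)) (.node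 (.leaf 14692196542203936210944) (.leaf 12829728729159503872000)))) (.node (.node (.node (.leaf 7000670948082590253056) (.leaf 4690098199310212825088)) (.node (.leaf 2866178412103998799872) (.leaf 11032323682487956307968))) (.node (.node (.leaf 4089418206452763492352) (.leaf 5466003635103332728832)) (.node (.leaf 8822169919788870172672) (.leaf 86484664496890740736)))))) (.node (.node (.node (.node (.node (.leaf 7073286445981230366720) (.leaf 21753632581486327529472)) (.node (.leaf 20757778519608924241920) (.leaf 7359387646099852722176))) (.node (.node (.leaf 14349564459097080659968) (.leaf 10505545811978914988032)) (.node (.leaf 4863602621881275219968) (.leaf 8666623508390211977216)))) (.node (.node (.node (.leaf 15030748670029506117632) (.leaf 3099437155117610336256)) (.node (.leaf 4534547710385620353024) (.leaf 11469344196009869475840))) (.node (.node (.leaf 4408175754856041644032) (.leaf 21195891735053541343232)) (.node (.leaf 3009146800603519942656) (.leaf 2173262665796183818240))))) (.node (.node (.node (.node (.leaf 5764618078632551055360) (.leaf 8550067989292201213952)) (.node (.leaf 19152436162840293703680) (.leaf 14468121490557988569088)))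 (.node (.node (.leaf 19455955515464918138880) (.leaf 12358637342365680762880)) (.node (.leaf 794377483211394678784) (.leaf 2433832847876431183872)))) (.node (.node (.node (.leaf 5150120099730571034624) (.leaf 17220053818702377156608)) (.node (.leaf 21232301229022911823872) (.leaf 16500632154283222859776))) (.node (.node (.leaf 20939908520729096650752) (.leaf 3440480112524856459264)) (.node (.leaf 14368293411462644695040) (.leaf 17980983243398861193216))))))) (.node (.node (.node (.node (.node (.node (.leaf 1111425654688299024384) (.leaf 19431744342349893140480)) (.node (.leaf 10486983752341096923136) (.leaf 8663073859195497512960))) (.node (.node (.leaf 3080611889921772388352) (.leaf 19453792667441205411840)) (.node (.leaf 13933124679399710556160) (.leaf 1317866967299432808448)))) (.node (.node (.node (.leaf 11836479115124410875904) (.leaf 7800059020369279746048)) (.node (.leaf 8193827699778138570752) (.leaf 2482255551069918756864))) (.node (.node (.leaf 8418925430489297125376) (.leaf 14041664186116590141440)) (.node (.leaf 1520714055411734478848) (.leaf 1529927083234605203456))))) (.node (.node (.node (.node (.leaf 5144935242816807043072)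 (.leaf 4576279363210630561792)) (.node (.leaf 8402508427252444758016) (.leaf 214455996358152224768))) (.node (.node (.leaf 194848977015214768128) (.leaf 1385828082994639175680)) (.node (.leaf 5246966421193616326656) (.leaf 1791913055584523091968)))) (.node (.node (.node (.leaf 1579601863858449186816) (.leaf 12036520352485069684736)) (.node (.leaf 11894712133489059332096) (.leaf 7617736594681155944448))) (.node (.node (.leaf 938489891920499867648) (.leaf 21972389860102830686208)) (.node (.leaf 22214500109577988767744) (.leaf 18091748343570139250688)))))) (.node (.node (.node (.node (.node (.leaf 12682217372321928380416) (.leaf 16097092829083068694528)) (.node (.leaf 9884007986669511835648) (.leaf 12139128326910529404928))) (.node (.node (.leaf 1623332091574402220032) (.leaf 10916442230543616966656)) (.node (.leaf 6034975479670551937024) (.leaf 2044615521579316445184)))) (.node (.node (.node (.leaf 1116317672189261578240) (.leaf 5081215322870118252544)) (.node (.leaf 10074811890372186570752) (.leaf 10757988424877042270208))) (.node (.node (.leaf 4268362422433857470464) (.leaf 13961961893354379837440)) (.node (.leaf 21219630703055177940992)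 (.leaf 6816152965514622337024))))) (.node (.node (.node (.node (.leaf 11267554582434151563264) (.leaf 9259330826941909630976)) (.node (.leaf 4323745106577685905408) (.leaf 14575814769693275291648))) (.node (.node (.leaf 14534305303044714430464) (.leaf 17713776201296729407488)) (.node (.leaf 901595594503531692032) (.leaf 8668069306271328534528)))) (.node (.node (.node (.leaf 11064972529735704313856) (.leaf 9546267745678499676160)) (.node (.leaf 12913891998995803701248) (.leaf 4117094198805513961472))) (.node (.node (.leaf 7517058765634958458880) (.leaf 9991221488932381982720)) (.node (.leaf 17726767193111732846592) (.leaf 3087542648737175764992)))))))) (.node (.node (.node (.node (.node (.node (.node (.leaf 11426611860111710945280) (.leaf 9050446513285789450240)) (.node (.leaf 6577419330398127325184) (.leaf 1113731392155133968384))) (.node (.node (.leaf 15544918334147924492288) (.leaf 1887344430716421210112)) (.node (.leaf 10694519615384898142208) (.leaf 21243177188181569503232)))) (.node (.node (.node (.leaf 4742076275893379170304) (.leaf 7249590689683028344832)) (.node (.leaf 14979931072179918372864) (.leaf 14639797512314481737728)))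 (.node (.node (.leaf 9898414949151440961536) (.leaf 2870774793287787806720)) (.node (.leaf 20702237943464941486080) (.leaf 11364740600541111025664))))) (.node (.node (.node (.node (.leaf 20424017156232334868480) (.leaf 17146255444466278793216)) (.node (.leaf 14893451924186261946368) (.leaf 8671126366157542195200))) (.node (.node (.leaf 7134525244435738820608) (.leaf 21719220573302986801152)) (.node (.leaf 4439912818221166690304) (.leaf 5340334555954980519936)))) (.node (.node (.node (.leaf 20992999734044112322560) (.leaf 21943854178806889644032)) (.node (.leaf 16935282385947726479360) (.leaf 6576266373405279191040))) (.node (.node (.leaf 5132202296402468798464) (.leaf 7169352384033888075776)) (.node (.leaf 5336024171264005242880) (.leaf 6766907421528014389248)))))) (.node (.node (.node (.node (.node (.leaf 6662065762323773194240) (.leaf 21043142692136011759616)) (.node (.leaf 13876672829038724186112) (.leaf 4444625237097959620608))) (.node (.node (.leaf 8376268312738856763392) (.leaf 20881139393788782149632)) (.node (.leaf 5212375831811307569152) (.leaf 9995060809214590517248)))) (.node (.node (.node (.leaf 5583668338065405345792)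 (.leaf 21843842822126850408448)) (.node (.leaf 22094606934401706426368) (.leaf 14743573925477137416192))) (.node (.node (.leaf 11265336247721436446720) (.leaf 17857685698138122125312)) (.node (.leaf 5539107020996358766592) (.leaf 12511738217576267186176))))) (.node (.node (.node (.node (.leaf 6268439463527822589952) (.leaf 4996814613073652809728)) (.node (.leaf 5222738145878462889984) (.leaf 7440970204008222752768))) (.node (.node (.leaf 7899247440591085010944) (.leaf 5721383670198280552448)) (.node (.leaf 10083990789164078825472) (.leaf 9535927657141535997952)))) (.node (.node (.node (.leaf 7763108051656633679872) (.leaf 21984020722817046577152)) (.node (.leaf 9043805816505140150272) (.leaf 10085091719158575857664))) (.node (.node (.leaf 10542799477933775945728) (.leaf 7933363923913855664128)) (.node (.leaf 5373056280393627041792) (.leaf 7255929339450476494848))))))) (.node (.node (.node (.node (.node (.node (.leaf 22317396629652755644416) (.leaf 2146753847103381733376)) (.node (.leaf 15159017022748508717056) (.leaf 8224043935387609825280))) (.node (.node (.leaf 20990100418726719455232) (.leaf 5497141837945645367296)) (.node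 (.leaf 20656037164916456194048) (.leaf 7388155015290927874048)))) (.node (.node (.node (.leaf 8148962597162913202176) (.leaf 10911258443846498320384)) (.node (.leaf 12966914990266458505216) (.leaf 8735705979057865129984))) (.node (.node (.leaf 20192285844772279615488) (.leaf 20691552544921774358528)) (.node (.leaf 10546938626265476825088) (.leaf 17079787953645977796608))))) (.node (.node (.node (.node (.leaf 12807814318924761595904) (.leaf 12713270674280097185792)) (.node (.leaf 872772134585699336192) (.leaf 5173737590811025408000))) (.node (.node (.leaf 11660941714640480403456) (.leaf 6445367500919217750016)) (.node (.leaf 4351239934137913737216) (.leaf 2037212545457037443072)))) (.node (.node (.node (.leaf 5547869786022611058688) (.leaf 9863262084999537557504)) (.node (.leaf 8690727544706808086528) (.leaf 7578621617895562444800))) (.node (.node (.leaf 9252484474765132857344) (.leaf 4633707289069812482048)) (.node (.leaf 6955646441823449317376) (.leaf 2376466559040304611328)))))) (.node (.node (.node (.node (.node (.leaf 4415021855397071060992) (.leaf 5062490677020943581184)) (.node (.leaf 19432511460071956578304) (.leaf 10164643220324090740736)))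 (.node (.node (.leaf 4384815111901603790848) (.leaf 7469797255349790703616)) (.node (.leaf 9722697506488116871168) (.leaf 20761923787190933159936)))) (.node (.node (.node (.leaf 5919209501415837630464) (.leaf 21241503488410355400704)) (.node (.leaf 2307007858393313509376) (.leaf 6807016261045218246656))) (.node (.node (.leaf 20864938963416706777088) (.leaf 15720100841482038181888)) (.node (.leaf 22086925872227358801920) (.leaf 12758523054350880571392))))) (.node (.node (.node (.node (.leaf 12499228922005074870272) (.leaf 14369446373659974926336)) (.node (.leaf 15109613316481646624768) (.leaf 7685386325722001506304))) (.node (.node (.leaf 124537196077188808704) (.leaf 22272725152934642188288)) (.node (.leaf 17711194967046015614976) (.leaf 6601628782195544621056)))) (.node (.node (.node (.leaf 16815975704136799649792) (.leaf 21064458137906466127872)) (.node (.leaf 4687861391994696925184) (.leaf 9532360243069806379008))) (.node (.node (.leaf 20859248695204073340928) (.leaf 17036059378567892303872)) (.node (.leaf 21374594055902713511936) (.leaf 3326285654392138760192))))))))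

def cjCode_1 : H52.TCert.Tr := .node (.node (.node (.node (.node (.node (.node (.node (.leaf 5183546344233293217792) (.leaf 20478202496378131218432)) (.node (.leaf 16519146443528409350144) (.leaf 11163171423123183370240))) (.node (.node (.leaf 6714624033697367752704) (.leaf 3441539021386168172544)) (.node (.leaf 9719149858928550117376) (.leaf 2915820992783511486464)))) (.node (.node (.node (.leaf 913123155895921344512) (.leaf 10559722205938632294400)) (.node (.leaf 3346950165756458237952) (.leaf 14053500408774991446016))) (.node (.node (.leaf 6337712709737598222336) (.leaf 8056910706722701115392)) (.node (.leaf 9444848757987804905472) (.leaf 6655833651000365187072))))) (.node (.node (.node (.node (.leaf 3506046997631462342656) (.leaf 5887409056518248955904)) (.node (.leaf 14560267289838581415936) (.leaf 1942687301799814266880))) (.node (.node (.leaf 8838349007412970848256) (.leaf 10277512411285564850176)) (.node (.leaf 8755581322936055660544) (.leaf 19508598257234859982848)))) (.node (.node (.node (.leaf 9980944607497455566848) (.leaf 12810193150656528973824)) (.node (.leaf 6421875592531788595200) (.leaf 1944234363651716972544)))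 (.node (.node (.leaf 6592518542093720649728) (.leaf 5644774305124670701568)) (.node (.leaf 14117536877812176683008) (.leaf 6130103076163658874880)))))) (.node (.node (.node (.node (.node (.leaf 964314447000068063232) (.leaf 22087684235554144813056)) (.node (.leaf 18864186141394338742272) (.leaf 7873312460814621409280))) (.node (.node (.leaf 19454802629147904638976) (.leaf 16502096158760473264128)) (.node (.leaf 10621288200697937166336) (.leaf 14802943874448730521600)))) (.node (.node (.node (.leaf 5341497434823721025536) (.leaf 5193918206207096193024)) (.node (.leaf 11871634879552768638976) (.leaf 20941092369297843290112))) (.node (.node (.leaf 1321266973915089436672) (.leaf 19779524114797337935872)) (.node (.leaf 2877799473010286460928) (.leaf 2891667285380592205824))))) (.node (.node (.node (.node (.leaf 5250422336884618723328) (.leaf 13257525252902637305856)) (.node (.leaf 7797426315556975443968) (.leaf 20925780267019096915968))) (.node (.node (.leaf 15408811645402267025408) (.leaf 11356390258164610269184)) (.node (.leaf 6983826958430048813056) (.leaf 4320583656665273171968)))) (.node (.node (.node (.leaf 20401055729451897782272)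 (.leaf 9858644557884641411072)) (.node (.leaf 6895019245528696160256) (.leaf 7742457049342116462592))) (.node (.node (.leaf 21095620198219482333184) (.leaf 17716310720509875945472)) (.node (.leaf 22384552521988851040256) (.leaf 17217742944485796610048))))))) (.node (.node (.node (.node (.node (.node (.leaf 7398401106561649704960) (.leaf 11986067231519543525376)) (.node (.leaf 5504090716250965180416) (.leaf 7524009159021132120064))) (.node (.node (.leaf 14370418904889900171264) (.leaf 14778443299245301530624)) (.node (.leaf 12290159010624100204544) (.leaf 9732100037356238962688)))) (.node (.node (.node (.leaf 6046392336714297868288) (.leaf 22422271391404691193856)) (.node (.leaf 5656407909258521542656) (.leaf 19595347684010383802368))) (.node (.node (.leaf 5585911517773424164864) (.leaf 14506168463522894315520)) (.node (.leaf 13956404242415732555776) (.leaf 11688329719558678052864))))) (.node (.node (.node (.node (.leaf 10369378159050047029248) (.leaf 7447885023740430450688)) (.node (.leaf 1449275143398384664576) (.leaf 5472295733793713881088))) (.node (.node (.leaf 11063445173310798856192) (.leaf 18921762546883204939776)) (.node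 (.leaf 17735973152522240950272) (.leaf 18775340072919978541056)))) (.node (.node (.node (.leaf 8130470148580196253696) (.leaf 10245039761454828978176)) (.node (.leaf 2003790346998192963584) (.leaf 19410600428770658451456))) (.node (.node (.leaf 5827214633191616053248) (.leaf 5862029824131703865344)) (.node (.leaf 10721271079071138512896) (.leaf 5849942083796722057216)))))) (.node (.node (.node (.node (.node (.leaf 18581890773895544209408) (.leaf 20356366477182690983936)) (.node (.leaf 20252474069235907493888) (.leaf 6809733523459955163136))) (.node (.node (.leaf 8218037046056799764480) (.leaf 7872729577216889159680)) (.node (.leaf 7869853592835038773248) (.leaf 4902332048560139436032)))) (.node (.node (.node (.leaf 7294543859953046814720) (.leaf 10090917020393478062080)) (.node (.leaf 109549465307582758912) (.leaf 4543745780168783069184))) (.node (.node (.leaf 7803520671561760833536) (.leaf 4082509614350122254336)) (.node (.leaf 20240703771301783076864) (.leaf 7597766015591865516032))))) (.node (.node (.node (.node (.leaf 20314559672567145463808) (.leaf 15734327612983275782144)) (.node (.leaf 20330631683844419649536) (.leaf 727515142986569777152)))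 (.node (.node (.leaf 6405649088188495560704) (.leaf 2887242043802350092288)) (.node (.leaf 22375334673738382573568) (.leaf 12505760495469289046016)))) (.node (.node (.node (.leaf 5830326159924649197568) (.leaf 7744752617501022355456)) (.node (.leaf 6810900058491545649152) (.leaf 2881637352537137741824))) (.node (.node (.leaf 17942345611709537779712) (.leaf 7852962667127114760192)) (.node (.leaf 12800997628278536175616) (.leaf 4549445782335319015424)))))))) (.node (.node (.node (.node (.node (.node (.node (.leaf 14890091430011307786240) (.leaf 18351306586605048102912)) (.node (.leaf 22186157558377788833792) (.leaf 5075238291372394479616))) (.node (.node (.leaf 22473978901922066169856) (.leaf 6134775300495591931904)) (.node (.leaf 22049917319397814796288) (.leaf 3353295224991655034880)))) (.node (.node (.node (.leaf 4177038341200052682752) (.leaf 12559370718019335389184)) (.node (.leaf 9772175375169675657216) (.leaf 12344744899082724442112))) (.node (.node (.leaf 17159402435174688161792) (.leaf 6902555579571537248256)) (.node (.leaf 1889656293425096916992) (.leaf 10165563613609259925504))))) (.node (.node (.node (.node (.leaf 8389912562987221319680)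 (.leaf 4441071861640085274624)) (.node (.leaf 8159245031231427608576) (.leaf 6690787606782492737536))) (.node (.node (.leaf 1892270857763354345472) (.leaf 12241807691065838960640)) (.node (.leaf 5936969613591615668224) (.leaf 6786114993589053915136)))) (.node (.node (.node (.leaf 4442218558564555948032) (.leaf 6784962343426465234944)) (.node (.leaf 9737588803135490326528) (.leaf 19935251589488785522688))) (.node (.node (.leaf 22257168965179825553408) (.leaf 12814117461591984340992)) (.node (.leaf 19019764674587116240896) (.leaf 15428505843139901292544)))))) (.node (.node (.node (.node (.node (.leaf 21365941570190826995712) (.leaf 39215551311081701376)) (.node (.leaf 20196090480038983827456) (.leaf 21889631538885542084608))) (.node (.node (.leaf 1523339067581148889088) (.leaf 8435214976690046828544)) (.node (.leaf 17109923514410882662400) (.leaf 16406576024244605681664)))) (.node (.node (.node (.leaf 21194479970819769204736) (.leaf 15378253635401599451136)) (.node (.leaf 8442178007402233135104) (.leaf 8427159843207324827648))) (.node (.node (.leaf 20485590176392091435008) (.leaf 15115381521519819882496)) (.node (.leaf 8399048466375483916288)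 (.leaf 21244112948206884618240))))) (.node (.node (.node (.node (.leaf 21353740060555314364416) (.leaf 13435573749922605694976)) (.node (.leaf 14191910812322094776320) (.leaf 221421375943946338304))) (.node (.node (.leaf 14741623732363074240512) (.leaf 6149001822770634620928)) (.node (.leaf 8288414110989566377984) (.leaf 1538004077937653383168)))) (.node (.node (.node (.leaf 11139014768478312595456) (.leaf 7628890990532978868224)) (.node (.leaf 15140570631285229551616) (.leaf 6071870269821142859776))) (.node (.node (.leaf 8493579550482780717056) (.leaf 204079986303859490816)) (.node (.leaf 7630048662065254924288) (.leaf 7406383613966316273664))))))) (.node (.node (.node (.node (.node (.node (.leaf 17015015594690922381312) (.leaf 16076571130667423662080)) (.node (.leaf 15108286864426669047808) (.leaf 7404072774841764216832))) (.node (.node (.leaf 22345364514915075031040) (.leaf 7931355639599720464384)) (.node (.leaf 21272570585437341548544) (.leaf 205241490739040419840)))) (.node (.node (.node (.leaf 7405222037105100095488) (.leaf 7631200140982690578432)) (.node (.leaf 16643625059634035523584) (.leaf 16340985099817342369792)))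 (.node (.node (.leaf 20653593611535527936000) (.leaf 21464527424066395897856)) (.node (.leaf 15021793694520143314944) (.leaf 4804241009645167542272))))) (.node (.node (.node (.node (.leaf 6922688868663989436416) (.leaf 6146840109714566873088)) (.node (.leaf 6090330454197272903680) (.leaf 6989081761726278467584))) (.node (.node (.leaf 20789489613731317350400) (.leaf 21021582282598774145024)) (.node (.leaf 21054055491838364614656) (.leaf 10530061643510642769920)))) (.node (.node (.node (.leaf 16152723931678636310528) (.leaf 12003359720907180507136)) (.node (.leaf 3445039706136940544000) (.leaf 14819080369565036871680))) (.node (.node (.leaf 8184015631537694474240) (.leaf 10859374829788339535872)) (.node (.leaf 10861688556277670772736) (.leaf 11375325723555148398592)))))) (.node (.node (.node (.node (.node (.leaf 1856670994259953713152) (.leaf 8571975116929932263424)) (.node (.leaf 1377753407439713140736) (.leaf 8412875045514634788864))) (.node (.node (.leaf 16609582239407007891456) (.leaf 1788764161978869579776)) (.node (.leaf 17461587014570558455808) (.leaf 21472478668825020399616)))) (.node (.node (.node (.leaf 15290299802706334875648)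 (.leaf 3042579835655695695872)) (.node (.leaf 8373677649134469840896) (.leaf 5755393229128020459520))) (.node (.node (.leaf 4036397926662608945152) (.leaf 1780271739728431251456)) (.node (.leaf 16010889151657896804352) (.leaf 17991696825069717258240))))) (.node (.node (.node (.node (.leaf 14163658841751187161088) (.leaf 13145623310473040560128)) (.node (.leaf 13019959055180697894912) (.leaf 5660863059859494830080))) (.node (.node (.leaf 1776083532803875110912) (.leaf 1847020363858662096896)) (.node (.leaf 13481130821935444721664) (.leaf 5628569611889099341824)))) (.node (.node (.node (.leaf 1548386317817313165312) (.leaf 1222103585675377311744)) (.node (.leaf 16517922300322739060736) (.leaf 71591084655634448384))) (.node (.node (.leaf 12860853950495374606336) (.leaf 1233635334273261568000)) (.node (.leaf 20276439825864553070592) (.leaf 1214046048199601455104))))))))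

def cjCode_2 : H52.TCert.Tr := .node (.node (.node (.node (.node (.node (.node (.node (.leaf 20318016459393475215360) (.leaf 3760844514633531424768)) (.node (.leaf 4037602709932750209024) (.leaf 5662015946298916667392))) (.node (.node (.leaf 11221552173342256660480) (.leaf 16430625276069347393536)) (.node (.leaf 12734807947615830016) (.leaf 12489979885874377162752)))) (.node (.node (.node (.leaf 11696495356858091175936) (.leaf 17176800527228611690496)) (.node (.leaf 15250173195157475098624) (.leaf 21849442082532618141696))) (.node (.node (.leaf 2118208219192535941120) (.leaf 21692625166051943710720)) (.node (.leaf 16558416454457881722880) (.leaf 17241380301701309693952))))) (.node (.node (.node (.node (.leaf 16814824294168667258880) (.leaf 11354332500072836792320)) (.node (.leaf 12631416906725418631168) (.leaf 7138906036275415384064))) (.node (.node (.leaf 4853909532469387296768) (.leaf 10133319327862892363776)) (.node (.leaf 10540303776937844965376) (.leaf 2937756938920581890048)))) (.node (.node (.node (.leaf 7140056037476065148928) (.leaf 6298523792080223404032)) (.node (.leaf 8063546235886755086336) (.leaf 4525624836640794574848)))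 (.node (.node (.leaf 10972903226060341444608) (.leaf 3679252239102822481920)) (.node (.leaf 8839501987928273780736) (.leaf 3017206590591000412160)))))) (.node (.node (.node (.node (.node (.leaf 16652807923698577735680) (.leaf 4906947112050652413952)) (.node (.leaf 980004673207708123136) (.leaf 22040472285522592071680))) (.node (.node (.leaf 5124754387232136232960) (.leaf 14897155044318856675328)) (.node (.leaf 10240359151070335565824) (.leaf 8548925728651263246336)))) (.node (.node (.node (.leaf 9879509471731578241024) (.leaf 10172826522454573580288)) (.node (.leaf 12362174427348742373376) (.leaf 19477960381262910029824))) (.node (.node (.leaf 11913150328510896832512) (.leaf 12073974260272505225216)) (.node (.leaf 7126557133698142666752) (.leaf 6877753488681031106560))))) (.node (.node (.node (.node (.leaf 12299700493360808165376) (.leaf 6778609987595895341056)) (.node (.leaf 10341716451921733550080) (.leaf 19924122012822800793600))) (.node (.node (.leaf 8392139419186696355840) (.leaf 20969345650036631339008)) (.node (.leaf 4187423676723561136128) (.leaf 10203526312242002624512)))) (.node (.node (.node (.leaf 9040597495640333025280)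 (.leaf 1450578490899181142016)) (.node (.leaf 951176602685433610240) (.leaf 7331538378386393300992))) (.node (.node (.leaf 11802476796556027527168) (.leaf 9871424163914186162176)) (.node (.leaf 6764272145325169999872) (.leaf 19267927557191441416192))))))) (.node (.node (.node (.node (.node (.node (.leaf 21656909132131375349760) (.leaf 8264609948322127740928)) (.node (.leaf 20949754334509321551872) (.leaf 6501911356935745961984))) (.node (.node (.leaf 7796347156627102498816) (.leaf 8944946507954606964736)) (.node (.leaf 22091513207257607307264) (.leaf 6336559832682681696256)))) (.node (.node (.node (.leaf 2888557449523621724160) (.leaf 6055275385137530798080)) (.node (.leaf 20866840169160240136192) (.leaf 2901040005078282600448))) (.node (.node (.leaf 5368013221846489137152) (.leaf 2861570913085979787264)) (.node (.leaf 6056893267729523310592) (.leaf 10269092146393733300224))))) (.node (.node (.node (.node (.leaf 5076321970031656730624) (.leaf 9188793927025004412928)) (.node (.leaf 20067765609672343453696) (.leaf 20889219019989257682944))) (.node (.node (.leaf 12819402080756322304000) (.leaf 10075512622327780016128)) (.node (.leaf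 7802397880714154409984) (.leaf 20324865739360340246528)))) (.node (.node (.node (.leaf 22199914648284355198976) (.leaf 17729713803651177742336)) (.node (.leaf 5415291271805900750848) (.leaf 2041156682135477518336))) (.node (.node (.leaf 22427013479495726104576) (.leaf 20517975649727602262016)) (.node (.leaf 22438605956435864256512) (.leaf 20138429314327229300736)))))) (.node (.node (.node (.node (.node (.leaf 21912496772977754669056) (.leaf 7236242584303886237696)) (.node (.leaf 6870330283779276701696) (.leaf 796682024598557458432))) (.node (.node (.leaf 13707199595704764104704) (.leaf 16568637724467269107712)) (.node (.leaf 6812626262782906630144) (.leaf 16129626663503990816768)))) (.node (.node (.node (.leaf 5373838042972772663296) (.leaf 13586512669015208689664)) (.node (.leaf 8010903799399871315968) (.leaf 17725086363464005517312))) (.node (.node (.leaf 4792776676740529586176) (.leaf 7684626871049390292992)) (.node (.leaf 8276260368341720301568) (.leaf 4014540691758360592384))))) (.node (.node (.node (.node (.leaf 20692745793366825795584) (.leaf 11503861223015540359168)) (.node (.leaf 7164736087355123466240) (.leaf 10065476382312966815744)))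 (.node (.node (.leaf 2477698593070968897536) (.leaf 22514801223293060644864)) (.node (.leaf 14555646381139168821248) (.leaf 19932178588874379165696)))) (.node (.node (.node (.leaf 12569746480860724822016) (.leaf 5723117513951234555904)) (.node (.leaf 14745008319761577639936) (.leaf 14106101692822337814528))) (.node (.node (.leaf 5898514089100831981568) (.leaf 10060974612110811365376)) (.node (.leaf 7842286036899223175168) (.leaf 20806792198544804970496)))))))) (.node (.node (.node (.node (.node (.node (.node (.leaf 10260102729374123720704) (.leaf 19352993188438111354880)) (.node (.leaf 5921482535194572783616) (.leaf 5678158148840506949632))) (.node (.node (.leaf 5525955553342888771584) (.leaf 17768058295322866417664)) (.node (.leaf 21742385552759175708672) (.leaf 16128518078120056946688)))) (.node (.node (.node (.leaf 6491540766530004680704) (.leaf 20053927206729812475904)) (.node (.leaf 9254614071078002655232) (.leaf 4550598665850884227072))) (.node (.node (.leaf 7299157669804890161152) (.leaf 4978386974132244283392)) (.node (.leaf 6411650310654629380096) (.leaf 8102843133431744266240))))) (.node (.node (.node (.node (.leaf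 9538136961280704118784) (.leaf 113001120727103373312)) (.node (.leaf 10237955988135170146304) (.leaf 6325520177032495169536))) (.node (.node (.leaf 6444258671831265705984) (.leaf 1372383439793425416192)) (.node (.leaf 8756552341288500133888) (.leaf 10190776061462463021056)))) (.node (.node (.node (.leaf 20736985540963479781376) (.leaf 8004129132594923372544)) (.node (.leaf 21603851837590370877440) (.leaf 11420015966992148037632))) (.node (.node (.leaf 16142257184719380250624) (.leaf 2886016821087789744128)) (.node (.leaf 16491391313024163184640) (.leaf 4784727091570648743936)))))) (.node (.node (.node (.node (.node (.leaf 20104663423228708290560) (.leaf 1419350553736734343168)) (.node (.leaf 3660635835913881583616) (.leaf 18408989571352022155264))) (.node (.node (.leaf 22456001165628155985920) (.leaf 6539388686422142746624)) (.node (.leaf 12180718728461784743936) (.leaf 7258180881831332511744)))) (.node (.node (.node (.leaf 2910055964937804775424) (.leaf 20215436260664326553600)) (.node (.leaf 11110132937763377283072) (.leaf 2039658320466781962240))) (.node (.node (.leaf 4987830616675361161216) (.leaf 11113264417444503322624))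 (.node (.leaf 15727083879865582780416) (.leaf 18254590624492575096832))))) (.node (.node (.node (.node (.leaf 7344123319761657561088) (.leaf 20659272748102275727360)) (.node (.leaf 18865429568518906085376) (.leaf 6595946658758152978432))) (.node (.node (.leaf 7141208923707182383104) (.leaf 11497418700468057866240)) (.node (.leaf 14054226449655379165184) (.leaf 9870414934330770259968)))) (.node (.node (.node (.leaf 3320744561409242333184) (.leaf 12969285130672340762624)) (.node (.leaf 18580500068226740387840) (.leaf 12393087165072118579200))) (.node (.node (.leaf 11499258333389712424960) (.leaf 17069611580163458203648)) (.node (.leaf 16943940098632664907776) (.leaf 22250512478213903122432))))))) (.node (.node (.node (.node (.node (.node (.leaf 22262986535130000687104) (.leaf 10893199973743443771392)) (.node (.leaf 14564283210692427350016) (.leaf 9034586570617595920384))) (.node (.node (.leaf 22364807046912620986368) (.leaf 5122838011049870163968)) (.node (.leaf 21922883160745702522880) (.leaf 8009416555992750161920)))) (.node (.node (.node (.leaf 14408073979458960556032) (.leaf 11158167908385083523072)) (.node (.leaf 12480389080062814224384)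 (.leaf 13024567938656734838784))) (.node (.node (.leaf 12391984871706823589888) (.leaf 15733174644078341816320)) (.node (.leaf 1154156452617724919808) (.leaf 9861192407945119891456))))) (.node (.node (.node (.node (.leaf 20884348545975584063488) (.leaf 6517759024141791723520)) (.node (.leaf 7155614222228526497792) (.leaf 4217469212944521003008))) (.node (.node (.leaf 9307651169362021384192) (.leaf 10782506794537985703936)) (.node (.leaf 6054575180434314199040) (.leaf 20709071587039630393344)))) (.node (.node (.node (.leaf 5584821225719224401920) (.leaf 17814174981598546984960)) (.node (.leaf 15451839029816891179008) (.leaf 12738064552646625099776))) (.node (.node (.leaf 11103138602090104160256) (.leaf 22261013810400654065664)) (.node (.leaf 20756061047705358073856) (.leaf 7687700472291341271040)))))) (.node (.node (.node (.node (.node (.leaf 21898701434455750672384) (.leaf 22376227187902323687424)) (.node (.leaf 15136809139332239753216) (.leaf 5852250916492943687680))) (.node (.node (.leaf 5372009183160474697728) (.leaf 22179158950050545467392)) (.node (.leaf 14298826433525691383808) (.leaf 12240645767863830478848)))) (.node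 (.node (.node (.leaf 9808135001270038691840) (.leaf 6868062838343551352832)) (.node (.leaf 12327628825266322571264) (.leaf 2867335380076612354048))) (.node (.node (.leaf 8222929897771346067456) (.leaf 4688950655762857230336)) (.node (.leaf 9068891849755906834432) (.leaf 15410059392317965107200))))) (.node (.node (.node (.node (.leaf 18735556663331483090944) (.leaf 14387602519908152410112)) (.node (.leaf 15024212545669468323840) (.leaf 20107075327617463025664))) (.node (.node (.leaf 7551063839709470949376) (.leaf 14509690599360106364928)) (.node (.leaf 16646425143862713483264) (.leaf 16178385765720277188608)))) (.node (.node (.node (.leaf 9215906669949211377664) (.leaf 22136498716297065725952)) (.node (.leaf 1355852123874861154304) (.leaf 22229529719181126729728))) (.node (.node (.leaf 17440443594516419117056) (.leaf 13731883912726225715200)) (.node (.leaf 6858828972657974018048) (.leaf 20602182425131324014592))))))))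

def cjCode_3 : H52.TCert.Tr := .node (.node (.node (.node (.node (.node (.node (.node (.leaf 20851129788521200025600) (.leaf 20846420185670854705152)) (.node (.leaf 14029026906600564064256) (.leaf 19582874763069172514816))) (.node (.node (.leaf 22388599201615936421888) (.leaf 20111872295763375882240)) (.node (.leaf 8538931763790287568896) (.leaf 8371983784375972265984)))) (.node (.node (.node (.leaf 16013162269505240268800) (.leaf 20635163235154802147328)) (.node (.leaf 12521317833169440079872) (.leaf 20845417291091191070720))) (.node (.node (.leaf 13398262283487530975232) (.leaf 19302822825848938463232)) (.node (.leaf 20557017085210945290240) (.leaf 14196438091116714393600))))) (.node (.node (.node (.node (.leaf 5558534608583327252480) (.leaf 18610685377846891839488)) (.node (.leaf 6302083503296753664000) (.leaf 14918062320753231298560))) (.node (.node (.leaf 6208587544705821605888) (.leaf 13074732550179601514496)) (.node (.leaf 3755649791480819941376) (.leaf 6388461874120857321472)))) (.node (.node (.node (.leaf 2773235488367041380352) (.leaf 17570636394046714183680)) (.node (.leaf 20710164020731015168000) (.leaf 17441767547718677135360)))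 (.node (.node (.leaf 18099772911125643526144) (.leaf 5443526666878243962880)) (.node (.leaf 11977715655937674870784) (.leaf 22387445644827685879808)))))) (.node (.node (.node (.node (.node (.leaf 15183420071149260046336) (.leaf 18759207158871158652928)) (.node (.leaf 16185273607619361964032) (.leaf 20282601576594613993472))) (.node (.node (.leaf 17382028813659757772800) (.leaf 13855143987682957623296)) (.node (.leaf 8126026303896530223104) (.leaf 11483493875123415875584)))) (.node (.node (.node (.leaf 1247468280999930396672) (.leaf 17258094704449862828032)) (.node (.leaf 19633656183019723194368) (.leaf 13447875134983240941568))) (.node (.node (.leaf 19636618961846532210688) (.leaf 14052338777267901825024)) (.node (.leaf 9904065485800540635136) (.leaf 17790169088293347393536))))) (.node (.node (.node (.node (.leaf 5352273363229838508032) (.leaf 4847121793411740794880)) (.node (.leaf 15763946058397213982720) (.leaf 20779565914387083231232))) (.node (.node (.leaf 8225206722636113412096) (.leaf 5049146282642794381312)) (.node (.leaf 21436890267514459684864) (.leaf 19377725986094731132928)))) (.node (.node (.node (.leaf 14213745872566819848192)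 (.leaf 10052676219190254043136)) (.node (.leaf 2255348304135382827008) (.leaf 16953144969800511193088))) (.node (.node (.leaf 14807355783117093896192) (.leaf 12445796722264225415168)) (.node (.leaf 11762117927026292752384) (.leaf 17992504965192652750848))))))) (.node (.node (.node (.node (.node (.node (.leaf 19766850879770396262400) (.leaf 19296459047914635231232)) (.node (.leaf 3852014446267685044224) (.leaf 8460441343432785395712))) (.node (.node (.leaf 7636365672531245400064) (.leaf 15493421544526150041600)) (.node (.leaf 15289298674895828713472) (.leaf 15942929140608943521792)))) (.node (.node (.node (.leaf 16809840259394339897344) (.leaf 6687025510426723418112)) (.node (.leaf 5402606074408127365120) (.leaf 6372283013607054442496))) (.node (.node (.leaf 16388023008626852495360) (.leaf 14830642479278158544896)) (.node (.leaf 5069970382904676646912) (.leaf 13495071204471990157312))))) (.node (.node (.node (.node (.leaf 201822783119611461632) (.leaf 10315362846827306975232)) (.node (.leaf 19906769346604359909376) (.leaf 19913850250519613308928))) (.node (.node (.leaf 9556692884574190796800) (.leaf 1397360567432090124288)) (.node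 (.leaf 3040268574254252064768) (.leaf 212245689582506803200)))) (.node (.node (.node (.leaf 14398169685487784591360) (.leaf 20335757666714565771264)) (.node (.leaf 8421019453355421270016) (.leaf 192559644054651207680))) (.node (.node (.leaf 15499975893293568557056) (.leaf 19778530201839395176448)) (.node (.leaf 8437088895056841474048) (.leaf 8362141819224585207808)))))) (.node (.node (.node (.node (.node (.leaf 8456694861537945387008) (.leaf 13633852688116755628032)) (.node (.leaf 5451606168824292868096) (.leaf 13105361305616692346880))) (.node (.node (.leaf 16679892121950102913024) (.leaf 20393283368138754555904)) (.node (.leaf 15650048832667715141632) (.leaf 2841252509270037069824)))) (.node (.node (.node (.leaf 11590821840052553056256) (.leaf 9787222253407096078336)) (.node (.leaf 12149495858207606112256) (.leaf 1695367357971502006272))) (.node (.node (.leaf 19815273897846191390720) (.leaf 1086405639482918731776)) (.node (.leaf 15443837485371279310848) (.leaf 843955261732527865856))))) (.node (.node (.node (.node (.leaf 6518636624221803970560) (.leaf 5517901989615952658432)) (.node (.leaf 13343155631325474816000) (.leaf 11006371635621788483584)))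 (.node (.node (.leaf 5982887676304430104576) (.leaf 2918147953903187427328)) (.node (.leaf 7171756951830264217600) (.leaf 2435022891866801766400)))) (.node (.node (.node (.leaf 19514753272176295870464) (.leaf 21749299519575307616256)) (.node (.leaf 22077592167774279467008) (.leaf 12106849373604355833856))) (.node (.node (.leaf 1212893161880440700928) (.leaf 12105692232829102358528)) (.node (.leaf 5112066653416729935872) (.leaf 3983359666788587601920)))))))) (.node (.node (.node (.node (.node (.node (.node (.leaf 1528793583676262121472) (.leaf 8429018162841310920704)) (.node (.leaf 253897794432446824448) (.leaf 173343874683454554112))) (.node (.node (.leaf 14943424406734771486720) (.leaf 7950755074247291011072)) (.node (.leaf 7083561124367445753856) (.leaf 4598447550602177478656)))) (.node (.node (.node (.leaf 7015545792707355017216) (.leaf 12210901212291962175488)) (.node (.leaf 12269871705297230888960) (.leaf 22197774552523354734592))) (.node (.node (.leaf 16062616555764717879296) (.leaf 174201098565643829248)) (.node (.leaf 786402417511879573504) (.leaf 21407820841049438617600))))) (.node (.node (.node (.node (.leaf 15201631530021071749120)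 (.leaf 8446318846570203381760)) (.node (.leaf 12484395533013443969024) (.leaf 1784848992189813981184))) (.node (.node (.leaf 18498054270535598407680) (.leaf 8752412121436603580416)) (.node (.leaf 14209770281409706655744) (.leaf 5113219610061684015104)))) (.node (.node (.node (.leaf 12885067239141696798720) (.leaf 18632371262349726384128)) (.node (.leaf 7404069080481619148800) (.leaf 3761991912192794361856))) (.node (.node (.leaf 20323707074001618010112) (.leaf 12373362553529696911360)) (.node (.leaf 14525031934433940799488) (.leaf 1603826490797469368320)))))) (.node (.node (.node (.node (.node (.leaf 3328969931332466540544) (.leaf 10215474512950721773568)) (.node (.leaf 1600794783206666764288) (.leaf 19519059983243246665728))) (.node (.node (.leaf 14342517380875282743296) (.leaf 21125154863479108141056)) (.node (.leaf 6791068627461727977472) (.leaf 22082298676130702229504)))) (.node (.node (.node (.leaf 15751442372904775516160) (.leaf 13563537805389858111488)) (.node (.leaf 1518447936504581226496) (.leaf 12560171491186813599744))) (.node (.node (.leaf 6285787945429197815808) (.leaf 13602756441936962813952)) (.node (.leaf 15488631924017013653504)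 (.leaf 6906109236526940585984))))) (.node (.node (.node (.node (.leaf 4600478220347069136896) (.leaf 10583836758504126251008)) (.node (.leaf 18113840011550478630912) (.leaf 7948846528957555998720))) (.node (.node (.leaf 9952614926849606615040) (.leaf 22344099642161951145984)) (.node (.leaf 20531386995791214804992) (.leaf 17122050960599552425984)))) (.node (.node (.node (.leaf 10324961354648980193280) (.leaf 12898996849822896652288)) (.node (.leaf 10513765432851051118592) (.leaf 15537296768558933344256))) (.node (.node (.leaf 14262084872163801989120) (.leaf 3946466214089679634432)) (.node (.leaf 3457620670446574436352) (.leaf 7628896657360071852032))))))) (.node (.node (.node (.node (.node (.node (.leaf 20275284757912458788864) (.leaf 1234786109330380980224)) (.node (.leaf 10211634094501168545792) (.leaf 17132587134087144734720))) (.node (.node (.leaf 11816746418066649284608) (.leaf 11146933976095557681152)) (.node (.leaf 12140324818154735632384) (.leaf 15774664581863824621568)))) (.node (.node (.node (.leaf 21674260340434931613696) (.leaf 18609420039945600565248)) (.node (.leaf 11920416369526630940672) (.leaf 6092137769951109545984)))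 (.node (.node (.leaf 6924655488788882751488) (.leaf 6006944644527553871872)) (.node (.leaf 6273063112013719764992) (.leaf 19385758476370339758080))))) (.node (.node (.node (.node (.leaf 4928755300566202122240) (.leaf 10951725648394372710400)) (.node (.leaf 5784219538662165544960) (.leaf 19542040156813911982080))) (.node (.node (.leaf 11510107787628686802944) (.leaf 11529274947940904861696)) (.node (.leaf 10450194374783976046592) (.leaf 5856072535733163229184)))) (.node (.node (.node (.leaf 16904366860662746873856) (.leaf 18140079974218657660928)) (.node (.leaf 14650189993496413634560) (.leaf 21770064460237200588800))) (.node (.node (.leaf 17880913435288088838144) (.leaf 11123633653474293776384)) (.node (.leaf 1354792719283055132672) (.leaf 12776786065423088123904)))))) (.node (.node (.node (.node (.node (.leaf 21799673100672453083136) (.leaf 11225072480368406134784)) (.node (.leaf 10180401715163669299200) (.leaf 17172204990689871986688))) (.node (.node (.leaf 4652142399389287383040) (.leaf 22341770752988467200000)) (.node (.leaf 11694240566392064180224) (.leaf 17043833260401510875136)))) (.node (.node (.node (.leaf 8895374085065556688896)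 (.leaf 10800575833053390340096)) (.node (.leaf 20316797815558422822912) (.leaf 21427594446117051334656))) (.node (.node (.leaf 2107969772325790646272) (.leaf 16896172574470240272384)) (.node (.leaf 21324895253156447911936) (.leaf 8731094258236243738624))))) (.node (.node (.node (.node (.leaf 10858224054731220123648) (.leaf 7934513614965264121856)) (.node (.leaf 10591908335062979346432) (.leaf 3456477107986018402304))) (.node (.node (.leaf 19868367889689366036480) (.leaf 3039119558383524806656)) (.node (.leaf 21022392506506747641856) (.leaf 21342309511699140444160)))) (.node (.node (.node (.leaf 11936699595883820711936) (.leaf 21029562872154512195584)) (.node (.leaf 21964891024627029016576) (.leaf 5160888435278710865920))) (.node (.node (.leaf 1440213560814688600064) (.leaf 22371563914818004090880)) (.node (.leaf 17363607643593026404352) (.leaf 17777001191959356047360))))))))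

def cjCode_4 : H52.TCert.Tr := .node (.node (.node (.node (.node (.node (.node (.node (.leaf 12375633459501144997888) (.leaf 15439996302496017317888)) (.node (.leaf 4290405169688661688320) (.leaf 3055731410159428206592))) (.node (.node (.leaf 5787116764055998169088) (.leaf 22296813991836966846464)) (.node (.leaf 7351483722805562736640) (.leaf 9780247690185879486464)))) (.node (.node (.node (.leaf 18041491016201709879296) (.leaf 5750791762494649335808)) (.node (.leaf 17245510387774366482432) (.leaf 3006832021144974589952))) (.node (.node (.leaf 16067406259707888959488) (.leaf 20184210649013060698112)) (.node (.leaf 16190584082557683531776) (.leaf 21870933679522204811264))))) (.node (.node (.node (.node (.leaf 19672461112868977803264) (.leaf 7106715970416319430656)) (.node (.leaf 4579889778210394374144) (.leaf 3781692982315117248512))) (.node (.node (.leaf 7904542860236662407168) (.leaf 6039589787405678444544)) (.node (.leaf 15579448945480178925568) (.leaf 11931011691707131854848)))) (.node (.node (.node (.leaf 13790113159118473822208) (.leaf 15601352237514544447488)) (.node (.leaf 1242869050533764071424) (.leaf 10517321031468820299776)))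 (.node (.node (.leaf 17478660228927596593152) (.leaf 16171364576737811922944)) (.node (.leaf 9580796175522774548480) (.leaf 17637896191159296360448)))))) (.node (.node (.node (.node (.node (.leaf 8582850725015822073856) (.leaf 15590973410618834092032)) (.node (.leaf 6579732104921916047360) (.leaf 3653623309475663478784))) (.node (.node (.leaf 1230186949264097312768) (.leaf 16181403923404474580992)) (.node (.leaf 6614633819231252152320) (.leaf 1306544436554018127872)))) (.node (.node (.node (.leaf 22310793434286736441344) (.leaf 1838237444254909431808)) (.node (.leaf 4667646978622663196672) (.leaf 11932898941265885069312))) (.node (.node (.leaf 14437249816238480195584) (.leaf 16317725839762424135680)) (.node (.leaf 21804667662648920276992) (.leaf 15488921779996406218752))))) (.node (.node (.node (.node (.leaf 7042471209757845618688) (.leaf 16058378036710640615424)) (.node (.leaf 1576050909812881784832) (.leaf 20266068352556297781248))) (.node (.node (.leaf 3332304227923826114560) (.leaf 15499980293883769290752)) (.node (.leaf 13119313815158754344960) (.leaf 6716063031846376013824)))) (.node (.node (.node (.leaf 6580884990956535218176)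 (.leaf 21570618707581939253248)) (.node (.leaf 11143508741010543476736) (.leaf 6075124645381900369920))) (.node (.node (.leaf 4121777098017745469440) (.leaf 6879716669902912913408)) (.node (.leaf 4538307022668363366400) (.leaf 11378751693360849059840))))))) (.node (.node (.node (.node (.node (.node (.leaf 16255622577540007526400) (.leaf 1529946540461877526528)) (.node (.leaf 1520718031182427750400) (.leaf 1779225852689287380992))) (.node (.node (.leaf 1534931292681508651008) (.leaf 9786017470136954814464)) (.node (.leaf 5203151253946275397632) (.leaf 16947006536853836627968)))) (.node (.node (.node (.leaf 15489727406886060326912) (.leaf 6470816220638942101504)) (.node (.leaf 20544131858599819182080) (.leaf 11533313551360949747712))) (.node (.node (.leaf 14782122601917022928896) (.leaf 4836725201747516817408)) (.node (.leaf 5619348491584412516352) (.leaf 6148540414759364362240))))) (.node (.node (.node (.node (.leaf 8242397303582422761472) (.leaf 8514624111874572910592)) (.node (.leaf 13662388089231595995136) (.leaf 15693012928195539763200))) (.node (.node (.leaf 21382094926428554461184) (.leaf 15081385940796202975232)) (.node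 (.leaf 19299919287170975105024) (.leaf 1013434437006627602432)))) (.node (.node (.node (.leaf 4927593723704985944064) (.leaf 12766313965088758202368)) (.node (.leaf 1723913022617199902720) (.leaf 17006851902889305243648))) (.node (.node (.leaf 14160189132596616527872) (.leaf 13720064447348617936896)) (.node (.leaf 12909864763446906093568) (.leaf 5629736360723089522688)))))) (.node (.node (.node (.node (.node (.leaf 15528954881818712145920) (.leaf 14386507898844746252288)) (.node (.leaf 20154229900162932342784) (.leaf 6978923759911656488960))) (.node (.node (.leaf 1577212486674097963008) (.leaf 20871356295097311789056)) (.node (.leaf 5204359272594879348736) (.leaf 7513596271921294147584)))) (.node (.node (.node (.leaf 10178131232027434090496) (.leaf 1149475442082996879360)) (.node (.leaf 8887886023591324975104) (.leaf 18218483278759136296960))) (.node (.node (.leaf 6909685567963323465728) (.leaf 6210901490934252634112)) (.node (.leaf 3645544588358969655296) (.leaf 17296756458471966670848))))) (.node (.node (.node (.node (.leaf 8008654857219110699008) (.leaf 22254055369885338959872)) (.node (.leaf 7268141348067047407616) (.leaf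 15221323631510798303232))) (.node (.node (.leaf 20473012310128292757504) (.leaf 9972199665854258151424)) (.node (.leaf 2101794482746430226432) (.leaf 21034186767156496859136)))) (.node (.node (.node (.leaf 20286202658296454512640) (.leaf 21316385832816964861952)) (.node (.leaf 5382128322024849014784) (.leaf 7869208630395217412096))) (.node (.node (.leaf 13681052162047847956480) (.leaf 13815904222154791616512)) (.node (.leaf 17422282559762177785856) (.leaf 20110523767657980198912)))))))) (.node (.node (.node (.node (.node (.node (.node (.leaf 5675967467447611981824) (.leaf 9661564584331156062208)) (.node (.leaf 21651309432872302673920) (.leaf 2436488813602419310592))) (.node (.node (.leaf 20959504863473804476416) (.leaf 11226604691228373876736)) (.node (.leaf 14472970442461602152448) (.leaf 2445580043052640665600)))) (.node (.node (.node (.leaf 8768091928282246873088) (.leaf 20337725098309094539264)) (.node (.leaf 21631441474579109675008) (.leaf 20025434632835168010240))) (.node (.node (.leaf 173165554432736919552) (.leaf 16257796857196910804992)) (.node (.leaf 21147060371651100016640) (.leaf 6391238199684540727296))))) (.node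 (.node (.node (.node (.leaf 7010935408548274143232) (.leaf 15307918317283657646080)) (.node (.leaf 2468512589457218109440) (.leaf 10511556675524569169920))) (.node (.node (.leaf 816321099468570165248) (.leaf 18309566258917781504000)) (.node (.leaf 10490564272234982178816) (.leaf 4385932831601899765760)))) (.node (.node (.node (.leaf 844331307666058051584) (.leaf 21939554929997587415040)) (.node (.leaf 14584659840925828677632) (.leaf 4614566325357696581632))) (.node (.node (.leaf 13917501727328620806144) (.leaf 9637373922818090270720)) (.node (.leaf 1389851738155803541504) (.leaf 7514749157819548106752)))))) (.node (.node (.node (.node (.node (.leaf 16669454689191638925312) (.leaf 14828304480300890587136)) (.node (.leaf 18427737916161733230592) (.leaf 16674137229958784548864))) (.node (.node (.leaf 2400556983705808142336) (.leaf 14181058779662872281088)) (.node (.leaf 10580375709153600110592) (.leaf 17357828718713787678720)))) (.node (.node (.node (.leaf 4903628317363152551936) (.leaf 7147321862488263983104)) (.node (.leaf 13504576680251587854336) (.leaf 16412435979579869528064))) (.node (.node (.leaf 11182786429164011388928)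 (.leaf 13377807915746181087232)) (.node (.leaf 18525537945266167611392) (.leaf 5516745903199337775104))))) (.node (.node (.node (.node (.leaf 19980224859353209044992) (.leaf 3564274432934904070144)) (.node (.leaf 10100853117967267889152) (.leaf 11021098118082138013696))) (.node (.node (.leaf 20006771439714162999296) (.leaf 1066534314736344268800)) (.node (.leaf 21084789940617100689408) (.leaf 729807548944725213184)))) (.node (.node (.node (.leaf 13735348869944011915264) (.leaf 9197223908771448750080)) (.node (.leaf 6936365907354065371136) (.leaf 19855053683956617084928))) (.node (.node (.leaf 13441230374453715730432) (.leaf 22036015710298208043008)) (.node (.leaf 13802221722352548315136) (.leaf 18139360456216797642752))))))) (.node (.node (.node (.node (.node (.node (.leaf 21584452685696686948352) (.leaf 21706343948019915620352)) (.node (.leaf 20562373506902991994880) (.leaf 12754245739854788853760))) (.node (.node (.leaf 14670179651703448535040) (.leaf 18131446269189803769856)) (.node (.leaf 15580588039655402438656) (.leaf 4477370106735259648000)))) (.node (.node (.node (.leaf 17007930371971195404288) (.leaf 17215476578306645196800))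 (.node (.leaf 18757209858545068670976) (.leaf 16311801421166292926464))) (.node (.node (.leaf 1229033992478481907712) (.leaf 16123935661872044638208)) (.node (.leaf 11805377516542515740672) (.leaf 3775246084741073829888))))) (.node (.node (.node (.node (.leaf 12716063681373407870976) (.leaf 20522055015132894101504)) (.node (.leaf 12764386748377916964864) (.leaf 21442326507630393327616))) (.node (.node (.leaf 9330193635224125440) (.leaf 877682834253802962944)) (.node (.leaf 3772467111794924290048) (.leaf 7461138424929697726464)))) (.node (.node (.node (.leaf 17762013039706393935872) (.leaf 10521668229820228468736)) (.node (.leaf 17787638557531787100160) (.leaf 21547062663314401329152))) (.node (.node (.leaf 12276661479869852745728) (.leaf 8042955330670201569280)) (.node (.leaf 16875559173791156436992) (.leaf 10158911088739942694912)))))) (.node (.node (.node (.node (.node (.leaf 11397210959370905288704) (.leaf 9239780909418964779008)) (.node (.leaf 18212927279538208407552) (.leaf 12725159133309056909312))) (.node (.node (.leaf 12230210828813830782976) (.leaf 10257650153111930535936)) (.node (.leaf 1565957547850895360000) (.leaf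 12939769685362385649664)))) (.node (.node (.node (.leaf 10320384941490774016000) (.leaf 1392174126740545732608)) (.node (.leaf 8697738390358980198400) (.leaf 16782318184710786416640))) (.node (.node (.leaf 5099422137425210277888) (.leaf 8803812335740186918912)) (.node (.leaf 17759950592481999585280) (.leaf 14228438494245885607936))))) (.node (.node (.node (.node (.leaf 14316207559477392932864) (.leaf 816740460674511339520)) (.node (.leaf 19153719961295938945024) (.leaf 13661545309294385168384))) (.node (.node (.leaf 21158566011783815135232) (.leaf 13521868385075338477568)) (.node (.leaf 835201488389960695808) (.leaf 1511523510433768505344)))) (.node (.node (.node (.leaf 6112231176083433357312) (.leaf 17184515016717893959680)) (.node (.leaf 15630448278981384372224) (.leaf 8846427962376682373120))) (.node (.node (.leaf 21424163947805215555584) (.leaf 2049041497516494585856)) (.node (.leaf 13972833881663304794112) (.leaf 12626985969537363804160))))))))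

def cjCode_5 : H52.TCert.Tr := .node (.node (.node (.node (.node (.node (.node (.node (.leaf 5403752416436227080192) (.leaf 3008052989226274717696)) (.node (.leaf 10520837915680877412352) (.leaf 7281301985283538190336))) (.node (.node (.leaf 10255864842821683150848) (.leaf 15048204633033210691584)) (.node (.leaf 6754390849142976970752) (.leaf 19170181738244031250432)))) (.node (.node (.node (.leaf 11349658304890983481344) (.leaf 21157457209426665832448)) (.node (.leaf 13416930960149983592448) (.leaf 1749040378971388149760))) (.node (.node (.leaf 21585286473077300559872) (.leaf 17186930303662790574080)) (.node (.leaf 18187799040365427785728) (.leaf 22252847526275981115392))))) (.node (.node (.node (.node (.leaf 11044216331462595674112) (.leaf 6180238203286862266368)) (.node (.leaf 825604460873795043328) (.leaf 14430335216931505700864))) (.node (.node (.leaf 14852515804382999085056) (.leaf 4470411846839412752384)) (.node (.leaf 16444294578074891649024) (.leaf 17734491776708365746176)))) (.node (.node (.node (.leaf 20749620736939297210368) (.leaf 12409478049894550732800)) (.node (.leaf 6311687257612153257984) (.leaf 13515951510192030547968)))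 (.node (.node (.leaf 7114968466805305114624) (.leaf 20345980161694752997376)) (.node (.leaf 1140342857702664503296) (.leaf 18828650879556998463488)))))) (.node (.node (.node (.node (.node (.leaf 2775177166482969100288) (.leaf 18295930879039671435264)) (.node (.leaf 14998945027003641659392) (.leaf 11603487568482756820992))) (.node (.node (.leaf 2019343642902136651776) (.leaf 10842091741519334047744)) (.node (.leaf 14201036160037901729792) (.leaf 11118199071837369204736)))) (.node (.node (.node (.leaf 13506558194981544460288) (.leaf 21065163920233568305152)) (.node (.leaf 7790451792781530660864) (.leaf 16452746114410999250944))) (.node (.node (.leaf 3312362307014492651520) (.leaf 9986029931979094687744)) (.node (.leaf 7755813055474662080512) (.leaf 6334733552720810409984))))) (.node (.node (.node (.node (.leaf 834983136672141606912) (.leaf 7959780174549859237888)) (.node (.leaf 21540287642955203936256) (.leaf 14028192437822312480768))) (.node (.node (.leaf 9824124924461954039808) (.leaf 21027090560806361825280)) (.node (.leaf 16403780362292419854336) (.leaf 20903925658283357306880)))) (.node (.node (.node (.leaf 6852236668284187475968)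 (.leaf 825876471338177462272)) (.node (.leaf 3676726573526729752576) (.leaf 12461182118837407776768))) (.node (.node (.leaf 10322728232497026236416) (.leaf 17797884407638971023360)) (.node (.leaf 12951970849822166384640) (.leaf 20072734382484409876480))))))) (.node (.node (.node (.node (.node (.node (.leaf 19882420682442102079488) (.leaf 8920444034984507867136)) (.node (.leaf 5895116319577955401728) (.leaf 1871642504559442067456))) (.node (.node (.leaf 17439571550962297208832) (.leaf 15493186050642524405760)) (.node (.leaf 18191373980624287334400) (.leaf 17816370181426971213824)))) (.node (.node (.node (.leaf 7003007718517793456128) (.leaf 14322076490784310657024)) (.node (.leaf 21144950155241061056512) (.leaf 13411331472852956905472))) (.node (.node (.leaf 13413539569933443825664) (.leaf 13618416635044668211200)) (.node (.leaf 22205674049559702044672) (.leaf 14600029302984612413440))))) (.node (.node (.node (.node (.leaf 20439092999469391839232) (.leaf 4691807000094634508288)) (.node (.leaf 21114728721961985900544) (.leaf 5979156212538047463424))) (.node (.node (.leaf 14350640699125316714496) (.leaf 13485176968682844225536))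 (.node (.leaf 21359263619358913167360) (.leaf 10483845316391350370304)))) (.node (.node (.node (.leaf 9273687753754738688) (.leaf 13408731639849875570688)) (.node (.leaf 13767322764662814015488) (.leaf 13625453328947106643968))) (.node (.node (.leaf 13112636034161529487360) (.leaf 7198220276264577794048)) (.node (.leaf 14340637547335673446400) (.leaf 0)))))) (.leaf 0))) (.leaf 0)

def cjCode : H52.TCert.Tr := .node (.node (.node (cjCode_0) (cjCode_1)) (.node (cjCode_2) (cjCode_3))) (.node (.node (cjCode_4) (cjCode_5)) (.node (.leaf 0) (.leaf 0)))

def cjSrt_0 : H52.TCert.Tr := .node (.node (.node (.node (.node (.node (.node (.node (.leaf 1368) (.leaf 1236)) (.node (.leaf 518) (.leaf 417))) (.node (.node (.leaf 9) (.leaf 507)) (.node (.leaf 31) (.leaf 362)))) (.node (.node (.node (.leaf 657) (.leaf 244)) (.node (.leaf 1164) (.leaf 899))) (.node (.node (.leaf 909) (.leaf 859)) (.node (.leaf 84) (.leaf 848))))) (.node (.node (.node (.node (.leaf 445) (.leaf 455)) (.node (.leaf 855) (.leaf 83))) (.node (.node (.leaf 435) (.leaf 18)) (.node (.leaf 898) (.leaf 371)))) (.node (.node (.node (.leaf 1207) (.leaf 910)) (.node (.leaf 54)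 (.leaf 611))) (.node (.node (.leaf 1172) (.leaf 1265)) (.node (.leaf 1298) (.leaf 1337)))))) (.node (.node (.node (.node (.node (.leaf 1328) (.leaf 1270)) (.node (.leaf 879) (.leaf 1176))) (.node (.node (.leaf 210) (.leaf 1237)) (.node (.leaf 118) (.leaf 264)))) (.node (.node (.node (.leaf 92) (.leaf 570)) (.node (.leaf 288) (.leaf 546))) (.node (.node (.leaf 1111) (.leaf 1205)) (.node (.leaf 877) (.leaf 64))))) (.node (.node (.node (.node (.leaf 131) (.leaf 104)) (.node (.leaf 1310) (.leaf 1129))) (.node (.node (.leaf 718) (.leaf 892)) (.node (.leaf 511) (.leaf 505)))) (.node (.node (.node (.leaf 1228) (.leaf 1060)) (.node (.leaf 509) (.leaf 961))) (.node (.node (.leaf 1050) (.leaf 808)) (.node (.leaf 1063) (.leaf 71))))))) (.node (.node (.node (.node (.node (.node (.leaf 300) (.leaf 990)) (.node (.leaf 762) (.leaf 661))) (.node (.node (.leaf 482) (.leaf 85)) (.node (.leaf 1182) (.leaf 1257)))) (.node (.node (.node (.leaf 853) (.leaf 673)) (.node (.leaf 1020) (.leaf 338))) (.node (.node (.leaf 569) (.leaf 1271)) (.node (.leaf 938) (.leaf 78))))) (.node (.node (.node (.node (.leaf 1090) (.leaf 420)) (.node (.leaf 896) (.leaf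 79))) (.node (.node (.leaf 1089) (.leaf 1092)) (.node (.leaf 439) (.leaf 504)))) (.node (.node (.node (.leaf 1254) (.leaf 1074)) (.node (.leaf 1124) (.leaf 88))) (.node (.node (.leaf 930) (.leaf 927)) (.node (.leaf 100) (.leaf 875)))))) (.node (.node (.node (.node (.node (.leaf 1114) (.leaf 1291)) (.node (.leaf 500) (.leaf 1091))) (.node (.node (.leaf 493) (.leaf 915)) (.node (.leaf 485) (.leaf 87)))) (.node (.node (.node (.leaf 1065) (.leaf 501)) (.node (.leaf 480) (.leaf 1347))) (.node (.node (.leaf 133) (.leaf 398)) (.node (.leaf 404) (.leaf 275))))) (.node (.node (.node (.node (.leaf 283) (.leaf 346)) (.node (.leaf 1316) (.leaf 215))) (.node (.node (.leaf 683) (.leaf 603)) (.node (.leaf 103) (.leaf 1277)))) (.node (.node (.node (.leaf 1142) (.leaf 1004)) (.node (.leaf 524) (.leaf 193))) (.node (.node (.leaf 47) (.leaf 826)) (.node (.leaf 234) (.leaf 223)))))))) (.node (.node (.node (.node (.node (.node (.node (.leaf 1188) (.leaf 55)) (.node (.leaf 887) (.leaf 1155))) (.node (.node (.leaf 1159) (.leaf 1170)) (.node (.leaf 628) (.leaf 75)))) (.node (.node (.node (.leaf 792) (.leaf 1312)) (.node (.leaf 871) (.leaf 589))) (.node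 (.node (.leaf 26) (.leaf 747)) (.node (.leaf 141) (.leaf 302))))) (.node (.node (.node (.node (.leaf 379) (.leaf 669)) (.node (.leaf 373) (.leaf 584))) (.node (.node (.leaf 303) (.leaf 14)) (.node (.leaf 10) (.leaf 587)))) (.node (.node (.node (.leaf 4) (.leaf 680)) (.node (.leaf 263) (.leaf 885))) (.node (.node (.leaf 535) (.leaf 1035)) (.node (.leaf 1281) (.leaf 46)))))) (.node (.node (.node (.node (.node (.leaf 543) (.leaf 1013)) (.node (.leaf 854) (.leaf 489))) (.node (.node (.leaf 1027) (.leaf 17)) (.node (.leaf 68) (.leaf 127)))) (.node (.node (.node (.leaf 41) (.leaf 1324)) (.node (.leaf 696) (.leaf 255))) (.node (.node (.leaf 928) (.leaf 1076)) (.node (.leaf 266) (.leaf 391))))) (.node (.node (.node (.node (.leaf 61) (.leaf 261)) (.node (.leaf 474) (.leaf 1011))) (.node (.node (.leaf 958) (.leaf 272)) (.node (.leaf 1201) (.leaf 1134)))) (.node (.node (.node (.leaf 1059) (.leaf 674)) (.node (.leaf 1338) (.leaf 541))) (.node (.node (.leaf 19) (.leaf 790)) (.node (.leaf 513) (.leaf 923))))))) (.node (.node (.node (.node (.node (.node (.leaf 1238) (.leaf 1231)) (.node (.leaf 1043) (.leaf 834))) (.node (.node (.leaf 957) (.leaf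 895)) (.node (.leaf 16) (.leaf 623)))) (.node (.node (.node (.leaf 492) (.leaf 514)) (.node (.leaf 365) (.leaf 28))) (.node (.node (.leaf 123) (.leaf 1084)) (.node (.leaf 392) (.leaf 566))))) (.node (.node (.node (.node (.leaf 723) (.leaf 108)) (.node (.leaf 1026) (.leaf 311))) (.node (.node (.leaf 114) (.leaf 214)) (.node (.leaf 228) (.leaf 1175)))) (.node (.node (.node (.leaf 44) (.leaf 224)) (.node (.leaf 150) (.leaf 401))) (.node (.node (.leaf 408) (.leaf 163)) (.node (.leaf 1301) (.leaf 1223)))))) (.node (.node (.node (.node (.node (.leaf 539) (.leaf 42)) (.node (.leaf 1086) (.leaf 363))) (.node (.node (.leaf 383) (.leaf 651)) (.node (.leaf 81) (.leaf 1042)))) (.node (.node (.node (.leaf 903) (.leaf 944)) (.node (.leaf 1179) (.leaf 221))) (.node (.node (.leaf 996) (.leaf 1066)) (.node (.leaf 250) (.leaf 749))))) (.node (.node (.node (.node (.leaf 25) (.leaf 1361)) (.node (.leaf 136) (.leaf 671))) (.node (.node (.leaf 620) (.leaf 463)) (.node (.leaf 1101) (.leaf 817)))) (.node (.node (.node (.leaf 532) (.leaf 38)) (.node (.leaf 359) (.leaf 1192))) (.node (.node (.leaf 545) (.leaf 1112)) (.node (.leaf 976) (.leaf 653))))))))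

def cjSrt_1 : H52.TCert.Tr := .node (.node (.node (.node (.node (.node (.node (.node (.leaf 684) (.leaf 177)) (.node (.leaf 821) (.leaf 225))) (.node (.node (.leaf 846) (.leaf 387)) (.node (.leaf 592) (.leaf 105)))) (.node (.node (.node (.leaf 1260) (.leaf 894)) (.node (.leaf 919) (.leaf 709))) (.node (.node (.leaf 548) (.leaf 156)) (.node (.leaf 80) (.leaf 56))))) (.node (.node (.node (.node (.leaf 1019) (.leaf 211)) (.node (.leaf 256) (.leaf 297))) (.node (.node (.leaf 1094) (.leaf 1126)) (.node (.leaf 166) (.leaf 178)))) (.node (.node (.node (.leaf 86) (.leaf 304)) (.node (.leaf 158) (.leaf 151))) (.node (.node (.leaf 296) (.leaf 816)) (.node (.leaf 588) (.leaf 740)))))) (.node (.node (.node (.node (.node (.leaf 190) (.leaf 616)) (.node (.leaf 1146) (.leaf 842))) (.node (.node (.leaf 1280) (.leaf 602)) (.node (.leaf 797) (.leaf 866)))) (.node (.node (.node (.leaf 29) (.leaf 339)) (.node (.leaf 197) (.leaf 322))) (.node (.node (.leaf 1199) (.leaf 881)) (.node (.leaf 644) (.leaf 174))))) (.node (.node (.node (.node (.leaf 216) (.leaf 784)) (.node (.leaf 168) (.leaf 728))) (.node (.node (.leaf 332) (.leaf 1102)) (.node (.leaf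 503) (.leaf 1119)))) (.node (.node (.node (.leaf 285) (.leaf 330)) (.node (.leaf 499) (.leaf 515))) (.node (.node (.leaf 1152) (.leaf 643)) (.node (.leaf 181) (.leaf 633))))))) (.node (.node (.node (.node (.node (.node (.leaf 1033) (.leaf 491)) (.node (.leaf 48) (.leaf 978))) (.node (.node (.leaf 1028) (.leaf 348)) (.node (.leaf 376) (.leaf 351)))) (.node (.node (.node (.leaf 739) (.leaf 983)) (.node (.leaf 349) (.leaf 273))) (.node (.node (.leaf 1346) (.leaf 636)) (.node (.leaf 232) (.leaf 642))))) (.node (.node (.node (.node (.leaf 406) (.leaf 1363)) (.node (.leaf 884) (.leaf 973))) (.node (.node (.leaf 102) (.leaf 1045)) (.node (.leaf 328) (.leaf 726)))) (.node (.node (.node (.leaf 585) (.leaf 590)) (.node (.leaf 443) (.leaf 1083))) (.node (.node (.leaf 466) (.leaf 971)) (.node (.leaf 1272) (.leaf 287)))))) (.node (.node (.node (.node (.node (.leaf 389) (.leaf 465)) (.node (.leaf 1103) (.leaf 437))) (.node (.node (.leaf 12) (.leaf 1297)) (.node (.leaf 788) (.leaf 1133)))) (.node (.node (.node (.leaf 176) (.leaf 974)) (.node (.leaf 940) (.leaf 537))) (.node (.node (.leaf 786) (.leaf 1306)) (.node (.leaf 659) (.leaf 1327)))))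 (.node (.node (.node (.node (.leaf 583) (.leaf 268)) (.node (.leaf 843) (.leaf 791))) (.node (.node (.leaf 1167) (.leaf 372)) (.node (.leaf 654) (.leaf 282)))) (.node (.node (.node (.leaf 660) (.leaf 213)) (.node (.leaf 1097) (.leaf 648))) (.node (.node (.leaf 579) (.leaf 721)) (.node (.leaf 880) (.leaf 677)))))))) (.node (.node (.node (.node (.node (.node (.node (.leaf 155) (.leaf 130)) (.node (.leaf 1058) (.leaf 1080))) (.node (.node (.leaf 284) (.leaf 691)) (.node (.leaf 247) (.leaf 1062)))) (.node (.node (.node (.leaf 271) (.leaf 160)) (.node (.leaf 841) (.leaf 403))) (.node (.node (.leaf 260) (.leaf 1079)) (.node (.leaf 1286) (.leaf 574))))) (.node (.node (.node (.node (.leaf 159) (.leaf 561)) (.node (.leaf 409) (.leaf 407))) (.node (.node (.leaf 934) (.leaf 235)) (.node (.leaf 355) (.leaf 378)))) (.node (.node (.node (.leaf 614) (.leaf 111)) (.node (.leaf 6) (.leaf 1336))) (.node (.node (.leaf 766) (.leaf 745)) (.node (.leaf 610) (.leaf 559)))))) (.node (.node (.node (.node (.node (.leaf 1085) (.leaf 314)) (.node (.leaf 397) (.leaf 943))) (.node (.node (.leaf 1132) (.leaf 464)) (.node (.leaf 972) (.leaf 1210)))) (.node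 (.node (.node (.leaf 222) (.leaf 1123)) (.node (.leaf 310) (.leaf 467))) (.node (.node (.leaf 24) (.leaf 1352)) (.node (.leaf 1168) (.leaf 904))))) (.node (.node (.node (.node (.leaf 1072) (.leaf 32)) (.node (.leaf 5) (.leaf 902))) (.node (.node (.leaf 21) (.leaf 1041)) (.node (.leaf 1308) (.leaf 558)))) (.node (.node (.node (.leaf 148) (.leaf 531)) (.node (.leaf 536) (.leaf 692))) (.node (.node (.leaf 1193) (.leaf 722)) (.node (.leaf 626) (.leaf 157))))))) (.node (.node (.node (.node (.node (.node (.leaf 886) (.leaf 1373)) (.node (.leaf 609) (.leaf 137))) (.node (.node (.leaf 191) (.leaf 679)) (.node (.leaf 1138) (.leaf 1283)))) (.node (.node (.node (.leaf 360) (.leaf 652)) (.node (.leaf 571) (.leaf 688))) (.node (.node (.leaf 1030) (.leaf 35)) (.node (.leaf 199) (.leaf 320))))) (.node (.node (.node (.node (.leaf 922) (.leaf 451)) (.node (.leaf 456) (.leaf 447))) (.node (.node (.leaf 179) (.leaf 337)) (.node (.leaf 1239) (.leaf 229)))) (.node (.node (.node (.leaf 1127) (.leaf 1183)) (.node (.leaf 124) (.leaf 323))) (.node (.node (.leaf 756) (.leaf 219)) (.node (.leaf 367) (.leaf 91)))))) (.node (.node (.node (.node (.node (.leaf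 441) (.leaf 959)) (.node (.leaf 446) (.leaf 457))) (.node (.node (.leaf 836) (.leaf 621)) (.node (.leaf 243) (.leaf 735)))) (.node (.node (.node (.leaf 315) (.leaf 377)) (.node (.leaf 1326) (.leaf 184))) (.node (.node (.leaf 1322) (.leaf 580)) (.node (.leaf 306) (.leaf 73))))) (.node (.node (.node (.node (.leaf 598) (.leaf 364)) (.node (.leaf 638) (.leaf 381))) (.node (.node (.leaf 1147) (.leaf 358)) (.node (.leaf 357) (.leaf 291)))) (.node (.node (.node (.leaf 180) (.leaf 1044)) (.node (.leaf 453) (.leaf 189))) (.node (.node (.leaf 1009) (.leaf 947)) (.node (.leaf 901) (.leaf 1329))))))))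

def cjSrt_2 : H52.TCert.Tr := .node (.node (.node (.node (.node (.node (.node (.node (.leaf 13) (.leaf 665)) (.node (.leaf 1136) (.leaf 711))) (.node (.node (.leaf 618) (.leaf 1245)) (.node (.leaf 269) (.leaf 538)))) (.node (.node (.node (.leaf 15) (.leaf 655)) (.node (.leaf 806) (.leaf 344))) (.node (.node (.leaf 200) (.leaf 402)) (.node (.leaf 476) (.leaf 74))))) (.node (.node (.node (.node (.leaf 356) (.leaf 748)) (.node (.leaf 195) (.leaf 820))) (.node (.node (.leaf 1104) (.leaf 577)) (.node (.leaf 622) (.leaf 438)))) (.node (.node (.node (.leaf 863) (.leaf 775)) (.node (.leaf 490) (.leaf 164))) (.node (.node (.leaf 400) (.leaf 564)) (.node (.leaf 430) (.leaf 82)))))) (.node (.node (.node (.node (.node (.leaf 483) (.leaf 76)) (.node (.leaf 858) (.leaf 427))) (.node (.node (.leaf 897) (.leaf 421)) (.node (.leaf 862) (.leaf 426)))) (.node (.node (.node (.leaf 913) (.leaf 864)) (.node (.leaf 835) (.leaf 444))) (.node (.node (.leaf 1105) (.leaf 774)) (.node (.leaf 551) (.leaf 49))))) (.node (.node (.node (.node (.leaf 481) (.leaf 1056)) (.node (.leaf 67) (.leaf 39))) (.node (.node (.leaf 119) (.leaf 147)) (.node (.leaf 218)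 (.leaf 1258)))) (.node (.node (.node (.leaf 1007) (.leaf 203)) (.node (.leaf 917) (.leaf 278))) (.node (.node (.leaf 662) (.leaf 1160)) (.node (.leaf 1) (.leaf 1261))))))) (.node (.node (.node (.node (.node (.node (.leaf 30) (.leaf 276)) (.node (.leaf 542) (.leaf 1275))) (.node (.node (.leaf 1130) (.leaf 1000)) (.node (.leaf 1345) (.leaf 581)))) (.node (.node (.node (.leaf 707) (.leaf 568)) (.node (.leaf 186) (.leaf 129))) (.node (.node (.leaf 750) (.leaf 593)) (.node (.leaf 1209) (.leaf 760))))) (.node (.node (.node (.node (.leaf 1249) (.leaf 220)) (.node (.leaf 650) (.leaf 113))) (.node (.node (.leaf 724) (.leaf 270)) (.node (.leaf 251) (.leaf 183)))) (.node (.node (.node (.leaf 656) (.leaf 121)) (.node (.leaf 852) (.leaf 1054))) (.node (.node (.leaf 1181) (.leaf 1153)) (.node (.leaf 11) (.leaf 0)))))) (.node (.node (.node (.node (.node (.leaf 262) (.leaf 230)) (.node (.leaf 327) (.leaf 410))) (.node (.node (.leaf 394) (.leaf 1031)) (.node (.leaf 1093) (.leaf 873)))) (.node (.node (.node (.leaf 744) (.leaf 1332)) (.node (.leaf 313) (.leaf 719))) (.node (.node (.leaf 217) (.leaf 695)) (.node (.leaf 573) (.leaf 7))))) (.node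 (.node (.node (.node (.leaf 552) (.leaf 98)) (.node (.leaf 140) (.leaf 814))) (.node (.node (.leaf 948) (.leaf 1141)) (.node (.leaf 280) (.leaf 1325)))) (.node (.node (.node (.leaf 125) (.leaf 167)) (.node (.leaf 825) (.leaf 637))) (.node (.node (.leaf 627) (.leaf 106)) (.node (.leaf 597) (.leaf 182)))))))) (.node (.node (.node (.node (.node (.node (.node (.leaf 187) (.leaf 361)) (.node (.leaf 1202) (.leaf 3))) (.node (.node (.leaf 533) (.leaf 1247)) (.node (.leaf 227) (.leaf 399)))) (.node (.node (.node (.leaf 553) (.leaf 1128)) (.node (.leaf 994) (.leaf 663))) (.node (.node (.leaf 567) (.leaf 962)) (.node (.leaf 929) (.leaf 658))))) (.node (.node (.node (.node (.leaf 550) (.leaf 345)) (.node (.leaf 1284) (.leaf 1253))) (.node (.node (.leaf 640) (.leaf 591)) (.node (.leaf 277) (.leaf 849)))) (.node (.node (.node (.leaf 1256) (.leaf 1340)) (.node (.leaf 952) (.leaf 562))) (.node (.node (.leaf 336) (.leaf 982)) (.node (.leaf 1367) (.leaf 66)))))) (.node (.node (.node (.node (.node (.leaf 1174) (.leaf 37)) (.node (.leaf 1171) (.leaf 954))) (.node (.node (.leaf 1051) (.leaf 1282)) (.node (.leaf 1241) (.leaf 471)))) (.node (.node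 (.node (.leaf 534) (.leaf 188)) (.node (.leaf 206) (.leaf 265))) (.node (.node (.leaf 1190) (.leaf 945)) (.node (.leaf 1010) (.leaf 294))))) (.node (.node (.node (.node (.leaf 134) (.leaf 350)) (.node (.leaf 107) (.leaf 725))) (.node (.node (.leaf 1001) (.leaf 1317)) (.node (.leaf 1008) (.leaf 477)))) (.node (.node (.node (.leaf 478) (.leaf 705)) (.node (.leaf 201) (.leaf 101))) (.node (.node (.leaf 977) (.leaf 540)) (.node (.leaf 883) (.leaf 1203))))))) (.node (.node (.node (.node (.node (.node (.leaf 27) (.leaf 1296)) (.node (.leaf 340) (.leaf 120))) (.node (.node (.leaf 732) (.leaf 682)) (.node (.leaf 685) (.leaf 1319)))) (.node (.node (.node (.leaf 989) (.leaf 440)) (.node (.leaf 1082) (.leaf 965))) (.node (.node (.leaf 713) (.leaf 259)) (.node (.leaf 1196) (.leaf 516))))) (.node (.node (.node (.node (.leaf 993) (.leaf 1157)) (.node (.leaf 172) (.leaf 112))) (.node (.node (.leaf 1288) (.leaf 529)) (.node (.leaf 309) (.leaf 143)))) (.node (.node (.node (.leaf 479) (.leaf 1087)) (.node (.leaf 1248) (.leaf 8))) (.node (.node (.leaf 667) (.leaf 128)) (.node (.leaf 43) (.leaf 807)))))) (.node (.node (.node (.node (.node (.leaf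 693) (.leaf 700)) (.node (.leaf 625) (.leaf 980))) (.node (.node (.leaf 981) (.leaf 1099)) (.node (.leaf 872) (.leaf 1315)))) (.node (.node (.node (.leaf 212) (.leaf 335)) (.node (.leaf 998) (.leaf 520))) (.node (.node (.leaf 830) (.leaf 572)) (.node (.leaf 1230) (.leaf 964))))) (.node (.node (.node (.node (.leaf 72) (.leaf 298)) (.node (.leaf 90) (.leaf 556))) (.node (.node (.leaf 970) (.leaf 1047)) (.node (.leaf 1067) (.leaf 1016)))) (.node (.node (.node (.leaf 798) (.leaf 321)) (.node (.leaf 473) (.leaf 89))) (.node (.node (.leaf 557) (.leaf 893)) (.node (.leaf 891) (.leaf 99))))))))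

def cjSrt_3 : H52.TCert.Tr := .node (.node (.node (.node (.node (.node (.node (.node (.leaf 966) (.leaf 874)) (.node (.leaf 678) (.leaf 905))) (.node (.node (.leaf 1252) (.leaf 743)) (.node (.leaf 405) (.leaf 906)))) (.node (.node (.node (.leaf 1244) (.leaf 326)) (.node (.leaf 560) (.leaf 746))) (.node (.node (.leaf 395) (.leaf 53)) (.node (.leaf 554) (.leaf 925))))) (.node (.node (.node (.node (.leaf 1024) (.leaf 716)) (.node (.leaf 699) (.leaf 1305))) (.node (.node (.leaf 829) (.leaf 1339)) (.node (.leaf 714) (.leaf 914)))) (.node (.node (.node (.leaf 519) (.leaf 240)) (.node (.leaf 375) (.leaf 175))) (.node (.node (.leaf 778) (.leaf 393)) (.node (.leaf 939) (.leaf 632)))))) (.node (.node (.node (.node (.node (.leaf 1279) (.leaf 530)) (.node (.leaf 96) (.leaf 209))) (.node (.node (.leaf 1232) (.leaf 1251)) (.node (.leaf 731) (.leaf 1219)))) (.node (.node (.node (.leaf 239) (.leaf 1234)) (.node (.leaf 1113) (.leaf 991))) (.node (.node (.leaf 382) (.leaf 208)) (.node (.leaf 281) (.leaf 413))))) (.node (.node (.node (.node (.leaf 596) (.leaf 23)) (.node (.leaf 508) (.leaf 920))) (.node (.node (.leaf 953) (.leaf 1118)) (.node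 (.leaf 122) (.leaf 1255)))) (.node (.node (.node (.leaf 1342) (.leaf 202)) (.node (.leaf 697) (.leaf 498))) (.node (.node (.leaf 715) (.leaf 789)) (.node (.leaf 867) (.leaf 1372))))))) (.node (.node (.node (.node (.node (.node (.leaf 1078) (.leaf 497)) (.node (.leaf 305) (.leaf 882))) (.node (.node (.leaf 1197) (.leaf 780)) (.node (.leaf 1369) (.leaf 1355)))) (.node (.node (.node (.leaf 1356) (.leaf 1290)) (.node (.leaf 433) (.leaf 1212))) (.node (.node (.leaf 811) (.leaf 502)) (.node (.leaf 1365) (.leaf 847))))) (.node (.node (.node (.node (.leaf 1194) (.leaf 1320)) (.node (.leaf 1307) (.leaf 1269))) (.node (.node (.leaf 937) (.leaf 617)) (.node (.leaf 941) (.leaf 1357)))) (.node (.node (.node (.leaf 1371) (.leaf 865)) (.node (.leaf 1267) (.leaf 1106))) (.node (.node (.leaf 1148) (.leaf 612)) (.node (.leaf 1117) (.leaf 765)))))) (.node (.node (.node (.node (.node (.leaf 1208) (.leaf 1370)) (.node (.leaf 1048) (.leaf 1214))) (.node (.node (.leaf 1149) (.leaf 805)) (.node (.leaf 162) (.leaf 1180)))) (.node (.node (.node (.leaf 70) (.leaf 334)) (.node (.leaf 109) (.leaf 1278))) (.node (.node (.leaf 1331) (.leaf 770)) (.node (.leaf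 77) (.leaf 813))))) (.node (.node (.node (.node (.leaf 267) (.leaf 694)) (.node (.leaf 635) (.leaf 286))) (.node (.node (.leaf 1116) (.leaf 496)) (.node (.leaf 1189) (.leaf 434)))) (.node (.node (.node (.leaf 783) (.leaf 1318)) (.node (.leaf 918) (.leaf 824))) (.node (.node (.leaf 1263) (.leaf 956)) (.node (.leaf 742) (.leaf 1264)))))))) (.node (.node (.node (.node (.node (.node (.node (.leaf 1353) (.leaf 1374)) (.node (.leaf 932) (.leaf 36))) (.node (.node (.leaf 1364) (.leaf 62)) (.node (.leaf 241) (.leaf 324)))) (.node (.node (.node (.leaf 1121) (.leaf 753)) (.node (.leaf 856) (.leaf 712))) (.node (.node (.leaf 1299) (.leaf 1068)) (.node (.leaf 51) (.leaf 1158))))) (.node (.node (.node (.node (.leaf 333) (.leaf 757)) (.node (.leaf 926) (.leaf 116))) (.node (.node (.leaf 630) (.leaf 274)) (.node (.leaf 706) (.leaf 115)))) (.node (.node (.node (.leaf 1178) (.leaf 1359)) (.node (.leaf 139) (.leaf 986))) (.node (.node (.leaf 1220) (.leaf 22)) (.node (.leaf 436) (.leaf 171)))))) (.node (.node (.node (.node (.node (.leaf 634) (.leaf 325)) (.node (.leaf 1100) (.leaf 295))) (.node (.node (.leaf 828) (.leaf 475)) (.node (.leaf 1185)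 (.leaf 845)))) (.node (.node (.node (.leaf 1300) (.leaf 384)) (.node (.leaf 146) (.leaf 549))) (.node (.node (.leaf 787) (.leaf 900)) (.node (.leaf 138) (.leaf 1314))))) (.node (.node (.node (.node (.leaf 462) (.leaf 754)) (.node (.leaf 40) (.leaf 1285))) (.node (.node (.leaf 1109) (.leaf 2)) (.node (.leaf 450) (.leaf 242)))) (.node (.node (.node (.leaf 429) (.leaf 738)) (.node (.leaf 442) (.leaf 194))) (.node (.node (.leaf 800) (.leaf 912)) (.node (.leaf 1139) (.leaf 522))))))) (.node (.node (.node (.node (.node (.node (.leaf 838) (.leaf 488)) (.node (.leaf 1169) (.leaf 425))) (.node (.node (.leaf 308) (.leaf 751)) (.node (.leaf 415) (.leaf 1025)))) (.node (.node (.node (.leaf 878) (.leaf 730)) (.node (.leaf 942) (.leaf 1071))) (.node (.node (.leaf 1096) (.leaf 1349)) (.node (.leaf 837) (.leaf 860))))) (.node (.node (.node (.node (.leaf 1077) (.leaf 1120)) (.node (.leaf 955) (.leaf 132))) (.node (.node (.leaf 1046) (.leaf 1222)) (.node (.leaf 1057) (.leaf 1049)))) (.node (.node (.node (.leaf 1274) (.leaf 870)) (.node (.leaf 1107) (.leaf 237))) (.node (.node (.leaf 686) (.leaf 717)) (.node (.leaf 369) (.leaf 936)))))) (.node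 (.node (.node (.node (.node (.leaf 818) (.leaf 967)) (.node (.leaf 839) (.leaf 494))) (.node (.node (.leaf 776) (.leaf 1073)) (.node (.leaf 908) (.leaf 1036)))) (.node (.node (.node (.leaf 449) (.leaf 97)) (.node (.leaf 1229) (.leaf 647))) (.node (.node (.leaf 615) (.leaf 668)) (.node (.leaf 472) (.leaf 1053))))) (.node (.node (.node (.node (.leaf 759) (.leaf 1061)) (.node (.leaf 802) (.leaf 1038))) (.node (.node (.leaf 1088) (.leaf 1165)) (.node (.leaf 1227) (.leaf 1069)))) (.node (.node (.node (.leaf 459) (.leaf 844)) (.node (.leaf 1334) (.leaf 423))) (.node (.node (.leaf 1195) (.leaf 517)) (.node (.leaf 1302) (.leaf 1323))))))))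

def cjSrt_4 : H52.TCert.Tr := .node (.node (.node (.node (.node (.node (.node (.node (.leaf 670) (.leaf 59)) (.node (.leaf 293) (.leaf 506))) (.node (.node (.leaf 258) (.leaf 526)) (.node (.leaf 613) (.leaf 484)))) (.node (.node (.node (.leaf 458) (.leaf 758)) (.node (.leaf 544) (.leaf 1184))) (.node (.node (.leaf 1187) (.leaf 868)) (.node (.leaf 1259) (.leaf 840))))) (.node (.node (.node (.node (.leaf 528) (.leaf 248)) (.node (.leaf 1246) (.leaf 1005))) (.node (.node (.leaf 984) (.leaf 154)) (.node (.leaf 702) (.leaf 1095)))) (.node (.node (.node (.leaf 827) (.leaf 1115)) (.node (.leaf 1224) (.leaf 448))) (.node (.node (.leaf 253) (.leaf 999)) (.node (.leaf 701) (.leaf 207)))))) (.node (.node (.node (.node (.node (.leaf 422) (.leaf 951)) (.node (.leaf 963) (.leaf 145))) (.node (.node (.leaf 396) (.leaf 995)) (.node (.leaf 521) (.leaf 1273)))) (.node (.node (.node (.leaf 1293) (.leaf 1225)) (.node (.leaf 319) (.leaf 57))) (.node (.node (.leaf 527) (.leaf 1034)) (.node (.leaf 809) (.leaf 1135))))) (.node (.node (.node (.node (.leaf 1191) (.leaf 1022)) (.node (.leaf 804) (.leaf 1150))) (.node (.node (.leaf 1348) (.leaf 764)) (.node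 (.leaf 795) (.leaf 486)))) (.node (.node (.node (.leaf 1052) (.leaf 793)) (.node (.leaf 1055) (.leaf 246))) (.node (.node (.leaf 117) (.leaf 317)) (.node (.leaf 619) (.leaf 126))))))) (.node (.node (.node (.node (.node (.node (.leaf 601) (.leaf 1303)) (.node (.leaf 342) (.leaf 1262))) (.node (.node (.leaf 1240) (.leaf 645)) (.node (.leaf 1023) (.leaf 1242)))) (.node (.node (.node (.leaf 815) (.leaf 1341)) (.node (.leaf 729) (.leaf 1351))) (.node (.node (.leaf 173) (.leaf 988)) (.node (.leaf 380) (.leaf 63))))) (.node (.node (.node (.node (.leaf 495) (.leaf 831)) (.node (.leaf 1032) (.leaf 95))) (.node (.node (.leaf 796) (.leaf 946)) (.node (.leaf 1221) (.leaf 1215)))) (.node (.node (.node (.leaf 985) (.leaf 1294)) (.node (.leaf 1350) (.leaf 1250))) (.node (.node (.leaf 1131) (.leaf 687)) (.node (.leaf 1313) (.leaf 1173)))))) (.node (.node (.node (.node (.node (.leaf 385) (.leaf 675)) (.node (.leaf 1186) (.leaf 916))) (.node (.node (.leaf 1198) (.leaf 698)) (.node (.leaf 352) (.leaf 969)))) (.node (.node (.node (.leaf 785) (.leaf 921)) (.node (.leaf 752) (.leaf 1226))) (.node (.node (.leaf 801) (.leaf 343)) (.node (.leaf 1311)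 (.leaf 290))))) (.node (.node (.node (.node (.leaf 690) (.leaf 341)) (.node (.leaf 414) (.leaf 50))) (.node (.node (.leaf 1266) (.leaf 1287)) (.node (.leaf 575) (.leaf 833)))) (.node (.node (.node (.leaf 1110) (.leaf 781)) (.node (.leaf 641) (.leaf 823))) (.node (.node (.leaf 975) (.leaf 347)) (.node (.leaf 65) (.leaf 226)))))))) (.node (.node (.node (.node (.node (.node (.node (.leaf 69) (.leaf 292)) (.node (.leaf 52) (.leaf 555))) (.node (.node (.leaf 279) (.leaf 888)) (.node (.leaf 931) (.leaf 979)))) (.node (.node (.node (.leaf 771) (.leaf 331)) (.node (.leaf 810) (.leaf 812))) (.node (.node (.leaf 1040) (.leaf 832)) (.node (.leaf 861) (.leaf 301))))) (.node (.node (.node (.node (.leaf 876) (.leaf 1211)) (.node (.leaf 1012) (.leaf 1344))) (.node (.node (.leaf 850) (.leaf 851)) (.node (.leaf 563) (.leaf 631)))) (.node (.node (.node (.leaf 411) (.leaf 1200)) (.node (.leaf 1204) (.leaf 1163))) (.node (.node (.leaf 649) (.leaf 594)) (.node (.leaf 1343) (.leaf 672)))))) (.node (.node (.node (.node (.node (.leaf 755) (.leaf 1151)) (.node (.leaf 773) (.leaf 607))) (.node (.node (.leaf 1122) (.leaf 1037)) (.node (.leaf 204) (.leaf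 418)))) (.node (.node (.node (.leaf 681) (.leaf 366)) (.node (.leaf 354) (.leaf 1075))) (.node (.node (.leaf 960) (.leaf 510)) (.node (.leaf 803) (.leaf 1144))))) (.node (.node (.node (.node (.leaf 368) (.leaf 1002)) (.node (.leaf 512) (.leaf 924))) (.node (.node (.leaf 599) (.leaf 370)) (.node (.leaf 857) (.leaf 1161)))) (.node (.node (.node (.leaf 1309) (.leaf 353)) (.node (.leaf 869) (.leaf 312))) (.node (.node (.leaf 144) (.leaf 1360)) (.node (.leaf 1140) (.leaf 257))))))) (.node (.node (.node (.node (.node (.node (.leaf 428) (.leaf 605)) (.node (.leaf 1233) (.leaf 950))) (.node (.node (.leaf 1098) (.leaf 782)) (.node (.leaf 1218) (.leaf 767)))) (.node (.node (.node (.leaf 777) (.leaf 460)) (.node (.leaf 198) (.leaf 689))) (.node (.node (.leaf 205) (.leaf 624)) (.node (.leaf 142) (.leaf 727))))) (.node (.node (.node (.node (.leaf 794) (.leaf 664)) (.node (.leaf 1304) (.leaf 734))) (.node (.node (.leaf 34) (.leaf 231)) (.node (.leaf 819) (.leaf 468)))) (.node (.node (.node (.leaf 639) (.leaf 779)) (.node (.leaf 769) (.leaf 768))) (.node (.node (.leaf 252) (.leaf 236)) (.node (.leaf 586) (.leaf 1125)))))) (.node (.node (.node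 (.node (.node (.leaf 165) (.leaf 720)) (.node (.leaf 595) (.leaf 1335))) (.node (.node (.leaf 307) (.leaf 60)) (.node (.leaf 299) (.leaf 578)))) (.node (.node (.node (.leaf 1156) (.leaf 565)) (.node (.leaf 196) (.leaf 152))) (.node (.node (.leaf 469) (.leaf 1014)) (.node (.leaf 1333) (.leaf 1017))))) (.node (.node (.node (.node (.leaf 1143) (.leaf 161)) (.node (.leaf 470) (.leaf 249))) (.node (.node (.leaf 1321) (.leaf 1206)) (.node (.leaf 316) (.leaf 1362)))) (.node (.node (.node (.leaf 933) (.leaf 1354)) (.node (.leaf 1166) (.leaf 1289))) (.node (.node (.leaf 1268) (.leaf 424)) (.node (.leaf 45) (.leaf 110))))))))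

def cjSrt_5 : H52.TCert.Tr := .node (.node (.node (.node (.node (.node (.node (.node (.leaf 58) (.leaf 233)) (.node (.leaf 135) (.leaf 431))) (.node (.node (.leaf 454) (.leaf 1145)) (.node (.leaf 1006) (.leaf 1015)))) (.node (.node (.node (.leaf 432) (.leaf 1366)) (.node (.leaf 416) (.leaf 254))) (.node (.node (.leaf 1108) (.leaf 911)) (.node (.leaf 1276) (.leaf 1003))))) (.node (.node (.node (.node (.leaf 822) (.leaf 20)) (.node (.leaf 1235) (.leaf 461))) (.node (.node (.leaf 487) (.leaf 1330)) (.node (.leaf 1243) (.leaf 1081)))) (.node (.node (.node (.leaf 1216) (.leaf 1292)) (.node (.leaf 666) (.leaf 1162))) (.node (.node (.leaf 1154) (.leaf 576)) (.node (.leaf 968) (.leaf 525)))))) (.node (.node (.node (.node (.node (.leaf 1217) (.leaf 149)) (.node (.leaf 646) (.leaf 889))) (.node (.node (.leaf 33) (.leaf 987)) (.node (.leaf 992) (.leaf 1070)))) (.node (.node (.node (.leaf 169) (.leaf 523)) (.node (.leaf 1039) (.leaf 419))) (.node (.node (.leaf 736) (.leaf 608)) (.node (.leaf 710) (.leaf 1177))))) (.node (.node (.node (.node (.leaf 153) (.leaf 1018)) (.node (.leaf 93) (.leaf 185))) (.node (.node (.leaf 1213) (.leaf 547))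 (.node (.leaf 390) (.leaf 890)))) (.node (.node (.node (.leaf 935) (.leaf 238)) (.node (.leaf 289) (.leaf 582))) (.node (.node (.leaf 170) (.leaf 761)) (.node (.leaf 741) (.leaf 386))))))) (.node (.node (.node (.node (.node (.node (.leaf 907) (.leaf 600)) (.node (.leaf 1358) (.leaf 94))) (.node (.node (.leaf 763) (.leaf 703)) (.node (.leaf 1295) (.leaf 1137)))) (.node (.node (.node (.leaf 412) (.leaf 733)) (.node (.leaf 704) (.leaf 245))) (.node (.node (.leaf 1029) (.leaf 1064)) (.node (.leaf 192) (.leaf 997))))) (.node (.node (.node (.node (.leaf 949) (.leaf 452)) (.node (.leaf 708) (.leaf 1021))) (.node (.node (.leaf 374) (.leaf 737)) (.node (.leaf 318) (.leaf 799)))) (.node (.node (.node (.leaf 772) (.leaf 329)) (.node (.leaf 604) (.leaf 606))) (.node (.node (.leaf 676) (.leaf 388)) (.node (.leaf 629) (.leaf 0)))))) (.leaf 0))) (.leaf 0)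

def cjSrt : H52.TCert.Tr := .node (.node (.node (cjSrt_0) (cjSrt_1)) (.node (cjSrt_2) (cjSrt_3))) (.node (.node (cjSrt_4) (cjSrt_5)) (.node (.leaf 0) (.leaf 0)))

/-- conjugates of `t` inside the stabiliser of a point -/
def conjE : Enum where
  num := 1375
  move := [[0], [1], [4], [5], [10], [11], [12], [13], [14], [15], [16], [17], [18], [19], [20], [21], [5, 7, 2, 1, 3, 5, 7]]
  pre := [[1], [0], [5], [4], [11], [10], [13], [12], [15], [14], [17], [16], [19], [18], [21], [20], [6, 4, 2, 0, 3, 6, 4]]
  seed := [0, 0, 0, 0]
  par := cjPar
  code := cjCode
  srt := cjSrt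
  depth := 11
  fuel := 1376

end H65.LyPerm.Data
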