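import Cfsg.Agent.H65.LyPerm.Enum

/-! Generated lists of elements of the G2(5) model by images of a base. -/

set_option autoImplicit false
set_option maxRecDepth 100000
set_option maxHeartbeats 0

namespace H65.LyPerm.Data

def k2Par_0 : H52.TCert.Tr := .node (.node (.node (.node (.node (.node (.node (.node (.leaf 0) (.leaf 0)) (.node (.leaf 65536) (.leaf 131072))) (.node (.node (.leaf 1) (.leaf 65537)) (.node (.leaf 131073) (.leaf 2)))) (.node (.node (.node (.leaf 65538) (.leaf 131074)) (.node (.leaf 3) (.leaf 65539))) (.node (.node (.leaf 131075) (.leaf 4)) (.node (.leaf 65540) (.leaf 131076))))) (.node (.node (.node (.node (.leaf 5) (.leaf 65541)) (.node (.leaf 131077) (.leaf 6))) (.node (.node (.leaf 65542) (.leaf 131078)) (.node (.leaf 7) (.leaf 65543)))) (.node (.node (.node (.leaf 131079) (.leaf 8)) (.node (.leaf 65544) (.leaf 131080))) (.node (.node (.leaf 9) (.leaf 65545)) (.node (.leaf 131081) (.leaf 10)))))) (.node (.node (.node (.node (.node (.leaf 65546) (.leaf 131082)) (.node (.leaf 11) (.leaf 65547))) (.node (.node (.leaf 131083) (.leaf 12)) (.node (.leaf 65548) (.leaf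 131084)))) (.node (.node (.node (.leaf 13) (.leaf 65549)) (.node (.leaf 131085) (.leaf 14))) (.node (.node (.leaf 65550) (.leaf 131086)) (.node (.leaf 15) (.leaf 65551))))) (.node (.node (.node (.node (.leaf 131087) (.leaf 16)) (.node (.leaf 65552) (.leaf 131088))) (.node (.node (.leaf 17) (.leaf 65553)) (.node (.leaf 131089) (.leaf 18)))) (.node (.node (.node (.leaf 65554) (.leaf 131090)) (.node (.leaf 19) (.leaf 65555))) (.node (.node (.leaf 131091) (.leaf 20)) (.node (.leaf 65556) (.leaf 131092))))))) (.node (.node (.node (.node (.node (.node (.leaf 21) (.leaf 65557)) (.node (.leaf 131093) (.leaf 22))) (.node (.node (.leaf 65558) (.leaf 131094)) (.node (.leaf 23) (.leaf 65559)))) (.node (.node (.node (.leaf 131095) (.leaf 24)) (.node (.leaf 65560) (.leaf 131096))) (.node (.node (.leaf 25) (.leaf 65561)) (.node (.leaf 131097) (.leaf 26))))) (.node (.node (.node (.node (.leaf 65562) (.leaf 131098)) (.node (.leaf 27) (.leaf 65563))) (.node (.node (.leaf 131099) (.leaf 28)) (.node (.leaf 65564) (.leaf 131100)))) (.node (.node (.node (.leaf 29) (.leaf 65565)) (.node (.leaf 131101) (.leaf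 30))) (.node (.node (.leaf 65566) (.leaf 131102)) (.node (.leaf 31) (.leaf 65567)))))) (.node (.node (.node (.node (.node (.leaf 131103) (.leaf 32)) (.node (.leaf 65568) (.leaf 131104))) (.node (.node (.leaf 33) (.leaf 65569)) (.node (.leaf 131105) (.leaf 34)))) (.node (.node (.node (.leaf 65570) (.leaf 131106)) (.node (.leaf 35) (.leaf 65571))) (.node (.node (.leaf 131107) (.leaf 36)) (.node (.leaf 65572) (.leaf 131108))))) (.node (.node (.node (.node (.leaf 37) (.leaf 65573)) (.node (.leaf 131109) (.leaf 38))) (.node (.node (.leaf 65574) (.leaf 131110)) (.node (.leaf 39) (.leaf 65575)))) (.node (.node (.node (.leaf 131111) (.leaf 40)) (.node (.leaf 65576) (.leaf 131112))) (.node (.node (.leaf 41) (.leaf 65577)) (.node (.leaf 131113) (.leaf 42)))))))) (.node (.node (.node (.node (.node (.node (.node (.leaf 65578) (.leaf 131114)) (.node (.leaf 43) (.leaf 65579))) (.node (.node (.leaf 131115) (.leaf 44)) (.node (.leaf 65580) (.leaf 131116)))) (.node (.node (.node (.leaf 45) (.leaf 65581)) (.node (.leaf 131117) (.leaf 46))) (.node (.node (.leaf 65582) (.leaf 131118)) (.node (.leaf 47) (.leaf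 65583))))) (.node (.node (.node (.node (.leaf 131119) (.leaf 48)) (.node (.leaf 65584) (.leaf 131120))) (.node (.node (.leaf 49) (.leaf 65585)) (.node (.leaf 131121) (.leaf 50)))) (.node (.node (.node (.leaf 65586) (.leaf 131122)) (.node (.leaf 51) (.leaf 65587))) (.node (.node (.leaf 131123) (.leaf 52)) (.node (.leaf 65588) (.leaf 131124)))))) (.node (.node (.node (.node (.node (.leaf 53) (.leaf 65589)) (.node (.leaf 131125) (.leaf 54))) (.node (.node (.leaf 131126) (.leaf 55)) (.node (.leaf 65591) (.leaf 131127)))) (.node (.node (.node (.leaf 56) (.leaf 65592)) (.node (.leaf 131128) (.leaf 57))) (.node (.node (.leaf 65593) (.leaf 131129)) (.node (.leaf 58) (.leaf 65594))))) (.node (.node (.node (.node (.leaf 131130) (.leaf 59)) (.node (.leaf 65595) (.leaf 131131))) (.node (.node (.leaf 60) (.leaf 65596)) (.node (.leaf 131132) (.leaf 61)))) (.node (.node (.node (.leaf 65597) (.leaf 131133)) (.node (.leaf 62) (.leaf 65598))) (.node (.node (.leaf 131134) (.leaf 63)) (.node (.leaf 65599) (.leaf 131135))))))) (.node (.node (.node (.node (.node (.node (.leaf 64) (.leaf 65600)) (.node (.leaf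 131136) (.leaf 65))) (.node (.node (.leaf 65601) (.leaf 131137)) (.node (.leaf 66) (.leaf 65602)))) (.node (.node (.node (.leaf 131138) (.leaf 67)) (.node (.leaf 65603) (.leaf 131139))) (.node (.node (.leaf 68) (.leaf 65604)) (.node (.leaf 69) (.leaf 65605))))) (.node (.node (.node (.node (.leaf 131141) (.leaf 65606)) (.node (.leaf 131142) (.leaf 71))) (.node (.node (.leaf 65607) (.leaf 131143)) (.node (.leaf 72) (.leaf 65608)))) (.node (.node (.node (.leaf 131144) (.leaf 73)) (.node (.leaf 65609) (.leaf 131145))) (.node (.node (.leaf 74) (.leaf 65610)) (.node (.leaf 131146) (.leaf 75)))))) (.node (.node (.node (.node (.node (.leaf 65611) (.leaf 131147)) (.node (.leaf 76) (.leaf 65612))) (.node (.node (.leaf 131148) (.leaf 65613)) (.node (.leaf 131149) (.leaf 78)))) (.node (.node (.node (.leaf 65614) (.leaf 131150)) (.node (.leaf 79) (.leaf 65615))) (.node (.node (.leaf 131151) (.leaf 65616)) (.node (.leaf 131152) (.leaf 81))))) (.node (.node (.node (.node (.leaf 65617) (.leaf 131153)) (.node (.leaf 82) (.leaf 65618))) (.node (.node (.leaf 131154) (.leaf 83)) (.node (.leaf 131155) (.leaf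 84)))) (.node (.node (.node (.leaf 65620) (.leaf 131156)) (.node (.leaf 85) (.leaf 65621))) (.node (.node (.leaf 131157) (.leaf 86)) (.node (.leaf 65622) (.leaf 131158))))))))

def k2Par_1 : H52.TCert.Tr := .node (.node (.node (.node (.node (.node (.node (.node (.leaf 87) (.leaf 65623)) (.node (.leaf 131159) (.leaf 88))) (.node (.node (.leaf 65624) (.leaf 131160)) (.node (.leaf 65625) (.leaf 131161)))) (.node (.node (.node (.leaf 90) (.leaf 65626)) (.node (.leaf 131162) (.leaf 91))) (.node (.node (.leaf 131163) (.leaf 92)) (.node (.leaf 65628) (.leaf 131164))))) (.node (.node (.node (.node (.leaf 93) (.leaf 65629)) (.node (.leaf 131165) (.leaf 94))) (.node (.node (.leaf 65630) (.leaf 131166)) (.node (.leaf 95) (.leaf 65631)))) (.node (.node (.node (.leaf 131167) (.leaf 96)) (.node (.leaf 65632) (.leaf 131168))) (.node (.node (.leaf 97) (.leaf 65633)) (.node (.leaf 131169) (.leaf 98)))))) (.node (.node (.node (.node (.node (.leaf 131170) (.leaf 99)) (.node (.leaf 131171) (.leaf 100))) (.node (.node (.leaf 65636) (.leaf 131172)) (.node (.leaf 101) (.leaf 65637)))) (.node (.node (.node (.leaf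 131173) (.leaf 102)) (.node (.leaf 65638) (.leaf 131174))) (.node (.node (.leaf 103) (.leaf 65639)) (.node (.leaf 131175) (.leaf 104))))) (.node (.node (.node (.node (.leaf 65640) (.leaf 131176)) (.node (.leaf 105) (.leaf 65641))) (.node (.node (.leaf 131177) (.leaf 106)) (.node (.leaf 65642) (.leaf 131178)))) (.node (.node (.node (.leaf 131179) (.leaf 108)) (.node (.leaf 65644) (.leaf 109))) (.node (.node (.leaf 65645) (.leaf 131181)) (.node (.leaf 110) (.leaf 65646))))))) (.node (.node (.node (.node (.node (.node (.leaf 131182) (.leaf 111)) (.node (.leaf 65647) (.leaf 131183))) (.node (.node (.leaf 112) (.leaf 131184)) (.node (.leaf 113) (.leaf 65649)))) (.node (.node (.node (.leaf 131185) (.leaf 114)) (.node (.leaf 65650) (.leaf 131186))) (.node (.node (.leaf 115) (.leaf 65651)) (.node (.leaf 131187) (.leaf 116))))) (.node (.node (.node (.node (.leaf 65652) (.leaf 131188)) (.node (.leaf 117) (.leaf 65653))) (.node (.node (.leaf 131189) (.leaf 118)) (.node (.leaf 65654) (.leaf 131190)))) (.node (.node (.node (.leaf 119) (.leaf 65655)) (.node (.leaf 131191) (.leaf 65656))) (.node (.node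 (.leaf 131192) (.leaf 121)) (.node (.leaf 65657) (.leaf 65658)))))) (.node (.node (.node (.node (.node (.leaf 131194) (.leaf 123)) (.node (.leaf 65659) (.leaf 131195))) (.node (.node (.leaf 124) (.leaf 65660)) (.node (.leaf 131196) (.leaf 125)))) (.node (.node (.node (.leaf 65661) (.leaf 131197)) (.node (.leaf 126) (.leaf 65662))) (.node (.node (.leaf 131198) (.leaf 127)) (.node (.leaf 65663) (.leaf 131199))))) (.node (.node (.node (.node (.leaf 128) (.leaf 65664)) (.node (.leaf 131200) (.leaf 129))) (.node (.node (.leaf 65665) (.leaf 131201)) (.node (.leaf 130) (.leaf 65666)))) (.node (.node (.node (.leaf 131202) (.leaf 131)) (.node (.leaf 65667) (.leaf 131203))) (.node (.node (.leaf 132) (.leaf 65668)) (.node (.leaf 131204) (.leaf 133)))))))) (.node (.node (.node (.node (.node (.node (.node (.leaf 65669) (.leaf 131205)) (.node (.leaf 134) (.leaf 65670))) (.node (.node (.leaf 131206) (.leaf 135)) (.node (.leaf 131207) (.leaf 136)))) (.node (.node (.node (.leaf 131208) (.leaf 137)) (.node (.leaf 65673) (.leaf 131209))) (.node (.node (.leaf 138) (.leaf 65674)) (.node (.leaf 131210) (.leaf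 139))))) (.node (.node (.node (.node (.leaf 65675) (.leaf 131211)) (.node (.leaf 140) (.leaf 65676))) (.node (.node (.leaf 131212) (.leaf 141)) (.node (.leaf 65677) (.leaf 131213)))) (.node (.node (.node (.leaf 142) (.leaf 65678)) (.node (.leaf 131214) (.leaf 143))) (.node (.node (.leaf 65679) (.leaf 131215)) (.node (.leaf 131216) (.leaf 145)))))) (.node (.node (.node (.node (.node (.leaf 65681) (.leaf 131217)) (.node (.leaf 146) (.leaf 65682))) (.node (.node (.leaf 131218) (.leaf 147)) (.node (.leaf 65683) (.leaf 131219)))) (.node (.node (.node (.leaf 148) (.leaf 65684)) (.node (.leaf 131220) (.leaf 149))) (.node (.node (.leaf 65685) (.leaf 150)) (.node (.leaf 65686) (.leaf 131222))))) (.node (.node (.node (.node (.leaf 65687) (.leaf 131223)) (.node (.leaf 152) (.leaf 65688))) (.node (.node (.leaf 131224) (.leaf 153)) (.node (.leaf 65689) (.leaf 131225)))) (.node (.node (.node (.leaf 154) (.leaf 65690)) (.node (.leaf 131226) (.leaf 155))) (.node (.node (.leaf 65691) (.leaf 131227)) (.node (.leaf 156) (.leaf 65692))))))) (.node (.node (.node (.node (.node (.node (.leaf 131228) (.leaf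 157)) (.node (.leaf 65693) (.leaf 131229))) (.node (.node (.leaf 65694) (.leaf 131230)) (.node (.leaf 159) (.leaf 65695)))) (.node (.node (.node (.leaf 131231) (.leaf 160)) (.node (.leaf 65696) (.leaf 131232))) (.node (.node (.leaf 65697) (.leaf 131233)) (.node (.leaf 162) (.leaf 65698))))) (.node (.node (.node (.node (.leaf 163) (.leaf 65699)) (.node (.leaf 131235) (.leaf 164))) (.node (.node (.leaf 65700) (.leaf 131236)) (.node (.leaf 165) (.leaf 65701)))) (.node (.node (.node (.leaf 131237) (.leaf 166)) (.node (.leaf 65702) (.leaf 131238))) (.node (.node (.leaf 167) (.leaf 65703)) (.node (.leaf 131239) (.leaf 168)))))) (.node (.node (.node (.node (.node (.leaf 65704) (.leaf 131240)) (.node (.leaf 65705) (.leaf 131241))) (.node (.node (.leaf 170) (.leaf 65706)) (.node (.leaf 171) (.leaf 131243)))) (.node (.node (.node (.leaf 172) (.leaf 65708)) (.node (.leaf 131244) (.leaf 173))) (.node (.node (.leaf 65709) (.leaf 131245)) (.node (.leaf 174) (.leaf 65710))))) (.node (.node (.node (.node (.leaf 131246) (.leaf 175)) (.node (.leaf 65711) (.leaf 131247))) (.node (.node (.leaf 65712) (.leaf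 131248)) (.node (.leaf 177) (.leaf 65713)))) (.node (.node (.node (.leaf 131249) (.leaf 178)) (.node (.leaf 131250) (.leaf 179))) (.node (.node (.leaf 131251) (.leaf 180)) (.node (.leaf 65716) (.leaf 181))))))))

def k2Par_2 : H52.TCert.Tr := .node (.node (.node (.node (.node (.node (.node (.node (.leaf 65717) (.leaf 131253)) (.node (.leaf 65718) (.leaf 131254))) (.node (.node (.leaf 183) (.leaf 65719)) (.node (.leaf 131255) (.leaf 184)))) (.node (.node (.node (.leaf 65720) (.leaf 131256)) (.node (.leaf 185) (.leaf 65721))) (.node (.node (.leaf 131257) (.leaf 186)) (.node (.leaf 65722) (.leaf 131258))))) (.node (.node (.node (.node (.leaf 131259) (.leaf 188)) (.node (.leaf 65724) (.leaf 189))) (.node (.node (.leaf 65725) (.leaf 131261)) (.node (.leaf 190) (.leaf 65726)))) (.node (.node (.node (.leaf 131262) (.leaf 191)) (.node (.leaf 65727) (.leaf 131263))) (.node (.node (.leaf 192) (.leaf 131264)) (.node (.leaf 193) (.leaf 65729)))))) (.node (.node (.node (.node (.node (.leaf 131265) (.leaf 194)) (.node (.leaf 65730) (.leaf 131266))) (.node (.node (.leaf 65731) (.leaf 131267)) (.node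 (.leaf 65732) (.leaf 131268)))) (.node (.node (.node (.leaf 197) (.leaf 65733)) (.node (.leaf 131269) (.leaf 65734))) (.node (.node (.leaf 131270) (.leaf 199)) (.node (.leaf 65735) (.leaf 131271))))) (.node (.node (.node (.node (.leaf 65736) (.leaf 131272)) (.node (.leaf 201) (.leaf 65737))) (.node (.node (.leaf 131273) (.leaf 202)) (.node (.leaf 65738) (.leaf 131274)))) (.node (.node (.node (.leaf 203) (.leaf 65739)) (.node (.leaf 131275) (.leaf 204))) (.node (.node (.leaf 131276) (.leaf 205)) (.node (.leaf 65741) (.leaf 131277))))))) (.node (.node (.node (.node (.node (.node (.leaf 206) (.leaf 131278)) (.node (.leaf 207) (.leaf 65743))) (.node (.node (.leaf 131279) (.leaf 208)) (.node (.leaf 209) (.leaf 65745)))) (.node (.node (.node (.leaf 131281) (.leaf 210)) (.node (.leaf 65746) (.leaf 131282))) (.node (.node (.leaf 211) (.leaf 65747)) (.node (.leaf 212) (.leaf 65748))))) (.node (.node (.node (.node (.leaf 131284) (.leaf 213)) (.node (.leaf 214) (.leaf 65750))) (.node (.node (.leaf 131286) (.leaf 131287)) (.node (.leaf 216) (.leaf 65752)))) (.node (.node (.node (.leaf 131288) (.leaf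 217)) (.node (.leaf 131289) (.leaf 218))) (.node (.node (.leaf 65754) (.leaf 131290)) (.node (.leaf 219) (.leaf 65755)))))) (.node (.node (.node (.node (.node (.leaf 131291) (.leaf 220)) (.node (.leaf 65756) (.leaf 131292))) (.node (.node (.leaf 65757) (.leaf 131293)) (.node (.leaf 65758) (.leaf 131294)))) (.node (.node (.node (.leaf 223) (.leaf 65759)) (.node (.leaf 131295) (.leaf 224))) (.node (.node (.leaf 65760) (.leaf 131296)) (.node (.leaf 225) (.leaf 65761))))) (.node (.node (.node (.node (.leaf 131297) (.leaf 226)) (.node (.leaf 227) (.leaf 65763))) (.node (.node (.leaf 228) (.leaf 65764)) (.node (.leaf 131300) (.leaf 229)))) (.node (.node (.node (.leaf 65765) (.leaf 131301)) (.node (.leaf 230) (.leaf 65766))) (.node (.node (.leaf 131302) (.leaf 131303)) (.node (.leaf 232) (.leaf 65768)))))))) (.node (.node (.node (.node (.node (.node (.node (.leaf 131304) (.leaf 233)) (.node (.leaf 65769) (.leaf 131305))) (.node (.node (.leaf 234) (.leaf 65770)) (.node (.leaf 131306) (.leaf 131307)))) (.node (.node (.node (.leaf 236) (.leaf 65772)) (.node (.leaf 131308) (.leaf 131309))) (.node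 (.node (.leaf 65774) (.leaf 131310)) (.node (.leaf 239) (.leaf 65775))))) (.node (.node (.node (.node (.leaf 131311) (.leaf 240)) (.node (.leaf 131312) (.leaf 241))) (.node (.node (.leaf 65777) (.leaf 131313)) (.node (.leaf 242) (.leaf 131314)))) (.node (.node (.node (.leaf 243) (.leaf 65779)) (.node (.leaf 131315) (.leaf 244))) (.node (.node (.leaf 65780) (.leaf 131316)) (.node (.leaf 245) (.leaf 65781)))))) (.node (.node (.node (.node (.node (.leaf 131317) (.leaf 246)) (.node (.leaf 65782) (.leaf 247))) (.node (.node (.leaf 131319) (.leaf 248)) (.node (.leaf 131320) (.leaf 249)))) (.node (.node (.node (.leaf 65785) (.leaf 131321)) (.node (.leaf 250) (.leaf 65786))) (.node (.node (.leaf 131322) (.leaf 251)) (.node (.leaf 65787) (.leaf 131323))))) (.node (.node (.node (.node (.leaf 252) (.leaf 65788)) (.node (.leaf 131324) (.leaf 253))) (.node (.node (.leaf 65789) (.leaf 131325)) (.node (.leaf 131326) (.leaf 131327)))) (.node (.node (.node (.leaf 256) (.leaf 65792)) (.node (.leaf 131328) (.leaf 257))) (.node (.node (.leaf 65793) (.leaf 131329)) (.node (.leaf 258) (.leaf 65794))))))) (.node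 (.node (.node (.node (.node (.node (.leaf 131330) (.leaf 259)) (.node (.leaf 65795) (.leaf 131331))) (.node (.node (.leaf 260) (.leaf 65796)) (.node (.leaf 131332) (.leaf 261)))) (.node (.node (.node (.leaf 65797) (.leaf 131333)) (.node (.leaf 131334) (.leaf 263))) (.node (.node (.leaf 65799) (.leaf 264)) (.node (.leaf 65800) (.leaf 131336))))) (.node (.node (.node (.node (.leaf 265) (.leaf 65801)) (.node (.leaf 131337) (.leaf 266))) (.node (.node (.leaf 65802) (.leaf 131338)) (.node (.leaf 267) (.leaf 131339)))) (.node (.node (.node (.leaf 268) (.leaf 65804)) (.node (.leaf 131340) (.leaf 269))) (.node (.node (.leaf 65805) (.leaf 270)) (.node (.leaf 65806) (.leaf 131342)))))) (.node (.node (.node (.node (.node (.leaf 271) (.leaf 65807)) (.node (.leaf 131343) (.leaf 272))) (.node (.node (.leaf 65808) (.leaf 131344)) (.node (.leaf 273) (.leaf 65809)))) (.node (.node (.node (.leaf 131345) (.leaf 65810)) (.node (.leaf 131346) (.leaf 65811))) (.node (.node (.leaf 131347) (.leaf 276)) (.node (.leaf 131348) (.leaf 131349))))) (.node (.node (.node (.node (.leaf 278) (.leaf 65814)) (.node (.leaf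 279) (.leaf 65815))) (.node (.node (.leaf 131351) (.leaf 280)) (.node (.leaf 131352) (.leaf 281)))) (.node (.node (.node (.leaf 65817) (.leaf 282)) (.node (.leaf 65818) (.leaf 131354))) (.node (.node (.leaf 283) (.leaf 65819)) (.node (.leaf 131355) (.leaf 284))))))))

def k2Par_3 : H52.TCert.Tr := .node (.node (.node (.node (.node (.node (.node (.node (.leaf 131356) (.leaf 285)) (.node (.leaf 65821) (.leaf 286))) (.node (.node (.leaf 65822) (.leaf 287)) (.node (.leaf 65823) (.leaf 131359)))) (.node (.node (.node (.leaf 288) (.leaf 131360)) (.node (.leaf 65825) (.leaf 131361))) (.node (.node (.leaf 290) (.leaf 65826)) (.node (.leaf 131362) (.leaf 291))))) (.node (.node (.node (.node (.leaf 65827) (.leaf 131363)) (.node (.leaf 292) (.leaf 65828))) (.node (.node (.leaf 131364) (.leaf 65829)) (.node (.leaf 131365) (.leaf 294)))) (.node (.node (.node (.leaf 65830) (.leaf 131366)) (.node (.leaf 295) (.leaf 131367))) (.node (.node (.leaf 296) (.leaf 65832)) (.node (.leaf 131368) (.leaf 297)))))) (.node (.node (.node (.node (.node (.leaf 65833) (.leaf 131369)) (.node (.leaf 65834) (.leaf 131370)))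 (.node (.node (.leaf 299) (.leaf 131371)) (.node (.leaf 65836) (.leaf 131372)))) (.node (.node (.node (.leaf 65837) (.leaf 302)) (.node (.leaf 65838) (.leaf 131374))) (.node (.node (.leaf 65839) (.leaf 131375)) (.node (.leaf 304) (.leaf 65840))))) (.node (.node (.node (.node (.leaf 131376) (.leaf 305)) (.node (.leaf 65841) (.leaf 131377))) (.node (.node (.leaf 306) (.leaf 65842)) (.node (.leaf 131378) (.leaf 307)))) (.node (.node (.node (.leaf 65843) (.leaf 131379)) (.node (.leaf 308) (.leaf 131380))) (.node (.node (.leaf 309) (.leaf 65845)) (.node (.leaf 131381) (.leaf 65846))))))) (.node (.node (.node (.node (.node (.node (.leaf 131382) (.leaf 311)) (.node (.leaf 65847) (.leaf 131383))) (.node (.node (.leaf 312) (.leaf 65848)) (.node (.leaf 131384) (.leaf 313)))) (.node (.node (.node (.leaf 65849) (.leaf 314)) (.node (.leaf 131386) (.leaf 315))) (.node (.node (.leaf 65851) (.leaf 131387)) (.node (.leaf 131388) (.leaf 318))))) (.node (.node (.node (.node (.leaf 65854) (.leaf 65855)) (.node (.leaf 131391) (.leaf 65856))) (.node (.node (.leaf 131392) (.leaf 131393)) (.node (.leaf 322)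 (.leaf 65858)))) (.node (.node (.node (.leaf 131394) (.leaf 323)) (.node (.leaf 65859) (.leaf 131395))) (.node (.node (.leaf 65860) (.leaf 131396)) (.node (.leaf 325) (.leaf 65861)))))) (.node (.node (.node (.node (.node (.leaf 131397) (.leaf 326)) (.node (.leaf 65862) (.leaf 131398))) (.node (.node (.leaf 327) (.leaf 131399)) (.node (.leaf 328) (.leaf 131400)))) (.node (.node (.node (.leaf 329) (.leaf 65865)) (.node (.leaf 131401) (.leaf 330))) (.node (.node (.leaf 65866) (.leaf 131402)) (.node (.leaf 331) (.leaf 131403))))) (.node (.node (.node (.node (.leaf 332) (.leaf 65868)) (.node (.leaf 131404) (.leaf 65869))) (.node (.node (.leaf 131405) (.leaf 334)) (.node (.leaf 131406) (.leaf 335)))) (.node (.node (.node (.leaf 65871) (.leaf 131407)) (.node (.leaf 131408) (.leaf 337))) (.node (.node (.leaf 65874) (.leaf 131410)) (.node (.leaf 339) (.leaf 131411)))))))) (.node (.node (.node (.node (.node (.node (.node (.leaf 340) (.leaf 65876)) (.node (.leaf 131412) (.leaf 341))) (.node (.node (.leaf 131413) (.leaf 342)) (.node (.leaf 65878) (.leaf 131414)))) (.node (.node (.node (.leaf 343)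 (.leaf 65879)) (.node (.leaf 131415) (.leaf 65880))) (.node (.node (.leaf 131416) (.leaf 345)) (.node (.leaf 131417) (.leaf 346))))) (.node (.node (.node (.node (.leaf 65882) (.leaf 131418)) (.node (.leaf 65883) (.leaf 131419))) (.node (.node (.leaf 65884) (.leaf 131420)) (.node (.leaf 349) (.leaf 65885)))) (.node (.node (.node (.leaf 65886) (.leaf 131422)) (.node (.leaf 351) (.leaf 65887))) (.node (.node (.leaf 131423) (.leaf 352)) (.node (.leaf 65888) (.leaf 131424)))))) (.node (.node (.node (.node (.node (.leaf 353) (.leaf 65889)) (.node (.leaf 131425) (.leaf 354))) (.node (.node (.leaf 131426) (.leaf 355)) (.node (.leaf 65891) (.leaf 131427)))) (.node (.node (.node (.leaf 356) (.leaf 65892)) (.node (.leaf 131428) (.leaf 357))) (.node (.node (.leaf 65893) (.leaf 131429)) (.node (.leaf 358) (.leaf 65894))))) (.node (.node (.node (.node (.leaf 131430) (.leaf 359)) (.node (.leaf 131431) (.leaf 360))) (.node (.node (.leaf 65896) (.leaf 131432)) (.node (.leaf 361) (.leaf 362)))) (.node (.node (.node (.leaf 363) (.leaf 65899)) (.node (.leaf 364) (.leaf 131436))) (.node (.node (.leaf 365)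 (.leaf 65901)) (.node (.leaf 131437) (.leaf 366))))))) (.node (.node (.node (.node (.node (.node (.leaf 131438) (.leaf 367)) (.node (.leaf 131439) (.leaf 368))) (.node (.node (.leaf 65904) (.leaf 131440)) (.node (.leaf 369) (.leaf 65905)))) (.node (.node (.node (.leaf 131441) (.leaf 131442)) (.node (.leaf 371) (.leaf 65907))) (.node (.node (.leaf 131443) (.leaf 131444)) (.node (.leaf 373) (.leaf 65909))))) (.node (.node (.node (.node (.leaf 131445) (.leaf 65910)) (.node (.leaf 131446) (.leaf 65911))) (.node (.node (.leaf 376) (.leaf 65912)) (.node (.leaf 131448) (.leaf 65913)))) (.node (.node (.node (.leaf 131449) (.leaf 378)) (.node (.leaf 65914) (.leaf 131450))) (.node (.node (.leaf 379) (.leaf 65915)) (.node (.leaf 131451) (.leaf 380)))))) (.node (.node (.node (.node (.node (.leaf 65916) (.leaf 131452)) (.node (.leaf 65917) (.leaf 131453))) (.node (.node (.leaf 382) (.leaf 131454)) (.node (.leaf 383) (.leaf 131455)))) (.node (.node (.node (.leaf 65920) (.leaf 385)) (.node (.leaf 65921) (.leaf 131457))) (.node (.node (.leaf 386) (.leaf 65922)) (.node (.leaf 131458) (.leaf 65923)))))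 (.node (.node (.node (.node (.leaf 131459) (.leaf 388)) (.node (.leaf 65924) (.leaf 65925))) (.node (.node (.leaf 131461) (.leaf 390)) (.node (.leaf 65926) (.leaf 131462)))) (.node (.node (.node (.leaf 391) (.leaf 65927)) (.node (.leaf 131463) (.leaf 392))) (.node (.node (.leaf 65928) (.leaf 131464)) (.node (.leaf 131465) (.leaf 65930))))))))

def k2Par_4 : H52.TCert.Tr := .node (.node (.node (.node (.node (.node (.node (.node (.leaf 131466) (.leaf 395)) (.node (.leaf 65931) (.leaf 396))) (.node (.node (.leaf 131468) (.leaf 397)) (.node (.leaf 65933) (.leaf 131469)))) (.node (.node (.node (.leaf 398) (.leaf 65934)) (.node (.leaf 399) (.leaf 131471))) (.node (.node (.leaf 400) (.leaf 65936)) (.node (.leaf 131472) (.leaf 65937))))) (.node (.node (.node (.node (.leaf 131473) (.leaf 65938)) (.node (.leaf 131474) (.leaf 403))) (.node (.node (.leaf 131475) (.leaf 131476)) (.node (.leaf 405) (.leaf 65941)))) (.node (.node (.node (.leaf 65942) (.leaf 131478)) (.node (.leaf 65943) (.leaf 131479))) (.node (.node (.leaf 408) (.leaf 65944)) (.node (.leaf 131480) (.leaf 409)))))) (.node (.node (.node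 (.node (.node (.leaf 65945) (.leaf 131481)) (.node (.leaf 410) (.leaf 65946))) (.node (.node (.leaf 131482) (.leaf 411)) (.node (.leaf 65947) (.leaf 131483)))) (.node (.node (.node (.leaf 131484) (.leaf 413)) (.node (.leaf 65949) (.leaf 414))) (.node (.node (.leaf 65950) (.leaf 131486)) (.node (.leaf 415) (.leaf 131487))))) (.node (.node (.node (.node (.leaf 416) (.leaf 65952)) (.node (.leaf 131488) (.leaf 417))) (.node (.node (.leaf 65953) (.leaf 131489)) (.node (.leaf 131490) (.leaf 65955)))) (.node (.node (.node (.leaf 131491) (.leaf 420)) (.node (.leaf 65956) (.leaf 131492))) (.node (.node (.leaf 65957) (.leaf 131493)) (.node (.leaf 65958) (.leaf 131494))))))) (.node (.node (.node (.node (.node (.node (.leaf 65959) (.leaf 424)) (.node (.leaf 131496) (.leaf 425))) (.node (.node (.leaf 65961) (.leaf 131497)) (.node (.leaf 426) (.leaf 65962)))) (.node (.node (.node (.leaf 131498) (.leaf 427)) (.node (.leaf 428) (.leaf 65964))) (.node (.node (.leaf 429) (.leaf 131501)) (.node (.leaf 430) (.leaf 65966))))) (.node (.node (.node (.node (.leaf 131502) (.leaf 431)) (.node (.leaf 131504) (.leaf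 433))) (.node (.node (.leaf 65969) (.leaf 131505)) (.node (.leaf 65970) (.leaf 65971)))) (.node (.node (.node (.leaf 131507) (.leaf 436)) (.node (.leaf 437) (.leaf 65973))) (.node (.node (.leaf 131509) (.leaf 131510)) (.node (.leaf 131511) (.leaf 131512)))))) (.node (.node (.node (.node (.node (.leaf 65977) (.leaf 131513)) (.node (.leaf 442) (.leaf 65978))) (.node (.node (.leaf 131514) (.leaf 443)) (.node (.leaf 65979) (.leaf 65980)))) (.node (.node (.node (.leaf 131516) (.leaf 65981)) (.node (.leaf 131517) (.leaf 446))) (.node (.node (.leaf 65982) (.leaf 447)) (.node (.leaf 65983) (.leaf 131519))))) (.node (.node (.node (.node (.leaf 448) (.leaf 65984)) (.node (.leaf 131520) (.leaf 449))) (.node (.node (.leaf 450) (.leaf 451)) (.node (.leaf 65987) (.leaf 131523)))) (.node (.node (.node (.leaf 452) (.leaf 65988)) (.node (.leaf 131524) (.leaf 453))) (.node (.node (.leaf 65989) (.leaf 131525)) (.node (.leaf 131526) (.leaf 455)))))))) (.node (.node (.node (.node (.node (.node (.node (.leaf 65991) (.leaf 456)) (.node (.leaf 65992) (.leaf 131528))) (.node (.node (.leaf 457) (.leaf 65993))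 (.node (.leaf 131529) (.leaf 131530)))) (.node (.node (.node (.leaf 65995) (.leaf 131532)) (.node (.leaf 65997) (.leaf 131533))) (.node (.node (.leaf 462) (.leaf 65998)) (.node (.leaf 463) (.leaf 131535))))) (.node (.node (.node (.node (.leaf 464) (.leaf 131536)) (.node (.leaf 465) (.leaf 66001))) (.node (.node (.leaf 466) (.leaf 131538)) (.node (.leaf 467) (.leaf 131539)))) (.node (.node (.node (.leaf 468) (.leaf 131540)) (.node (.leaf 469) (.leaf 66005))) (.node (.node (.leaf 131541) (.leaf 470)) (.node (.leaf 66006) (.leaf 66007)))))) (.node (.node (.node (.node (.node (.leaf 131543) (.leaf 472)) (.node (.leaf 66008) (.leaf 131544))) (.node (.node (.leaf 473) (.leaf 66009)) (.node (.leaf 131545) (.leaf 131546)))) (.node (.node (.node (.leaf 131547) (.leaf 476)) (.node (.leaf 66012) (.leaf 131548))) (.node (.node (.leaf 477) (.leaf 66013)) (.node (.leaf 131549) (.leaf 478))))) (.node (.node (.node (.node (.leaf 131550) (.leaf 479)) (.node (.leaf 66015) (.leaf 480))) (.node (.node (.leaf 66016) (.leaf 131552)) (.node (.leaf 66017) (.leaf 131553)))) (.node (.node (.node (.leaf 131554)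 (.leaf 66019)) (.node (.leaf 484) (.leaf 66020))) (.node (.node (.leaf 66021) (.leaf 131557)) (.node (.leaf 486) (.leaf 131559))))))) (.node (.node (.node (.node (.node (.node (.leaf 488) (.leaf 66024)) (.node (.leaf 489) (.leaf 66025))) (.node (.node (.leaf 131561) (.leaf 490)) (.node (.leaf 66026) (.leaf 131562)))) (.node (.node (.node (.leaf 491) (.leaf 66027)) (.node (.leaf 131563) (.leaf 492))) (.node (.node (.leaf 66028) (.leaf 131564)) (.node (.leaf 66029) (.leaf 131565))))) (.node (.node (.node (.node (.leaf 66030) (.leaf 131566)) (.node (.leaf 495) (.leaf 131568))) (.node (.node (.leaf 497) (.leaf 66033)) (.node (.leaf 131570) (.leaf 499)))) (.node (.node (.node (.leaf 131571) (.leaf 66036)) (.node (.leaf 131572) (.leaf 501))) (.node (.node (.leaf 66037) (.leaf 131573)) (.node (.leaf 502) (.leaf 131574)))))) (.node (.node (.node (.node (.node (.leaf 503) (.leaf 66039)) (.node (.leaf 505) (.leaf 131577))) (.node (.node (.leaf 506) (.leaf 131578)) (.node (.leaf 66043) (.leaf 131579)))) (.node (.node (.node (.leaf 66044) (.leaf 131580)) (.node (.leaf 509) (.leaf 66045))) (.node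 (.node (.leaf 131581) (.leaf 510)) (.node (.leaf 66046) (.leaf 131582))))) (.node (.node (.node (.node (.leaf 131583) (.leaf 131584)) (.node (.leaf 513) (.leaf 66049))) (.node (.node (.leaf 131585) (.leaf 66050)) (.node (.leaf 131586) (.leaf 131587)))) (.node (.node (.node (.leaf 66052) (.leaf 131588)) (.node (.leaf 66053) (.leaf 518))) (.node (.node (.leaf 66054) (.leaf 131590)) (.node (.leaf 66055) (.leaf 131591))))))))

def k2Par_5 : H52.TCert.Tr := .node (.node (.node (.node (.node (.node (.node (.node (.leaf 520) (.leaf 66056)) (.node (.leaf 131592) (.leaf 521))) (.node (.node (.leaf 66057) (.leaf 131593)) (.node (.leaf 522) (.leaf 66058)))) (.node (.node (.node (.leaf 131594) (.leaf 523)) (.node (.leaf 66059) (.leaf 131595))) (.node (.node (.leaf 524) (.leaf 131596)) (.node (.leaf 525) (.leaf 66061))))) (.node (.node (.node (.node (.leaf 131597) (.leaf 66062)) (.node (.leaf 131598) (.leaf 527))) (.node (.node (.leaf 66063) (.leaf 131599)) (.node (.leaf 528) (.leaf 66064)))) (.node (.node (.node (.leaf 131600) (.leaf 530)) (.node (.leaf 531) (.leaf 66067))) (.node (.node (.leaf 131604)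 (.leaf 534)) (.node (.leaf 66070) (.leaf 131608)))))) (.node (.node (.node (.node (.node (.leaf 131609) (.leaf 538)) (.node (.leaf 131610) (.leaf 539))) (.node (.node (.leaf 66075) (.leaf 131611)) (.node (.leaf 66076) (.leaf 131612)))) (.node (.node (.node (.leaf 541) (.leaf 66077)) (.node (.leaf 131613) (.leaf 542))) (.node (.node (.leaf 66078) (.leaf 131614)) (.node (.leaf 543) (.leaf 131615))))) (.node (.node (.node (.node (.leaf 544) (.leaf 131616)) (.node (.leaf 66081) (.leaf 131617))) (.node (.node (.leaf 66082) (.leaf 131618)) (.node (.leaf 547) (.leaf 66084)))) (.node (.node (.node (.leaf 131621) (.leaf 131622)) (.node (.leaf 551) (.leaf 66088))) (.node (.node (.leaf 131624) (.leaf 553)) (.node (.leaf 131625) (.leaf 554))))))) (.node (.node (.node (.node (.node (.node (.leaf 66090) (.leaf 131626)) (.node (.leaf 555) (.leaf 66091))) (.node (.node (.leaf 131627) (.leaf 556)) (.node (.leaf 66092) (.leaf 131628)))) (.node (.node (.node (.leaf 131629) (.leaf 558)) (.node (.leaf 131630) (.leaf 559))) (.node (.node (.leaf 66095) (.leaf 66096)) (.node (.leaf 131632) (.leaf 66097)))))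 (.node (.node (.node (.node (.leaf 66098) (.leaf 66099)) (.node (.leaf 131635) (.leaf 66100))) (.node (.node (.leaf 131636) (.leaf 565)) (.node (.leaf 66101) (.leaf 131637)))) (.node (.node (.node (.leaf 566) (.leaf 66102)) (.node (.leaf 131638) (.leaf 567))) (.node (.node (.leaf 66103) (.leaf 131639)) (.node (.leaf 66104) (.leaf 569)))))) (.node (.node (.node (.node (.node (.leaf 66105) (.leaf 131641)) (.node (.leaf 570) (.leaf 66106))) (.node (.node (.leaf 131642) (.leaf 571)) (.node (.leaf 66107) (.leaf 131643)))) (.node (.node (.node (.leaf 572) (.leaf 66108)) (.node (.leaf 66109) (.leaf 574))) (.node (.node (.leaf 66110) (.leaf 131646)) (.node (.leaf 131647) (.leaf 576))))) (.node (.node (.node (.node (.leaf 66112) (.leaf 131648)) (.node (.leaf 577) (.leaf 578))) (.node (.node (.leaf 66114) (.leaf 131650)) (.node (.leaf 131651) (.leaf 131652)))) (.node (.node (.node (.leaf 131653) (.leaf 131654)) (.node (.leaf 583) (.leaf 131655))) (.node (.node (.leaf 584) (.leaf 66120)) (.node (.leaf 585) (.leaf 131658)))))))) (.node (.node (.node (.node (.node (.node (.node (.leaf 587) (.leaf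 66123)) (.node (.leaf 588) (.leaf 66124))) (.node (.node (.leaf 131660) (.leaf 131661)) (.node (.leaf 66126) (.leaf 66127)))) (.node (.node (.node (.leaf 131663) (.leaf 592)) (.node (.leaf 593) (.leaf 66130))) (.node (.node (.leaf 131666) (.leaf 595)) (.node (.leaf 596) (.leaf 66132))))) (.node (.node (.node (.node (.leaf 597) (.leaf 598)) (.node (.leaf 131670) (.leaf 599))) (.node (.node (.leaf 66135) (.leaf 600)) (.node (.leaf 66136) (.leaf 601)))) (.node (.node (.node (.leaf 66137) (.leaf 131673)) (.node (.leaf 66138) (.leaf 131674))) (.node (.node (.leaf 66139) (.leaf 605)) (.node (.leaf 606) (.leaf 66142)))))) (.node (.node (.node (.node (.node (.leaf 607) (.leaf 66143)) (.node (.leaf 66144) (.leaf 131680))) (.node (.node (.leaf 609) (.leaf 66145)) (.node (.leaf 131681) (.leaf 610)))) (.node (.node (.node (.leaf 66146) (.leaf 131682)) (.node (.leaf 611) (.leaf 131683))) (.node (.node (.leaf 131684) (.leaf 613)) (.node (.leaf 66149) (.leaf 614))))) (.node (.node (.node (.node (.leaf 131686) (.leaf 615)) (.node (.leaf 66151) (.leaf 131687))) (.node (.node (.leaf 616) (.leaf 131688))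 (.node (.leaf 131689) (.leaf 131690)))) (.node (.node (.node (.leaf 66155) (.leaf 131691)) (.node (.leaf 131692) (.leaf 621))) (.node (.node (.leaf 66157) (.leaf 131693)) (.node (.leaf 66158) (.leaf 623))))))) (.node (.node (.node (.node (.node (.node (.leaf 131695) (.leaf 66160)) (.node (.leaf 131696) (.leaf 66161))) (.node (.node (.leaf 131697) (.leaf 626)) (.node (.leaf 131698) (.leaf 627)))) (.node (.node (.node (.leaf 66163) (.leaf 131699)) (.node (.leaf 628) (.leaf 131700))) (.node (.node (.leaf 629) (.leaf 66165)) (.node (.leaf 630) (.leaf 631))))) (.node (.node (.node (.node (.leaf 66167) (.leaf 632)) (.node (.leaf 131704) (.leaf 634))) (.node (.node (.leaf 66170) (.leaf 131706)) (.node (.leaf 131707) (.leaf 636)))) (.node (.node (.node (.leaf 637) (.leaf 66173)) (.node (.leaf 131709) (.leaf 638))) (.node (.node (.leaf 66174) (.leaf 66175)) (.node (.leaf 131711) (.leaf 66176)))))) (.node (.node (.node (.node (.node (.leaf 131712) (.leaf 641)) (.node (.leaf 66177) (.leaf 131713))) (.node (.node (.leaf 642) (.leaf 66178)) (.node (.leaf 131714) (.leaf 643)))) (.node (.node (.node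 (.leaf 66179) (.leaf 131715)) (.node (.leaf 66181) (.leaf 131718))) (.node (.node (.leaf 647) (.leaf 66183)) (.node (.leaf 131719) (.leaf 131720))))) (.node (.node (.node (.node (.leaf 649) (.leaf 66185)) (.node (.leaf 650) (.leaf 66186))) (.node (.node (.leaf 66187) (.leaf 131723)) (.node (.leaf 652) (.leaf 131724)))) (.node (.node (.node (.leaf 653) (.leaf 131725)) (.node (.leaf 654) (.leaf 131726))) (.node (.node (.leaf 131727) (.leaf 656)) (.node (.leaf 657) (.leaf 66193))))))))

def k2Par_6 : H52.TCert.Tr := .node (.node (.node (.node (.node (.node (.node (.node (.leaf 131729) (.leaf 658)) (.node (.leaf 659) (.leaf 131732))) (.node (.node (.leaf 661) (.leaf 131733)) (.node (.leaf 662) (.leaf 66198)))) (.node (.node (.node (.leaf 131734) (.leaf 663)) (.node (.leaf 66200) (.leaf 131736))) (.node (.node (.leaf 131737) (.leaf 131738)) (.node (.leaf 667) (.leaf 66203))))) (.node (.node (.node (.node (.leaf 668) (.leaf 66204)) (.node (.leaf 669) (.leaf 131741))) (.node (.node (.leaf 670) (.leaf 131742)) (.node (.leaf 671) (.leaf 66207)))) (.node (.node (.node (.leaf 131743) (.leaf 672))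 (.node (.leaf 673) (.leaf 131745))) (.node (.node (.leaf 674) (.leaf 66210)) (.node (.leaf 131746) (.leaf 675)))))) (.node (.node (.node (.node (.node (.leaf 131747) (.leaf 676)) (.node (.leaf 66212) (.leaf 131748))) (.node (.node (.leaf 66214) (.leaf 679)) (.node (.leaf 66215) (.leaf 131751)))) (.node (.node (.node (.leaf 680) (.leaf 66216)) (.node (.leaf 131752) (.leaf 66217))) (.node (.node (.leaf 66218) (.leaf 683)) (.node (.leaf 131756) (.leaf 685))))) (.node (.node (.node (.node (.leaf 66221) (.leaf 686)) (.node (.leaf 66222) (.leaf 131758))) (.node (.node (.leaf 688) (.leaf 66224)) (.node (.leaf 689) (.leaf 690)))) (.node (.node (.node (.leaf 66226) (.leaf 691)) (.node (.leaf 131763) (.leaf 692))) (.node (.node (.leaf 693) (.leaf 66229)) (.node (.leaf 694) (.leaf 131766))))))) (.node (.node (.node (.node (.node (.node (.leaf 695) (.leaf 66231)) (.node (.leaf 131767) (.leaf 696))) (.node (.node (.leaf 66232) (.leaf 697)) (.node (.leaf 131769) (.leaf 66234)))) (.node (.node (.node (.leaf 131770) (.leaf 699)) (.node (.leaf 66235) (.leaf 700))) (.node (.node (.leaf 131772) (.leaf 701))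 (.node (.leaf 131773) (.leaf 702))))) (.node (.node (.node (.node (.leaf 66238) (.leaf 131774)) (.node (.leaf 131775) (.leaf 704))) (.node (.node (.leaf 131776) (.leaf 66241)) (.node (.leaf 66242) (.leaf 66244)))) (.node (.node (.node (.leaf 709) (.leaf 66245)) (.node (.leaf 131781) (.leaf 66247))) (.node (.node (.leaf 131783) (.leaf 66248)) (.node (.leaf 131784) (.leaf 713)))))) (.node (.node (.node (.node (.node (.leaf 131785) (.leaf 714)) (.node (.leaf 715) (.leaf 66251))) (.node (.node (.leaf 716) (.leaf 131788)) (.node (.leaf 717) (.leaf 131789)))) (.node (.node (.node (.leaf 131790) (.leaf 720)) (.node (.leaf 66257) (.leaf 131793))) (.node (.node (.leaf 66258) (.leaf 131795)) (.node (.leaf 724) (.leaf 725))))) (.node (.node (.node (.node (.leaf 66261) (.leaf 66262)) (.node (.leaf 131798) (.leaf 727))) (.node (.node (.leaf 66263) (.leaf 131799)) (.node (.leaf 728) (.leaf 66264)))) (.node (.node (.node (.leaf 131800) (.leaf 729)) (.node (.leaf 66265) (.leaf 131801))) (.node (.node (.leaf 730) (.leaf 731)) (.node (.leaf 131803) (.leaf 66268)))))))) (.node (.node (.node (.node (.node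 (.node (.node (.leaf 131804) (.leaf 733)) (.node (.leaf 131805) (.leaf 66272))) (.node (.node (.leaf 131808) (.leaf 737)) (.node (.leaf 131809) (.leaf 738)))) (.node (.node (.node (.leaf 66274) (.leaf 739)) (.node (.leaf 740) (.leaf 66276))) (.node (.node (.leaf 131812) (.leaf 741)) (.node (.leaf 131813) (.leaf 66278))))) (.node (.node (.node (.node (.leaf 131815) (.leaf 131816)) (.node (.leaf 66281) (.leaf 131817))) (.node (.node (.leaf 66282) (.leaf 131818)) (.node (.leaf 131819) (.leaf 748)))) (.node (.node (.node (.leaf 66284) (.leaf 131820)) (.node (.leaf 749) (.leaf 66285))) (.node (.node (.leaf 750) (.leaf 131822)) (.node (.leaf 751) (.leaf 66287)))))) (.node (.node (.node (.node (.node (.leaf 131823) (.leaf 752)) (.node (.leaf 131824) (.leaf 753))) (.node (.node (.leaf 131825) (.leaf 66290)) (.node (.leaf 131826) (.leaf 757)))) (.node (.node (.node (.leaf 131829) (.leaf 131830)) (.node (.leaf 759) (.leaf 66295))) (.node (.node (.leaf 760) (.leaf 66296)) (.node (.leaf 66297) (.leaf 131833))))) (.node (.node (.node (.node (.leaf 762) (.leaf 131835)) (.node (.leaf 131836) (.leaf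 131837))) (.node (.node (.leaf 66302) (.leaf 131838)) (.node (.leaf 131839) (.leaf 768)))) (.node (.node (.node (.leaf 66304) (.leaf 131840)) (.node (.leaf 66305) (.leaf 131841))) (.node (.node (.leaf 131842) (.leaf 771)) (.node (.leaf 66307) (.leaf 131843))))))) (.node (.node (.node (.node (.node (.node (.leaf 772) (.leaf 66308)) (.node (.leaf 131844) (.leaf 773))) (.node (.node (.leaf 66310) (.leaf 131846)) (.node (.leaf 66311) (.leaf 131847)))) (.node (.node (.node (.leaf 66312) (.leaf 131848)) (.node (.leaf 777) (.leaf 66313))) (.node (.node (.leaf 66314) (.leaf 131850)) (.node (.leaf 779) (.leaf 66315))))) (.node (.node (.node (.node (.leaf 131851) (.leaf 780)) (.node (.leaf 131852) (.leaf 781))) (.node (.node (.leaf 66317) (.leaf 782)) (.node (.leaf 66318) (.leaf 131854)))) (.node (.node (.node (.leaf 783) (.leaf 66319)) (.node (.leaf 131855) (.leaf 131856))) (.node (.node (.leaf 131857) (.leaf 131859)) (.node (.leaf 788) (.leaf 789)))))) (.node (.node (.node (.node (.node (.leaf 131861) (.leaf 66326)) (.node (.leaf 791) (.leaf 131863))) (.node (.node (.leaf 66328) (.leaf 131864))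 (.node (.leaf 793) (.leaf 131866)))) (.node (.node (.node (.leaf 795) (.leaf 131868)) (.node (.leaf 66334) (.leaf 131870))) (.node (.node (.leaf 799) (.leaf 800)) (.node (.leaf 66336) (.leaf 131872))))) (.node (.node (.node (.node (.leaf 66337) (.leaf 131873)) (.node (.leaf 131874) (.leaf 803))) (.node (.node (.leaf 66339) (.leaf 131875)) (.node (.leaf 66340) (.leaf 131876)))) (.node (.node (.node (.leaf 806) (.leaf 807)) (.node (.leaf 66343) (.leaf 66344))) (.node (.node (.leaf 131880) (.leaf 809)) (.node (.leaf 131881) (.leaf 810))))))))

def k2Par_7 : H52.TCert.Tr := .node (.node (.node (.node (.node (.node (.node (.node (.leaf 131882) (.leaf 811)) (.node (.leaf 812) (.leaf 813))) (.node (.node (.leaf 66349) (.leaf 814)) (.node (.leaf 815) (.leaf 816)))) (.node (.node (.node (.leaf 66353) (.leaf 131890)) (.node (.leaf 819) (.leaf 66355))) (.node (.node (.leaf 821) (.leaf 66357)) (.node (.leaf 131893) (.leaf 66358))))) (.node (.node (.node (.node (.leaf 131894) (.leaf 66360)) (.node (.leaf 66361) (.leaf 131897))) (.node (.node (.leaf 826) (.leaf 66362)) (.node (.leaf 131898) (.leaf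 827)))) (.node (.node (.node (.leaf 66363) (.leaf 829)) (.node (.leaf 66365) (.leaf 66366))) (.node (.node (.leaf 131902) (.leaf 831)) (.node (.leaf 66367) (.leaf 131903)))))) (.node (.node (.node (.node (.node (.leaf 832) (.leaf 131905)) (.node (.leaf 834) (.leaf 66370))) (.node (.node (.leaf 835) (.leaf 66371)) (.node (.leaf 131907) (.leaf 836)))) (.node (.node (.node (.leaf 66372) (.leaf 837)) (.node (.leaf 131910) (.leaf 839))) (.node (.node (.leaf 131911) (.leaf 840)) (.node (.leaf 66376) (.leaf 131912))))) (.node (.node (.node (.node (.leaf 66377) (.leaf 131913)) (.node (.leaf 842) (.leaf 66378))) (.node (.node (.leaf 843) (.leaf 66379)) (.node (.leaf 131916) (.leaf 845)))) (.node (.node (.node (.leaf 66381) (.leaf 131917)) (.node (.leaf 847) (.leaf 131919))) (.node (.node (.leaf 66384) (.leaf 131920)) (.node (.leaf 66386) (.leaf 66387))))))) (.node (.node (.node (.node (.node (.node (.leaf 852) (.leaf 131924)) (.node (.leaf 66389) (.leaf 854))) (.node (.node (.leaf 855) (.leaf 131927)) (.node (.leaf 856) (.leaf 66392)))) (.node (.node (.node (.leaf 66393) (.leaf 131929)) (.node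 (.leaf 858) (.leaf 66395))) (.node (.node (.leaf 860) (.leaf 131933)) (.node (.leaf 862) (.leaf 66398))))) (.node (.node (.node (.node (.leaf 864) (.leaf 131936)) (.node (.leaf 131937) (.leaf 866))) (.node (.node (.leaf 66402) (.leaf 867)) (.node (.leaf 66403) (.leaf 131940)))) (.node (.node (.node (.leaf 66406) (.leaf 131942)) (.node (.leaf 66408) (.leaf 131944))) (.node (.node (.leaf 66409) (.leaf 131945)) (.node (.leaf 131946) (.leaf 875)))))) (.node (.node (.node (.node (.node (.leaf 131947) (.leaf 131948)) (.node (.leaf 877) (.leaf 66413))) (.node (.node (.leaf 131949) (.leaf 878)) (.node (.leaf 131950) (.leaf 879)))) (.node (.node (.node (.leaf 131951) (.leaf 66416)) (.node (.leaf 131952) (.leaf 882))) (.node (.node (.leaf 66418) (.leaf 131954)) (.node (.leaf 883) (.leaf 66419))))) (.node (.node (.node (.node (.leaf 131955) (.leaf 884)) (.node (.leaf 66420) (.leaf 885))) (.node (.node (.leaf 66421) (.leaf 886)) (.node (.leaf 887) (.leaf 131959)))) (.node (.node (.node (.leaf 66424) (.leaf 889)) (.node (.leaf 66425) (.leaf 890))) (.node (.node (.leaf 131962) (.leaf 131964)) (.node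 (.leaf 894) (.leaf 66430)))))))) (.node (.node (.node (.node (.node (.node (.node (.leaf 66431) (.leaf 131967)) (.node (.leaf 131968) (.leaf 131969))) (.node (.node (.leaf 898) (.leaf 66434)) (.node (.leaf 131970) (.leaf 131971)))) (.node (.node (.node (.leaf 900) (.leaf 131974)) (.node (.leaf 904) (.leaf 66440))) (.node (.node (.leaf 905) (.leaf 66441)) (.node (.leaf 131979) (.leaf 908))))) (.node (.node (.node (.node (.leaf 131980) (.leaf 909)) (.node (.leaf 66445) (.leaf 131981))) (.node (.node (.leaf 910) (.leaf 66447)) (.node (.leaf 913) (.leaf 66449)))) (.node (.node (.node (.leaf 131985) (.leaf 914)) (.node (.leaf 131986) (.leaf 66451))) (.node (.node (.leaf 131987) (.leaf 131988)) (.node (.leaf 131989) (.leaf 66454)))))) (.node (.node (.node (.node (.node (.leaf 66455) (.leaf 131991)) (.node (.leaf 920) (.leaf 66456))) (.node (.node (.leaf 922) (.leaf 131994)) (.node (.leaf 923) (.leaf 66459)))) (.node (.node (.node (.leaf 925) (.leaf 926)) (.node (.leaf 131999) (.leaf 928))) (.node (.node (.leaf 66464) (.leaf 929)) (.node (.leaf 132001) (.leaf 930))))) (.node (.node (.node (.node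 (.leaf 132003) (.leaf 132004)) (.node (.leaf 933) (.leaf 132005))) (.node (.node (.leaf 132006) (.leaf 66471)) (.node (.leaf 66472) (.leaf 132008)))) (.node (.node (.node (.leaf 66474) (.leaf 132010)) (.node (.leaf 66475) (.leaf 66476))) (.node (.node (.leaf 132012) (.leaf 941)) (.node (.leaf 132013) (.leaf 942))))))) (.node (.node (.node (.node (.node (.node (.leaf 66478) (.leaf 66479)) (.node (.leaf 132015) (.leaf 944))) (.node (.node (.leaf 132016) (.leaf 945)) (.node (.leaf 132017) (.leaf 132018)))) (.node (.node (.node (.leaf 947) (.leaf 66483)) (.node (.leaf 132019) (.leaf 66484))) (.node (.node (.leaf 66485) (.leaf 132022)) (.node (.leaf 951) (.leaf 66487))))) (.node (.node (.node (.node (.leaf 132024) (.leaf 66489)) (.node (.leaf 954) (.leaf 132026))) (.node (.node (.leaf 955) (.leaf 66491)) (.node (.leaf 956) (.leaf 66493)))) (.node (.node (.node (.leaf 132029) (.leaf 132030)) (.node (.leaf 132032) (.leaf 961))) (.node (.node (.leaf 66497) (.leaf 132034)) (.node (.leaf 963) (.leaf 132035)))))) (.node (.node (.node (.node (.node (.leaf 66500) (.leaf 132036)) (.node (.leaf 965)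 (.leaf 132037))) (.node (.node (.leaf 966) (.leaf 132039)) (.node (.leaf 968) (.leaf 66504)))) (.node (.node (.node (.leaf 66505) (.leaf 132042)) (.node (.leaf 971) (.leaf 132043))) (.node (.node (.leaf 973) (.leaf 66509)) (.node (.leaf 132045) (.leaf 66511))))) (.node (.node (.node (.node (.leaf 132047) (.leaf 977)) (.node (.leaf 66513) (.leaf 132049))) (.node (.node (.leaf 978) (.leaf 66514)) (.node (.leaf 979) (.leaf 66515)))) (.node (.node (.node (.leaf 132052) (.leaf 66517)) (.node (.leaf 982) (.leaf 132055))) (.node (.node (.leaf 984) (.leaf 66520)) (.node (.leaf 66522) (.leaf 988))))))))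

def k2Par_8 : H52.TCert.Tr := .node (.node (.node (.node (.node (.node (.node (.node (.leaf 132060) (.leaf 132061)) (.node (.leaf 66528) (.leaf 132064))) (.node (.node (.leaf 993) (.leaf 66530)) (.node (.leaf 132066) (.leaf 66531)))) (.node (.node (.node (.leaf 132067) (.leaf 996)) (.node (.leaf 66532) (.leaf 997))) (.node (.node (.leaf 66533) (.leaf 132069)) (.node (.leaf 999) (.leaf 66535))))) (.node (.node (.node (.node (.leaf 1000) (.leaf 132073)) (.node (.leaf 1002) (.leaf 66538))) (.node (.node (.leaf 132075) (.leaf 66542)) (.node (.leaf 132080) (.leaf 1009)))) (.node (.node (.node (.leaf 66545) (.leaf 132082)) (.node (.leaf 132084) (.leaf 132086))) (.node (.node (.leaf 1016) (.leaf 66552)) (.node (.leaf 66553) (.leaf 1018)))))) (.node (.node (.node (.node (.node (.leaf 66556) (.leaf 1021)) (.node (.leaf 132094) (.leaf 1025))) (.node (.node (.leaf 1027) (.leaf 1029)) (.node (.leaf 66565) (.leaf 132102)))) (.node (.node (.node (.leaf 66567) (.leaf 1032)) (.node (.leaf 66568) (.leaf 1033))) (.node (.node (.leaf 132105) (.leaf 66570)) (.node (.leaf 132106) (.leaf 1038))))) (.node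 (.node (.node (.node (.leaf 66575) (.leaf 132111)) (.node (.leaf 66576) (.leaf 1041))) (.node (.node (.leaf 66577) (.leaf 1044)) (.node (.leaf 132116) (.leaf 66581)))) (.node (.node (.node (.leaf 66582) (.leaf 132118)) (.node (.leaf 66583) (.leaf 132119))) (.node (.node (.leaf 1049) (.leaf 66585)) (.node (.leaf 132121) (.leaf 132123))))))) (.node (.node (.node (.node (.node (.node (.leaf 66588) (.leaf 66589)) (.node (.leaf 1054) (.leaf 66590))) (.node (.node (.leaf 132126) (.leaf 66591)) (.node (.leaf 1056) (.leaf 66592)))) (.node (.node (.node (.leaf 1057) (.leaf 132129)) (.node (.leaf 1058) (.leaf 132130))) (.node (.node (.leaf 66595) (.leaf 132131)) (.node (.leaf 1060) (.leaf 1061))))) (.node (.node (.node (.node (.leaf 132133) (.leaf 66598)) (.node (.leaf 1063) (.leaf 66599))) (.node (.node (.leaf 132135) (.leaf 1064)) (.node (.leaf 132136) (.leaf 1066)))) (.node (.node (.node (.leaf 66607) (.leaf 132143)) (.node (.leaf 1072) (.leaf 132144))) (.node (.node (.leaf 1073) (.leaf 132145)) (.node (.leaf 1074) (.leaf 132146)))))) (.node (.node (.node (.node (.node (.leaf 66611) (.leaf 132147))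 (.node (.leaf 66612) (.leaf 132148))) (.node (.node (.leaf 1077) (.leaf 132150)) (.node (.leaf 132151) (.leaf 1080)))) (.node (.node (.node (.leaf 132153) (.leaf 1082)) (.node (.leaf 1083) (.leaf 66619))) (.node (.node (.leaf 132155) (.leaf 1084)) (.node (.leaf 66620) (.leaf 132156))))) (.node (.node (.node (.node (.leaf 66621) (.leaf 132157)) (.node (.leaf 132158) (.leaf 66623))) (.node (.node (.leaf 66624) (.leaf 132160)) (.node (.leaf 66625) (.leaf 66626)))) (.node (.node (.node (.leaf 132162) (.leaf 1091)) (.node (.leaf 132163) (.leaf 1092))) (.node (.node (.leaf 132164) (.leaf 1093)) (.node (.leaf 66629) (.leaf 132165)))))))) (.node (.node (.node (.node (.node (.node (.node (.leaf 66630) (.leaf 1095)) (.node (.leaf 66631) (.leaf 132169))) (.node (.node (.leaf 66634) (.leaf 1099)) (.node (.leaf 66635) (.leaf 132171)))) (.node (.node (.node (.leaf 1100) (.leaf 132172)) (.node (.leaf 1101) (.leaf 66638))) (.node (.node (.leaf 132174) (.leaf 132175)) (.node (.leaf 66642) (.leaf 1107))))) (.node (.node (.node (.node (.leaf 1109) (.leaf 66645)) (.node (.leaf 132182) (.leaf 1112))) (.node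 (.node (.leaf 1113) (.leaf 1115)) (.node (.leaf 1116) (.leaf 66652)))) (.node (.node (.node (.leaf 1117) (.leaf 66654)) (.node (.leaf 66655) (.leaf 132191))) (.node (.node (.leaf 1122) (.leaf 66658)) (.node (.leaf 1123) (.leaf 66659)))))) (.node (.node (.node (.node (.node (.leaf 132196) (.leaf 132197)) (.node (.leaf 1126) (.leaf 66662))) (.node (.node (.leaf 132199) (.leaf 66664)) (.node (.leaf 132201) (.leaf 66666)))) (.node (.node (.node (.leaf 132204) (.leaf 66669)) (.node (.leaf 132206) (.leaf 1135))) (.node (.node (.leaf 66671) (.leaf 1137)) (.node (.leaf 66674) (.leaf 132210))))) (.node (.node (.node (.node (.leaf 66675) (.leaf 132211)) (.node (.leaf 1140) (.leaf 132212))) (.node (.node (.leaf 1141) (.leaf 1142)) (.node (.leaf 66678) (.leaf 1143)))) (.node (.node (.node (.leaf 1144) (.leaf 132217)) (.node (.leaf 132219) (.leaf 132220))) (.node (.node (.leaf 1151) (.leaf 66687)) (.node (.leaf 1153) (.leaf 66690))))))) (.node (.node (.node (.node (.node (.node (.leaf 132226) (.leaf 1155)) (.node (.leaf 66691) (.leaf 66693))) (.node (.node (.leaf 132230) (.leaf 1159)) (.node (.leaf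 66695) (.leaf 132231)))) (.node (.node (.node (.leaf 66696) (.leaf 66697)) (.node (.leaf 132233) (.leaf 1163))) (.node (.node (.leaf 132236) (.leaf 132237)) (.node (.leaf 132240) (.leaf 1169))))) (.node (.node (.node (.node (.leaf 66706) (.leaf 132242)) (.node (.leaf 132243) (.leaf 1172))) (.node (.node (.leaf 66708) (.leaf 1173)) (.node (.leaf 1174) (.leaf 132246)))) (.node (.node (.node (.leaf 66711) (.leaf 66713)) (.node (.leaf 66714) (.leaf 66715))) (.node (.node (.leaf 66717) (.leaf 1182)) (.node (.leaf 1185) (.leaf 66721)))))) (.node (.node (.node (.node (.node (.leaf 1187) (.leaf 66723)) (.node (.leaf 1190) (.leaf 66726))) (.node (.node (.leaf 66728) (.leaf 1193)) (.node (.leaf 1194) (.leaf 132267)))) (.node (.node (.node (.leaf 1196) (.leaf 1197)) (.node (.leaf 132270) (.leaf 1199))) (.node (.node (.leaf 66735) (.leaf 1200)) (.node (.leaf 66737) (.leaf 66739))))) (.node (.node (.node (.node (.leaf 1204) (.leaf 66742)) (.node (.leaf 132278) (.leaf 132279))) (.node (.node (.leaf 1208) (.leaf 1210)) (.node (.leaf 132282) (.leaf 132284)))) (.node (.node (.node (.leaf 66749) (.leaf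 1215)) (.node (.leaf 132288) (.leaf 66757))) (.node (.node (.leaf 132294) (.leaf 1223)) (.node (.leaf 1224) (.leaf 1225))))))))

def k2Par_9 : H52.TCert.Tr := .node (.node (.node (.node (.node (.node (.node (.node (.leaf 66761) (.leaf 1226)) (.node (.leaf 66763) (.leaf 132300))) (.node (.node (.leaf 66767) (.leaf 1233)) (.node (.leaf 1234) (.leaf 66770)))) (.node (.node (.node (.leaf 132307) (.leaf 1236)) (.node (.leaf 132308) (.leaf 1239))) (.node (.node (.leaf 132311) (.leaf 132312)) (.node (.leaf 132315) (.leaf 66781))))) (.node (.node (.node (.node (.leaf 132318) (.leaf 66783)) (.node (.leaf 132319) (.leaf 132321))) (.node (.node (.leaf 66787) (.leaf 132323)) (.node (.leaf 66788) (.leaf 132324)))) (.node (.node (.node (.leaf 1253) (.leaf 66789)) (.node (.leaf 66790) (.leaf 132326))) (.node (.node (.leaf 66791) (.leaf 132327)) (.node (.leaf 66792) (.leaf 1257)))))) (.node (.node (.node (.node (.node (.leaf 66793) (.leaf 132329)) (.node (.leaf 1258) (.leaf 66794))) (.node (.node (.leaf 132330) (.leaf 132332)) (.node (.leaf 1263) (.leaf 1264)))) (.node (.node (.node (.leaf 66804) (.leaf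 132340)) (.node (.leaf 1270) (.leaf 66806))) (.node (.node (.leaf 132342) (.leaf 1272)) (.node (.leaf 1273) (.leaf 66809))))) (.node (.node (.node (.node (.leaf 66810) (.leaf 1275)) (.node (.leaf 132347) (.leaf 1276))) (.node (.node (.leaf 132348) (.leaf 1280)) (.node (.leaf 1281) (.leaf 132356)))) (.node (.node (.node (.leaf 1287) (.leaf 66823)) (.node (.leaf 132359) (.leaf 132360))) (.node (.node (.leaf 1292) (.leaf 132364)) (.node (.leaf 66829) (.leaf 1295))))))) (.node (.node (.node (.node (.node (.node (.leaf 66831) (.leaf 66832)) (.node (.leaf 132368) (.leaf 66833))) (.node (.node (.leaf 1298) (.leaf 132371)) (.node (.leaf 1301) (.leaf 66837)))) (.node (.node (.node (.leaf 1302) (.leaf 66838)) (.node (.leaf 1303) (.leaf 132377))) (.node (.node (.leaf 1306) (.leaf 66842)) (.node (.leaf 132379) (.leaf 1309))))) (.node (.node (.node (.node (.leaf 132381) (.leaf 66846)) (.node (.leaf 132382) (.leaf 1311))) (.node (.node (.leaf 132383) (.leaf 66848)) (.node (.leaf 66851) (.leaf 132387)))) (.node (.node (.node (.leaf 1318) (.leaf 132391)) (.node (.leaf 66856) (.leaf 132394))) (.node (.node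 (.leaf 132395) (.leaf 1325)) (.node (.leaf 66861) (.leaf 132398)))))) (.node (.node (.node (.node (.node (.leaf 132403) (.leaf 1333)) (.node (.leaf 132405) (.leaf 1334))) (.node (.node (.leaf 1335) (.leaf 1336)) (.node (.leaf 132411) (.leaf 132414)))) (.node (.node (.node (.leaf 132415) (.leaf 66881)) (.node (.leaf 132419) (.leaf 66885))) (.node (.node (.leaf 132424) (.leaf 66889)) (.node (.leaf 1357) (.leaf 132429))))) (.node (.node (.node (.node (.leaf 132430) (.leaf 132431)) (.node (.leaf 132433) (.leaf 1362))) (.node (.node (.leaf 132435) (.leaf 1364)) (.node (.leaf 66900) (.leaf 66901)))) (.node (.node (.node (.leaf 1366) (.leaf 66905)) (.node (.leaf 1371) (.leaf 1373))) (.node (.node (.leaf 1374) (.leaf 132446)) (.node (.leaf 132447) (.leaf 132450)))))))) (.node (.node (.node (.node (.node (.node (.node (.leaf 66916) (.leaf 66917)) (.node (.leaf 132453) (.leaf 132455))) (.node (.node (.leaf 1384) (.leaf 132456)) (.node (.leaf 132459) (.leaf 1389)))) (.node (.node (.node (.leaf 1390) (.leaf 132462)) (.node (.leaf 132465) (.leaf 1394))) (.node (.node (.leaf 1395) (.leaf 132467)) (.node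 (.leaf 1396) (.leaf 1397))))) (.node (.node (.node (.node (.leaf 132469) (.leaf 66935)) (.node (.leaf 132471) (.leaf 1400))) (.node (.node (.leaf 66936) (.leaf 132472)) (.node (.leaf 1401) (.leaf 132473)))) (.node (.node (.node (.leaf 1404) (.leaf 66940)) (.node (.leaf 1408) (.leaf 66945))) (.node (.node (.leaf 1411) (.leaf 1412)) (.node (.leaf 66948) (.leaf 1413)))))) (.node (.node (.node (.node (.node (.leaf 66949) (.leaf 66952)) (.node (.leaf 1417) (.leaf 66953))) (.node (.node (.leaf 132490) (.leaf 132491)) (.node (.leaf 1422) (.leaf 66958)))) (.node (.node (.node (.leaf 1423) (.leaf 132495)) (.node (.leaf 1424) (.leaf 66960))) (.node (.node (.leaf 1425) (.leaf 132498)) (.node (.leaf 66964) (.leaf 1429))))) (.node (.node (.node (.node (.leaf 132501) (.leaf 1430)) (.node (.leaf 66966) (.leaf 1432))) (.node (.node (.leaf 66970) (.leaf 132511)) (.node (.leaf 132514) (.leaf 1446)))) (.node (.node (.node (.leaf 66982) (.leaf 132518)) (.node (.leaf 66983) (.leaf 132520))) (.node (.node (.leaf 66986) (.leaf 1452)) (.node (.leaf 132524) (.leaf 1455))))))) (.node (.node (.node (.node (.node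 (.node (.leaf 66991) (.leaf 132528)) (.node (.leaf 1458) (.leaf 1459))) (.node (.node (.leaf 66995) (.leaf 132531)) (.node (.leaf 66996) (.leaf 1461)))) (.node (.node (.node (.leaf 132533) (.leaf 132534)) (.node (.leaf 1463) (.leaf 67005))) (.node (.node (.leaf 132541) (.leaf 67006)) (.node (.leaf 132542) (.leaf 132543))))) (.node (.node (.node (.node (.leaf 1472) (.leaf 132545)) (.node (.leaf 67013) (.leaf 132549))) (.node (.node (.leaf 1478) (.leaf 67015)) (.node (.leaf 67018) (.leaf 1484)))) (.node (.node (.node (.leaf 67020) (.leaf 67025)) (.node (.leaf 132563) (.leaf 1493))) (.node (.node (.leaf 67032) (.leaf 132570)) (.node (.leaf 1499) (.leaf 67035)))))) (.node (.node (.node (.node (.node (.leaf 132571) (.leaf 1500)) (.node (.leaf 132572) (.leaf 67038))) (.node (.node (.leaf 1504) (.leaf 67040)) (.node (.leaf 1505) (.leaf 132579)))) (.node (.node (.node (.leaf 132581) (.leaf 67046)) (.node (.leaf 132582) (.leaf 67047))) (.node (.node (.leaf 132585) (.leaf 132586)) (.node (.leaf 67052) (.leaf 132588))))) (.node (.node (.node (.node (.leaf 1518) (.leaf 67055)) (.node (.leaf 132591)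 (.leaf 1520))) (.node (.node (.leaf 67058) (.leaf 132594)) (.node (.leaf 67059) (.leaf 132595)))) (.node (.node (.node (.leaf 1524) (.leaf 132596)) (.node (.leaf 1526) (.leaf 132598))) (.node (.node (.leaf 1527) (.leaf 132601)) (.node (.leaf 67066) (.leaf 132604))))))))

def k2Par_10 : H52.TCert.Tr := .node (.node (.node (.node (.node (.node (.node (.node (.leaf 1533) (.leaf 67069)) (.node (.leaf 67071) (.leaf 67075))) (.node (.node (.leaf 1540) (.leaf 67076)) (.node (.leaf 132612) (.leaf 67078)))) (.node (.node (.node (.leaf 67083) (.leaf 1549)) (.node (.leaf 67085) (.leaf 1550))) (.node (.node (.leaf 67086) (.leaf 67088)) (.node (.leaf 1553) (.leaf 132625))))) (.node (.node (.node (.node (.leaf 132626) (.leaf 67102)) (.node (.leaf 67103) (.leaf 132639))) (.node (.node (.leaf 67104) (.leaf 67105)) (.node (.leaf 132641) (.leaf 1575)))) (.node (.node (.node (.leaf 132651) (.leaf 1581)) (.node (.leaf 132654) (.leaf 1583))) (.node (.node (.leaf 1584) (.leaf 132656)) (.node (.leaf 67124) (.leaf 67126)))))) (.node (.node (.node (.node (.node (.leaf 67130) (.leaf 132667)) (.node (.leaf 132668)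 (.leaf 67134))) (.node (.node (.leaf 132672) (.leaf 1601)) (.node (.leaf 1602) (.leaf 67138)))) (.node (.node (.node (.leaf 132674) (.leaf 1603)) (.node (.leaf 132675) (.leaf 1607))) (.node (.node (.leaf 132679) (.leaf 67144)) (.node (.leaf 132681) (.leaf 132683))))) (.node (.node (.node (.node (.leaf 1612) (.leaf 132685)) (.node (.leaf 132688) (.leaf 132689))) (.node (.node (.leaf 67154) (.leaf 67155)) (.node (.leaf 1621) (.leaf 67158)))) (.node (.node (.node (.leaf 132694) (.leaf 1623)) (.node (.leaf 1624) (.leaf 1627))) (.node (.node (.leaf 67164) (.leaf 67165)) (.node (.leaf 67167) (.leaf 132703))))))) (.node (.node (.node (.node (.node (.node (.leaf 67168) (.leaf 67169)) (.node (.leaf 1634) (.leaf 132706))) (.node (.node (.leaf 67171) (.leaf 132707)) (.node (.leaf 67173) (.leaf 1641)))) (.node (.node (.node (.leaf 67179) (.leaf 67180)) (.node (.leaf 67183) (.leaf 1648))) (.node (.node (.leaf 132725) (.leaf 67190)) (.node (.leaf 67195) (.leaf 67198))))) (.node (.node (.node (.node (.leaf 132734) (.leaf 132735)) (.node (.leaf 1664) (.leaf 67200))) (.node (.node (.leaf 132737) (.leaf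 1666)) (.node (.leaf 132743) (.leaf 132744)))) (.node (.node (.node (.leaf 1677) (.leaf 132751)) (.node (.leaf 132754) (.leaf 67223))) (.node (.node (.leaf 132766) (.leaf 132767)) (.node (.leaf 67232) (.leaf 67233)))))) (.node (.node (.node (.node (.node (.leaf 132769) (.leaf 67234)) (.node (.leaf 1700) (.leaf 1702))) (.node (.node (.leaf 67238) (.leaf 132775)) (.node (.leaf 1704) (.leaf 132776)))) (.node (.node (.node (.leaf 1707) (.leaf 1709)) (.node (.leaf 1712) (.leaf 132786))) (.node (.node (.leaf 67251) (.leaf 132787)) (.node (.leaf 67252) (.leaf 132788))))) (.node (.node (.node (.node (.leaf 67253) (.leaf 132790)) (.node (.leaf 132794) (.leaf 67259))) (.node (.node (.leaf 132795) (.leaf 132799)) (.node (.leaf 67266) (.leaf 132802)))) (.node (.node (.node (.leaf 1731) (.leaf 1737)) (.node (.leaf 132809) (.leaf 1738))) (.node (.node (.leaf 132810) (.leaf 132811)) (.node (.leaf 132812) (.leaf 132813)))))))) (.node (.node (.node (.node (.node (.node (.node (.leaf 67283) (.leaf 132821)) (.node (.leaf 1750) (.leaf 67286))) (.node (.node (.leaf 132822) (.leaf 67287)) (.node (.leaf 132823)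 (.leaf 132824)))) (.node (.node (.node (.leaf 1753) (.leaf 132827)) (.node (.leaf 132829) (.leaf 132837))) (.node (.node (.leaf 67302) (.leaf 132838)) (.node (.leaf 67303) (.leaf 132843))))) (.node (.node (.node (.node (.leaf 67308) (.leaf 1774)) (.node (.leaf 1780) (.leaf 132852))) (.node (.node (.leaf 1781) (.leaf 132853)) (.node (.leaf 67318) (.leaf 132861)))) (.node (.node (.node (.leaf 67327) (.leaf 132864)) (.node (.leaf 132868) (.leaf 67334))) (.node (.node (.leaf 1800) (.leaf 1802)) (.node (.leaf 132881) (.leaf 1810)))))) (.node (.node (.node (.node (.node (.leaf 1811) (.leaf 1812)) (.node (.leaf 132889) (.leaf 1822))) (.node (.node (.leaf 132894) (.leaf 67363)) (.node (.leaf 132899) (.leaf 1833)))) (.node (.node (.node (.leaf 132905) (.leaf 1834)) (.node (.leaf 67371) (.leaf 132909))) (.node (.node (.leaf 132911) (.leaf 1840)) (.node (.leaf 67379) (.leaf 1845))))) (.node (.node (.node (.node (.leaf 1849) (.leaf 67385)) (.node (.leaf 1854) (.leaf 132928))) (.node (.node (.leaf 1858) (.leaf 132931)) (.node (.leaf 1860) (.leaf 132932)))) (.node (.node (.node (.leaf 67398) (.leaf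 1864)) (.node (.leaf 132939) (.leaf 67404))) (.node (.node (.leaf 132941) (.leaf 1877)) (.node (.leaf 132950) (.leaf 67415))))))) (.node (.node (.node (.node (.node (.node (.leaf 67416) (.leaf 67422)) (.node (.leaf 1887) (.leaf 1893))) (.node (.node (.leaf 67430) (.leaf 1901)) (.node (.leaf 1904) (.leaf 132978)))) (.node (.node (.node (.leaf 132981) (.leaf 67447)) (.node (.leaf 132985) (.leaf 1914))) (.node (.node (.leaf 67450) (.leaf 67455)) (.node (.leaf 132991) (.leaf 67456))))) (.node (.node (.node (.node (.leaf 1923) (.leaf 67464)) (.node (.leaf 133003) (.leaf 67470))) (.node (.node (.leaf 67471) (.leaf 133009)) (.node (.leaf 67474) (.leaf 133013)))) (.node (.node (.node (.leaf 133017) (.leaf 133023)) (.node (.leaf 1954) (.leaf 133028))) (.node (.node (.leaf 67495) (.leaf 1967)) (.node (.leaf 1972) (.leaf 133046)))))) (.node (.node (.node (.node (.node (.leaf 1977) (.leaf 67515)) (.node (.leaf 67520) (.leaf 133056))) (.node (.node (.leaf 67521) (.leaf 67522)) (.node (.leaf 67524) (.leaf 1990)))) (.node (.node (.node (.leaf 67526) (.leaf 133069)) (.node (.leaf 2005) (.leaf 133078)))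 (.node (.node (.leaf 2008) (.leaf 133084)) (.node (.leaf 2018) (.leaf 2019))))) (.node (.node (.node (.node (.leaf 2020) (.leaf 67561)) (.node (.leaf 133098) (.leaf 133106))) (.node (.node (.leaf 2035) (.leaf 67571)) (.node (.leaf 2037) (.leaf 67573)))) (.node (.node (.node (.leaf 67574) (.leaf 67579)) (.node (.leaf 67584) (.leaf 2064))) (.node (.node (.leaf 67602) (.leaf 2081)) (.node (.leaf 133155) (.leaf 2094))))))))

def k2Par_11 : H52.TCert.Tr := .node (.node (.node (.node (.node (.node (.node (.node (.leaf 2095) (.leaf 133173)) (.node (.leaf 67646) (.leaf 133182))) (.node (.node (.leaf 2112) (.leaf 67649)) (.node (.leaf 133186) (.leaf 2115)))) (.node (.node (.node (.leaf 133187) (.leaf 67664)) (.node (.leaf 133200) (.leaf 133202))) (.node (.node (.leaf 133209) (.leaf 2139)) (.node (.leaf 133219) (.leaf 2148))))) (.node (.node (.node (.node (.leaf 133236) (.leaf 133239)) (.node (.leaf 67729) (.leaf 2198))) (.node (.node (.leaf 133271) (.leaf 133277)) (.node (.leaf 2212) (.leaf 133284)))) (.node (.node (.node (.leaf 2215) (.leaf 133288)) (.node (.leaf 2227) (.leaf 67765))) (.node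 (.node (.leaf 133308) (.leaf 133312)) (.node (.leaf 67777) (.leaf 133315)))))) (.node (.node (.node (.node (.node (.leaf 133325) (.leaf 2259)) (.node (.leaf 67798) (.leaf 67799))) (.node (.node (.leaf 67806) (.leaf 67827)) (.node (.leaf 67828) (.leaf 67845)))) (.node (.node (.node (.leaf 133385) (.leaf 67855)) (.node (.leaf 133401) (.leaf 133403))) (.node (.node (.leaf 2339) (.leaf 67879)) (.node (.leaf 2348) (.leaf 2364))))) (.node (.node (.node (.node (.leaf 133443) (.leaf 133450)) (.node (.leaf 2381) (.leaf 133486))) (.node (.node (.leaf 133531) (.leaf 133558)) (.node (.leaf 2520) (.leaf 133596)))) (.node (.node (.node (.leaf 2560) (.leaf 133648)) (.node (.leaf 68136) (.leaf 133693))) (.node (.node (.leaf 68166) (.leaf 133715)) (.node (.leaf 2661) (.leaf 68212))))))) (.leaf 0)) (.leaf 0)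

def k2Par : H52.TCert.Tr := .node (.node (.node (.node (k2Par_0) (k2Par_1)) (.node (k2Par_2) (k2Par_3))) (.node (.node (k2Par_4) (k2Par_5)) (.node (k2Par_6) (k2Par_7)))) (.node (.node (.node (k2Par_8) (k2Par_9)) (.node (k2Par_10) (k2Par_11))) (.node (.node (.leaf 0) (.leaf 0)) (.node (.leaf 0) (.leaf 0))))

def k2Code_0 : H52.TCert.Tr := .node (.node (.node (.node (.node (.node (.node (.node (.leaf 224826519373754728448) (.leaf 4652637786482725434053)) (.node (.leaf 7766427971790335888448) (.leaf 6365445044546509451204))) (.node (.node (.leaf 13524099362733191862673) (.leaf 5499619385889106971614)) (.node (.leaf 20438224960420876329995) (.leaf 3900450729449934172467)))) (.node (.node (.node (.leaf 10616301317497377202106) (.leaf 15161553786093960134771)) (.node (.leaf 22360067543705065429721) (.leaf 11506365693710987968059))) (.node (.node (.leaf 20174463889582838815872) (.leaf 8157026055882892740420)) (.node (.leaf 93578376457157740650) (.leaf 2841461849203016780864))))) (.node (.node (.node (.node (.leaf 2394003588731501426523) (.leaf 16097576227171283382981)) (.node (.leaf 22365015871969136379746)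 (.leaf 11139958772097564517387))) (.node (.node (.leaf 5717584888798276897458) (.leaf 7927765044527635825611)) (.node (.leaf 12982125807053458999402) (.leaf 9610225840045388866617)))) (.node (.node (.node (.leaf 316136456143392742686) (.leaf 13450201762500047148890)) (.node (.leaf 11711845001486245894873) (.leaf 10606403183462475078361))) (.node (.node (.leaf 21122707545487639423758) (.leaf 8662314758914779392365)) (.node (.leaf 13944075218529160773179) (.leaf 20486313670499966340160)))))) (.node (.node (.node (.node (.node (.leaf 17372305761032395915264) (.leaf 22064765354876793140338)) (.node (.leaf 7098942818615716530866) (.leaf 22376331470555854122948))) (.node (.node (.leaf 2894487836764837286304) (.leaf 2752583242537626109794)) (.node (.leaf 5312981040370637374411) (.leaf 9245303265307481545105)))) (.node (.node (.node (.leaf 3872671920155767120953) (.leaf 21030758899648988914699)) (.node (.leaf 1734425144166004066223) (.leaf 6547993180915972648900))) (.node (.node (.leaf 8278542036663981872518) (.leaf 949299499714419929647)) (.node (.leaf 21659346946032885412147) (.leaf 4354827085161013616570)))))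 (.node (.node (.node (.node (.leaf 19396039664713664692339) (.leaf 21755154370591357305671)) (.node (.leaf 1727100674319616739628) (.leaf 8455558976509959219565))) (.node (.node (.leaf 10218353765855268542865) (.leaf 17514530339865607982046)) (.node (.leaf 15142797278608970884107) (.leaf 5558576992425865813120)))) (.node (.node (.node (.leaf 6443209159887099404149) (.leaf 10019186875841496566450)) (.node (.leaf 1621515849293971661835) (.leaf 12370987868764005976754))) (.node (.node (.leaf 2604674333839852078027) (.leaf 11772852797261310858630)) (.node (.leaf 17875416705894438537135) (.leaf 21660367212107177231175))))))) (.node (.node (.node (.node (.node (.node (.leaf 14440391928316728718450) (.leaf 16435547151960695177331)) (.node (.leaf 7725739608451739027268) (.leaf 8543831074969775353796))) (.node (.node (.leaf 8782411246226383508870) (.leaf 19167695482478699164207)) (.node (.leaf 19656334690575558117676) (.leaf 12261641412370950140211)))) (.node (.node (.node (.leaf 5182562804015659004211) (.leaf 2993642773467832975784)) (.node (.leaf 21276472856097545734971) (.leaf 15649860839690392970297)))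 (.node (.node (.leaf 13465452507381834129338) (.leaf 1756076365248165623643)) (.node (.leaf 1406094041869571045211) (.leaf 3141040289420582669376))))) (.node (.node (.node (.node (.leaf 20006771439714162999296) (.leaf 10407937387243630146674)) (.node (.leaf 18623680550059317644352) (.leaf 18153913167483962327040))) (.node (.node (.leaf 7021715178495799538802) (.leaf 15509698113070032265077)) (.node (.leaf 18660157490360230195759) (.leaf 21091946846177833621338)))) (.node (.node (.node (.leaf 17920354324298793098526) (.leaf 8315034040127734062208)) (.node (.leaf 19663301619388049688876) (.leaf 14538533741689512839858))) (.node (.node (.leaf 14616205795836790124484) (.leaf 1311370138657583698336)) (.node (.leaf 4615261250843084042547) (.leaf 7793111984201636126650)))))) (.node (.node (.node (.node (.node (.leaf 7315323083012610424947) (.leaf 12766410454143073661637)) (.node (.leaf 19102950736999686261824) (.leaf 16655311046869769400260))) (.node (.node (.leaf 19395642526227189123899) (.leaf 7187613771246775076706)) (.node (.leaf 4950714465777506418688) (.leaf 15502285434768114718086))))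 (.node (.node (.node (.leaf 3558220374242029504431) (.leaf 15201661188762052264775)) (.node (.leaf 7340782227087345949401) (.leaf 3610477171302023806523))) (.node (.node (.leaf 18497474146143306816640) (.leaf 19821709304495510065568)) (.node (.leaf 19656544577830579771793) (.leaf 14593724460044110798709))))) (.node (.node (.node (.node (.leaf 9041635940954328210560) (.leaf 11868320163275247198069)) (.node (.leaf 14265513169354710928050) (.leaf 16683287562857821385842))) (.node (.node (.leaf 6548852690080475578483) (.leaf 21427634943541196392260)) (.node (.leaf 3648297525943857219396) (.leaf 3446637280957565044842)))) (.node (.node (.node (.leaf 1662789469212152810560) (.leaf 12573904296040866384172)) (.node (.leaf 14659736477624119734579) (.leaf 10030846765256948756787))) (.node (.node (.leaf 4782495327005348537355) (.leaf 9657351464747862182578)) (.node (.leaf 22352162798948899587019) (.leaf 13837872116914286447582)))))))) (.node (.node (.node (.node (.node (.node (.node (.leaf 20232759590678303934276) (.leaf 20556815090973795199758)) (.node (.leaf 2788344213735515790041) (.leaf 1390622707618672754235)))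 (.node (.node (.leaf 12864905167227207425152) (.leaf 17246852856638119227305)) (.node (.leaf 11788071575185194029472) (.leaf 16711914941147315243114)))) (.node (.node (.node (.leaf 18428786869942930834379) (.leaf 8459595618822408317710)) (.node (.leaf 19785358743112136728506) (.leaf 14749781187776770541674))) (.node (.node (.leaf 9533871800624393888825) (.leaf 14450962394435448577310)) (.node (.leaf 16389935843865398155098) (.leaf 1232721115463748033241))))) (.node (.node (.node (.node (.leaf 8640595868849967569625) (.leaf 18594963628083924970254)) (.node (.leaf 12450699488574032030061) (.leaf 939719836550169443899))) (.node (.node (.leaf 7743186517890170856135) (.leaf 20711561059209951123290)) (.node (.leaf 1543133972947786858920) (.leaf 11523965022213059558971)))) (.node (.node (.node (.leaf 5941029514588716073799) (.leaf 1216503787443149687774)) (.node (.leaf 16902427294511675120926) (.leaf 7814624896395314076800))) (.node (.node (.leaf 323218843212698454316) (.leaf 7608681688787299796804)) (.node (.leaf 21626689095889759996010) (.leaf 11347377228154160761920)))))) (.node (.node (.node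 (.node (.node (.leaf 11435123289281605941083) (.leaf 14050046219268221317829)) (.node (.leaf 3613284188579481814882) (.leaf 4442592612945850147851))) (.node (.node (.leaf 11342605901698506687435) (.leaf 284112017856258672482)) (.node (.leaf 9041325213254540461003) (.leaf 3366545051772989970833)))) (.node (.node (.node (.leaf 7432384870419814132077) (.leaf 9456533427264301892008)) (.node (.leaf 14049811922228456756614) (.leaf 20143172549248741283206))) (.node (.node (.leaf 20679268384235942348719) (.leaf 9780853012704097043271)) (.node (.leaf 15148575191599973540875) (.leaf 1116108704388749413042))))) (.node (.node (.node (.node (.leaf 11057792326197361247179) (.leaf 5717622140604819871110)) (.node (.leaf 21210695816921734449071) (.leaf 15843686008017638196039))) (.node (.node (.leaf 17083510184792939705458) (.leaf 21886351344416979320947)) (.node (.leaf 20895662088126527670084) (.leaf 9115338332993893707689)))) (.node (.node (.node (.leaf 6492202606602248360352) (.leaf 21588491981521717921898)) (.node (.leaf 19632096390069782301662) (.leaf 22138585579157598537540))) (.node (.node (.leaf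 893673661389344287502) (.leaf 8540973509816762475207)) (.node (.leaf 17141163958520520349530) (.leaf 16491390732333924417960))))))) (.node (.node (.node (.node (.node (.node (.leaf 21653136506602555755323) (.leaf 18325832810925657458530)) (.node (.leaf 18510259644931950936064) (.leaf 1843780217232943688462))) (.node (.node (.leaf 9249214055834525444461) (.leaf 2866180841914319093307)) (.node (.leaf 7065698588024941225017) (.leaf 2961915524729157395467)))) (.node (.node (.node (.leaf 9190419411754630023087) (.leaf 10092143830635593997017)) (.node (.leaf 4371282607354663714363) (.leaf 10085216172295896865920))) (.node (.node (.leaf 12358187686090724683689) (.leaf 15844027128278076985760)) (.node (.leaf 18656858393181417309131) (.leaf 3206948101202394950414))))) (.node (.node (.node (.node (.leaf 18983318915283075997626) (.leaf 9023071609174288204615)) (.node (.leaf 21611644193816019291102) (.leaf 835897905443307948138))) (.node (.node (.leaf 13139003933548273706041) (.leaf 5231266083664707394846)) (.node (.leaf 4817104135969868646506) (.leaf 13535432345744127337529)))) (.node (.node (.node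 (.leaf 22001600349969207041310) (.leaf 173130723813549584943)) (.node (.leaf 1076101258428491773042) (.leaf 21399916746026577048261))) (.node (.node (.leaf 11032771622181052383347) (.leaf 18323737202384455179550)) (.node (.leaf 813354422254815555497) (.leaf 324475313084576925996)))))) (.node (.node (.node (.node (.node (.leaf 20308775567097686110515) (.leaf 20402503375610001994035)) (.node (.leaf 10355759327494466410330) (.leaf 15201419064863460334297))) (.node (.node (.leaf 4835377785623641201369) (.leaf 9505864516928073206060)) (.node (.leaf 751213197398346213741) (.leaf 17284068162886037308231)))) (.node (.node (.node (.leaf 8770831080768232196396) (.leaf 15349455747829045733741)) (.node (.leaf 18723616833695971520819) (.leaf 14820200927042076516282))) (.node (.node (.leaf 17063241444380673474675) (.leaf 13959952697341503786048)) (.node (.leaf 20129476296778840256452) (.leaf 9727457277852014103355))))) (.node (.node (.node (.node (.leaf 12894333123884797331298) (.leaf 1393244713070328807424)) (.node (.leaf 1405924870884822954291) (.leaf 7533331485479045275578))) (.node (.node (.leaf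 12422247200807616643187) (.leaf 14875590068546418324165)) (.node (.leaf 7579393904912861376452) (.leaf 2832887640308262718267)))) (.node (.node (.node (.leaf 19687741861482862184290) (.leaf 1226812354180011655168)) (.node (.leaf 11372632980224105818477) (.leaf 12234165052526321074600))) (.node (.node (.leaf 324014544722935420294) (.leaf 13841055321074465473483)) (.node (.leaf 18071272301045484890894) (.leaf 14357786236689641283514))))))))

def k2Code_1 : H52.TCert.Tr := .node (.node (.node (.node (.node (.node (.node (.node (.leaf 22220717398681031024570) (.leaf 6613818201208562792283)) (.node (.leaf 22422364741091072718683) (.leaf 2840059835884796740008))) (.node (.node (.leaf 3927478445800147110715) (.leaf 19531937111513649325113)) (.node (.leaf 21870327637608273576907) (.leaf 203209151568545913233)))) (.node (.node (.node (.leaf 3829298569092100603451) (.leaf 20574022191176083866439)) (.node (.leaf 1689520830936397925342) (.leaf 21091641087388810089862))) (.node (.node (.leaf 21149247647293196206919) (.leaf 5940166565179097127641)) (.node (.leaf 12948779536481738243643) (.leaf 7962199846592206740608)))))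 (.node (.node (.node (.node (.leaf 3234247774468372468128) (.leaf 9362928072725707790737)) (.node (.leaf 18975373083641538289525) (.leaf 12043600830277889230954))) (.node (.node (.leaf 14875169210680942011449) (.leaf 10684430896948510956830)) (.node (.leaf 22162036102801571944282) (.leaf 2023558805635550485209)))) (.node (.node (.node (.leaf 21011333112032141417177) (.leaf 16409023435789611445006)) (.node (.leaf 7168193655843015076205) (.leaf 5434874134940769369659))) (.node (.node (.leaf 22188417477840202275217) (.leaf 195101642436132096990)) (.node (.leaf 10099003020910994924555) (.leaf 18268069970879328792883)))))) (.node (.node (.node (.node (.node (.leaf 11122767366374596247667) (.leaf 21450216870511770606297)) (.node (.leaf 12857739406261198068864) (.leaf 18594599517444531454067))) (.node (.node (.leaf 12450473849742825954590) (.leaf 940162077764240224169)) (.node (.leaf 8484626131611352767616) (.leaf 21571476854332843958133)))) (.node (.node (.node (.leaf 1197012248864941066930) (.leaf 1440345679443219264197)) (.node (.leaf 19863796290848144215104) (.leaf 19398475479424771305412)))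 (.node (.node (.leaf 18599455198822433304489) (.leaf 541181103358475014560)) (.node (.leaf 2396282203400604616810) (.leaf 17351741163223980395486))))) (.node (.node (.node (.node (.leaf 16320818302814445111108) (.leaf 17192483205627149298446)) (.node (.leaf 22239291759619939508935) (.leaf 6497874898199164655450))) (.node (.node (.leaf 11948906874203800076712) (.leaf 19009471395622213569600)) (.node (.leaf 16390146775701621440512) (.leaf 4082786384325495698546)))) (.node (.node (.node (.leaf 3991708463964106625440) (.leaf 3641560540788824704866)) (.node (.leaf 18441653794355553633227) (.leaf 6018749978286340477344))) (.node (.node (.leaf 14458205271077558262161) (.leaf 7751418772192703029109)) (.node (.leaf 1390638004767812945732) (.leaf 9023081206221865945194))))))) (.node (.node (.node (.node (.node (.node (.leaf 21611573783048798424128) (.leaf 6921269287347456977261)) (.node (.leaf 914341283134719656360) (.leaf 7436874752854178534790))) (.node (.node (.leaf 14727762770191269922658) (.leaf 19563351025929717356945)) (.node (.leaf 14593987711600215566701) (.leaf 4521808259450900873640))))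 (.node (.node (.node (.leaf 4232628916794916607366) (.leaf 17140548685419840738694)) (.node (.leaf 7271926409547868637103) (.leaf 6107142487664659235655))) (.node (.node (.leaf 18004274283227404290875) (.leaf 2722416160871952680802)) (.node (.leaf 13731906429866398810112) (.leaf 3136553582382161275662))))) (.node (.node (.node (.node (.leaf 7209889071130524428653) (.leaf 7312376093162944577083)) (.node (.leaf 12179519148118387729465) (.leaf 361524609629589414923))) (.node (.node (.leaf 14843159261113965447087) (.leaf 22438239014598237987897)) (.node (.leaf 20071781628880322176011) (.leaf 13594633578693720344495)))) (.node (.node (.node (.leaf 7017201965402165751748) (.leaf 13104654494038772684166)) (.node (.leaf 71924633256123937327) (.leaf 21175087997372414500794))) (.node (.node (.leaf 20863317631810591916147) (.leaf 20032543074046632377915)) (.node (.leaf 13923975446944735167303) (.leaf 7179569056206936712249)))))) (.node (.node (.node (.node (.node (.leaf 3533875811046682467614) (.leaf 15766339506852978952298)) (.node (.leaf 5987271581066081870905) (.leaf 9394131310786478480670)))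 (.node (.node (.leaf 5117843557986259608587) (.leaf 17328436925668210756274)) (.node (.leaf 741989828362790470603) (.leaf 12180696805361782199686)))) (.node (.node (.node (.leaf 22347202968965340202927) (.leaf 8159609532289873707847)) (.node (.leaf 5684514955885452964978) (.leaf 14710780980836523409523))) (.node (.node (.leaf 3311675836498385962820) (.leaf 13569072737817738655579)) (.node (.leaf 7633573973005400584901) (.leaf 4193297685679666857826))))) (.node (.node (.node (.node (.leaf 20511910895089633862713) (.leaf 13254384517144337032203)) (.node (.leaf 15120804240503247243183) (.leaf 2523264498446994022261))) (.node (.node (.leaf 4622504740001072853551) (.leaf 16059156368479666378586)) (.node (.leaf 10177356221874799103040) (.leaf 20112795694752492683264)))) (.node (.node (.node (.leaf 14444191451720895313010) (.leaf 8631325085282210990770)) (.node (.leaf 15810202451820100202436) (.leaf 20678863379367588434336))) (.node (.node (.leaf 19938121485878111373154) (.leaf 10422602192984758223819)) (.node (.leaf 12013635362349971610001) (.leaf 13996578003798525673472)))))))) (.node (.node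 (.node (.node (.node (.node (.node (.leaf 20645561160175956075207) (.leaf 9588228820644072497863)) (.node (.leaf 15120914256359963333024) (.leaf 6359584552914672589201))) (.node (.node (.leaf 1044993214809816342389) (.leaf 7678634140809004003268)) (.node (.leaf 11723379442766427730479) (.leaf 18071452240585113089138)))) (.node (.node (.node (.leaf 20599693434366783817540) (.leaf 22246074671853058137973)) (.node (.leaf 1167138181359148937775) (.leaf 3047286994972652017498))) (.node (.node (.leaf 9726325503070936504154) (.leaf 16840963112472467315417)) (.node (.leaf 12173044976580636220121) (.leaf 3990311901972884631492))))) (.node (.node (.node (.node (.leaf 11114231645298402235782) (.leaf 3881121321734203257391)) (.node (.leaf 19222059879745216317740) (.leaf 12258063396124430545203))) (.node (.node (.leaf 6767970224435942502707) (.leaf 6442984774150687326632)) (.node (.leaf 15528904283467438476091) (.leaf 8060083956488240243769)))) (.node (.node (.node (.leaf 17981592620366672830394) (.leaf 5159525170706272008027)) (.node (.leaf 6612201877288187737947) (.leaf 15281999385263204125760)))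 (.node (.node (.leaf 4628280801715496353792) (.leaf 3752865985764694766706)) (.node (.leaf 6747342976897220850802) (.leaf 10472361588120289714037)))))) (.node (.node (.node (.node (.node (.leaf 14941224644855871418927) (.leaf 15698764609832179210074)) (.node (.leaf 12664033874929574059294) (.leaf 5589897075262890777728))) (.node (.node (.leaf 703843067117802064172) (.leaf 20006870404209105914546)) (.node (.leaf 13269357636809797119940) (.leaf 5214789399760177369504)))) (.node (.node (.node (.leaf 898373878933923334063) (.leaf 3549334947200241840041)) (.node (.leaf 19371391740402330520379) (.leaf 8922540730799286722490))) (.node (.node (.leaf 836497857823327827803) (.leaf 7168018517324961788463)) (.node (.leaf 7134613766005688087666) (.leaf 6127107120453355909829))))) (.node (.node (.node (.node (.leaf 20288444362566772076484) (.leaf 60482852552272056736)) (.node (.leaf 11939182472069871018695) (.leaf 21204937816067865646938))) (.node (.node (.leaf 20976396608141945340328) (.leaf 12711480472353316157275)) (.node (.leaf 7604964040745442161349) (.leaf 16540478382593234470754)))) (.node (.node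 (.node (.leaf 20240905195119035711912) (.leaf 7548692065567953734459)) (.node (.leaf 8770317494225779860537) (.leaf 22219335896144557705058))) (.node (.node (.leaf 5709647931423369200587) (.leaf 20324155019254369130897)) (.node (.leaf 4431138582368470548027) (.leaf 19358212528038283936583))))))) (.node (.node (.node (.node (.node (.node (.leaf 15185476459116570069982) (.leaf 19340494414401864115257)) (.node (.leaf 919431187890668577803) (.leaf 20308818369011682969519))) (.node (.node (.leaf 17791921932294514480518) (.leaf 21625723139296970682927)) (.node (.leaf 19252944110362106507571) (.leaf 9536368459157595725754)))) (.node (.node (.node (.leaf 9887755000714049519731) (.leaf 16077876042119717225287)) (.node (.leaf 13981590344195897821484) (.leaf 16957824808693257775469))) (.node (.node (.leaf 14590273100174546979806) (.leaf 4817159725878542345227)) (.node (.leaf 18441564485404341345408) (.leaf 894171844878602313589))))) (.node (.node (.node (.node (.leaf 1998452748937704776715) (.leaf 12346704334279277922994)) (.node (.leaf 17920156538853378655179) (.leaf 9205569811216277582962))) (.node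 (.node (.leaf 20907638182155845763187) (.leaf 20032306110163707529028)) (.node (.leaf 5195691531947312323712) (.leaf 19487838354032857587573)))) (.node (.node (.node (.leaf 13535704215897623022258) (.leaf 14727909176955982722162)) (.node (.leaf 22351806954447415181427) (.leaf 19562796348794462013252))) (.node (.node (.leaf 12352505717388400199492) (.leaf 2956256145478084003946)) (.node (.leaf 17109680603693225856064) (.leaf 21271772965711323602206)))))) (.node (.node (.node (.node (.node (.leaf 20884026198929882029184) (.leaf 514514029303989569836)) (.node (.leaf 4135724826595882677362) (.leaf 4816045059067007447749))) (.node (.node (.leaf 6359667701756777869225) (.leaf 14590575114760316588448)) (.node (.leaf 17372302336068237438889) (.leaf 237885875954424285290)))) (.node (.node (.node (.leaf 3467343273817719622622) (.leaf 4217466562810107168580)) (.node (.leaf 12194793169558109793038) (.leaf 7871310093753268544199))) (.node (.node (.leaf 21345506844306911205210) (.leaf 20450645585472678265256)) (.node (.leaf 10030928400839579870219) (.leaf 9995003364327095782066))))) (.node (.node (.node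 (.node (.leaf 6488813626138732299211) (.leaf 10303883839170977797510)) (.node (.leaf 11347184035112342259631) (.leaf 18157657526350990017351))) (.node (.node (.leaf 6232162136903684980851) (.leaf 11702514351256731813700)) (.node (.leaf 11773106187543042207657) (.leaf 17875306357554827465120)))) (.node (.node (.node (.leaf 21660350121659344619626) (.leaf 8351801142188033592286)) (.node (.leaf 9376712199720715463438) (.leaf 18549537899635983524551))) (.node (.node (.leaf 2601172554197429879208) (.leaf 18962246184753505454907)) (.node (.leaf 1949123630024589870946) (.leaf 5702668505586219723534))))))))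

def k2Code_2 : H52.TCert.Tr := .node (.node (.node (.node (.node (.node (.node (.node (.leaf 6741324576960252553581) (.leaf 9441510478112058195515)) (.node (.leaf 7048253514142134871051) (.leaf 20833666913974971140015))) (.node (.node (.leaf 15433597250602037182464) (.leaf 2841453443496410948295)) (.node (.leaf 9633121399803433853639) (.leaf 1579807741175587672480)))) (.node (.node (.node (.leaf 18503849300433230764433) (.leaf 21276667706752076160885)) (.node (.leaf 8565127228708021317572) (.leaf 6730759475262532720006))) (.node (.node (.leaf 12988120267118445638191) (.leaf 14654976985229565933403)) (.node (.leaf 10553853181531860546245) (.leaf 42036073327717910370))))) (.node (.node (.node (.node (.leaf 17437235176162672838575) (.leaf 7350428194231726153589)) (.node (.leaf 20451151009498949857839) (.leaf 8373770506639007385519))) (.node (.node (.leaf 11003697511727514136489) (.leaf 11152501049747254659899)) (.node (.leaf 7237028409014328991674) (.leaf 3397126491268208736091)))) (.node (.node (.node (.leaf 16191923836782597814107) (.leaf 4034706755500851147311)) (.node (.leaf 17193039798702849864818)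 (.leaf 5306950226312324461253))) (.node (.node (.leaf 20093284671924266696819) (.leaf 10882439992985183661993)) (.node (.leaf 12589350772793335749760) (.leaf 5439514112257893900149)))))) (.node (.node (.node (.node (.node (.leaf 8000186994308154575538) (.leaf 9610181425945422246597)) (.node (.leaf 3050709482578846305344) (.leaf 21210714222566950055876))) (.node (.node (.leaf 8799408455055235461679) (.leaf 8393755309085998225242)) (.node (.leaf 12967185387827061791872) (.leaf 13465344651620048537900)))) (.node (.node (.node (.leaf 14902025200839452609202) (.leaf 22151415909625009450948)) (.node (.leaf 10812444807181024235936) (.leaf 1663843285389203878195))) (.node (.node (.leaf 12624825504879200121139) (.leaf 20755227964232840127499)) (.node (.leaf 17854377927732958382770) (.leaf 4080457348316758377419))))) (.node (.node (.node (.node (.leaf 21879539296318158899012) (.leaf 5698894174457718811406)) (.node (.leaf 7884210821855368432704) (.leaf 20148942968867439476736))) (.node (.node (.leaf 9727426426472984360050) (.leaf 16462066356013178931890)) (.node (.leaf 11434705289096086466500) (.leaf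 6613457281383226675616)))) (.node (.node (.node (.leaf 3237884251960169662306) (.leaf 14440367194410206135243)) (.node (.leaf 15230484135254082361745) (.leaf 20996340799888377839616))) (.node (.node (.leaf 18327358342357108761287) (.leaf 18549729415043256291744)) (.node (.leaf 16059384547475885070737) (.leaf 2601559145009930411893))))))) (.node (.node (.node (.node (.node (.node (.leaf 11949409386869066347634) (.leaf 9029085485557199898436)) (.node (.leaf 6862247781970699624309) (.leaf 17660729507115580731951))) (.node (.node (.leaf 14457901667390544615258) (.leaf 5030203357500913686362)) (.node (.leaf 16655570086618745578183) (.leaf 15722680096460543399770)))) (.node (.node (.node (.leaf 8854632535576967283112) (.leaf 12624925429915257845595)) (.node (.leaf 10764878402547568128709) (.leaf 4620957315147270621026))) (.node (.node (.leaf 19156044480215700647876) (.leaf 345129289138978493830)) (.node (.leaf 15450453759998375233836) (.leaf 6622734597564867883315))))) (.node (.node (.node (.node (.leaf 4442404650514075955507) (.leaf 10085278711241827484072)) (.node (.leaf 14799135893944346783684)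 (.leaf 12973262156396030530950))) (.node (.node (.leaf 10312225299770929787439) (.leaf 20547649980608608809267)) (.node (.leaf 1804774531772005613992) (.leaf 10459367858840002382651)))) (.node (.node (.node (.leaf 4056509785057062790201) (.leaf 10187522436216820892619)) (.node (.leaf 14538474064716883369914) (.leaf 3753102976934886361915))) (.node (.node (.leaf 7527898087373278283618) (.leaf 6180238203286862266368)) (.node (.leaf 161517047382111099281) (.leaf 14749824545608932314078)))))) (.node (.node (.node (.node (.node (.leaf 3050707360118759334923) (.leaf 20921565458530096786190)) (.node (.leaf 13678660010537331730797) (.leaf 8955973952731815427643))) (.node (.node (.leaf 22064657187203743501115) (.leaf 1807029564519184933945)) (.node (.leaf 1940418337908942414535) (.leaf 16559665259836353094343)))) (.node (.node (.node (.leaf 12485071500890974240315) (.leaf 19273782030919514391367)) (.node (.leaf 7784707552741774445534) (.leaf 6796537683460446423146))) (.node (.node (.leaf 8301260202377777062969) (.leaf 6200828654237957889310)) (.node (.leaf 22024795713930113615978) (.leaf 12919892002700728345657)))))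 (.node (.node (.node (.node (.leaf 14364878376703155969310) (.leaf 9656931999645340835770)) (.node (.leaf 22238894623194959563840) (.leaf 6497875314198815342592))) (.node (.node (.leaf 7039266077085287828544) (.leaf 8798349519789331841024)) (.node (.leaf 13519300315373077050482) (.leaf 291747137434625457723)))) (.node (.node (.node (.leaf 2361677759797996061511) (.leaf 13001997869340456831966)) (.node (.leaf 6938595603252083858718) (.leaf 19597897955027310156928))) (.node (.node (.leaf 20962865052636777646380) (.leaf 12850690786600545943976)) (.node (.leaf 7718309654790723943995) (.leaf 12122999442106113393479)))))))) (.node (.node (.node (.node (.node (.node (.node (.leaf 16739566865479530728414) (.leaf 16772029783626077445406)) (.node (.leaf 11152235057101819354240) (.leaf 417748629210316146988))) (.node (.node (.leaf 21871441820484497475690) (.leaf 14162781553551769084985)) (.node (.leaf 18657242268068220247326) (.leaf 16102900658190785387225)))) (.node (.node (.node (.leaf 16188825117152539552526) (.leaf 10682450993653000382829)) (.node (.leaf 20232628782599086652987) (.leaf 6908451863252560707699)))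 (.node (.node (.leaf 1801016069800349580859) (.leaf 13555014886351682509952)) (.node (.leaf 2193463793047729340531) (.leaf 2851845784896574135582))))) (.node (.node (.node (.node (.leaf 6272440891490755981225) (.leaf 9377265842373674572928)) (.node (.leaf 6760105421483564386994) (.leaf 4335563792487869428421))) (.node (.node (.leaf 15148417202220402461760) (.leaf 15239808053637608386500)) (.node (.leaf 17284066020584958330986) (.leaf 15349530272407847869726)))) (.node (.node (.node (.leaf 9031366065736197445466) (.leaf 634249274229172476633)) (.node (.leaf 1866852436013744986841) (.leaf 2556101499214127409934))) (.node (.node (.leaf 7665891832583252748653) (.leaf 9537239619481622036027)) (.node (.leaf 9484026420713817053585) (.leaf 19253071158560045648862)))))) (.node (.node (.node (.node (.node (.leaf 6771665221506470061067) (.leaf 5364715007544014838489)) (.node (.leaf 19966699748104894856763) (.leaf 15284833987617478672499))) (.node (.node (.leaf 14704678974498798088105) (.leaf 16471052124106425506944)) (.node (.leaf 19918063668562218502834) (.leaf 6615531606711908938437)))) (.node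 (.node (.node (.leaf 15717196855513959320640) (.leaf 1049204393050999828420)) (.node (.leaf 21108974200262488759582) (.leaf 7182882603349868715136))) (.node (.node (.leaf 3472998676240390490412) (.leaf 20485367846089704649263)) (.node (.leaf 4080248210944490091634) (.leaf 18819653251700456567493))))) (.node (.node (.node (.node (.leaf 12485268207267770314665) (.leaf 19274066563289886724512)) (.node (.leaf 7784731771077836277866) (.leaf 7199494310828416054386))) (.node (.node (.leaf 22402575258711644274803) (.leaf 21173827384780145821508)) (.node (.leaf 4227235336541282768730) (.leaf 10164655747634575448793)))) (.node (.node (.node (.leaf 8989503254919059019610) (.leaf 11909049174164897929945)) (.node (.leaf 17299914642889931791065) (.leaf 1318389673283059745607))) (.node (.node (.leaf 19072135258724060137772) (.leaf 14333753438271524186477)) (.node (.leaf 19894283901249969554247) (.leaf 9585644742830706329900))))))) (.node (.node (.node (.node (.node (.node (.leaf 12509882099346411235693) (.leaf 15193231437029930709551)) (.node (.leaf 9868246916909248853106) (.leaf 20113327730223202742981)))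 (.node (.node (.leaf 5116156462437845696627) (.leaf 11369608866441821134110)) (.node (.leaf 11888061655915245481897) (.leaf 3408151424865607584044)))) (.node (.node (.node (.leaf 4782590909661298274611) (.leaf 5832925525203041530163)) (.node (.leaf 10616516606655443502916) (.leaf 9535864082976664520516))) (.node (.node (.leaf 13336187510234598475882) (.leaf 6055567685735512197810)) (.node (.leaf 19192042673681601703876) (.leaf 19412920285705600962976))))) (.node (.node (.node (.node (.leaf 2718964828448396092103) (.leaf 6270854249475921319770)) (.node (.leaf 15819607168314897695144) (.leaf 3335723127157956458331))) (.node (.node (.leaf 2845704187129489863365) (.leaf 17083104823790997309282)) (.node (.leaf 22220864286716556193705) (.leaf 22422320090438356699242)))) (.node (.node (.node (.leaf 2140150655737180201671) (.leaf 14078624560362395015002)) (.node (.leaf 17893717325807191785896) (.leaf 12725299756975835040832))) (.node (.node (.leaf 7483908443931718090752) (.leaf 11184977116601485511346)) (.node (.leaf 2392536293557711482820) (.leaf 10633925458906745442720)))))) (.node (.node (.node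 (.node (.node (.leaf 8553899121908623705954) (.leaf 5241425426938560283595)) (.node (.leaf 1727684550631270914449) (.leaf 8966598022618488836512))) (.node (.node (.leaf 2877100118917032581521) (.leaf 19487289803055211388789)) (.node (.leaf 21690166233474404124484) (.leaf 20706639501791608342634)))) (.node (.node (.node (.leaf 194888249711231781952) (.leaf 20174475029939655279016)) (.node (.leaf 1634844750957210965382) (.leaf 12616686032991260153222))) (.node (.node (.leaf 1344956371581054693935) (.leaf 9484131656410633308460)) (.node (.leaf 6771238585659741778227) (.leaf 8801950984557642818617))))) (.node (.node (.node (.node (.leaf 2324485838440404099002) (.leaf 12791157551262829000539)) (.node (.leaf 12549980260660298435648) (.leaf 9180160537472240943104))) (.node (.node (.leaf 9375762210999029150834) (.leaf 18302734936192248728640)) (.node (.leaf 21639243061550760342642) (.leaf 8033978430569456017269)))) (.node (.node (.node (.leaf 1864408450362590966319) (.leaf 16439925980361500794142)) (.node (.leaf 20556618828483324222592) (.leaf 14872049252621148162348))) (.node (.node (.leaf 5852840852860167506610)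 (.leaf 8567877803930316976068)) (.node (.leaf 11775218108096752161184) (.leaf 211052025068445796164))))))))

def k2Code_3 : H52.TCert.Tr := .node (.node (.node (.node (.node (.node (.node (.node (.leaf 9292982279507768364096) (.leaf 13309513355127053104987)) (.node (.leaf 17980974588038227604165) (.leaf 1867036307420078711819))) (.node (.node (.leaf 15884163446968821697202) (.leaf 1404410509605024991338)) (.node (.leaf 14425880521557393089593) (.leaf 8459659407358436580638)))) (.node (.node (.node (.leaf 5283352807569487702798) (.leaf 17382713051301468388923)) (.node (.leaf 11503861223015540359168) (.leaf 5702718251911026652274))) (.node (.node (.leaf 6464852295762290771810) (.leaf 3202292127135995823051)) (.node (.leaf 18459926322653023574417) (.leaf 10472341757395120925454))))) (.node (.node (.node (.node (.leaf 14941110225998321265005) (.leaf 15698748825751484841531)) (.node (.leaf 12664361345119586615720) (.leaf 5589913395724962417467))) (.node (.node (.leaf 703761264720399049785) (.leaf 13269019585619251929799)) (.node (.leaf 5215057205604208321223) (.leaf 18959844225727889835874))))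 (.node (.node (.node (.leaf 3205772887779610166219) (.leaf 7631200043304639863185)) (.node (.leaf 15165888263211754793325) (.leaf 6714894525094632854918))) (.node (.node (.leaf 11371607966015231694214) (.leaf 6162751490547793266607)) (.node (.leaf 19633453220554643178311) (.leaf 13103541690522883824017)))))) (.node (.node (.node (.node (.node (.leaf 10561937764716347739102) (.leaf 14799033292889862480907)) (.node (.leaf 22455845421442882740154) (.leaf 3927463154383730868339))) (.node (.node (.leaf 4006697861929191676633) (.leaf 16502165930673857338496)) (.node (.leaf 22360403889393047249607) (.leaf 10091674052618141213383)))) (.node (.node (.node (.leaf 3409303182121680116113) (.leaf 4845051938524699635652)) (.node (.leaf 4592136860985889035654) (.leaf 3231778854126899147311))) (.node (.node (.leaf 13992342648529237717701) (.leaf 6549239759421456942946)) (.node (.leaf 4298676951312381944889) (.leaf 15118333064356704625675))))) (.node (.node (.node (.node (.leaf 8863001493844643678127) (.leaf 9158977115065495232373)) (.node (.leaf 18959965535613801869871) (.leaf 15594430189021898544986)))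 (.node (.node (.leaf 2464092799015984007087) (.leaf 1618714393505863708585)) (.node (.leaf 4219841553541353655099) (.leaf 14757505933927174381498)))) (.node (.node (.node (.leaf 12710482106720794654555) (.leaf 6523578594659287709531)) (.node (.leaf 19898884741898317214255) (.leaf 8648405122398681117381))) (.node (.node (.leaf 11024540687260366221619) (.leaf 19760533749391601541050)) (.node (.leaf 16716863163018581409907) (.leaf 5159789756797289581632))))))) (.node (.node (.node (.node (.node (.node (.leaf 6612473113694499680196) (.leaf 21247388155719833078587)) (.node (.leaf 6191559681495948592994) (.leaf 5132202296402468798464))) (.node (.node (.leaf 1262605809982236725664) (.leaf 9945605272384474225041)) (.node (.leaf 19301680307398625271669) (.leaf 8467436163645226556544)))) (.node (.node (.node (.leaf 6156104736225946214261) (.leaf 7380095309424813192306)) (.node (.leaf 161672903107170043716) (.leaf 21895695435507764498848))) (.node (.node (.leaf 4528009256319880042897) (.leaf 10497863682777935159157)) (.node (.leaf 1406698185494254210112) (.leaf 8630781198094342038585))))) (.node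 (.node (.node (.node (.leaf 15810478627097203287051) (.leaf 15722682491222786872710)) (.node (.leaf 8854780626727892202031) (.leaf 10765063582872856338362))) (.node (.node (.leaf 4621177547165503717491) (.leaf 2771039993736614152492)) (.node (.leaf 19858591532137175069231) (.leaf 570093157066054808690)))) (.node (.node (.node (.leaf 9945580041732132614853) (.leaf 10986313589883607592873)) (.node (.leaf 1918507384355820671392) (.leaf 15291591140666848872554))) (.node (.node (.leaf 11439466305885558349685) (.leaf 19595682725579006364338)) (.node (.leaf 20236274342756979214148) (.leaf 5118464936536629413994)))))) (.node (.node (.node (.node (.node (.leaf 22102835081028797615168) (.leaf 6921642334640761314590)) (.node (.leaf 914271382071809875072) (.leaf 7436891925458871978284))) (.node (.node (.leaf 7927616346550487691823) (.leaf 11438167479819474285253)) (.node (.leaf 16109877086168207503273) (.leaf 15494168190963601016938)))) (.node (.node (.node (.leaf 7237262694183119794089) (.leaf 3397138079171348435360)) (.node (.leaf 16192143181252398844010) (.leaf 6247055427474450205662))) (.node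 (.node (.leaf 6179882806644816250692) (.leaf 422541193691047635726)) (.node (.leaf 7597982375675411964615) (.leaf 17235259535308056134056))))) (.node (.node (.node (.node (.leaf 21248610205353017409651) (.leaf 9032050278714750115102)) (.node (.leaf 20007999903770949889961) (.leaf 19449168069212483428213))) (.node (.node (.leaf 1294158624050325605042) (.leaf 8798118061424813322949)) (.node (.leaf 8540866584516545228740) (.leaf 188075053029551153013)))) (.node (.node (.node (.leaf 17565290137041322291759) (.leaf 19536708783074288211802)) (.node (.leaf 17701076804611875997996) (.leaf 17792174202894087604914))) (.node (.node (.leaf 17093418299007824212275) (.leaf 5712983974914441621811)) (.node (.leaf 18738534621115080156171) (.leaf 13427116344355840951243)))))))) (.node (.node (.node (.node (.node (.node (.node (.leaf 13057221708787994938334) (.leaf 17079490431653849433924)) (.node (.leaf 8315525215268960709390) (.leaf 10795028387244284381484))) (.node (.node (.leaf 11760096100572134879539) (.leaf 5849066412313019982859)) (.node (.leaf 20967491734968122133170) (.leaf 17660852049878961357771))))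 (.node (.node (.node (.leaf 6779387074512147762142) (.leaf 5830439567507458295620)) (.node (.leaf 1306452598195403795214) (.leaf 351827895614284414523))) (.node (.node (.leaf 11798005264174986894464) (.leaf 7771855031828752773033)) (.node (.leaf 10822669937679539865706) (.leaf 9977847945639307772875))))) (.node (.node (.node (.node (.leaf 15172977917778563377934) (.leaf 9995276040269928112058)) (.node (.leaf 5251582312571873237721) (.leaf 13726006275900748995289))) (.node (.node (.leaf 15928909011473610058093) (.leaf 1046957615335280328251)) (.node (.leaf 1666207852442557336242) (.leaf 6560253631093262626756)))) (.node (.node (.node (.leaf 12181201282125359617882) (.leaf 16312827495772563505576)) (.node (.leaf 12889152045149587245356) (.leaf 6186638695260192158003))) (.node (.node (.leaf 9888745680389550158131) (.leaf 16560808760271993242024)) (.node (.leaf 22041044990490566380347) (.leaf 6608015568253817037881)))))) (.node (.node (.node (.node (.node (.leaf 15016025601286621048772) (.leaf 8753094240337744237958)) (.node (.leaf 10422781601663758742063) (.leaf 1635003821651249203500)))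 (.node (.node (.leaf 13002797747121312379187) (.leaf 1510522041927180648872)) (.node (.leaf 2193232049424802695995) (.leaf 20236592840379301864505)))) (.node (.node (.node (.leaf 20288640024676459029515) (.leaf 20623865377872775203506)) (.node (.leaf 4622205075603865174987) (.leaf 12870120759900424410502))) (.node (.node (.leaf 9102809812660881885103) (.leaf 18122122272634138460999)) (.node (.leaf 17893655747197683774578) (.leaf 5028428897799005864051))))) (.node (.node (.node (.node (.leaf 7748078773092661331780) (.leaf 20295438691699852816297)) (.node (.leaf 10447087780365684213866) (.leaf 6515222691814833081310))) (.node (.node (.leaf 6734561227152493283140) (.leaf 5684071709083368499982)) (.node (.leaf 7899156843652843020999) (.leaf 5104406701302453553979)))) (.node (.node (.node (.leaf 14451045647822164896526) (.leaf 5681688595510353406317)) (.node (.leaf 1196846701183475065913) (.leaf 21895655249580762761135))) (.node (.node (.leaf 12128092615840995541831) (.leaf 19445500926672225339692)) (.node (.leaf 14710296877225049532781) (.leaf 7514966705909645941137))))))) (.node (.node (.node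 (.node (.node (.node (.leaf 20062283848676842710027) (.leaf 10738464494383534120064)) (.node (.leaf 20918968850065795566258) (.leaf 12617044738755546712364))) (.node (.node (.leaf 15874987548209713951027) (.leaf 17911049380593378537779)) (.node (.leaf 9018189764015956239371) (.leaf 14591859841577417689778)))) (.node (.node (.node (.leaf 22213340224265229566923) (.leaf 21064057524371480554254)) (.node (.leaf 12213043705106844232045) (.leaf 9138742134749176824232))) (.node (.node (.leaf 22082030131484123731334) (.leaf 11786552808203418574778)) (.node (.leaf 22275890298028953870266) (.leaf 13015775210067639711579))))) (.node (.node (.node (.node (.leaf 21555395781350984136539) (.leaf 9796820601104126844858)) (.node (.leaf 18920086482504117059699) (.leaf 6246822943055242349632))) (.node (.node (.leaf 10146050954860450040635) (.leaf 18447088158782554310498)) (.node (.leaf 13343292211876042997760) (.leaf 11531779846840459134895)))) (.node (.node (.node (.leaf 8561707367620005659463) (.leaf 8030480358982974216921)) (.node (.leaf 4604929605838090780219) (.leaf 6761149942198137691264))) (.node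 (.node (.leaf 3466900382772881297824) (.leaf 4217612220367470565777)) (.node (.leaf 12194867566610269118325) (.leaf 1616788484718139317376)))))) (.node (.node (.node (.node (.node (.leaf 15358492937189755625333) (.leaf 10051328266984527612594)) (.node (.leaf 7735622936589474463859) (.leaf 4798750560777162884932))) (.node (.node (.leaf 15651269697471701911364) (.leaf 8069475165927641533504)) (.node (.leaf 21719931826115214062277) (.leaf 9210919983743732264900)))) (.node (.node (.node (.leaf 1668282557487732305833) (.leaf 14707881530215837829039)) (.node (.leaf 14388554966374623096745) (.leaf 7183344715154741742395))) (.node (.node (.leaf 5499552862531270152608) (.leaf 20895749453196946676113)) (.node (.leaf 21064511890068709252981) (.leaf 14780565379854337869930))))) (.node (.node (.node (.node (.leaf 7598323867194933857344) (.leaf 18026117240780737980781)) (.node (.leaf 11366060758031750398376) (.leaf 20599275248199877115451))) (.node (.node (.leaf 21190205638741879233664) (.leaf 19351246475893839528907)) (.node (.leaf 21394266933867784448782) (.leaf 1668762700972027387834)))) (.node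 (.node (.node (.leaf 1044663641732207823675) (.leaf 3881247171819027892066)) (.node (.leaf 4226713115405013254144) (.leaf 20391833917861657486393))) (.node (.node (.leaf 7118541781526529123339) (.leaf 17406194497311624464303)) (.node (.leaf 9247775157063445484934) (.leaf 19365920120839607429902))))))))

def k2Code_4 : H52.TCert.Tr := .node (.node (.node (.node (.node (.node (.node (.node (.leaf 16110118900705219682234) (.leaf 10805367185506578177978)) (.node (.leaf 17587329236322120480603) (.leaf 7604738592469315690426))) (.node (.node (.leaf 7016922147229752047451) (.leaf 13594281271816894663744)) (.node (.leaf 7121708865194708074496) (.leaf 5746342413528147080306)))) (.node (.node (.node (.leaf 4841680529325734612032) (.leaf 10100078893449689858048)) (.node (.leaf 18032896602942727658201) (.leaf 11388621817007606013056))) (.node (.node (.leaf 9821134059042881449897) (.leaf 19857355922034662838688)) (.node (.leaf 7048277513127702693994) (.leaf 14972145962078204766990))))) (.node (.node (.node (.node (.leaf 5852539163151935020986) (.leaf 13273793906945295057735)) (.node (.leaf 3900886201367117253598)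 (.leaf 20438166499977840560234))) (.node (.node (.leaf 20972911447722177928478) (.leaf 8833132507493569371422)) (.node (.leaf 7432197761048482394671) (.leaf 9456617912523786335346)))) (.node (.node (.node (.leaf 12652581998078001192222) (.leaf 19760211560455904800681)) (.node (.leaf 4229355848899882922291) (.leaf 13309828967337214128435))) (.node (.node (.leaf 18716961572874226276186) (.leaf 1689358360359594171097)) (.node (.leaf 7654786279465547143897) (.leaf 15043384045120913081159)))))) (.node (.node (.node (.node (.node (.leaf 2651082624908905842988) (.leaf 12335788115437307177325)) (.node (.leaf 4255850563409248256839) (.leaf 8955930607878762039596))) (.node (.node (.leaf 5558893132300699314541) (.leaf 19443419014703366746419)) (.node (.leaf 17971198478086325936058) (.leaf 16842553272311422943347)))) (.node (.node (.node (.leaf 9362258732279229951940) (.leaf 5028405542530431601467)) (.node (.leaf 10561292657790930192226) (.leaf 15972764039919552416571))) (.node (.node (.leaf 1108518138815352932194) (.leaf 16979446309910423633920)) (.node (.leaf 15323721032032094431597) (.leaf 11630846201089279792518)))))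 (.node (.node (.node (.node (.leaf 10516097214680812848075) (.leaf 21190142382215490808590)) (.node (.leaf 7030593948037315338170) (.leaf 14265135054973339475898))) (.node (.node (.leaf 1130292759688692971355) (.leaf 14913633404951219877723)) (.node (.leaf 17310253023144580293689) (.leaf 2224267076378252968907)))) (.node (.node (.node (.leaf 10269187365036281436561) (.leaf 19260878818679426301499)) (.node (.leaf 7429527592630351430471) (.leaf 14659857864782606355422))) (.node (.node (.leaf 13959624143997588015023) (.leaf 20129013305658862142279)) (.node (.leaf 12358445300889954303547) (.leaf 6305741866683796561024))))))) (.node (.node (.node (.node (.node (.node (.leaf 4388365959472857586065) (.leaf 21967791206606996098014)) (.node (.leaf 3881993190438863907598) (.leaf 14042777492095916834816))) (.node (.node (.leaf 21582157539037723501255) (.leaf 19103254805713186955975)) (.node (.leaf 6257562365666276671603) (.leaf 4955933368041774587166)))) (.node (.node (.node (.leaf 20143195977177897840553) (.leaf 18762073112290762757978)) (.node (.leaf 19155987838049837417287) (.leaf 344916809402035931436)))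 (.node (.node (.leaf 16440060004984997217227) (.leaf 14871628610687372140474)) (.node (.leaf 12095437060151192505147) (.leaf 13866682312420157327202))))) (.node (.node (.node (.node (.leaf 1388551368235593236480) (.leaf 4129983185510218832273)) (.node (.leaf 8216371489862916414592) (.leaf 2388365049026625999264))) (.node (.node (.leaf 21981634631251789519249) (.leaf 16408524357126989324149)) (.node (.leaf 2082642582229273063337) (.leaf 2893949456266845632347)))) (.node (.node (.node (.leaf 5122914878998990960475) (.leaf 21713412792473544241711)) (.node (.leaf 15006556564435642352455) (.leaf 356380307567978711340))) (.node (.node (.leaf 9032621487904803563885) (.leaf 11711827120228360004619)) (.node (.leaf 17319267494752998509234) (.leaf 4298490471005709906629)))))) (.node (.node (.node (.node (.node (.leaf 10515856058416833404190) (.leaf 1846342866768245567401)) (.node (.leaf 7717937781234592483628) (.leaf 12123647384085859774771))) (.node (.node (.leaf 16739473102499393351987) (.leaf 22400764349530371529856)) (.node (.leaf 1843678991339901886325) (.leaf 16540199444189516562547)))) (.node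 (.node (.node (.leaf 18154527108911983068996) (.leaf 15185709165262442498154)) (.node (.leaf 361364200460294048832) (.leaf 9179735290691588016818))) (.node (.node (.leaf 7526794540062052528068) (.leaf 6492701385612586853063)) (.node (.leaf 17499550325886824453978) (.leaf 22316581946453651521960))))) (.node (.node (.node (.node (.leaf 8567983040359134050139) (.leaf 4347922330942369673925)) (.node (.leaf 19607266885982791632738) (.leaf 17419624902984076003628))) (.node (.node (.leaf 21171291922858129466379) (.leaf 6797108202977860406238)) (.node (.leaf 8301145493197305710404) (.leaf 6201056300377902590734)))) (.node (.node (.node (.leaf 8278656360181815291817) (.leaf 17406158019525572989344)) (.node (.leaf 7392988538989410191466) (.leaf 10407994364633692079051))) (.node (.node (.leaf 7315967870942445447950) (.leaf 8893161552220221611962)) (.node (.leaf 2817935553017029664030) (.leaf 13100697546513160935258)))))))) (.node (.node (.node (.node (.node (.node (.node (.leaf 9515320152822563904217) (.leaf 2570206119545490811662)) (.node (.leaf 19167853631359630420333) (.leaf 8110210822923472322107)))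 (.node (.node (.leaf 9354327608131151962823) (.leaf 1226812818392405677914)) (.node (.leaf 21704300151743936987560) (.leaf 5185036168720725068766)))) (.node (.node (.node (.leaf 2604701746122770062464) (.leaf 20479380832418165327714)) (.node (.leaf 12972776634733300042418) (.leaf 10312221022539337499595))) (.node (.node (.leaf 7380166051884884789090) (.leaf 20863728756929324155851)) (.node (.leaf 7350151825447595223405) (.leaf 21345442365152939808134))))) (.node (.node (.node (.node (.leaf 9538575254056395121675) (.leaf 16386977050455029253067)) (.node (.leaf 2184112472774935549318) (.leaf 11024538172591316207535))) (.node (.node (.leaf 2840071237959089566834) (.leaf 19531862690155908237124)) (.node (.leaf 19488174620795244530491) (.leaf 11349658304890983481344)))) (.node (.node (.node (.leaf 21500105711462447917838) (.leaf 664498183655570521659)) (.node (.leaf 1666021890654955021369) (.leaf 6560467819867827708939))) (.node (.node (.leaf 1580073380144041166767) (.leaf 72134507514677364578)) (.node (.leaf 15836989312867379971019) (.leaf 16752601899545676906920)))))) (.node (.node (.node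 (.node (.node (.leaf 8417873162530280543622) (.leaf 323284362749142734214)) (.node (.leaf 21659466193695654119343) (.leaf 20548044851907256910663))) (.node (.node (.leaf 19597637624449519799099) (.leaf 11439710384930937276258)) (.node (.leaf 19595347684010383802368) (.leaf 3311204466546574310971)))) (.node (.node (.node (.leaf 22102829773119532631983) (.leaf 12347225773744687031353)) (.node (.leaf 15015705284851350184971) (.leaf 17453233601408577570735))) (.node (.node (.leaf 19945849898554222260164) (.leaf 854523901280828233094)) (.node (.leaf 15378310430714971402799) (.leaf 7632687286777208877363))))) (.node (.node (.node (.node (.leaf 3041604685084088107123) (.leaf 6306862252097410433448)) (.node (.leaf 3681754000032824707899) (.leaf 2961378352398800357218))) (.node (.node (.leaf 15268796850605325452235) (.leaf 9030856219570055780753)) (.node (.leaf 13725728602002345493319) (.leaf 17491029507785579842526)))) (.node (.node (.node (.leaf 17854153222285313933312) (.leaf 18623370724571445218270)) (.node (.leaf 6734504410134825795584) (.leaf 14780499518205698253511))) (.node (.node (.leaf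 18819614614994789144977) (.leaf 20479539555625286999925)) (.node (.leaf 12766861266408357986304) (.leaf 15529113905366994137647))))))) (.node (.node (.node (.node (.node (.node (.leaf 19923152643902112872283) (.leaf 15230356978905668956869)) (.node (.leaf 7748217915037277529145) (.leaf 15766677346226667398155))) (.node (.node (.leaf 16322354945613103957935) (.leaf 2163374071263190196085)) (.node (.leaf 16491503989763725963823) (.leaf 17428728640706701760346)))) (.node (.node (.node (.leaf 5784712315522679703471) (.leaf 3823382662026341527465)) (.node (.leaf 637901094038867364667) (.leaf 22163095668267481014202))) (.node (.node (.leaf 10812322036064502101851) (.leaf 12043948459387088320347)) (.node (.leaf 5699135256481685976178) (.leaf 7533797242533500334789))))) (.node (.node (.node (.node (.leaf 5987171868565284801202) (.leaf 9394144295891876709323)) (.node (.leaf 21525687032424374506886) (.leaf 19345492350767040366404))) (.node (.node (.leaf 17175151365235295956905) (.leaf 5185365810833531212192)) (.node (.leaf 9887502758311519464206) (.leaf 12172589757495910539975)))) (.node (.node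 (.node (.leaf 13354538088291470967208) (.leaf 2163487760097736894829)) (.node (.leaf 12370852892310097641019) (.leaf 17050747902601698059321))) (.node (.node (.leaf 9292976547847257793547) (.leaf 21364266797850456852399)) (.node (.leaf 9115065814059043553280) (.leaf 21589021834901818581703)))))) (.node (.node (.node (.node (.node (.leaf 19632086753119214473632) (.leaf 22138709763245392501137)) (.node (.leaf 21668212517038060779355) (.leaf 12971018018165004535650))) (.node (.node (.leaf 18472736157188347338613) (.leaf 11169571949919840606042)) (.node (.leaf 11262223447976457383849) (.leaf 6156092434911037541179)))) (.node (.node (.node (.leaf 1804874423416955090034) (.leaf 21132228362819299193541)) (.node (.leaf 1620162018431771148403) (.leaf 7700412849430894157086))) (.node (.node (.leaf 4527776818671535796137) (.leaf 7146436584978493447296)) (.node (.leaf 22316239983574266552181) (.leaf 7655894434341385947826))))) (.node (.node (.node (.node (.leaf 5008879797347788953434) (.leaf 351859426112949258540)) (.node (.leaf 6607511022221228952242) (.leaf 6899435185677880274884))) (.node (.node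 (.leaf 20877166863127196930464) (.leaf 22081909213927461604018)) (.node (.leaf 4012705066466894119883) (.leaf 10594852539492055296782)))) (.node (.node (.node (.leaf 1216788572159678991424) (.leaf 16717441002566349631428)) (.node (.leaf 4354970375269885357993) (.leaf 20235466393817465653167))) (.node (.node (.leaf 7980601275320653983657) (.leaf 11218391983169764805435)) (.node (.leaf 211192337195665725841) (.leaf 2380051403290852040565))))))))

def k2Code_5 : H52.TCert.Tr := .node (.node (.node (.node (.node (.node (.node (.node (.leaf 9229613538421097137988) (.leaf 7979896454688351225962)) (.node (.leaf 19636614669991331744832) (.leaf 11032962712928717416813))) (.node (.node (.leaf 18324026947592675852712) (.leaf 813189205391320192390)) (.node (.leaf 12051791218049735006937) (.leaf 19345159823734642753083)))) (.node (.node (.node (.leaf 15764507660015461014656) (.leaf 10100221206439619768233)) (.node (.leaf 17000029023576450109856) (.leaf 19526075639313688660074))) (.node (.node (.leaf 1372024777482775167947) (.leaf 21250755576143593938874)) (.node (.leaf 15629555857724290466631) (.leaf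 19186332386045511403820))))) (.node (.node (.node (.node (.leaf 11009692537219794512237) (.leaf 7841458929832547011550)) (.node (.leaf 1025450322315506623499) (.leaf 12441206402075016862848))) (.node (.node (.leaf 11487846503059861938037) (.leaf 8493005397208536894130)) (.node (.leaf 10680692793534340582366) (.leaf 17031517922177733461828)))) (.node (.node (.node (.leaf 7735426014447189273358) (.leaf 21625544061399899997131)) (.node (.leaf 10445774111813111401438) (.leaf 14043196006849938065220))) (.node (.node (.leaf 11344062956210007417543) (.leaf 11349643698761961543514)) (.node (.leaf 13941525722345143278297) (.leaf 3193061050421800839533)))))) (.node (.node (.node (.node (.node (.leaf 17779229236570455908282) (.leaf 9159053175217239477051)) (.node (.leaf 15594680163223260790784) (.leaf 7488479133419446802833))) (.node (.node (.leaf 4835522074146627537886) (.leaf 18519422638466072880139)) (.node (.leaf 6058661484771730368877) (.leaf 12661387706052992777787)))) (.node (.node (.node (.leaf 8375101532971441225728) (.leaf 19636794533545041601223)) (.node (.leaf 19946105163892465869511)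 (.leaf 19301583903895221634914))) (.node (.node (.leaf 22294513248827787248587) (.leaf 100559509273997056401)) (.node (.leaf 7201678737572233718125) (.leaf 2221052308513145787782))))) (.node (.node (.node (.node (.leaf 8187270011302139467142) (.leaf 9374918311097413468999)) (.node (.leaf 12261454168006508497886) (.leaf 5182411967307985789963))) (.node (.node (.leaf 8508664443575955365818) (.leaf 18772452952200232206451)) (.node (.leaf 8352213720050352331481) (.leaf 347688278733828664078)))) (.node (.node (.node (.leaf 12982090468246469785435) (.leaf 18716905887211349612945)) (.node (.leaf 10355839959349685829179) (.leaf 10605842202857020327855))) (.node (.node (.leaf 5537808967836669772615) (.leaf 11933290332368206994137)) (.node (.leaf 6981485464019562929280) (.leaf 21033391241435124568480))))))) (.node (.node (.node (.node (.node (.node (.leaf 18990079175736029878673) (.leaf 18389752540195546767221)) (.node (.leaf 5001534253375781570666) (.leaf 417853227952889504825))) (.node (.node (.leaf 5887049853514739653918) (.leaf 20039481431202130921578)) (.node (.leaf 19221922725224698029113)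 (.leaf 7201693482793156549918)))) (.node (.node (.node (.leaf 13456292632846618788811) (.leaf 4812508965596065830278)) (.node (.leaf 7931329107873334166343) (.leaf 14714801710672302290034))) (.node (.node (.leaf 10722202663047427981427) (.leaf 603469546681160639499)) (.node (.leaf 17169353045289817081775) (.leaf 19031908535193328169519))))) (.node (.node (.node (.node (.leaf 10505515344531527147450) (.leaf 9561847084739506031680)) (.node (.leaf 14658438349618004504516) (.leaf 2851386698574137558882))) (.node (.node (.leaf 6272373938548547911680) (.leaf 17429004949001897383302)) (.node (.leaf 21450472737504985384879) (.leaf 10028464710938312606535)))) (.node (.node (.node (.leaf 16077744076075546909401) (.leaf 13981884833711789424187)) (.node (.leaf 16957475012332935617664) (.leaf 1318136594386847175072))) (.node (.node (.leaf 19072180221601768642961) (.leaf 14333775649070784585589)) (.node (.leaf 13454622366799950749557) (.leaf 21653498073812653094002)))))) (.node (.node (.node (.node (.node (.leaf 18326339160492527157363) (.leaf 18510166723158898804548)) (.node (.leaf 21982047972981833271108)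 (.leaf 1674181397239305406570))) (.node (.node (.leaf 19483866887252536577088) (.leaf 13104648724435110965957)) (.node (.leaf 12285569322958227819584) (.leaf 9124761855995210411972)))) (.node (.node (.node (.leaf 15799919234204999255983) (.leaf 4130211400987050422185)) (.node (.leaf 11262097521910630455697) (.leaf 22276186380550383503172))) (.node (.node (.leaf 13015985729829774198890) (.leaf 21555482675891090508864)) (.node (.leaf 21132172175275358459270) (.leaf 19898302689565578349371))))) (.node (.node (.node (.node (.leaf 13519294195266983462754) (.leaf 8648649794440555364352)) (.node (.leaf 356905844233004622905) (.leaf 18497967678935525501293))) (.node (.node (.leaf 4907092652830744215976) (.leaf 20319216157600896423302)) (.node (.leaf 15650920584008422531002) (.leaf 1407224409403275294555)))) (.node (.node (.node (.leaf 2731436454415722952539) (.leaf 12857472327773298150203)) (.node (.leaf 1619267422352639369146) (.leaf 13336032905553056380763))) (.node (.node (.leaf 4012681803226161066543) (.leaf 2930762619392060601458)) (.node (.leaf 20039168789727471469383) (.leaf 8030466423670939362315))))))))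 (.node (.node (.node (.node (.node (.node (.node (.leaf 19092651361059306478720) (.leaf 8455901772086690815861)) (.node (.leaf 17768959099391486237401) (.leaf 1449326202935226809915))) (.node (.node (.leaf 2993475301175450082432) (.leaf 4223829278179553052778)) (.node (.leaf 5001419300527227667271) (.leaf 13670667180128383345721)))) (.node (.node (.node (.leaf 7187507515228922223902) (.leaf 1998248434635704830058)) (.node (.leaf 3237648336080746820143) (.leaf 10036271354487061331515))) (.node (.node (.leaf 4770011613256183946368) (.leaf 8197297633057167519657)) (.node (.leaf 15233966003956176815051) (.leaf 21248971144741141359374))))) (.node (.node (.node (.node (.leaf 22226589328201368733802) (.leaf 22454305392996091179567)) (.node (.leaf 13996751473088877408965) (.leaf 11748392300308614840435))) (.node (.node (.leaf 10874966579869362429214) (.leaf 287313723829386119468)) (.node (.leaf 17507243302067824898355) (.leaf 8905609203766850860146)))) (.node (.node (.node (.leaf 13426952033918214013043) (.leaf 19873488390638379239236)) (.node (.leaf 9190500863328761977561) (.leaf 21149475003434255686361)))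 (.node (.node (.leaf 10560940120376059174174) (.leaf 13138889553675130122949)) (.node (.leaf 9947474695118485620548) (.leaf 19121579073790843488362)))))) (.node (.node (.node (.node (.node (.leaf 3990824457408517289819) (.leaf 11114649816442182251205)) (.node (.leaf 8508932007810805582514) (.leaf 18772347219791572927435))) (.node (.node (.leaf 5254245223046017425269) (.leaf 2452654531962233434671)) (.node (.leaf 12919651933364655232858) (.leaf 7006756367618891554078)))) (.node (.node (.node (.leaf 22473962870987779841152) (.leaf 3362451044522708240684)) (.node (.leaf 7312413597986967276210) (.leaf 5265837709410307314080))) (.node (.node (.leaf 4950880450110472335273) (.leaf 9507634160513393854764)) (.node (.leaf 13002035300566904647987) (.leaf 12221084427871611586479))))) (.node (.node (.node (.node (.leaf 21020101012005314349883) (.leaf 6989143027338110502831)) (.node (.leaf 10582770361529575714729) (.leaf 22454790300488267713339))) (.node (.node (.leaf 7765036966970660801202) (.leaf 1940573893438087500192)) (.node (.leaf 22245865191966904680872) (.leaf 19031479808188104378210)))) (.node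 (.node (.node (.leaf 6127015928569645405574) (.leaf 2752669103433603396143)) (.node (.leaf 11532011731470984524083) (.leaf 11313072806727021560232))) (.node (.node (.leaf 948855924881190112059) (.leaf 18761782206206743684153)) (.node (.leaf 15362853329426141549958) (.leaf 18967954256866502150444))))))) (.node (.node (.node (.node (.node (.node (.leaf 771487278888233120051) (.leaf 21512365539532962679611)) (.node (.leaf 4335127225284368376889) (.leaf 22347150902843203197657))) (.node (.node (.leaf 8159719372696450800345) (.leaf 2464345202285074198835)) (.node (.leaf 4220137799376128180339) (.leaf 14757706294300832314053)))) (.node (.node (.node (.leaf 12710246456754113858624) (.leaf 6523732984436165324740)) (.node (.leaf 13274035759738376630579) (.leaf 6741473753581366182003))) (.node (.node (.leaf 861625632938659885765) (.leaf 21666970308612846537792)) (.node (.leaf 16502207592711854607163) (.leaf 3330868833140715965106))))) (.node (.node (.node (.node (.leaf 19152641359195801038788) (.leaf 237683396016252789447)) (.node (.leaf 21109376713683019202984) (.leaf 1765791583112941830568)))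 (.node (.node (.leaf 19531058529447983631163) (.leaf 9968564838510707352633)) (.node (.leaf 7772359967233587648913) (.leaf 8952859435276792806971)))) (.node (.node (.node (.leaf 16386848701915322429999) (.leaf 422181082163548402802)) (.node (.leaf 10953235233733049594565) (.leaf 4433273754273386252978))) (.node (.node (.leaf 16120516619212017119172) (.leaf 15551011018378813642586)) (.node (.leaf 10315494227198236557736) (.leaf 14466258804068764299973)))))) (.node (.node (.node (.node (.node (.leaf 14856049086389831337826) (.leaf 8128514862628196286888)) (.node (.leaf 14657119495611172408123) (.leaf 14466220874102541067321))) (.node (.node (.leaf 3041886215203115796322) (.leaf 21272053602483297453003)) (.node (.leaf 9820597356733937195409) (.leaf 19095132538471618166331)))) (.node (.node (.node (.leaf 20620140490965666038599) (.leaf 12969860378972985445342)) (.node (.leaf 6987212539584225587507) (.leaf 9028608955833377793081))) (.node (.node (.leaf 3118109021597040430144) (.leaf 8989351032570642038784)) (.node (.leaf 6306862577309851726962) (.leaf 7483993024118763165530))))) (.node (.node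 (.node (.node (.leaf 21175957587783999626526) (.leaf 12202054042895095602304)) (.node (.leaf 20511737146668437752498) (.leaf 13254661055699151302596))) (.node (.node (.leaf 9324879240467154446701) (.leaf 10102152306213641141819)) (.node (.leaf 20193710050725908695730) (.leaf 2393694712078347440544)))) (.node (.node (.node (.leaf 7538304510731927816034) (.leaf 21720512926023700158865)) (.node (.leaf 16435044883934238976782) (.leaf 15886559307982011776571))) (.node (.node (.leaf 18610731873438614922297) (.leaf 8257513351579820294144)) (.node (.leaf 18472498842482411145058) (.leaf 4034562224799135859659))))))))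

def k2Code_6 : H52.TCert.Tr := .node (.node (.node (.node (.node (.node (.node (.node (.leaf 11169584650651623168401) (.leaf 20623858990640940193158)) (.node (.leaf 3362115198395397446033) (.leaf 6488846771527237206131))) (.node (.node (.leaf 13029271980352855710425) (.leaf 1661419216948680662144)) (.node (.leaf 9587933925852484218820) (.leaf 8393421238211169162630)))) (.node (.node (.node (.leaf 12850579833860078711343) (.leaf 16772178235080937144744)) (.node (.leaf 18072174846387303397211) (.leaf 10177143381402922235739))) (.node (.node (.leaf 1993542418369865528434) (.leaf 2689258560495288431730)) (.node (.leaf 42176708495836127093) (.leaf 15340170554205521359407))))) (.node (.node (.node (.node (.leaf 6059106227074258541854) (.leaf 16210648294032618331264)) (.node (.leaf 1717925839425380174514) (.leaf 17842731792122911986080))) (.node (.node (.leaf 17520104249521894164292) (.leaf 6515462169147317603392)) (.node (.leaf 10446861860844937819995) (.leaf 17310516010172249682629)))) (.node (.node (.node (.leaf 2818271164457513322338) (.leaf 11671166831291452531723)) (.node (.leaf 1736651068284236287040)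 (.leaf 13866838762598681228402))) (.node (.node (.leaf 16544526475617835436722) (.leaf 10098744057370735947716)) (.node (.leaf 15800027446302922084768) (.leaf 20363511365563564698382)))))) (.node (.node (.node (.node (.node (.leaf 17419541516017141431867) (.leaf 13681052162047847956480)) (.node (.leaf 6018474420069067432647) (.leaf 21041347884186023273159))) (.node (.node (.leaf 1121048130487399548847) (.leaf 13066351349424619264401)) (.node (.leaf 3706098970841711889374) (.leaf 2023913456263497720843)))) (.node (.node (.node (.leaf 13200146463486158221619) (.leaf 19663143648343829979066)) (.node (.leaf 11522983273614805631091) (.leaf 12158724447870137220667))) (.node (.node (.leaf 8429373748721561258811) (.leaf 12421951763239081117538)) (.node (.leaf 6186833820114933074910) (.leaf 22474505970225291068363))))) (.node (.node (.node (.node (.leaf 8903530763428681067278) (.leaf 14715292419978014706491)) (.node (.leaf 10722760954531219933026) (.leaf 16321283460673013481472))) (.node (.node (.leaf 7765384193300610744320) (.leaf 14658443658880110600903)) (.node (.leaf 11344113375340062118304)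 (.leaf 1130165738743134498756)))) (.node (.node (.node (.leaf 4652553028574863889798) (.leaf 5746297403035709000507)) (.node (.leaf 4280837640140029100032) (.leaf 3040567580083184118542))) (.node (.node (.leaf 1188813097041404863545) (.leaf 9087868379181642818571)) (.node (.leaf 11570896182060054847418) (.leaf 19191712005102044362587))))))) (.node (.node (.node (.node (.node (.node (.leaf 15118707485516014603328) (.leaf 7270867784980813807616)) (.node (.leaf 15836557987807399195762) (.leaf 13992129300064298475450))) (.node (.node (.leaf 7039121902485731227483) (.leaf 20833969854113788775488)) (.node (.leaf 19530749017004475987058) (.leaf 11810858011274545496064)))) (.node (.node (.node (.leaf 14121517780541617190002) (.leaf 22295766963217621885639)) (.node (.leaf 100518764531336746842) (.leaf 6008551934487229709883))) (.node (.node (.leaf 18303040227969764215774) (.leaf 21425284882077197344030)) (.node (.leaf 12870605661094477760812) (.leaf 11917805168678223454919))))) (.node (.node (.node (.node (.leaf 11061629027209930020698) (.leaf 8484440771845210669480)) (.node (.leaf 1674393315476479167454)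 (.leaf 15653868127131533253918))) (.node (.node (.leaf 19251793769910471690540) (.leaf 4689425094378609322766)) (.node (.leaf 188167503438254147426) (.leaf 12109552805108931471725)))) (.node (.node (.node (.leaf 1078374142193151050152) (.leaf 1690608486754030897979)) (.node (.leaf 19343875594843444094009) (.leaf 13003313333509823791943))) (.node (.node (.leaf 2553089090849343032286) (.leaf 17328897491642370532409)) (.node (.leaf 741974141608103550238) (.leaf 5885724467062915270762)))))) (.node (.node (.node (.node (.node (.leaf 20363207621160025890078) (.leaf 13450046947153832682553)) (.node (.leaf 13100902398200931230777) (.leaf 9515118548723200533515))) (.node (.node (.leaf 7931356335163563847620) (.leaf 12109599819257771405871)) (.node (.leaf 12908260183194358617478) (.leaf 18033253678268460565319)))) (.node (.node (.node (.leaf 13678400592036231027840) (.leaf 6986934401998141228975)) (.node (.leaf 2020449421165393786715) (.leaf 22376356212534871078747))) (.node (.node (.leaf 12970842554500073567346) (.leaf 11533135013552318851437)) (.node (.leaf 10553958911115467626897) (.leaf 18962206459064540503168)))))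 (.node (.node (.node (.node (.leaf 1948574883156568055669) (.leaf 11909106029265710817991)) (.node (.leaf 17300043565715994714823) (.leaf 19894046007310444998596))) (.node (.node (.leaf 9585507257140543100294) (.leaf 12509590858304510177839)) (.node (.leaf 2416984402700070029231) (.leaf 18578468398071313772457)))) (.node (.node (.node (.leaf 6364798958341295721275) (.leaf 18278528473905537753018)) (.node (.leaf 8069493394096482727771) (.leaf 22151614443753848813403))) (.node (.node (.leaf 8853525529945306739247) (.leaf 6162896394636736377139)) (.node (.leaf 21381588218211909763187) (.leaf 13933400845237552434240)))))))) (.node (.node (.node (.node (.node (.node (.node (.leaf 19270500931576107413444) (.leaf 10018992200228650128774)) (.node (.leaf 21405388672562967282503) (.leaf 5104664430528960601973))) (.node (.node (.leaf 14163165745159934462642) (.leaf 16827348762114868524146)) (.node (.leaf 10324421799557465835332) (.leaf 11523472499253045987140)))) (.node (.node (.node (.leaf 5941584330981222680682) (.leaf 17453304862432454545824)) (.node (.leaf 10505592921496620500804) (.leaf 2038466637588193478762)))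 (.node (.node (.leaf 3335862848186753961024) (.leaf 3232093222875089774957)) (.node (.leaf 14419704714843937740166) (.leaf 4529137902520951841803))))) (.node (.node (.node (.node (.leaf 14087684486118159266351) (.leaf 12894541202173373481075)) (.node (.leaf 5313104393804095468658) (.leaf 9245620704878161146565))) (.node (.node (.leaf 4152164236163792343456) (.leaf 11528662529222231328874)) (.node (.leaf 4468230996701168437354) (.leaf 20973187609165010174923)))) (.node (.node (.node (.leaf 19582797314920180919054) (.leaf 3724095037306733961146)) (.node (.leaf 17520349870907451424315) (.leaf 7392722542730888053575))) (.node (.node (.leaf 11671459348539012122730) (.leaf 2224033506236275793182)) (.node (.leaf 11824605522172894873900) (.leaf 10273124352906202788147)))))) (.node (.node (.node (.node (.node (.leaf 7430055953191510749491) (.leaf 10102078659717415868250)) (.node (.leaf 13057222097930248887001) (.leaf 14983852515466688824135))) (.node (.node (.leaf 10874798053188839385453) (.leaf 7098687911215858687930)) (.node (.leaf 13086938879539623329907) (.leaf 6688733582968650772787)))) (.node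 (.node (.node (.leaf 12041756636647132070003) (.leaf 9726299791262950424576)) (.node (.leaf 2586613472389775305069) (.leaf 4512784910831076999592))) (.node (.node (.leaf 17564900251869952148427) (.leaf 12395423727142632532750)) (.node (.leaf 16716820827761075931963) (.leaf 2902111132659103015993))))) (.node (.node (.node (.node (.leaf 2523204757764366305122) (.leaf 12051815463820736973790)) (.node (.leaf 5939875664998782600007) (.leaf 5682241767345091189888))) (.node (.node (.leaf 7863156969161863862673) (.leaf 12273518171837285179253)) (.node (.leaf 5062806675632443328431) (.leaf 17066937132633298514227)))) (.node (.node (.node (.leaf 944795259524873134010) (.leaf 12446318655156567933043)) (.node (.leaf 13289763460626535516460) (.leaf 21634946521002720700781))) (.node (.node (.leaf 7654655173653289313291) (.leaf 19483271071300867499019)) (.node (.leaf 20995921864250801146546) (.leaf 2689000485886835557323))))))) (.node (.node (.node (.node (.node (.node (.leaf 8492972342196105024902) (.leaf 8565255830542656964527)) (.node (.leaf 4151991331364112827207) (.leaf 315176787343243947972)))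 (.node (.node (.leaf 18738881014562543218995) (.leaf 2417183935970771317043)) (.node (.leaf 1166806633094731877179) (.leaf 3047435431033397584953)))) (.node (.node (.node (.leaf 13211371573306094400047) (.leaf 3828932969810514646874)) (.node (.leaf 8987604557556463717042) (.leaf 5980240656225977610180))) (.node (.node (.leaf 20755080425347027061824) (.leaf 14848799824988396662724)) (.node (.leaf 10497473254223329479483) (.leaf 20485644499503755855714))))) (.node (.node (.node (.node (.leaf 5008871714659206496256) (.leaf 19583005046491566087296)) (.node (.leaf 16763629692698601769650) (.leaf 17235555247510156555378))) (.node (.node (.leaf 18004023811420018540659) (.leaf 12143825946117391714116)) (.node (.leaf 18300564914357930166378) (.leaf 2140390859378235886656)))) (.node (.node (.node (.leaf 15323481232052434902901) (.leaf 16312731793504239661615)) (.node (.leaf 11631073715692564191066) (.leaf 7030875592065318783276))) (.node (.node (.leaf 14913173615957708280224) (.leaf 10269682833442823253929)) (.node (.leaf 19260787879525279467820) (.leaf 21011450761762010859439)))))) (.node (.node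 (.node (.node (.node (.leaf 6305709645632406539067) (.leaf 4388453113394793230249)) (.node (.leaf 5241298892932829060224) (.leaf 19468337418043596425906))) (.node (.node (.leaf 17521425852921891422323) (.leaf 11503868752972098766660)) (.node (.leaf 22129770963928999266116) (.leaf 19095186081237136771372)))) (.node (.node (.node (.leaf 11810596235280578260905) (.leaf 17514351792101672290410)) (.node (.leaf 1189119939860305745754) (.leaf 986282844728279073192))) (.node (.node (.leaf 12907012628229907416900) (.leaf 16063979107595931760475)) (.node (.leaf 14617350132893650825925) (.leaf 17520996289246231103330))))) (.node (.node (.node (.node (.leaf 10036286408039935560370) (.leaf 4769700812797560685515)) (.node (.leaf 10910120067706274683609) (.leaf 5116123660509761055502))) (.node (.node (.leaf 11369586195853648144749) (.leaf 11887777278956953255483)) (.node (.leaf 12143802851069677535232) (.leaf 1597104306866733528178)))) (.node (.node (.node (.leaf 20486463653342270195631) (.leaf 7884106476519890257839)) (.node (.leaf 20148730142284680146857) (.leaf 14983624908531409913962))) (.node (.node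 (.leaf 11189274454758712495168) (.leaf 7723476761866709048025)) (.node (.leaf 3581165985502453177472) (.leaf 17382599572584699703209))))))))

def k2Code_7 : H52.TCert.Tr := .node (.node (.node (.node (.node (.node (.node (.node (.leaf 7841683756713200224362) (.leaf 428045400738805187531)) (.node (.leaf 7994900622128292862353) (.leaf 3136322056946328476800))) (.node (.node (.leaf 7209733041790230994805) (.leaf 3367071475611976730924)) (.node (.leaf 15505944054224797049867) (.leaf 5556054167566960511966)))) (.node (.node (.node (.leaf 6938340591556541579688) (.leaf 19468854941997466492858)) (.node (.leaf 11438413967190563626938) (.leaf 1736535250921160390491))) (.node (.node (.leaf 14078920105425025925120) (.leaf 8640053932202537493191)) (.node (.leaf 7133607464271040160455) (.leaf 2586527936291195133214))))) (.node (.node (.node (.node (.leaf 21415998465484699905961) (.leaf 3724312798496885016876)) (.node (.leaf 8952635588760433199404) (.leaf 18730998770797102836077))) (.node (.node (.leaf 12446398603004039463883) (.leaf 21176336520825613396750)) (.node (.leaf 18598933341609425543098)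 (.leaf 21399966028663304296849)))) (.node (.node (.node (.leaf 150534649666444676062) (.leaf 6617093410555133040474)) (.node (.leaf 13903607140151785855705) (.leaf 5887462662566931573101))) (.node (.node (.leaf 11003862383717792464443) (.leaf 15043687936718137766195)) (.node (.leaf 2651097597085500972986) (.leaf 12335198869975402250355)))))) (.node (.node (.node (.node (.node (.leaf 4255941601494783826649) (.leaf 22162699745703547383721)) (.node (.leaf 637947212877857430656) (.leaf 14731353699347141173109))) (.node (.node (.leaf 22072693370414622782149) (.leaf 6140990356309075840064)) (.node (.leaf 11139723349683320041412) (.leaf 21405309931254551318944)))) (.node (.node (.node (.leaf 12888954412781774444945) (.leaf 11729907920171113940804)) (.node (.leaf 9201471673598708028806) (.leaf 19087061836390555453282))) (.node (.node (.leaf 16097715137955533265297) (.leaf 13578614243897770289517)) (.node (.leaf 16897357437496315904424) (.leaf 3325061984460889134470))))) (.node (.node (.node (.node (.leaf 6280277439428760635234) (.leaf 4687788063782902824960)) (.node (.leaf 9947439971987597435961)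 (.leaf 19121554439043660948491))) (.node (.node (.leaf 7220002885469938061728) (.leaf 9092220233953182751121)) (.node (.leaf 13161043337668664314944) (.leaf 3479769174058260146541)))) (.node (.node (.node (.leaf 16324584088874499080616) (.leaf 979441670876687406470)) (.node (.leaf 4592464516833396328748) (.leaf 8562004398503663218995))) (.node (.node (.leaf 4605299541954225359538) (.leaf 6760823403849280783307)) (.node (.leaf 2930905605942186945294) (.leaf 17491417339799147453145))))))) (.node (.node (.node (.node (.node (.node (.leaf 19092444650330224732942) (.leaf 15883861039184742628923)) (.node (.leaf 10217493043733074903879) (.leaf 21449581015018573726667))) (.node (.node (.leaf 14121370116600430938939) (.leaf 9229747636733817913344)) (.node (.leaf 11729904604031119956369) (.leaf 15291827698103754705886)))) (.node (.node (.node (.leaf 13539136345234226488007) (.leaf 11788089214940188549831)) (.node (.leaf 14467468308631003107744) (.leaf 10569265302738125100422))) (.node (.node (.leaf 11798095887203259918701) (.leaf 19215130210503953122119)) (.node (.leaf 9506018240941343417401) (.leaf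 5344995433719130989579))))) (.node (.node (.node (.node (.leaf 2552593202176073347379) (.leaf 5283347633374672191603)) (.node (.leaf 2770813544343559414841) (.leaf 19858577362252367497058))) (.node (.node (.leaf 570219975774531257291) (.leaf 10986431587069318020667)) (.node (.leaf 1919055139756824953671) (.leaf 7725837637805923278778)))) (.node (.node (.node (.leaf 10910175377131209466567) (.leaf 17769243533847393608391)) (.node (.leaf 13941517984279602078407) (.leaf 16840893692745370280647))) (.node (.node (.leaf 15450481527095406533009) (.leaf 7666448479098669670261)) (.node (.leaf 3193125926934453826095) (.leaf 12464288691644116547419)))))) (.node (.node (.node (.node (.node (.leaf 6231572576943698511714) (.leaf 7678613974303253071791)) (.node (.leaf 19371614813584921075573) (.leaf 19086882611176724279855))) (.node (.node (.leaf 3444938046428963936090) (.leaf 5833312628923667515311)) (.node (.leaf 20559271739777850198843) (.leaf 18646858046672680661551)))) (.node (.node (.node (.leaf 14415081907307345457861) (.leaf 1344444022840470382957)) (.node (.leaf 1822992432466355240507) (.leaf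 11590539372776262270976))) (.node (.node (.leaf 6218174027014297068231) (.leaf 17000505840374528942791)) (.node (.leaf 20907142546541852731757) (.leaf 18328139432896972652968))))) (.node (.node (.node (.node (.leaf 8197339924217267361158) (.leaf 450025234602053178758)) (.node (.leaf 6767783187364916070319) (.leaf 861523628970016610705))) (.node (.node (.leaf 21666909923628289117150) (.leaf 8373995127381466356441)) (.node (.leaf 11388716109228189788525) (.leaf 17731261337094326588806)))) (.node (.node (.node (.leaf 16842236128680317594382) (.leaf 4798539997984458481594)) (.node (.leaf 15494683269054865782619) (.leaf 21415589758821482053179))) (.node (.node (.leaf 3446200952133470931934) (.leaf 8554014533999208045854)) (.node (.leaf 6642227223802805691403) (.leaf 20391780643837872523954)))))))) (.node (.node (.node (.node (.node (.node (.node (.leaf 13578298984323876487283) (.leaf 19966428509077789574980)) (.node (.leaf 15030037565117120448354) (.leaf 112181536937626699695))) (.node (.node (.leaf 22364607294170702782325) (.leaf 21870020091058077643311)) (.node (.leaf 203113540166800152410)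 (.leaf 17093401737055393696734)))) (.node (.node (.node (.leaf 14651370993003164698730) (.leaf 7335214091785599615815)) (.node (.leaf 15945569650040607979355) (.leaf 8876382741260455097029))) (.node (.node (.leaf 1009387749910701876281) (.leaf 10164192797584247530507)) (.node (.leaf 17128252204785803792800) (.leaf 5231358458613128988514))))) (.node (.node (.node (.node (.leaf 19186084878294286440849) (.leaf 11702750087160746180608)) (.node (.leaf 22024536174097593868999) (.leaf 3117587691458944803527))) (.node (.node (.leaf 7118631900147575762884) (.leaf 6387301507428033757299)) (.node (.leaf 21525374606318487312218) (.leaf 14708003455775442082521)))) (.node (.node (.node (.leaf 20574269695927070169817) (.leaf 150430554203331513408)) (.node (.leaf 18749485449288139224178) (.leaf 11871634879552768638976))) (.node (.node (.leaf 17941956255080821273714) (.leaf 12948526106986222684460)) (.node (.leaf 20747239765377794806176) (.leaf 14596339167545620694959)))))) (.node (.node (.node (.node (.node (.leaf 15022968045243706261051) (.leaf 9977432813434855005312)) (.node (.leaf 20295417939592611143610)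 (.leaf 1311422492026146142043))) (.node (.node (.leaf 17079572722534994558523) (.leaf 5529909940293177330654)) (.node (.leaf 22362563903202897234026) (.leaf 16757149930462713422905)))) (.node (.node (.node (.leaf 19687747035873744663087) (.leaf 11533095186708864172147)) (.node (.leaf 20620509419584610349363) (.leaf 18098791857782903610073))) (.node (.node (.leaf 11184865922667925192251) (.leaf 979285085877023256489)) (.node (.leaf 13007716054549435025514) (.leaf 9375939285733807031243))))) (.node (.node (.node (.node (.leaf 11528739896373014219742) (.leaf 20241220850765612850462)) (.node (.leaf 7797299547088067179055) (.leaf 19504087281312857928389))) (.node (.node (.leaf 15886186625828060606377) (.leaf 5345428735889590628659)) (.node (.leaf 9537433025241322408626) (.leaf 8216060366108319646667)))) (.node (.node (.node (.leaf 1306904592290764554355) (.leaf 11786803813587011307332)) (.node (.leaf 9374714073837807276448) (.leaf 13020524011691646224196))) (.node (.node (.leaf 20615926303310652975886) (.leaf 16711891438594811568839)) (.node (.leaf 4955468438435236413864) (.leaf 8853952987845895473979)))))))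 (.node (.node (.node (.node (.node (.node (.leaf 1993969521136104802146) (.leaf 16902111871430248311149)) (.node (.leaf 7981038754315807800891) (.leaf 13290150121124120765497))) (.node (.node (.leaf 10272558588224418482095) (.leaf 883718285564833464320)) (.node (.leaf 21951930046880976970439) (.leaf 8661990957191222080047)))) (.node (.node (.node (.leaf 1663731154394275919707) (.leaf 18278642891877262799557)) (.node (.leaf 3342736244858498582370) (.leaf 21662266015629169009675))) (.node (.node (.leaf 22219162220892395385391) (.leaf 20093175316372800981819)) (.node (.leaf 15928923008025720488051) (.leaf 10315642933046221708574))))) (.node (.node (.node (.node (.leaf 8060298593869832787802) (.leaf 8052538742927622773888)) (.node (.leaf 11371719522803089017132) (.leaf 19633555942286294298931))) (.node (.node (.leaf 7220272711248940518366) (.leaf 9092007394158891435844)) (.node (.leaf 18734297294155926086343) (.leaf 11932799468342775939911)))) (.node (.node (.node (.leaf 13029303860916747258846) (.leaf 292311568600970955052)) (.node (.leaf 12699678673417363293131) (.leaf 5052146096793497175906)))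 (.node (.node (.leaf 15653516391021940376523) (.leaf 2392943453811550061383)) (.node (.leaf 20007868202446935604795) (.leaf 4468137480915714526174)))))) (.node (.node (.node (.node (.node (.leaf 11625218579872335242297) (.leaf 20921571289605191802142)) (.node (.leaf 17124367179410644404330) (.leaf 16752064248601323085086))) (.node (.node (.leaf 17635293101320228578315) (.leaf 21033269973051834958663)) (.node (.leaf 1128185044124137960562) (.leaf 18428931757923282255987)))) (.node (.node (.node (.leaf 15154552510507761119791) (.leaf 18990024173609819703596)) (.node (.leaf 20383128394379635765807) (.leaf 21970567850600194945733))) (.node (.node (.leaf 20350335366285344675674) (.leaf 9018504924594238986969)) (.node (.leaf 20234989585465641442009) (.leaf 449643018823327942956))))) (.node (.node (.node (.node (.leaf 13211865742847263680877) (.leaf 4371252079995200739162)) (.node (.leaf 5537728421339874171609) (.leaf 13837952749745214233305))) (.node (.node (.leaf 20169630190441691327246) (.leaf 17447295509616524831085)) (.node (.leaf 12464391151753579409715) (.leaf 6615967971681736761274))))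 (.node (.node (.node (.leaf 12332988166891361284009) (.leaf 21275203997812325031797)) (.node (.leaf 13832086031931543925445) (.leaf 1505215000526691740430))) (.node (.node (.leaf 5648487909986541839047) (.leaf 1008816785689240278874)) (.node (.leaf 17169628051988516122564) (.leaf 19922529420596139102624))))))))

def k2Code_8 : H52.TCert.Tr := .node (.node (.node (.node (.node (.node (.node (.node (.leaf 18447389535507397681013) (.leaf 16322400563592631307328)) (.node (.leaf 18607128254589952885160) (.leaf 4347747041139749459334))) (.node (.node (.leaf 10583309669464082453894) (.leaf 1362950965803870071149)) (.node (.leaf 5030777947309952286267) (.leaf 15320173071321821684747)))) (.node (.node (.node (.leaf 5624109232320622036911) (.leaf 18583959723534136419385)) (.node (.leaf 9534684923843714065419) (.leaf 2361343999346847199539))) (.node (.node (.leaf 7193572909640255676346) (.leaf 3479749751149457145971)) (.node (.leaf 9534937514473725663961) (.leaf 8000135870704508190267))))) (.node (.node (.node (.node (.leaf 6270987204528343842816) (.leaf 9205377674219648822030)) (.node (.leaf 1134488306805230370816)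 (.leaf 12009370802972570919623))) (.node (.node (.leaf 13523978328066231709609) (.leaf 15154415752689472700840)) (.node (.leaf 20559296714556463513715) (.leaf 14888347957839903595806)))) (.node (.node (.node (.leaf 18730852295534447860864) (.leaf 3872766216104374547141)) (.node (.leaf 13532285948396095838609) (.leaf 7268075158728224806746))) (.node (.node (.leaf 18026431442420077822067) (.leaf 11366072117079866383646)) (.node (.leaf 14972207150281137004405) (.leaf 11571245714940980507333)))))) (.node (.node (.node (.node (.node (.leaf 6680280817421564594866) (.leaf 3992092763325781035998)) (.node (.leaf 6642366460829699672170) (.leaf 8110013754306194806618))) (.node (.node (.leaf 12013990744680485099354) (.leaf 6779716993975493538099)) (.node (.leaf 5830810231179272757178) (.leaf 11938877500157276958660)))) (.node (.node (.node (.leaf 316452754428216477538) (.leaf 7852956794253485060403)) (.node (.leaf 21173684668381764526010) (.leaf 1388129455345085592261))) (.node (.node (.leaf 12009274747215262134212) (.leaf 3445024525433298780160)) (.node (.leaf 1763118096258475340914) (.leaf 20062469214274056564676)))))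 (.node (.node (.node (.node (.leaf 5025589449105184141871) (.leaf 10392982662254981551962)) (.node (.leaf 5784295129411397360345) (.leaf 7980034983792643809991))) (.node (.node (.leaf 9243011793903249725274) (.leaf 1762996121079914758568)) (.node (.leaf 20196233713434947593273) (.leaf 18646669599058469931835)))) (.node (.node (.node (.leaf 20884419411115229850382) (.leaf 514282702392518254522)) (.node (.leaf 4135574868247157868386) (.leaf 4816154686350131560448))) (.node (.node (.leaf 6616720219352900730880) (.leaf 13903238554572269331143)) (.node (.leaf 7723842333633086726855) (.leaf 21635061554725745073438))))))) (.node (.node (.node (.node (.node (.node (.leaf 16399480947901970691931) (.leaf 2845701547445292171264)) (.node (.leaf 21662400284899185478720) (.leaf 8987311156571987443712))) (.node (.node (.leaf 5709545182864766317682) (.leaf 18584538530717448935258)) (.node (.leaf 13683233480963321282107) (.leaf 16103390866711983096647)))) (.node (.node (.node (.leaf 19365768017622217923870) (.leaf 15141961298624974162220)) (.node (.leaf 9561628367670498009799) (.leaf 20189363713460631962024)))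 (.node (.node (.leaf 4845094864619953488711) (.leaf 5266061552093576973278)) (.node (.leaf 283811187234919456030) (.leaf 16399822833434841483370))))) (.node (.node (.node (.node (.leaf 2722361243563762031902) (.leaf 3421284760646707813081)) (.node (.leaf 2380315745201802357518) (.leaf 20383152657705275533677))) (.node (.node (.leaf 11061376051031048928827) (.leaf 9692819706573952654041)) (.node (.leaf 14435922696191606496384) (.leaf 4513004884109887216768)))) (.node (.node (.node (.leaf 9496670523506990125472) (.leaf 18072724876038358337642)) (.node (.leaf 20189152555366042416242) (.leaf 14425914814591008409412))) (.node (.node (.leaf 6280178707078022930293) (.leaf 13531883304698538891098)) (.node (.leaf 2866644358649236592474) (.leaf 11823764930004518673113)))))) (.node (.node (.node (.node (.node (.leaf 7271977992767623404249) (.leaf 6107481063721395591897)) (.node (.leaf 19081001109803734436140) (.leaf 1616522836481268951405))) (.node (.node (.leaf 9184727606715873952583) (.leaf 919068313235746795827)) (.node (.leaf 9534077530795608835908) (.leaf 4281378974013140830020)))) (.node (.node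 (.node (.leaf 21967828250339731542432) (.leaf 19526125045437994934983)) (.node (.leaf 2396448649527286708059) (.leaf 7179356492966078689989))) (.node (.node (.leaf 3534125797647458404194) (.leaf 6622432476825345510366)) (.node (.leaf 8923112626728311555908) (.leaf 6908368848305873234702))))) (.node (.node (.node (.node (.leaf 1801308314954868463450) (.leaf 13555496172106054009256)) (.node (.leaf 18327082111593170637216) (.leaf 22131872961108372882379))) (.node (.node (.leaf 5648186318878040754282) (.leaf 9353785032269786467392)) (.node (.leaf 13103563894293057123013) (.leaf 8128628288077447508527)))) (.node (.node (.node (.leaf 854801340227153467226) (.leaf 13670285354991840015045)) (.node (.leaf 11015067625146794487748) (.leaf 12721650868979720357807))) (.node (.node (.leaf 2452387979403648289595) (.leaf 18268344179639263659951)) (.node (.leaf 19785338489415563358121) (.leaf 11122824728863136271163)))))))) (.node (.node (.node (.node (.node (.node (.node (.leaf 6981583444360992860525) (.leaf 5026120040832145260968)) (.node (.leaf 6747164804970771303227) (.leaf 15928293382372217108315)))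 (.node (.node (.leaf 1449258680370193373018) (.leaf 2082536494970245037627)) (.node (.leaf 19821209299811230122823) (.leaf 4223329019487421254622)))) (.node (.node (.node (.leaf 21704238407850261984370) (.leaf 2902014374904549869380)) (.node (.leaf 11506465688873643218778) (.leaf 20169842093870565563678))) (.node (.node (.leaf 20567343070090552618921) (.leaf 1134768666999866935986)) (.node (.leaf 13086818062340562093003) (.leaf 655290335444263473568))))) (.node (.node (.node (.node (.leaf 8034157899938782816621) (.leaf 1864304517470770299304)) (.node (.leaf 21829995783471221416647) (.leaf 9124689145883995276103))) (.node (.node (.leaf 13916029663915813274571) (.leaf 19951538932123668037179)) (.node (.leaf 16324596221565194247454) (.leaf 10146366070118742826112)))) (.node (.node (.node (.leaf 3141084896485901247499) (.leaf 7579486623967598741423)) (.node (.leaf 19442980528026312821726) (.leaf 17066954064466456355851))) (.node (.node (.leaf 4433441053278291312187) (.leaf 16120348126668137333575)) (.node (.leaf 16559930270061072287850) (.leaf 15550983416527653774393)))))) (.node (.node (.node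 (.node (.node (.leaf 14856026839539285269790) (.leaf 12906996330056055101841)) (.node (.leaf 18975095703841228269933) (.leaf 8799749772059310129576))) (.node (.node (.leaf 17319496446048581434939) (.leaf 1662834024739066553355)) (.node (.leaf 19606973938171464593967) (.leaf 19918416674094477418426)))) (.node (.node (.node (.leaf 14131617608275082386560) (.leaf 18503451819039594262441)) (.node (.leaf 8547018460504664946523) (.leaf 1363297773112158171695))) (.node (.node (.leaf 15819512725278834832498) (.leaf 1845916134923622324625)) (.node (.leaf 2570133277780490461045) (.leaf 21174866838701579258546))))) (.node (.node (.node (.node (.leaf 19172495267881546318663) (.leaf 2387983362394377210846)) (.node (.leaf 16717390538861820584971) (.leaf 21713504307002838385611))) (.node (.node (.leaf 1049562988828788766555) (.leaf 20962684804990206649401)) (.node (.leaf 9888778994157668672523) (.leaf 11312801297630130118517)))) (.node (.node (.node (.leaf 17246692908259829383168) (.leaf 21122886709108627185525)) (.node (.leaf 1392737773300120225604) (.leaf 5435515147319501363034))) (.node (.node (.leaf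 19017442265604611350458) (.leaf 8445452964285303469915)) (.node (.leaf 11009371373107322691445) (.leaf 3206556188940475440256))))))) (.node (.node (.node (.node (.node (.node (.leaf 18982968087598892648748) (.leaf 944414885816817502898)) (.node (.leaf 3288233537861992230852) (.leaf 15716689231734671554395))) (.node (.node (.leaf 15433368300771273749189) (.leaf 11774899020632899663707)) (.node (.leaf 22188554758399808484037) (.leaf 6862544511249462888290)))) (.node (.node (.node (.leaf 21885972127113843278795) (.leaf 6361148595301099052917)) (.node (.leaf 8752982220758534867634) (.leaf 15233583520807493547122))) (.node (.node (.leaf 4688058530791966722738) (.leaf 1047002936436834109252)) (.node (.leaf 22400606967529737880523) (.leaf 3205656737566012617842))))) (.node (.node (.node (.node (.leaf 9184802473211111149984) (.leaf 6764530012019344738410)) (.node (.leaf 12652552340305106676494) (.leaf 15193677326601389394747))) (.node (.node (.leaf 9867983235138216920930) (.leaf 3408518220460862678073)) (.node (.leaf 10682311074359845585011) (.leaf 8417494175200109178793)))) (.node (.node (.node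 (.leaf 8547075402172034108480) (.leaf 19215040276601029636036)) (.node (.leaf 14596043600394557993267) (.leaf 15022569246399731255986))) (.node (.node (.leaf 15173002254599724572533) (.leaf 1436588362410786731122)) (.node (.leaf 4430684188617140973481) (.leaf 19357683066858609349024)))))) (.node (.node (.node (.node (.node (.leaf 22226451546333028524743) (.leaf 7065546099093698451290)) (.node (.leaf 10569024718784969454277) (.leaf 5062986546111452630080))) (.node (.node (.leaf 17779496328814808926020) (.leaf 2183659056917858224428)) (.node (.leaf 18099052621226193691659) (.leaf 11868327563550341049102)))) (.node (.node (.node (.leaf 1120691144545636424409) (.leaf 17308062754753811427241)) (.node (.leaf 14616764568561048592314) (.leaf 13924477257746791565418))) (.node (.node (.leaf 287386517576887510073) (.leaf 1661486778906754394894)) (.node (.leaf 15029782334155885196402) (.leaf 11431870097599610265461))))) (.node (.node (.node (.node (.leaf 11058207034240047232114) (.leaf 11872222107335210342234)) (.node (.leaf 17942259825370666533288) (.leaf 1128229783614035330914))) (.node (.node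 (.leaf 4812672537312514519749) (.leaf 16756664846392849412805)) (.node (.leaf 6989431336710764900292) (.leaf 603179918673384426560)))) (.node (.node (.node (.leaf 6361111445299252560296) (.leaf 17063270118911972901835)) (.node (.leaf 5439874147699079063917) (.leaf 3580980362702076674472))) (.node (.node (.leaf 5306921943827891265466) (.leaf 20567071441024531636154)) (.node (.leaf 11189634137863615073246) (.leaf 9273687753754738688))))))))

def k2Code_9 : H52.TCert.Tr := .node (.node (.node (.node (.node (.node (.node (.node (.leaf 9362067081436559680199) (.leaf 7527562056558767702131)) (.node (.leaf 11918180777709654481625) (.leaf 18389220953489087539565))) (.node (.node (.leaf 634686651578867239902) (.leaf 1510638695524083414130)) (.node (.leaf 21250842737015996166057) (.leaf 14655405142762334261664)))) (.node (.node (.node (.leaf 4466926222760856586159) (.leaf 2933617710420151566336)) (.node (.leaf 19864129795166183662279) (.leaf 4841620511106792490927))) (.node (.node (.leaf 16683041257488142617403) (.leaf 7515337982084308415173)) (.node (.leaf 15506026972043486277939) (.leaf 9441454639138244429636)))))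 (.node (.node (.node (.node (.leaf 9632860621576991420356) (.leaf 6730764976134529429417)) (.node (.leaf 12987692433492649265979) (.leaf 17436842191355536067648))) (.node (.node (.leaf 11525081098949887958901) (.leaf 224837680440600578738)) (.node (.leaf 7751741171761094984104) (.leaf 20967318521299622368646)))) (.node (.node (.node (.leaf 17031317504538504961978) (.leaf 22362728773120540456795)) (.node (.leaf 17124842881472573285063) (.leaf 12725120880025250013895))) (.node (.node (.leaf 16897901348792981331230) (.leaf 3325324622573173747625)) (.node (.leaf 14444454866301043050338) (.leaf 11551226953948593035665)))))) (.node (.node (.node (.node (.node (.leaf 17127993599132419509214) (.leaf 11914954092628950459403)) (.node (.leaf 21320479002776449788686) (.leaf 15509104698295244106093))) (.node (.node (.leaf 3331338454678354869819) (.leaf 13160655074096720126663)) (.node (.leaf 7348068863630440895878) (.leaf 9571610697785351380922)))) (.node (.node (.node (.leaf 9056795225578014775697) (.leaf 8903006128684700999541)) (.node (.leaf 6657016699801415758962) (.leaf 12763123672556843106419)))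 (.node (.node (.leaf 7793112535351224371012) (.leaf 12711010153342080692531)) (.node (.leaf 15320151536154236623577) (.leaf 6759682519475810319931))))) (.node (.node (.node (.node (.leaf 1232790605196206940871) (.leaf 6140777662246458477534)) (.node (.leaf 21453087180134811183886) (.leaf 20919089295871350276096))) (.node (.node (.leaf 14467413949022129070791) (.leaf 8876366926831110267961)) (.node (.leaf 5041780043098358919108) (.leaf 1806665273564565418693)))) (.node (.node (.node (.leaf 8801506468698976078514) (.leaf 5848928926884701712324)) (.node (.leaf 4466839079704375398816) (.leaf 17499257259026803595665))) (.node (.node (.leaf 347035425449455826034) (.leaf 16662507176386514159428)) (.node (.leaf 7133443080390603741913) (.leaf 16662321640863857720891))))))) (.node (.node (.node (.node (.node (.node (.leaf 19461917110295038362439) (.leaf 16561175015993229483136)) (.node (.leaf 8781875899377142630700) (.leaf 10303818074065881510597))) (.node (.node (.leaf 17507568901017166259211) (.leaf 12574287424800305060241)) (.node (.leaf 14704901551854745064838) (.leaf 15514262516026472531887))))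 (.node (.node (.node (.leaf 2038483794788458346331) (.leaf 17050650252062687703749)) (.node (.leaf 16010048433691806770233) (.leaf 8892494376169745975108))) (.node (.node (.leaf 4229593879887929259867) (.leaf 18403140763926543119045)) (.node (.leaf 11015067646476415633327) (.leaf 10953379004406947159994))))) (.node (.node (.node (.node (.leaf 14615999721046888953691) (.leaf 21719220573302986801152)) (.node (.leaf 14657092681684687467634) (.leaf 3202318327618892438814))) (.node (.node (.leaf 7193082418654963861804) (.leaf 1621502168893004389081)) (.node (.leaf 5122892481311552440426) (.leaf 2020440155517582232640)))) (.node (.node (.node (.leaf 986242944926504688926) (.leaf 14033557603430192583072)) (.node (.leaf 10445854893151029513280) (.leaf 10738468388271899265851))) (.node (.node (.leaf 9201948765502124313266) (.leaf 17970676309032427063108)) (.node (.leaf 15945582924225721665642) (.leaf 19340812932481700333868)))))) (.node (.node (.node (.node (.node (.leaf 22001506595079856522187) (.leaf 21639499230730469288718)) (.node (.leaf 12352509021515925077563) (.leaf 21668034734778251070528)))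 (.node (.node (.leaf 19511083164299885289333) (.leaf 8543177071164828779335)) (.node (.leaf 7021527915372519205646) (.leaf 3178840759302618716561)))) (.node (.node (.node (.leaf 4906879348075329036149) (.leaf 8467497637110800023976)) (.node (.leaf 12969356450551613436211) (.leaf 10393015141672828147078))) (.node (.node (.leaf 6008110130351265613636) (.leaf 22444588167688835174816)) (.node (.leaf 15305139024076944548875) (.leaf 6387244466820025942987))))) (.node (.node (.node (.node (.leaf 12589131855354224126734) (.leaf 20193531407147970142138)) (.node (.leaf 3681668859621658886259) (.leaf 3557944489782408092377))) (.node (.node (.leaf 18610554004098143701682) (.leaf 8257304922819692933829)) (.node (.leaf 7898790675315080186944) (.leaf 2731940427283804328352)))) (.node (.node (.node (.leaf 17109432186482135616478) (.leaf 18158043578309266780100)) (.node (.leaf 22295819394141353677216) (.leaf 21425067817034215139693))) (.node (.node (.leaf 12273461920498876361069) (.leaf 21204873230753302156678)) (.node (.leaf 10882530805515622809600) (.leaf 12286120415910494767023)))))))) (.node (.node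 (.node (.node (.node (.node (.node (.leaf 16461812359240091344826) (.leaf 10633908588900480469982)) (.node (.leaf 10823110089346935301131) (.leaf 12234326842121858587776))) (.node (.node (.leaf 19857335634652583742430) (.leaf 13454907947955586280206)) (.node (.leaf 4006481406597118953391) (.leaf 18122161283620529058099)))) (.node (.node (.node (.leaf 11551200606639708286889) (.leaf 11914490480369710237802)) (.node (.leaf 4528915773153719726020) (.leaf 19951597206938643007788))) (.node (.node (.leaf 3641068866513141832990) (.leaf 9362931918223338834220)) (.node (.leaf 8207086227834653618735) (.leaf 8106423388982792204201))))) (.node (.node (.node (.node (.leaf 15006477641523688048746) (.leaf 2324481508170309273900)) (.node (.leaf 15284472901140864772461) (.leaf 13213941236441374524231))) (.node (.node (.leaf 3178813669057393625388) (.leaf 19234832862871153748333)) (.node (.leaf 6464728473180369977459) (.leaf 18459493606250378407849)))) (.node (.node (.node (.leaf 6657227310665496953803) (.leaf 12762900079015076735758)) (.node (.leaf 14731323166522435831650) (.leaf 7815175353322250371496)))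 (.node (.node (.leaf 14819721050087041288882) (.leaf 172969894341575772002)) (.node (.leaf 1075942656179846677451) (.leaf 511174990182918008772)))))) (.node (.node (.node (.node (.node (.leaf 21970515312053432161670) (.leaf 21571604867406941604667)) (.node (.leaf 9538378585377131933636) (.leaf 10051259340605149156742))) (.node (.node (.leaf 14901519680182006882234) (.leaf 13213950882898155442592)) (.node (.leaf 8429040981307228075122) (.leaf 3342711193832493744243)))) (.node (.node (.node (.leaf 3882530444086259752821) (.leaf 1823056936165856581466)) (.node (.leaf 8863168057322778537924) (.leaf 8106834518376655951238))) (.node (.node (.leaf 9227464060537405473739) (.leaf 9211103723941087388683)) (.node (.leaf 14436195405232785640251) (.leaf 19080968779141114248763))))) (.node (.node (.node (.node (.leaf 4615209032810887138270) (.leaf 20071750880840100972650)) (.node (.leaf 16544824417365770773561) (.leaf 1597381298918648621838))) (.node (.node (.leaf 21879355288792546836480) (.leaf 15268203451278008169007)) (.node (.leaf 7340688025636867441479) (.leaf 18968210291162560995258)))) (.node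 (.node (.node (.leaf 7632897575949206435675) (.leaf 771613807441807587163)) (.node (.leaf 2142518999578017188667) (.leaf 3647938232775264410001))) (.node (.node (.leaf 15239746123772698920879) (.leaf 1440213560814688600064)) (.node (.leaf 19398286387838365639367) (.leaf 7122931843691585752030))))))) (.node (.node (.node (.node (.node (.node (.leaf 10218519254130376410948) (.leaf 7347570898820221284265)) (.node (.leaf 17224715301961056452608) (.leaf 9226862468786764742771))) (.node (.node (.leaf 1504829449873177550110) (.leaf 22456042119866023260073)) (.node (.leaf 9982252294384116926383) (.leaf 12221080231033272471968)))) (.node (.node (.node (.leaf 21020423661051007803253) (.leaf 9247592614656544977605)) (.node (.leaf 12699433550004567809152) (.leaf 16064324720562766852403))) (.node (.node (.leaf 15928277929321169072435) (.leaf 18448433105272829514144)) (.node (.leaf 18734444866205333457002) (.leaf 8780967684099918842846))))) (.node (.node (.node (.node (.leaf 19461539168991907809386) (.leaf 21718744609923709579177)) (.node (.leaf 7608328383045715862585) (.leaf 21394218455403332345118)))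 (.node (.node (.leaf 22402907285149423414030) (.leaf 5364741852954635750366)) (.node (.leaf 9243195242134500615225) (.leaf 10324425984436448795025)))) (.node (.node (.node (.leaf 1404585869113500519390) (.leaf 6715214349752515932073)) (.node (.leaf 9571940174777627488965) (.leaf 7863317920787757173036))) (.node (.node (.leaf 15161463547828226861838) (.leaf 3421102154683412947979)) (.node (.leaf 7655775123663468270982) (.leaf 5042395140891370162095)))))) (.node (.node (.node (.node (.node (.leaf 3234612171642410271559) (.leaf 21951702520943815662297)) (.node (.leaf 21200239369302764395648) (.leaf 1594715111125331817586))) (.node (.node (.leaf 13354617295811316358272) (.leaf 3220201190899576119157)) (.node (.leaf 22294595972360964452911) (.leaf 15305359953986281255219)))) (.node (.node (.node (.leaf 22438171886837951596356) (.leaf 21040894530083479324778)) (.node (.leaf 20645764273553773677632) (.leaf 12704288499219604549572))) (.node (.node (.leaf 5449149445983203034978) (.leaf 21499802398315807743262)) (.node (.leaf 17307669595203585515450) (.leaf 14044052357808989044851))))) (.node (.node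 (.node (.node (.leaf 11723527256676300016443) (.leaf 13933263376802607609691)) (.node (.leaf 19270448721660221962075) (.leaf 11431607546914530558376))) (.node (.node (.leaf 15874747454604768217007) (.leaf 17910894546195768935239)) (.node (.leaf 14591750898198724099643) (.leaf 22213528136869947710592)))) (.node (.node (.node (.leaf 17909610734642242198814) (.leaf 10805213558007102179628)) (.node (.leaf 17381548303964012352902) (.leaf 1669851500875049698119))) (.node (.node (.leaf 21755158601335708586400) (.leaf 17635653981108086295616)) (.node (.leaf 9249261316052263318063) (.leaf 10217308946401210315059))))))))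

def k2Code_10 : H52.TCert.Tr := .node (.node (.node (.node (.node (.node (.node (.node (.leaf 7849655239765598843589) (.leaf 5529950068396659887168)) (.node (.leaf 10594618919983703228531) (.leaf 18919863305442388814189))) (.node (.node (.leaf 4642297912714626124864) (.leaf 19504083762393292832768)) (.node (.leaf 6191832929973988177010) (.leaf 14388573119404193693243)))) (.node (.node (.node (.leaf 9796581723729013770540) (.leaf 1594866010456514874171)) (.node (.leaf 1620369579471537637218) (.leaf 12441805300799943158125))) (.node (.node (.leaf 11487816349348856889768) (.leaf 14131994894053136616251)) (.node (.leaf 13182732179719863011170) (.leaf 22072690807208052562321))))) (.node (.node (.node (.node (.leaf 2956590480265473360711) (.leaf 22129184659143971707281)) (.node (.leaf 19180027501064880009775) (.leaf 16009859058077404272474))) (.node (.node (.leaf 19172234658059921829828) (.leaf 2719020111948867652672)) (.node (.leaf 13539005248277811900356) (.leaf 12549638508034582488075)))) (.node (.node (.node (.leaf 7123074528695022326176) (.leaf 2556309578725149088896)) (.node (.leaf 7006615522640199124834)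 (.leaf 4193324354589818860658))) (.node (.node (.leaf 19234263987291776262005) (.leaf 17381717529784157411162)) (.node (.leaf 9982048678993429122112) (.leaf 17175714829617028995473)))))) (.node (.node (.node (.node (.node (.leaf 1025468095493799693376) (.leaf 15502343675834645649242)) (.node (.leaf 8445828517815901434163) (.leaf 13088272833858752486105))) (.node (.node (.leaf 19351289861965753647219) (.leaf 10912471583158607524549)) (.node (.leaf 1437125220154386402107) (.leaf 12041769862309886396258)))) (.node (.node (.node (.leaf 8157324768143490613248) (.leaf 7994437764441659086682)) (.node (.leaf 9087526953413237906137) (.leaf 5131760033339012297413))) (.node (.node (.leaf 6218368944744464199620) (.leaf 10684269857507103377250)) (.node (.leaf 3220795514964255198011) (.leaf 15513920382089394393504))))) (.node (.node (.node (.node (.leaf 6688237027120155113307) (.leaf 10795149739102250869817)) (.node (.leaf 655427968795389867867) (.leaf 7631830864962817864389))) (.node (.node (.leaf 14419934947159222530757) (.leaf 14043742918757613030203)) (.node (.leaf 9138683081916408668021) (.leaf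 1543220741491016966005)))) (.node (.node (.node (.leaf 17731022387867185367730) (.leaf 22132034031006479293726)) (.node (.leaf 4522059256807160295983) (.leaf 93817565284618379975))) (.node (.node (.leaf 9968286892094816498373) (.leaf 9102353045427050262835)) (.node (.leaf 13831834796076986144134) (.leaf 13182772636055097946671))))))) (.node (.node (.node (.node (.node (.node (.leaf 19180030345824697535291) (.leaf 1756530774700531724595)) (.node (.leaf 19017529041118753786156) (.leaf 17587015923753337368883))) (.node (.node (.leaf 11590680928209346710194) (.leaf 7199514428555424334795)) (.node (.leaf 15764012107304615750414) (.leaf 6764467124105087634398)))) (.node (.node (.node (.leaf 3609948256561176283436) (.leaf 11525147928332975802210)) (.node (.leaf 7700894416822911206347) (.leaf 7145923847880727112045))) (.node (.node (.leaf 19251597572483367346106) (.leaf 20195840289243801519940)) (.node (.leaf 664177375095716776236) (.leaf 872280203000210237805))))) (.node (.node (.node (.node (.leaf 3823261990051566632507) (.leaf 15165994733115703132275)) (.node (.leaf 1669778498091521841881)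 (.leaf 15141385516342186360379))) (.node (.node (.leaf 9780637534407682492522) (.leaf 18447921839716720321223)) (.node (.leaf 60470019282727536559) (.leaf 20976822095514384511535)))) (.node (.node (.node (.leaf 428149374118460431646) (.leaf 16471102351021542114251)) (.node (.leaf 21427532358899760136192) (.leaf 15972639062153988374643))) (.node (.node (.leaf 14651928604883377277918) (.leaf 4689208991640992947486)) (.node (.leaf 7268210438450030322745) (.leaf 510904986743053072219)))))) (.node (.node (.node (.node (.node (.leaf 9497153927244834748251) (.leaf 14415045515566822096896)) (.node (.leaf 18328311905656380136734) (.leaf 18749004362013813156622))) (.node (.node (.leaf 6257280364129009412461) (.leaf 872168275907855752478)) (.node (.leaf 12967243645354024086286) (.leaf 6680608665689168559675)))) (.node (.node (.node (.leaf 3613717196519083323951) (.leaf 2142787056227137494901)) (.node (.leaf 12213508443564693429376) (.leaf 7134303618530390540712))) (.node (.node (.leaf 8052138174804485702603) (.leaf 9507670666649907861905)) (.node (.leaf 7335052298166300477546) (.leaf 10562579135174257200192)))))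 (.node (.node (.node (.node (.leaf 5195372305032904278440) (.leaf 11748942373512009952014)) (.node (.leaf 7853004221701736909790) (.leaf 11218607173412680670336))) (.node (.node (.leaf 10816234622032166390060) (.leaf 2933341914232527816516)) (.node (.leaf 7488739749564129187674) (.leaf 15358668220348878979496)))) (.node (.node (.node (.leaf 10028368289569939331801) (.leaf 6055271294767553912762)) (.node (.leaf 19413444248948246165339) (.leaf 5126215854795973662086))) (.node (.node (.leaf 15272267639372969050951) (.leaf 1690642442461574798464)) (.node (.leaf 13456121361405047373939) (.leaf 21320124638875363449984)))))))) (.node (.node (.node (.node (.node (.node (.node (.leaf 16827058036736564496226) (.leaf 6547572230098718558127)) (.node (.leaf 1734385107537038553028) (.leaf 19085680948757508593030))) (.node (.node (.leaf 10507976723638554538543) (.leaf 18578820558826426703802)) (.node (.leaf 6364368009416386609267) (.leaf 11824415501505270191494)))) (.node (.node (.node (.leaf 15340061809283168437195) (.leaf 11823715147942113922014)) (.node (.leaf 19009443140513245110983) (.leaf 14848822980587412293551)))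 (.node (.node (.leaf 13529711415713249502219) (.leaf 7766414285866099247023)) (.node (.leaf 12704283929686408168263) (.leaf 12179473230455390089925))))) (.node (.node (.node (.node (.leaf 21871125018694408152075) (.leaf 19536428966522847304081)) (.node (.leaf 1078634992499039771934) (.leaf 19344160129257646721324))) (.node (.node (.leaf 13343140123345489611442) (.leaf 7743642726568633340320)) (.node (.leaf 15142651697111415868480) (.leaf 6040762850885643023474)))) (.node (.node (.node (.leaf 5980697740490297352903) (.leaf 7538016061445286113839)) (.node (.leaf 17700882475409552020870) (.leaf 15649867440300325292722))) (.node (.node (.leaf 1765617883019882770991) (.leaf 2876882316118435338074)) (.node (.leaf 13088609163586564049886) (.leaf 16763698168788739866171)))))) (.node (.node (.node (.node (.node (.leaf 1107990229696795516190) (.leaf 21452556709340066460786)) (.node (.leaf 3288334092341760866139) (.leaf 13682996987089948251994))) (.node (.node (.leaf 3705882950749211761369) (.leaf 19487223824740608967080)) (.node (.leaf 1717859888228188722566) (.leaf 13020053184469172954169))))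 (.node (.node (.node (.leaf 15282181546686293936047) (.leaf 19085709723197015371689)) (.node (.leaf 3040814568719843696501) (.leaf 12158963803628116412716))) (.node (.node (.leaf 21582206695920919021674) (.leaf 17447829885165429038208)) (.node (.leaf 8187241309627558251186) (.leaf 7995968499805680764740))))) (.node (.node (.node (.node (.leaf 7121770199494895579049) (.leaf 21829920877626805227936)) (.node (.leaf 22040650530173667057525) (.leaf 13066143933690799527770))) (.node (.node (.leaf 18300708499626086310599) (.leaf 9056340780612447504196)) (.node (.leaf 10459528555439842001011) (.leaf 17224956879294650527657)))) (.node (.node (.node (.leaf 21171479671593889073258) (.leaf 5251910919353383716783)) (.node (.leaf 13530209298617871861866) (.leaf 21449488559608081128576))) (.node (.node (.leaf 16210354251952190194088) (.leaf 7270326754802039671474)) (.node (.leaf 5254140533584408117672) (.leaf 2962113267377398684377))))))) (.node (.node (.node (.node (.node (.node (.leaf 13731398863754817449897) (.leaf 12864589491802108963598)) (.node (.leaf 20706674308578431992647) (.leaf 5886286167987403017182)))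 (.node (.node (.leaf 751225312536124431646) (.leaf 20877642095500920948655)) (.node (.leaf 4628118860260809158569) (.leaf 8833085255712810740494)))) (.node (.node (.node (.leaf 16188334989501293573234) (.leaf 898659423897372660128)) (.node (.leaf 5624247845791406299865) (.leaf 19152627656341954331463))) (.node (.node (.leaf 2220988057956748691756) (.leaf 11760108660398778582959)) (.node (.leaf 13199863729181001057095) (.leaf 7962190700518645508461))))) (.node (.node (.node (.node (.leaf 4318955639985693936606) (.leaf 10913030876788192548230)) (.node (.leaf 18723499536894382810123) (.leaf 7849651052473252616593))) (.node (.node (.leaf 2833386695783602069365) (.leaf 21364192708083013988292)) (.node (.leaf 15363210700964678512553) (.leaf 21690419987004784950843)))) (.node (.node (.node (.leaf 5052415609872679895155) (.leaf 14888210335456584674062)) (.node (.leaf 883245897613093443418) (.leaf 111888957498440552864))) (.node (.node (.leaf 10681324985662840680755) (.leaf 21512835950936969688178)) (.node (.leaf 1116609491208156151808) (.leaf 17843193236932009493319)))))) (.node (.node (.node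 (.node (.node (.leaf 20350760393403503813689) (.leaf 5713049834294882837515)) (.node (.leaf 2961154792356337065845) (.leaf 9497284681584757426))) (.node (.node (.leaf 7548618278326106823808) (.leaf 7871531330853638090692)) (.node (.leaf 4056071974117245683524) (.leaf 21831994132781651920815)))) (.node (.node (.node (.leaf 16979136472083117060009) (.leaf 12661637933145448787881)) (.node (.leaf 7995871667707541660729) (.leaf 7797399944689163356987))) (.node (.node (.leaf 4642037899290192590683) (.leaf 11625187265923657041732)) (.node (.leaf 14843037696622719020996) (.leaf 14088037741607732249000))))) (.node (.node (.node (.node (.leaf 12258164096175521932299) (.leaf 13007691178970901414727)) (.node (.leaf 19445726781297582514106) (.leaf 18607470280143535813746))) (.node (.node (.leaf 13569032729951697292352) (.leaf 7633505878652460892160)) (.node (.leaf 5448848175493618769182) (.leaf 10187579043387193597056)))) (.node (.node (.node (.leaf 10816001549902717297721) (.leaf 12095778788551441396271)) (.node (.leaf 21275014124437087781288) (.leaf 14357702817919973798597))) (.node (.node (.leaf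 21832278845318798593088) (.leaf 1262614739691776554843)) (.node (.leaf 541041181829472859995) (.leaf 10508003361994117335867))))))))

def k2Code_11 : H52.TCert.Tr := .node (.node (.node (.node (.node (.node (.node (.node (.leaf 18519549733710132484825) (.leaf 8375411193499480568517)) (.node (.leaf 13680674596275643461545) (.leaf 6040427002466856160059))) (.node (.node (.leaf 6365626544982006203207) (.leaf 17351620750961216146496)) (.node (.leaf 1372341218561264681075) (.leaf 5126420658733191082693)))) (.node (.node (.node (.leaf 15271763934585920565188) (.leaf 19449276250742455520059)) (.node (.leaf 1293739047298333910073) (.leaf 12908341453907089889114))) (.node (.node (.leaf 9325170843110037664303) (.leaf 3472771749302581765177)) (.node (.leaf 3409703461612447762732) (.leaf 14033882239199005254343))))) (.node (.node (.node (.node (.leaf 21247238587302068531759) (.leaf 18403001004857438871482)) (.node (.leaf 12395307399845465470066) (.leaf 18660480867301756240296))) (.node (.node (.leaf 12332837684940315924881) (.leaf 21200470561764390699432)) (.node (.leaf 20319490167114792946354) (.leaf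 15629318904289635176864)))) (.node (.node (.node (.leaf 4232444376805270853466) (.leaf 3549179148802552830353)) (.node (.leaf 13916429026639377020018) (.leaf 12127928622698341970227))) (.node (.node (.leaf 5556529137485700799193) (.leaf 2787865818529589119966)) (.node (.leaf 9693020403400373995439) (.leaf 11522714312345770535277)))))) (.node (.node (.node (.node (.node (.leaf 20746971500145094461359) (.leaf 11342841047354230046835)) (.node (.leaf 12201374460106623854957) (.leaf 8966435955219765273287))) (.node (.node (.leaf 7526620311467852374727) (.leaf 19937669319595087306613)) (.node (.leaf 22444590292604895284190) (.leaf 8905824607708783347554)))) (.node (.node (.node (.leaf 12721929624511772962756) (.leaf 6899243053147444618251)) (.node (.leaf 8206936450352776587629) (.leaf 21381093441671321668411))) (.node (.node (.leaf 11373075078314671217950) (.leaf 8780854262689699470041)) (.node (.leaf 22161818231865589572665) (.leaf 19511566569233081944891))))) (.node (.node (.node (.node (.leaf 21626809490331719541771) (.leaf 12790940396180786655539)) (.node (.leaf 20711639089311794108817)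 (.leaf 17910127095682544436171))) (.node (.node (.leaf 20323966292267951338181) (.leaf 4082954571250986320296)) (.node (.leaf 315126686903840814939) (.leaf 13943668841888442554202)))) (.node (.node (.node (.leaf 19873208035624743475601) (.leaf 15378180421442579005864)) (.node (.leaf 21030745775780408020032) (.leaf 20616040515701642861854))) (.node (.node (.leaf 13841012171156100985391) (.leaf 4319172309674092401056)) (.node (.leaf 14364674520028262171048) (.leaf 20402329025451943887687))))))) (.leaf 0)) (.leaf 0)

def k2Code : H52.TCert.Tr := .node (.node (.node (.node (k2Code_0) (k2Code_1)) (.node (k2Code_2) (k2Code_3))) (.node (.node (k2Code_4) (k2Code_5)) (.node (k2Code_6) (k2Code_7)))) (.node (.node (.node (k2Code_8) (k2Code_9)) (.node (k2Code_10) (k2Code_11))) (.node (.node (.leaf 0) (.leaf 0)) (.node (.leaf 0) (.leaf 0))))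

def k2Srt_0 : H52.TCert.Tr := .node (.node (.node (.node (.node (.node (.node (.node (.leaf 2303) (.leaf 2787)) (.node (.leaf 527) (.leaf 1550))) (.node (.node (.leaf 2646) (.leaf 433)) (.node (.leaf 346) (.leaf 1181)))) (.node (.node (.node (.leaf 14) (.leaf 2619)) (.node (.leaf 1610) (.leaf 1325))) (.node (.node (.leaf 2779) (.leaf 1923)) (.node (.leaf 1945) (.leaf 1816))))) (.node (.node (.node (.node (.leaf 606) (.leaf 842)) (.node (.leaf 2461) (.leaf 217))) (.node (.node (.leaf 887) (.leaf 1622)) (.node (.leaf 744) (.leaf 285)))) (.node (.node (.node (.leaf 1926) (.leaf 263)) (.node (.leaf 767) (.leaf 1278))) (.node (.node (.leaf 0) (.leaf 2325)) (.node (.leaf 1489) (.leaf 487)))))) (.node (.node (.node (.node (.node (.leaf 2126) (.leaf 165)) (.node (.leaf 1429) (.leaf 2284))) (.node (.node (.leaf 631) (.leaf 2009)) (.node (.leaf 2870) (.leaf 1731)))) (.node (.node (.node (.leaf 24) (.leaf 2088)) (.node (.leaf 156) (.leaf 1185))) (.node (.node (.leaf 252) (.leaf 223)) (.node (.leaf 1099) (.leaf 589))))) (.node (.node (.node (.node (.leaf 2364) (.leaf 1335)) (.node (.leaf 907) (.leaf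 1265))) (.node (.node (.leaf 1115) (.leaf 1394)) (.node (.leaf 1130) (.leaf 339)))) (.node (.node (.node (.leaf 643) (.leaf 1347)) (.node (.leaf 1497) (.leaf 877))) (.node (.node (.leaf 1793) (.leaf 2648)) (.node (.leaf 2031) (.leaf 1905))))))) (.node (.node (.node (.node (.node (.node (.leaf 2655) (.leaf 2463)) (.node (.leaf 2105) (.leaf 481))) (.node (.node (.leaf 2814) (.leaf 301)) (.node (.leaf 855) (.leaf 1876)))) (.node (.node (.node (.leaf 2295) (.leaf 1357)) (.node (.leaf 665) (.leaf 2308))) (.node (.node (.leaf 1226) (.leaf 1826)) (.node (.leaf 2191) (.leaf 2610))))) (.node (.node (.node (.node (.leaf 2638) (.leaf 1177)) (.node (.leaf 788) (.leaf 420))) (.node (.node (.leaf 1630) (.leaf 358)) (.node (.leaf 230) (.leaf 2756)))) (.node (.node (.node (.leaf 1472) (.leaf 2489)) (.node (.leaf 1285) (.leaf 222))) (.node (.node (.leaf 211) (.leaf 428)) (.node (.leaf 1197) (.leaf 2168)))))) (.node (.node (.node (.node (.node (.leaf 1907) (.leaf 1484)) (.node (.leaf 2661) (.leaf 2639))) (.node (.node (.leaf 2778) (.leaf 1989)) (.node (.leaf 188) (.leaf 463)))) (.node (.node (.node (.leaf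 424) (.leaf 2761)) (.node (.leaf 866) (.leaf 322))) (.node (.node (.leaf 2149) (.leaf 450)) (.node (.leaf 147) (.leaf 293))))) (.node (.node (.node (.node (.leaf 2241) (.leaf 1720)) (.node (.leaf 1468) (.leaf 45))) (.node (.node (.leaf 1965) (.leaf 1849)) (.node (.leaf 2392) (.leaf 1771)))) (.node (.node (.node (.leaf 2045) (.leaf 1932)) (.node (.leaf 1298) (.leaf 2592))) (.node (.node (.leaf 1016) (.leaf 388)) (.node (.leaf 917) (.leaf 2253)))))))) (.node (.node (.node (.node (.node (.node (.node (.leaf 681) (.leaf 2228)) (.node (.leaf 2462) (.leaf 218))) (.node (.node (.leaf 1624) (.leaf 2706)) (.node (.leaf 2720) (.leaf 1068)))) (.node (.node (.node (.leaf 175) (.leaf 2782)) (.node (.leaf 2280) (.leaf 1572))) (.node (.node (.leaf 2022) (.leaf 2291)) (.node (.leaf 1591) (.leaf 1076))))) (.node (.node (.node (.node (.leaf 2066) (.leaf 2189)) (.node (.leaf 1734) (.leaf 394))) (.node (.node (.leaf 1596) (.leaf 1770)) (.node (.leaf 954) (.leaf 296)))) (.node (.node (.node (.leaf 153) (.leaf 1272)) (.node (.leaf 249) (.leaf 1157))) (.node (.node (.leaf 143) (.leaf 2352)) (.node (.leaf 836)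 (.leaf 2813)))))) (.node (.node (.node (.node (.node (.leaf 2826) (.leaf 884)) (.node (.leaf 906) (.leaf 1976))) (.node (.node (.leaf 93) (.leaf 1955)) (.node (.leaf 1371) (.leaf 699)))) (.node (.node (.node (.leaf 1897) (.leaf 748)) (.node (.leaf 2053) (.leaf 2219))) (.node (.node (.leaf 1292) (.leaf 2822)) (.node (.leaf 2091) (.leaf 1104))))) (.node (.node (.node (.node (.leaf 131) (.leaf 318)) (.node (.leaf 2234) (.leaf 241))) (.node (.node (.leaf 773) (.leaf 2520)) (.node (.leaf 242) (.leaf 78)))) (.node (.node (.node (.leaf 846) (.leaf 1399)) (.node (.leaf 2269) (.leaf 2598))) (.node (.node (.leaf 2493) (.leaf 297)) (.node (.leaf 2180) (.leaf 1411))))))) (.node (.node (.node (.node (.node (.node (.leaf 2500) (.leaf 2043)) (.node (.leaf 933) (.leaf 2309))) (.node (.node (.leaf 150) (.leaf 2615)) (.node (.leaf 519) (.leaf 1180)))) (.node (.node (.node (.leaf 2531) (.leaf 2569)) (.node (.leaf 1783) (.leaf 2483))) (.node (.node (.leaf 2147) (.leaf 991)) (.node (.leaf 821) (.leaf 1402))))) (.node (.node (.node (.node (.leaf 1258) (.leaf 2570)) (.node (.leaf 2389) (.leaf 58))) (.node (.node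 (.leaf 746) (.leaf 931)) (.node (.leaf 1541) (.leaf 2285)))) (.node (.node (.node (.leaf 120) (.leaf 2213)) (.node (.leaf 1992) (.leaf 555))) (.node (.node (.leaf 1178) (.leaf 918)) (.node (.leaf 1000) (.leaf 1015)))))) (.node (.node (.node (.node (.node (.leaf 2642) (.leaf 2555)) (.node (.leaf 1379) (.leaf 1618))) (.node (.node (.leaf 1053) (.leaf 266)) (.node (.leaf 1625) (.leaf 2685)))) (.node (.node (.node (.leaf 2726) (.leaf 1554)) (.node (.leaf 50) (.leaf 738))) (.node (.node (.leaf 2690) (.leaf 42)) (.node (.leaf 1803) (.leaf 1562))))) (.node (.node (.node (.node (.leaf 77) (.leaf 2625)) (.node (.leaf 2101) (.leaf 2094))) (.node (.node (.leaf 2716) (.leaf 1491)) (.node (.leaf 652) (.leaf 2160)))) (.node (.node (.node (.leaf 598) (.leaf 1256)) (.node (.leaf 2359) (.leaf 613))) (.node (.node (.leaf 1898) (.leaf 2473)) (.node (.leaf 1126) (.leaf 195))))))))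

def k2Srt_1 : H52.TCert.Tr := .node (.node (.node (.node (.node (.node (.node (.node (.leaf 2221) (.leaf 1121)) (.node (.leaf 2193) (.leaf 760))) (.node (.node (.leaf 666) (.leaf 771)) (.node (.leaf 858) (.leaf 1878)))) (.node (.node (.node (.leaf 614) (.leaf 1461)) (.node (.leaf 1648) (.leaf 510))) (.node (.node (.leaf 1548) (.leaf 1984)) (.node (.leaf 1417) (.leaf 464))))) (.node (.node (.node (.node (.leaf 2391) (.leaf 1642)) (.node (.leaf 279) (.leaf 1575))) (.node (.node (.leaf 1675) (.leaf 2376)) (.node (.leaf 2181) (.leaf 1110)))) (.node (.node (.node (.leaf 728) (.leaf 1751)) (.node (.leaf 2490) (.leaf 2665))) (.node (.node (.leaf 1221) (.leaf 1241)) (.node (.leaf 2277) (.leaf 1170)))))) (.node (.node (.node (.node (.node (.leaf 934) (.leaf 654)) (.node (.leaf 2764) (.leaf 1327))) (.node (.node (.leaf 1693) (.leaf 1079)) (.node (.leaf 2449) (.leaf 752)))) (.node (.node (.node (.leaf 2059) (.leaf 632)) (.node (.leaf 1279) (.leaf 2130))) (.node (.node (.leaf 2225) (.leaf 1107)) (.node (.leaf 734) (.leaf 2013))))) (.node (.node (.node (.node (.leaf 1527) (.leaf 16)) (.node (.leaf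 302) (.leaf 2154))) (.node (.node (.leaf 1654) (.leaf 1733)) (.node (.leaf 2172) (.leaf 1445)))) (.node (.node (.node (.leaf 820) (.leaf 1477)) (.node (.leaf 1712) (.leaf 371))) (.node (.node (.leaf 1872) (.leaf 1628)) (.node (.leaf 667) (.leaf 2585))))))) (.node (.node (.node (.node (.node (.node (.leaf 2222) (.leaf 1153)) (.node (.leaf 1807) (.leaf 1706))) (.node (.node (.leaf 508) (.leaf 575)) (.node (.leaf 60) (.leaf 1160)))) (.node (.node (.node (.leaf 1056) (.leaf 1822)) (.node (.leaf 1727) (.leaf 1549))) (.node (.node (.leaf 720) (.leaf 2581)) (.node (.leaf 2128) (.leaf 333))))) (.node (.node (.node (.node (.leaf 1400) (.leaf 2423)) (.node (.leaf 37) (.leaf 1465))) (.node (.node (.leaf 1874) (.leaf 853)) (.node (.leaf 2845) (.leaf 130)))) (.node (.node (.node (.leaf 1150) (.leaf 1560)) (.node (.leaf 247) (.leaf 2772))) (.node (.node (.leaf 259) (.leaf 1172)) (.node (.leaf 517) (.leaf 15)))))) (.node (.node (.node (.node (.node (.leaf 2113) (.leaf 724)) (.node (.leaf 1363) (.leaf 655))) (.node (.node (.leaf 197) (.leaf 2142)) (.node (.leaf 2717) (.leaf 740)))) (.node (.node (.node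 (.leaf 1111) (.leaf 36)) (.node (.leaf 2185) (.leaf 1711))) (.node (.node (.leaf 1405) (.leaf 1854)) (.node (.leaf 2677) (.leaf 2313))))) (.node (.node (.node (.node (.leaf 477) (.leaf 2576)) (.node (.leaf 2786) (.leaf 1203))) (.node (.node (.leaf 199) (.leaf 2751)) (.node (.leaf 1412) (.leaf 73)))) (.node (.node (.node (.leaf 1595) (.leaf 2730)) (.node (.leaf 1200) (.leaf 1508))) (.node (.node (.leaf 395) (.leaf 1735)) (.node (.leaf 608) (.leaf 546)))))))) (.node (.node (.node (.node (.node (.node (.node (.leaf 1939) (.leaf 1516)) (.node (.leaf 1795) (.leaf 335))) (.node (.node (.leaf 79) (.leaf 2200)) (.node (.leaf 2452) (.leaf 2407)))) (.node (.node (.node (.leaf 1311) (.leaf 1886)) (.node (.leaf 781) (.leaf 2387))) (.node (.node (.leaf 2255) (.leaf 792)) (.node (.leaf 2239) (.leaf 207))))) (.node (.node (.node (.node (.leaf 2533) (.leaf 2606)) (.node (.leaf 811) (.leaf 1677))) (.node (.node (.leaf 272) (.leaf 2528)) (.node (.leaf 1418) (.leaf 568)))) (.node (.node (.node (.leaf 2242) (.leaf 2722)) (.node (.leaf 1191) (.leaf 364))) (.node (.node (.leaf 1839) (.leaf 2333)) (.node (.leaf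 1487) (.leaf 2340)))))) (.node (.node (.node (.node (.node (.leaf 723) (.leaf 1676)) (.node (.leaf 2471) (.leaf 1994))) (.node (.node (.leaf 1538) (.leaf 1449)) (.node (.leaf 167) (.leaf 1797)))) (.node (.node (.node (.leaf 535) (.leaf 873)) (.node (.leaf 711) (.leaf 2261))) (.node (.node (.leaf 808) (.leaf 2830)) (.node (.leaf 2525) (.leaf 2129))))) (.node (.node (.node (.node (.leaf 1892) (.leaf 2093)) (.node (.leaf 1916) (.leaf 119))) (.node (.node (.leaf 988) (.leaf 488)) (.node (.leaf 2829) (.leaf 684)))) (.node (.node (.node (.leaf 2061) (.leaf 1847)) (.node (.leaf 352) (.leaf 2156))) (.node (.node (.leaf 2841) (.leaf 425)) (.node (.leaf 2419) (.leaf 104))))))) (.node (.node (.node (.node (.node (.node (.leaf 2299) (.leaf 1790)) (.node (.leaf 2632) (.leaf 107))) (.node (.node (.leaf 162) (.leaf 2664)) (.node (.leaf 2444) (.leaf 313)))) (.node (.node (.node (.leaf 2491) (.leaf 118)) (.node (.leaf 2418) (.leaf 1202))) (.node (.node (.leaf 2724) (.leaf 1574)) (.node (.leaf 1689) (.leaf 1809))))) (.node (.node (.node (.node (.leaf 413) (.leaf 603)) (.node (.leaf 2640) (.leaf 1225)))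 (.node (.node (.leaf 1737) (.leaf 264)) (.node (.leaf 40) (.leaf 2073)))) (.node (.node (.node (.leaf 401) (.leaf 1017)) (.node (.leaf 1090) (.leaf 2472))) (.node (.node (.leaf 7) (.leaf 1042)) (.node (.leaf 803) (.leaf 260)))))) (.node (.node (.node (.node (.node (.leaf 399) (.leaf 1440)) (.node (.leaf 312) (.leaf 2081))) (.node (.node (.leaf 2438) (.leaf 804)) (.node (.leaf 1404) (.leaf 1270)))) (.node (.node (.node (.leaf 1535) (.leaf 537)) (.node (.leaf 2790) (.leaf 600))) (.node (.node (.leaf 686) (.leaf 559)) (.node (.leaf 311) (.leaf 2869))))) (.node (.node (.node (.node (.leaf 1105) (.leaf 1385)) (.node (.leaf 2106) (.leaf 482))) (.node (.node (.leaf 1730) (.leaf 1684)) (.node (.leaf 367) (.leaf 2587)))) (.node (.node (.node (.leaf 489) (.leaf 989)) (.node (.leaf 822) (.leaf 1478))) (.node (.node (.leaf 2183) (.leaf 1413)) (.node (.leaf 1018) (.leaf 694))))))))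

def k2Srt_2 : H52.TCert.Tr := .node (.node (.node (.node (.node (.node (.node (.node (.leaf 1050) (.leaf 2380)) (.node (.leaf 2840) (.leaf 328))) (.node (.node (.leaf 1058) (.leaf 1824)) (.node (.leaf 1594) (.leaf 2151)))) (.node (.node (.node (.leaf 1119) (.leaf 814)) (.node (.leaf 2768) (.leaf 2877))) (.node (.node (.leaf 1474) (.leaf 659)) (.node (.leaf 2051) (.leaf 1137))))) (.node (.node (.node (.node (.leaf 47) (.leaf 1274)) (.node (.leaf 2033) (.leaf 202))) (.node (.node (.leaf 1088) (.leaf 1761)) (.node (.leaf 2270) (.leaf 446)))) (.node (.node (.node (.leaf 1499) (.leaf 2204)) (.node (.leaf 592) (.leaf 163))) (.node (.node (.leaf 2362) (.leaf 2312)) (.node (.leaf 2015) (.leaf 1686)))))) (.node (.node (.node (.node (.node (.leaf 1707) (.leaf 2135)) (.node (.leaf 327) (.leaf 2618))) (.node (.node (.leaf 1260) (.leaf 844)) (.node (.leaf 2442) (.leaf 1679)))) (.node (.node (.node (.leaf 810) (.leaf 1850)) (.node (.leaf 986) (.leaf 1852))) (.node (.node (.leaf 2480) (.leaf 94)) (.node (.leaf 587) (.leaf 852))))) (.node (.node (.node (.node (.leaf 938) (.leaf 372)) (.node (.leaf 2758)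 (.leaf 412))) (.node (.node (.leaf 2796) (.leaf 2564)) (.node (.leaf 1592) (.leaf 1)))) (.node (.node (.node (.leaf 1841) (.leaf 2252)) (.node (.leaf 2653) (.leaf 1621))) (.node (.node (.leaf 1777) (.leaf 1420)) (.node (.leaf 124) (.leaf 712))))))) (.node (.node (.node (.node (.node (.node (.leaf 1913) (.leaf 995)) (.node (.leaf 1353) (.leaf 2292))) (.node (.node (.leaf 483) (.leaf 2107)) (.node (.leaf 214) (.leaf 461)))) (.node (.node (.node (.leaf 228) (.leaf 1316)) (.node (.leaf 2315) (.leaf 1032))) (.node (.node (.leaf 809) (.leaf 2124)) (.node (.leaf 2408) (.leaf 1396))))) (.node (.node (.node (.node (.leaf 102) (.leaf 1452)) (.node (.leaf 1982) (.leaf 1095))) (.node (.node (.leaf 1414) (.leaf 1346)) (.node (.leaf 1744) (.leaf 1264)))) (.node (.node (.node (.leaf 2096) (.leaf 2177)) (.node (.leaf 1065) (.leaf 943))) (.node (.node (.leaf 581) (.leaf 2054)) (.node (.leaf 2358) (.leaf 2527)))))) (.node (.node (.node (.node (.node (.leaf 2011) (.leaf 2776)) (.node (.leaf 1718) (.leaf 2275))) (.node (.node (.leaf 951) (.leaf 1667)) (.node (.leaf 1779) (.leaf 708)))) (.node (.node (.node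 (.leaf 356) (.leaf 863)) (.node (.leaf 2390) (.leaf 1112))) (.node (.node (.leaf 2683) (.leaf 2823)) (.node (.leaf 2603) (.leaf 835))))) (.node (.node (.node (.node (.leaf 409) (.leaf 831)) (.node (.leaf 1331) (.leaf 72))) (.node (.node (.leaf 1159) (.leaf 1237)) (.node (.leaf 2672) (.leaf 470)))) (.node (.node (.node (.leaf 423) (.leaf 790)) (.node (.leaf 213) (.leaf 1935))) (.node (.node (.leaf 1762) (.leaf 737)) (.node (.leaf 914) (.leaf 2745)))))))) (.node (.node (.node (.node (.node (.node (.node (.leaf 2750) (.leaf 1444)) (.node (.leaf 1451) (.leaf 2125))) (.node (.node (.leaf 1873) (.leaf 776)) (.node (.leaf 2300) (.leaf 539)))) (.node (.node (.node (.leaf 38) (.leaf 1682)) (.node (.leaf 1871) (.leaf 1973))) (.node (.node (.leaf 673) (.leaf 2517)) (.node (.leaf 283) (.leaf 2235))))) (.node (.node (.node (.node (.leaf 543) (.leaf 2298)) (.node (.leaf 2806) (.leaf 2540))) (.node (.node (.leaf 1004) (.leaf 5)) (.node (.leaf 1957) (.leaf 2561)))) (.node (.node (.node (.leaf 2034) (.leaf 1340)) (.node (.leaf 1799) (.leaf 2844))) (.node (.node (.leaf 55) (.leaf 1060)) (.node (.leaf 419)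 (.leaf 787)))))) (.node (.node (.node (.node (.node (.leaf 2056) (.leaf 2762)) (.node (.leaf 2164) (.leaf 2044))) (.node (.node (.leaf 953) (.leaf 1715)) (.node (.leaf 949) (.leaf 362)))) (.node (.node (.node (.leaf 561) (.leaf 1230)) (.node (.leaf 511) (.leaf 779))) (.node (.node (.leaf 2116) (.leaf 444)) (.node (.leaf 893) (.leaf 2785))))) (.node (.node (.node (.node (.leaf 20) (.leaf 177)) (.node (.leaf 1593) (.leaf 1031))) (.node (.node (.leaf 2098) (.leaf 1224)) (.node (.leaf 905) (.leaf 2086)))) (.node (.node (.node (.leaf 713) (.leaf 1893)) (.node (.leaf 2361) (.leaf 901))) (.node (.node (.leaf 1040) (.leaf 764)) (.node (.leaf 1631) (.leaf 2755))))))) (.node (.node (.node (.node (.node (.node (.leaf 1348) (.leaf 1819)) (.node (.leaf 1714) (.leaf 269))) (.node (.node (.leaf 152) (.leaf 1672)) (.node (.leaf 1739) (.leaf 2712)))) (.node (.node (.node (.leaf 1232) (.leaf 354)) (.node (.leaf 2412) (.leaf 1611))) (.node (.node (.leaf 1570) (.leaf 315)) (.node (.leaf 2819) (.leaf 2711))))) (.node (.node (.node (.node (.leaf 2681) (.leaf 717)) (.node (.leaf 1318) (.leaf 1552))) (.node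 (.node (.leaf 331) (.leaf 2145)) (.node (.leaf 1464) (.leaf 431)))) (.node (.node (.node (.leaf 2353) (.leaf 1829)) (.node (.leaf 1255) (.leaf 840))) (.node (.node (.leaf 797) (.leaf 1661)) (.node (.leaf 876) (.leaf 605)))))) (.node (.node (.node (.node (.node (.leaf 923) (.leaf 1582)) (.node (.leaf 834) (.leaf 2566))) (.node (.node (.leaf 621) (.leaf 1143)) (.node (.leaf 1900) (.leaf 2604)))) (.node (.node (.node (.leaf 1888) (.leaf 500)) (.node (.leaf 979) (.leaf 875))) (.node (.node (.leaf 2660) (.leaf 1094)) (.node (.leaf 721) (.leaf 2064))))) (.node (.node (.node (.node (.leaf 1364) (.leaf 656)) (.node (.leaf 2140) (.leaf 1840))) (.node (.node (.leaf 1760) (.leaf 1087)) (.node (.leaf 1201) (.leaf 1518)))) (.node (.node (.node (.leaf 387) (.leaf 484)) (.node (.leaf 2296) (.leaf 2249))) (.node (.node (.leaf 2694) (.leaf 1656)) (.node (.leaf 3) (.leaf 2820))))))))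

def k2Srt_3 : H52.TCert.Tr := .node (.node (.node (.node (.node (.node (.node (.node (.leaf 2415) (.leaf 1941)) (.node (.leaf 405) (.leaf 56))) (.node (.node (.leaf 2454) (.leaf 780)) (.node (.leaf 496) (.leaf 1539)))) (.node (.node (.node (.leaf 184) (.leaf 1133)) (.node (.leaf 307) (.leaf 627))) (.node (.node (.leaf 947) (.leaf 1557)) (.node (.leaf 825) (.leaf 1481))))) (.node (.node (.node (.node (.leaf 2689) (.leaf 43)) (.node (.leaf 116) (.leaf 813))) (.node (.node (.leaf 919) (.leaf 1179)) (.node (.leaf 1266) (.leaf 927)))) (.node (.node (.node (.leaf 410) (.leaf 832)) (.node (.leaf 567) (.leaf 257))) (.node (.node (.leaf 679) (.leaf 2039)) (.node (.leaf 2108) (.leaf 1817)))))) (.node (.node (.node (.node (.node (.leaf 2157) (.leaf 591)) (.node (.leaf 1918) (.leaf 2082))) (.node (.node (.leaf 2346) (.leaf 2456)) (.node (.leaf 2080) (.leaf 2663)))) (.node (.node (.node (.leaf 2608) (.leaf 1703)) (.node (.leaf 795) (.leaf 2521))) (.node (.node (.leaf 523) (.leaf 2321)) (.node (.leaf 1210) (.leaf 948))))) (.node (.node (.node (.node (.leaf 512) (.leaf 1483)) (.node (.leaf 2178) (.leaf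 414))) (.node (.node (.leaf 2351) (.leaf 658)) (.node (.leaf 1853) (.leaf 987)))) (.node (.node (.node (.leaf 2631) (.leaf 2257)) (.node (.leaf 1906) (.leaf 404))) (.node (.node (.leaf 750) (.leaf 672)) (.node (.leaf 904) (.leaf 2085))))))) (.node (.node (.node (.node (.node (.node (.leaf 619) (.leaf 1141)) (.node (.leaf 578) (.leaf 2247))) (.node (.node (.leaf 2857) (.leaf 1267)) (.node (.leaf 2159) (.leaf 651)))) (.node (.node (.node (.leaf 321) (.leaf 865)) (.node (.leaf 1800) (.leaf 634))) (.node (.node (.leaf 1342) (.leaf 2176)) (.node (.leaf 1641) (.leaf 1514))))) (.node (.node (.node (.node (.leaf 1457) (.leaf 2294)) (.node (.leaf 2586) (.leaf 1447))) (.node (.node (.leaf 1028) (.leaf 344)) (.node (.leaf 2406) (.leaf 84)))) (.node (.node (.node (.leaf 1074) (.leaf 1755)) (.node (.leaf 1604) (.leaf 628))) (.node (.node (.leaf 514) (.leaf 1038)) (.node (.leaf 2273) (.leaf 198)))))) (.node (.node (.node (.node (.node (.leaf 1701) (.leaf 34)) (.node (.leaf 1020) (.leaf 1940))) (.node (.node (.leaf 1030) (.leaf 2736)) (.node (.leaf 2495) (.leaf 2584)))) (.node (.node (.node (.leaf 2366)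 (.leaf 1806)) (.node (.leaf 2667) (.leaf 430))) (.node (.node (.leaf 2635) (.leaf 1261)) (.node (.leaf 429) (.leaf 282))))) (.node (.node (.node (.node (.leaf 2155) (.leaf 351)) (.node (.leaf 683) (.leaf 1003))) (.node (.node (.leaf 1416) (.leaf 101)) (.node (.leaf 2388) (.leaf 2060)))) (.node (.node (.node (.leaf 691) (.leaf 2629)) (.node (.leaf 1326) (.leaf 1351))) (.node (.node (.leaf 1796) (.leaf 336)) (.node (.leaf 1844) (.leaf 2004)))))))) (.node (.node (.node (.node (.node (.node (.node (.leaf 534) (.leaf 872)) (.node (.leaf 2075) (.leaf 2654))) (.node (.node (.leaf 2749) (.leaf 1601)) (.node (.leaf 330) (.leaf 2144)))) (.node (.node (.node (.leaf 337) (.leaf 1450)) (.node (.leaf 96) (.leaf 1148))) (.node (.node (.leaf 2670) (.leaf 1929)) (.node (.leaf 2486) (.leaf 106))))) (.node (.node (.node (.node (.leaf 2497) (.leaf 2342)) (.node (.leaf 1166) (.leaf 529))) (.node (.node (.leaf 841) (.leaf 1164)) (.node (.leaf 1691) (.leaf 1146)))) (.node (.node (.node (.leaf 1082) (.leaf 1696)) (.node (.leaf 1046) (.leaf 168))) (.node (.node (.leaf 323) (.leaf 867)) (.node (.leaf 732) (.leaf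 1519)))))) (.node (.node (.node (.node (.node (.leaf 1315) (.leaf 2678)) (.node (.leaf 959) (.leaf 2317))) (.node (.node (.leaf 2852) (.leaf 1132)) (.node (.leaf 2305) (.leaf 604)))) (.node (.node (.node (.leaf 243) (.leaf 1231)) (.node (.leaf 2713) (.leaf 1528))) (.node (.node (.leaf 2788) (.leaf 441)) (.node (.leaf 246) (.leaf 2201))))) (.node (.node (.node (.node (.leaf 878) (.leaf 1008)) (.node (.leaf 1027) (.leaf 438))) (.node (.node (.leaf 2514) (.leaf 157)) (.node (.leaf 793) (.leaf 2611)))) (.node (.node (.node (.leaf 1199) (.leaf 2488)) (.node (.leaf 2805) (.leaf 366))) (.node (.node (.leaf 1724) (.leaf 1054)) (.node (.leaf 2526) (.leaf 1263))))))) (.node (.node (.node (.node (.node (.node (.leaf 668) (.leaf 1885)) (.node (.leaf 1889) (.leaf 389))) (.node (.node (.leaf 1259) (.leaf 2634)) (.node (.leaf 1122) (.leaf 638)))) (.node (.node (.node (.leaf 1789) (.leaf 2110)) (.node (.leaf 66) (.leaf 1879))) (.node (.node (.leaf 1304) (.leaf 994)) (.node (.leaf 148) (.leaf 2709))))) (.node (.node (.node (.node (.leaf 944) (.leaf 1218)) (.node (.leaf 317) (.leaf 2326))) (.node (.node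 (.leaf 1460) (.leaf 1588)) (.node (.leaf 2701) (.leaf 2)))) (.node (.node (.node (.leaf 909) (.leaf 1494)) (.node (.leaf 618) (.leaf 690))) (.node (.node (.leaf 95) (.leaf 2348)) (.node (.leaf 1970) (.leaf 2795)))))) (.node (.node (.node (.node (.node (.leaf 155) (.leaf 2459)) (.node (.leaf 1297) (.leaf 1792))) (.node (.node (.leaf 2771) (.leaf 2560)) (.node (.leaf 2089) (.leaf 2674)))) (.node (.node (.node (.leaf 1716) (.leaf 2523)) (.node (.leaf 491) (.leaf 2789))) (.node (.node (.leaf 1785) (.leaf 562)) (.node (.leaf 2422) (.leaf 950))))) (.node (.node (.node (.node (.leaf 868) (.leaf 21)) (.node (.leaf 1354) (.leaf 1636))) (.node (.node (.leaf 2767) (.leaf 271)) (.node (.leaf 1281) (.leaf 2099)))) (.node (.node (.node (.leaf 1276) (.leaf 1986)) (.node (.leaf 2601) (.leaf 1794))) (.node (.node (.leaf 2794) (.leaf 2735)) (.node (.leaf 2063) (.leaf 544))))))))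

def k2Srt_4 : H52.TCert.Tr := .node (.node (.node (.node (.node (.node (.node (.node (.leaf 1407) (.leaf 985)) (.node (.leaf 759) (.leaf 2192))) (.node (.node (.leaf 2668) (.leaf 2001)) (.node (.leaf 407) (.leaf 2000)))) (.node (.node (.node (.leaf 997) (.leaf 1658)) (.node (.leaf 2447) (.leaf 2475))) (.node (.node (.leaf 2083) (.leaf 1155)) (.node (.leaf 1505) (.leaf 2167))))) (.node (.node (.node (.node (.leaf 13) (.leaf 2600)) (.node (.leaf 361) (.leaf 1476))) (.node (.node (.leaf 2734) (.leaf 1328)) (.node (.leaf 1421) (.leaf 1904)))) (.node (.node (.node (.leaf 2858) (.leaf 2446)) (.node (.leaf 1975) (.leaf 1106))) (.node (.node (.leaf 2421) (.leaf 1533)) (.node (.leaf 44) (.leaf 1144)))))) (.node (.node (.node (.node (.node (.leaf 1142) (.leaf 620)) (.node (.leaf 89) (.leaf 898))) (.node (.node (.leaf 505) (.leaf 1334)) (.node (.leaf 531) (.leaf 1909)))) (.node (.node (.node (.leaf 1320) (.leaf 2817)) (.node (.leaf 1543) (.leaf 549))) (.node (.node (.leaf 2263) (.leaf 1184)) (.node (.leaf 2470) (.leaf 1580))))) (.node (.node (.node (.node (.leaf 2237) (.leaf 2594)) (.node (.leaf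 51) (.leaf 1409))) (.node (.node (.leaf 137) (.leaf 775)) (.node (.leaf 839) (.leaf 2409)))) (.node (.node (.node (.leaf 1617) (.leaf 294)) (.node (.leaf 1728) (.leaf 1301))) (.node (.node (.leaf 1332) (.leaf 1442)) (.node (.leaf 886) (.leaf 189))))))) (.node (.node (.node (.node (.node (.node (.leaf 2405) (.leaf 67)) (.node (.leaf 2218) (.leaf 2264))) (.node (.node (.leaf 736) (.leaf 1917)) (.node (.leaf 984) (.leaf 1851)))) (.node (.node (.node (.leaf 522) (.leaf 1729)) (.node (.leaf 765) (.leaf 1136))) (.node (.node (.leaf 847) (.leaf 377)) (.node (.leaf 1805) (.leaf 144))))) (.node (.node (.node (.node (.leaf 827) (.leaf 1393)) (.node (.leaf 1991) (.leaf 29))) (.node (.node (.leaf 2250) (.leaf 929)) (.node (.leaf 442) (.leaf 232)))) (.node (.node (.node (.leaf 2861) (.leaf 2511)) (.node (.leaf 2370) (.leaf 68))) (.node (.node (.leaf 885) (.leaf 629)) (.node (.leaf 548) (.leaf 2211)))))) (.node (.node (.node (.node (.node (.leaf 2360) (.leaf 751)) (.node (.leaf 2759) (.leaf 1045))) (.node (.node (.leaf 1660) (.leaf 1983)) (.node (.leaf 584) (.leaf 850)))) (.node (.node (.node (.leaf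 816) (.leaf 2474)) (.node (.leaf 2357) (.leaf 1931))) (.node (.node (.leaf 2379) (.leaf 1149)) (.node (.leaf 2345) (.leaf 1584))))) (.node (.node (.node (.node (.leaf 1431) (.leaf 2855)) (.node (.leaf 427) (.leaf 2158))) (.node (.node (.leaf 1810) (.leaf 1495)) (.node (.leaf 1059) (.leaf 611)))) (.node (.node (.node (.leaf 2851) (.leaf 739)) (.node (.leaf 2115) (.leaf 1738))) (.node (.node (.leaf 1517) (.leaf 696)) (.node (.leaf 966) (.leaf 2029)))))))) (.node (.node (.node (.node (.node (.node (.node (.leaf 209) (.leaf 319)) (.node (.leaf 1515) (.leaf 577))) (.node (.node (.leaf 1205) (.leaf 664)) (.node (.leaf 881) (.leaf 1116)))) (.node (.node (.node (.leaf 166) (.leaf 112)) (.node (.leaf 2741) (.leaf 2344))) (.node (.node (.leaf 2602) (.leaf 1597)) (.node (.leaf 2005) (.leaf 1845))))) (.node (.node (.node (.node (.leaf 2621) (.leaf 940)) (.node (.leaf 1246) (.leaf 183))) (.node (.node (.leaf 2195) (.leaf 1383)) (.node (.leaf 2614) (.leaf 971)))) (.node (.node (.node (.leaf 817) (.leaf 1313)) (.node (.leaf 1131) (.leaf 755))) (.node (.node (.leaf 2148) (.leaf 2256)) (.node (.leaf 200)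 (.leaf 1434)))))) (.node (.node (.node (.node (.node (.leaf 1834) (.leaf 2396)) (.node (.leaf 2065) (.leaf 467))) (.node (.node (.leaf 999) (.leaf 2477)) (.node (.leaf 2499) (.leaf 2476)))) (.node (.node (.node (.leaf 1280) (.leaf 1861)) (.node (.leaf 2100) (.leaf 2518))) (.node (.node (.leaf 39) (.leaf 1683)) (.node (.leaf 2505) (.leaf 1022))))) (.node (.node (.node (.node (.leaf 196) (.leaf 2558)) (.node (.leaf 1244) (.leaf 768))) (.node (.node (.leaf 1524) (.leaf 2828)) (.node (.leaf 2165) (.leaf 1156)))) (.node (.node (.node (.leaf 2304) (.leaf 1064)) (.node (.leaf 273) (.leaf 2445))) (.node (.node (.leaf 1978) (.leaf 1329)) (.node (.leaf 756) (.leaf 1967))))))) (.node (.node (.node (.node (.node (.node (.leaf 506) (.leaf 657)) (.node (.leaf 355) (.leaf 1233))) (.node (.node (.leaf 2319) (.leaf 513)) (.node (.leaf 169) (.leaf 1047)))) (.node (.node (.node (.leaf 670) (.leaf 749)) (.node (.leaf 2136) (.leaf 2656))) (.node (.node (.leaf 229) (.leaf 1870)) (.node (.leaf 1453) (.leaf 2669))))) (.node (.node (.node (.node (.leaf 1635) (.leaf 1152)) (.node (.leaf 140) (.leaf 2150))) (.node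 (.node (.leaf 2058) (.leaf 2062)) (.node (.leaf 715) (.leaf 455)))) (.node (.node (.node (.leaf 669) (.leaf 1974)) (.node (.leaf 2466) (.leaf 1168))) (.node (.node (.leaf 2122) (.leaf 1361)) (.node (.leaf 2343) (.leaf 2522)))))) (.node (.node (.node (.node (.node (.leaf 1652) (.leaf 703)) (.node (.leaf 1542) (.leaf 385))) (.node (.node (.leaf 545) (.leaf 23)) (.node (.leaf 2320) (.leaf 518)))) (.node (.node (.node (.leaf 625) (.leaf 125)) (.node (.leaf 2133) (.leaf 2846))) (.node (.node (.leaf 1705) (.leaf 396)) (.node (.leaf 564) (.leaf 239))))) (.node (.node (.node (.node (.leaf 2644) (.leaf 173)) (.node (.leaf 2568) (.leaf 977))) (.node (.node (.leaf 1510) (.leaf 1036)) (.node (.leaf 2260) (.leaf 706)))) (.node (.node (.node (.leaf 1238) (.leaf 456)) (.node (.leaf 924) (.leaf 2230))) (.node (.node (.leaf 856) (.leaf 837)) (.node (.leaf 1842) (.leaf 1438))))))))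

def k2Srt_5 : H52.TCert.Tr := .node (.node (.node (.node (.node (.node (.node (.node (.leaf 2620) (.leaf 1493)) (.node (.leaf 1953) (.leaf 911))) (.node (.node (.leaf 2590) (.leaf 2502)) (.node (.leaf 495) (.leaf 913)))) (.node (.node (.node (.leaf 1665) (.leaf 57)) (.node (.leaf 2680) (.leaf 1367))) (.node (.node (.leaf 123) (.leaf 494)) (.node (.leaf 1419) (.leaf 1776))))) (.node (.node (.node (.node (.leaf 2467) (.leaf 993)) (.node (.leaf 203) (.leaf 593))) (.node (.node (.leaf 807) (.leaf 201)) (.node (.leaf 1565) (.leaf 286)))) (.node (.node (.node (.leaf 1033) (.leaf 1289)) (.node (.leaf 1697) (.leaf 1525))) (.node (.node (.leaf 980) (.leaf 2199)) (.node (.leaf 1933) (.leaf 695)))))) (.node (.node (.node (.node (.node (.leaf 1547) (.leaf 374)) (.node (.leaf 601) (.leaf 2807))) (.node (.node (.leaf 2559) (.leaf 1858)) (.node (.leaf 52) (.leaf 2496)))) (.node (.node (.node (.leaf 1080) (.leaf 1757)) (.node (.leaf 1988) (.leaf 1695))) (.node (.node (.leaf 2371) (.leaf 497)) (.node (.leaf 1163) (.leaf 596))))) (.node (.node (.node (.node (.leaf 1502) (.leaf 1999)) (.node (.leaf 1670)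 (.leaf 2519))) (.node (.node (.leaf 226) (.leaf 1338)) (.node (.leaf 2097) (.leaf 2411)))) (.node (.node (.node (.leaf 81) (.leaf 1147)) (.node (.leaf 381) (.leaf 930))) (.node (.node (.leaf 1306) (.leaf 2394)) (.node (.leaf 1558) (.leaf 946))))))) (.node (.node (.node (.node (.node (.node (.leaf 599) (.leaf 2742)) (.node (.leaf 783) (.leaf 415))) (.node (.node (.leaf 1742) (.leaf 845)) (.node (.leaf 1360) (.leaf 1674)))) (.node (.node (.node (.leaf 2692) (.leaf 2815)) (.node (.leaf 1120) (.leaf 1072))) (.node (.node (.leaf 526) (.leaf 1646)) (.node (.leaf 1436) (.leaf 1066))))) (.node (.node (.node (.node (.leaf 800) (.leaf 2671)) (.node (.leaf 2274) (.leaf 1867))) (.node (.node (.leaf 1458) (.leaf 2052)) (.node (.leaf 2562) (.leaf 1271)))) (.node (.node (.node (.leaf 1339) (.leaf 27)) (.node (.leaf 8) (.leaf 714))) (.node (.node (.leaf 2433) (.leaf 735)) (.node (.leaf 1302) (.leaf 2780)))))) (.node (.node (.node (.node (.node (.leaf 2262) (.leaf 649)) (.node (.leaf 2605) (.leaf 277))) (.node (.node (.leaf 1356) (.leaf 1586)) (.node (.leaf 961) (.leaf 2395)))) (.node (.node (.node (.leaf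 586) (.leaf 851)) (.node (.leaf 899) (.leaf 2609))) (.node (.node (.leaf 2553) (.leaf 1025)) (.node (.leaf 1228) (.leaf 554))))) (.node (.node (.node (.node (.leaf 2808) (.leaf 2676)) (.node (.leaf 910) (.leaf 2434))) (.node (.node (.leaf 1700) (.leaf 1428)) (.node (.leaf 541) (.leaf 2430)))) (.node (.node (.node (.leaf 1778) (.leaf 1880)) (.node (.leaf 2597) (.leaf 2769))) (.node (.node (.leaf 1498) (.leaf 2383)) (.node (.leaf 857) (.leaf 1877)))))))) (.node (.node (.node (.node (.node (.node (.node (.leaf 532) (.leaf 1820)) (.node (.leaf 2238) (.leaf 1296))) (.node (.node (.leaf 2170) (.leaf 2382)) (.node (.leaf 1171) (.leaf 828)))) (.node (.node (.node (.leaf 220) (.leaf 1283)) (.node (.leaf 176) (.leaf 2288))) (.node (.node (.leaf 2132) (.leaf 1616)) (.node (.leaf 400) (.leaf 1441))))) (.node (.node (.node (.node (.leaf 288) (.leaf 2175)) (.node (.leaf 1830) (.leaf 19))) (.node (.node (.leaf 642) (.leaf 533)) (.node (.leaf 1253) (.leaf 1536)))) (.node (.node (.node (.leaf 1964) (.leaf 733)) (.node (.leaf 1788) (.leaf 2302))) (.node (.node (.leaf 1277) (.leaf 2675)) (.node (.leaf 1386)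 (.leaf 1254)))))) (.node (.node (.node (.node (.node (.leaf 2231) (.leaf 1467)) (.node (.leaf 164) (.leaf 2849))) (.node (.node (.leaf 1308) (.leaf 1590)) (.node (.leaf 498) (.leaf 159)))) (.node (.node (.node (.leaf 1309) (.leaf 1175)) (.node (.leaf 1010) (.leaf 2077))) (.node (.node (.leaf 1780) (.leaf 709)) (.node (.leaf 796) (.leaf 2002))))) (.node (.node (.node (.node (.leaf 250) (.leaf 2860)) (.node (.leaf 1035) (.leaf 1910))) (.node (.node (.leaf 2547) (.leaf 2287)) (.node (.leaf 566) (.leaf 160)))) (.node (.node (.node (.leaf 869) (.leaf 1802)) (.node (.leaf 860) (.leaf 1189))) (.node (.node (.leaf 2572) (.leaf 1300)) (.node (.leaf 778) (.leaf 1765))))))) (.node (.node (.node (.node (.node (.node (.leaf 11) (.leaf 2186)) (.node (.leaf 2847) (.leaf 1578))) (.node (.node (.leaf 1671) (.leaf 151)) (.node (.leaf 2324) (.leaf 2633)))) (.node (.node (.node (.leaf 1685) (.leaf 1968)) (.node (.leaf 983) (.leaf 1466))) (.node (.node (.leaf 1961) (.leaf 1645)) (.node (.leaf 2440) (.leaf 2335))))) (.node (.node (.node (.node (.leaf 1598) (.leaf 2079)) (.node (.leaf 1899) (.leaf 2628))) (.node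 (.node (.leaf 2797) (.leaf 2016)) (.node (.leaf 1071) (.leaf 1754)))) (.node (.node (.node (.leaf 1561) (.leaf 1692)) (.node (.leaf 501) (.leaf 1937))) (.node (.node (.leaf 1117) (.leaf 26)) (.node (.leaf 390) (.leaf 2544)))))) (.node (.node (.node (.node (.node (.leaf 1862) (.leaf 1833)) (.node (.leaf 1427) (.leaf 2673))) (.node (.node (.leaf 900) (.leaf 2765)) (.node (.leaf 61) (.leaf 502)))) (.node (.node (.node (.leaf 2245) (.leaf 766)) (.node (.leaf 973) (.leaf 1977))) (.node (.node (.leaf 134) (.leaf 1865)) (.node (.leaf 908) (.leaf 1868))))) (.node (.node (.node (.node (.leaf 1768) (.leaf 1607)) (.node (.leaf 2697) (.leaf 2143))) (.node (.node (.leaf 2695) (.leaf 1694)) (.node (.leaf 113) (.leaf 2279)))) (.node (.node (.node (.leaf 1947) (.leaf 2289)) (.node (.leaf 1781) (.leaf 710))) (.node (.node (.leaf 697) (.leaf 1649)) (.node (.leaf 2441) (.leaf 2337))))))))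

def k2Srt_6 : H52.TCert.Tr := .node (.node (.node (.node (.node (.node (.node (.node (.leaf 1615) (.leaf 2306)) (.node (.leaf 2007) (.leaf 1341))) (.node (.node (.leaf 2087) (.leaf 434)) (.node (.leaf 308) (.leaf 576)))) (.node (.node (.node (.leaf 2092) (.leaf 2067)) (.node (.leaf 382) (.leaf 2084))) (.node (.node (.leaf 1704) (.leaf 2599)) (.node (.leaf 275) (.leaf 1229))))) (.node (.node (.node (.node (.leaf 1286) (.leaf 1713)) (.node (.leaf 1102) (.leaf 2809))) (.node (.node (.leaf 1623) (.leaf 1637)) (.node (.leaf 639) (.leaf 1123)))) (.node (.node (.node (.leaf 2843) (.leaf 956)) (.node (.leaf 1782) (.leaf 1749))) (.node (.node (.leaf 1579) (.leaf 2731)) (.node (.leaf 1239) (.leaf 398)))))) (.node (.node (.node (.node (.node (.leaf 2703) (.leaf 338)) (.node (.leaf 359) (.leaf 920))) (.node (.node (.leaf 490) (.leaf 990)) (.node (.leaf 2850) (.leaf 1521)))) (.node (.node (.node (.leaf 970) (.leaf 2666)) (.node (.leaf 2503) (.leaf 1455))) (.node (.node (.leaf 251) (.leaf 2435)) (.node (.leaf 403) (.leaf 2800))))) (.node (.node (.node (.node (.leaf 1330) (.leaf 71)) (.node (.leaf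 2428) (.leaf 1717))) (.node (.node (.leaf 1382) (.leaf 2431)) (.node (.leaf 2836) (.leaf 2040)))) (.node (.node (.node (.leaf 1823) (.leaf 1057)) (.node (.leaf 465) (.leaf 1193))) (.node (.node (.leaf 476) (.leaf 2402)) (.node (.leaf 204) (.leaf 1086))))))) (.node (.node (.node (.node (.node (.node (.leaf 1242) (.leaf 59)) (.node (.leaf 2834) (.leaf 1709))) (.node (.node (.leaf 1581) (.leaf 244)) (.node (.leaf 1299) (.leaf 2571)))) (.node (.node (.node (.leaf 1721) (.leaf 1812)) (.node (.leaf 292) (.leaf 146))) (.node (.node (.leaf 1887) (.leaf 2038)) (.node (.leaf 616) (.leaf 688))))) (.node (.node (.node (.node (.leaf 1653) (.leaf 704)) (.node (.leaf 2583) (.leaf 754))) (.node (.node (.leaf 121) (.leaf 2373)) (.node (.leaf 2416) (.leaf 542)))) (.node (.node (.node (.leaf 747) (.leaf 963)) (.node (.leaf 556) (.leaf 585))) (.node (.node (.leaf 2258) (.leaf 1048)) (.node (.leaf 1319) (.leaf 2793)))))) (.node (.node (.node (.node (.node (.leaf 418) (.leaf 786)) (.node (.leaf 2506) (.leaf 2010))) (.node (.node (.leaf 2702) (.leaf 2539)) (.node (.leaf 1480) (.leaf 824)))) (.node (.node (.node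 (.leaf 2349) (.leaf 437)) (.node (.leaf 2171) (.leaf 2856))) (.node (.node (.leaf 2331) (.leaf 731)) (.node (.leaf 2457) (.leaf 2347))))) (.node (.node (.node (.node (.leaf 97) (.leaf 1214)) (.node (.leaf 2865) (.leaf 753))) (.node (.node (.leaf 1544) (.leaf 637)) (.node (.leaf 1401) (.leaf 290)))) (.node (.node (.node (.leaf 2753) (.leaf 132)) (.node (.leaf 939) (.leaf 1614))) (.node (.node (.leaf 1832) (.leaf 922)) (.node (.leaf 240) (.leaf 1681)))))))) (.node (.node (.node (.node (.node (.node (.node (.leaf 2209) (.leaf 1772)) (.node (.leaf 1638) (.leaf 2827))) (.node (.node (.leaf 1446) (.leaf 623)) (.node (.leaf 1949) (.leaf 270)))) (.node (.node (.node (.leaf 550) (.leaf 2662)) (.node (.leaf 2410) (.leaf 1513))) (.node (.node (.leaf 1644) (.leaf 1251)) (.node (.leaf 1162) (.leaf 595))))) (.node (.node (.node (.node (.leaf 1336) (.leaf 22)) (.node (.leaf 2322) (.leaf 524))) (.node (.node (.leaf 633) (.leaf 1454)) (.node (.leaf 932) (.leaf 1627)))) (.node (.node (.node (.leaf 2801) (.leaf 1966)) (.node (.leaf 975) (.leaf 1388))) (.node (.node (.leaf 2727) (.leaf 1979)) (.node (.leaf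 1540) (.leaf 2008)))))) (.node (.node (.node (.node (.node (.leaf 896) (.leaf 1698)) (.node (.leaf 2739) (.leaf 1573))) (.node (.node (.leaf 2190) (.leaf 1702)) (.node (.leaf 2595) (.leaf 2718)))) (.node (.node (.node (.leaf 1151) (.leaf 1634)) (.node (.leaf 799) (.leaf 2166))) (.node (.node (.leaf 1381) (.leaf 345)) (.node (.leaf 1437) (.leaf 212))))) (.node (.node (.node (.node (.leaf 2341) (.leaf 1846)) (.node (.leaf 2574) (.leaf 2623))) (.node (.node (.leaf 2766) (.leaf 1576)) (.node (.leaf 1736) (.leaf 2032)))) (.node (.node (.node (.leaf 2451) (.leaf 2469)) (.node (.leaf 369) (.leaf 1523))) (.node (.node (.leaf 789) (.leaf 422)) (.node (.leaf 1041) (.leaf 1482))))))) (.node (.node (.node (.node (.node (.node (.leaf 1722) (.leaf 1987)) (.node (.leaf 769) (.leaf 1051))) (.node (.node (.leaf 1403) (.leaf 716)) (.node (.leaf 2708) (.leaf 982)))) (.node (.node (.node (.leaf 1240) (.leaf 2532)) (.node (.leaf 1432) (.leaf 895))) (.node (.node (.leaf 1633) (.leaf 25)) (.node (.leaf 1374) (.leaf 2437))))) (.node (.node (.node (.node (.leaf 2686) (.leaf 1352)) (.node (.leaf 551) (.leaf 76)))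 (.node (.node (.leaf 1392) (.leaf 630)) (.node (.leaf 2068) (.leaf 4)))) (.node (.node (.node (.leaf 2700) (.leaf 2746)) (.node (.leaf 2141) (.leaf 2074))) (.node (.node (.leaf 215) (.leaf 472)) (.node (.leaf 2582) (.leaf 1864)))))) (.node (.node (.node (.node (.node (.leaf 653) (.leaf 2161)) (.node (.leaf 2804) (.leaf 365))) (.node (.node (.leaf 1920) (.leaf 1837)) (.node (.leaf 1029) (.leaf 343)))) (.node (.node (.node (.leaf 2169) (.leaf 1415)) (.node (.leaf 1640) (.leaf 610))) (.node (.node (.leaf 2818) (.leaf 1569)) (.node (.leaf 2723) (.leaf 2118))))) (.node (.node (.node (.node (.leaf 1206) (.leaf 915)) (.node (.leaf 2752) (.leaf 334))) (.node (.node (.leaf 2622) (.leaf 2042)) (.node (.leaf 127) (.leaf 2035)))) (.node (.node (.node (.leaf 2876) (.leaf 253)) (.node (.leaf 1103) (.leaf 1563))) (.node (.node (.leaf 2109) (.leaf 1818)) (.node (.leaf 2196) (.leaf 2842))))))))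

def k2Srt_7 : H52.TCert.Tr := .node (.node (.node (.node (.node (.node (.node (.node (.leaf 350) (.leaf 2283)) (.node (.leaf 2545) (.leaf 1663))) (.node (.node (.leaf 1882) (.leaf 1310)) (.node (.leaf 2871) (.leaf 30)))) (.node (.node (.node (.leaf 1084) (.leaf 237)) (.node (.leaf 458) (.leaf 1369))) (.node (.node (.leaf 1603) (.leaf 812)) (.node (.leaf 383) (.leaf 1426))))) (.node (.node (.node (.node (.leaf 2393) (.leaf 2831)) (.node (.leaf 1091) (.leaf 1307))) (.node (.node (.leaf 2613) (.leaf 2543)) (.node (.leaf 170) (.leaf 161)))) (.node (.node (.node (.leaf 729) (.leaf 1804)) (.node (.leaf 1680) (.leaf 2799))) (.node (.node (.leaf 1860) (.leaf 1608)) (.node (.leaf 2216) (.leaf 2573)))))) (.node (.node (.node (.node (.node (.leaf 645) (.leaf 1668)) (.node (.leaf 1075) (.leaf 114))) (.node (.node (.leaf 701) (.leaf 1373)) (.node (.leaf 2811) (.leaf 255)))) (.node (.node (.node (.leaf 2878) (.leaf 624)) (.node (.leaf 1002) (.leaf 2567))) (.node (.node (.leaf 2657) (.leaf 1896)) (.node (.leaf 1678) (.leaf 2612))))) (.node (.node (.node (.node (.leaf 774) (.leaf 2139)) (.node (.leaf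 2134) (.leaf 2478))) (.node (.node (.leaf 569) (.leaf 64)) (.node (.leaf 376) (.leaf 2334)))) (.node (.node (.node (.leaf 141) (.leaf 952)) (.node (.leaf 580) (.leaf 316))) (.node (.node (.leaf 1507) (.leaf 1503)) (.node (.leaf 2356) (.leaf 1866))))))) (.node (.node (.node (.node (.node (.node (.leaf 602) (.leaf 91)) (.node (.leaf 460) (.leaf 485))) (.node (.node (.leaf 2550) (.leaf 967)) (.node (.leaf 111) (.leaf 326)))) (.node (.node (.node (.leaf 2266) (.leaf 1951)) (.node (.leaf 2384) (.leaf 92))) (.node (.node (.leaf 2282) (.leaf 1774)) (.node (.leaf 1928) (.leaf 2652))))) (.node (.node (.node (.node (.leaf 525) (.leaf 2311)) (.node (.leaf 2386) (.leaf 1506))) (.node (.node (.leaf 1362) (.leaf 1589)) (.node (.leaf 122) (.leaf 1083)))) (.node (.node (.node (.leaf 676) (.leaf 2374)) (.node (.leaf 1001) (.leaf 1943))) (.node (.node (.leaf 958) (.leaf 363)) (.node (.leaf 1355) (.leaf 1585)))))) (.node (.node (.node (.node (.node (.leaf 324) (.leaf 473)) (.node (.leaf 2458) (.leaf 1827))) (.node (.node (.leaf 139) (.leaf 607)) (.node (.leaf 823) (.leaf 1479)))) (.node (.node (.node (.leaf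 1211) (.leaf 1007)) (.node (.leaf 801) (.leaf 594))) (.node (.node (.leaf 2460) (.leaf 235)) (.node (.leaf 2798) (.leaf 340))))) (.node (.node (.node (.node (.leaf 1741) (.leaf 2699)) (.node (.leaf 2208) (.leaf 1504))) (.node (.node (.leaf 1101) (.leaf 763)) (.node (.leaf 276) (.leaf 245)))) (.node (.node (.node (.leaf 2777) (.leaf 2071)) (.node (.leaf 2468) (.leaf 552))) (.node (.node (.leaf 1756) (.leaf 1077)) (.node (.leaf 784) (.leaf 416)))))))) (.node (.node (.node (.node (.node (.node (.node (.leaf 1039) (.leaf 2078)) (.node (.leaf 1787) (.leaf 1699))) (.node (.node (.leaf 2448) (.leaf 1114)) (.node (.leaf 1194) (.leaf 928)))) (.node (.node (.node (.leaf 2267) (.leaf 1952)) (.node (.leaf 2286) (.leaf 1922))) (.node (.node (.leaf 1055) (.leaf 1821)) (.node (.leaf 815) (.leaf 1600))))) (.node (.node (.node (.node (.leaf 370) (.leaf 386)) (.node (.leaf 2643) (.leaf 2121))) (.node (.node (.leaf 2710) (.leaf 54)) (.node (.leaf 660) (.leaf 174)))) (.node (.node (.node (.leaf 2069) (.leaf 2024)) (.node (.leaf 2524) (.leaf 9))) (.node (.node (.leaf 794) (.leaf 2641)) (.node (.leaf 912)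 (.leaf 2268)))))) (.node (.node (.node (.node (.node (.leaf 448) (.leaf 1129)) (.node (.leaf 705) (.leaf 2259))) (.node (.node (.leaf 227) (.leaf 105)) (.node (.leaf 1217) (.leaf 570)))) (.node (.node (.node (.leaf 2251) (.leaf 1422)) (.node (.leaf 2492) (.leaf 661))) (.node (.node (.leaf 2485) (.leaf 1204)) (.node (.leaf 2824) (.leaf 2684))))) (.node (.node (.node (.node (.leaf 411) (.leaf 2728)) (.node (.leaf 2450) (.leaf 675))) (.node (.node (.leaf 859) (.leaf 1863)) (.node (.leaf 2414) (.leaf 2535)))) (.node (.node (.node (.leaf 2350) (.leaf 2055)) (.node (.leaf 1752) (.leaf 1070))) (.node (.node (.leaf 2696) (.leaf 1551)) (.node (.leaf 233) (.leaf 663))))))) (.node (.node (.node (.node (.node (.node (.leaf 992) (.leaf 2679)) (.node (.leaf 1470) (.leaf 2774))) (.node (.node (.leaf 2873) (.leaf 1198)) (.node (.leaf 2244) (.leaf 516)))) (.node (.node (.node (.leaf 590) (.leaf 1884)) (.node (.leaf 871) (.leaf 1914))) (.node (.node (.leaf 103) (.leaf 2593)) (.node (.leaf 1798) (.leaf 2318))))) (.node (.node (.node (.node (.leaf 2339) (.leaf 85)) (.node (.leaf 2607) (.leaf 2375))) (.node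 (.node (.leaf 406) (.leaf 1215)) (.node (.leaf 2207) (.leaf 1501)))) (.node (.node (.node (.leaf 819) (.leaf 1314)) (.node (.leaf 2839) (.leaf 1294))) (.node (.node (.leaf 75) (.leaf 2715)) (.node (.leaf 1398) (.leaf 996)))))) (.node (.node (.node (.node (.node (.leaf 2012) (.leaf 1619)) (.node (.leaf 785) (.leaf 417))) (.node (.node (.leaf 2243) (.leaf 680)) (.node (.leaf 583) (.leaf 849)))) (.node (.node (.node (.leaf 2630) (.leaf 1288)) (.node (.leaf 353) (.leaf 1219))) (.node (.node (.leaf 1384) (.leaf 1566)) (.node (.leaf 378) (.leaf 848))))) (.node (.node (.node (.node (.leaf 2220) (.leaf 722)) (.node (.leaf 1602) (.leaf 1182))) (.node (.node (.leaf 179) (.leaf 205)) (.node (.leaf 2548) (.leaf 964)))) (.node (.node (.node (.leaf 1857) (.leaf 772)) (.node (.leaf 1972) (.leaf 1531))) (.node (.node (.leaf 2508) (.leaf 2179)) (.node (.leaf 916) (.leaf 1998))))))))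

def k2Srt_8 : H52.TCert.Tr := .node (.node (.node (.node (.node (.node (.node (.node (.leaf 1930) (.leaf 2398)) (.node (.leaf 2651) (.leaf 1067))) (.node (.node (.leaf 2579) (.leaf 2378)) (.node (.leaf 373) (.leaf 574)))) (.node (.node (.node (.leaf 1773) (.leaf 2507)) (.node (.leaf 1368) (.leaf 457))) (.node (.node (.leaf 17) (.leaf 1836)) (.node (.leaf 647) (.leaf 2119))))) (.node (.node (.node (.node (.leaf 870) (.leaf 1024)) (.node (.leaf 2205) (.leaf 1500))) (.node (.node (.leaf 2760) (.leaf 648)) (.node (.leaf 536) (.leaf 874)))) (.node (.node (.node (.leaf 2748) (.leaf 1553)) (.node (.leaf 1753) (.leaf 921))) (.node (.node (.leaf 304) (.leaf 1587)) (.node (.leaf 1220) (.leaf 2049)))))) (.node (.node (.node (.node (.node (.leaf 1848) (.leaf 2198)) (.node (.leaf 1496) (.leaf 1169))) (.node (.node (.leaf 142) (.leaf 310)) (.node (.leaf 2112) (.leaf 2127)))) (.node (.node (.node (.leaf 1109) (.leaf 281)) (.node (.leaf 1530) (.leaf 65))) (.node (.node (.leaf 761) (.leaf 1100)) (.node (.leaf 2432) (.leaf 565))))) (.node (.node (.node (.node (.leaf 677) (.leaf 2649)) (.node (.leaf 191)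 (.leaf 1222))) (.node (.node (.leaf 805) (.leaf 1486)) (.node (.leaf 1127) (.leaf 439)))) (.node (.node (.node (.leaf 1564) (.leaf 2482)) (.node (.leaf 615) (.leaf 2206))) (.node (.node (.leaf 925) (.leaf 2369)) (.node (.leaf 99) (.leaf 582))))))) (.node (.node (.node (.node (.node (.node (.leaf 2367) (.leaf 2365)) (.node (.leaf 2316) (.leaf 115))) (.node (.node (.leaf 1981) (.leaf 135)) (.node (.leaf 1710) (.leaf 830)))) (.node (.node (.node (.leaf 2226) (.leaf 1273)) (.node (.leaf 1124) (.leaf 640))) (.node (.node (.leaf 2019) (.leaf 1183)) (.node (.leaf 2293) (.leaf 1959))))) (.node (.node (.node (.node (.leaf 1746) (.leaf 2719)) (.node (.leaf 641) (.leaf 1545))) (.node (.node (.leaf 2688) (.leaf 1669)) (.node (.leaf 1883) (.leaf 397)))) (.node (.node (.node (.leaf 1912) (.leaf 1063)) (.node (.leaf 1838) (.leaf 2332))) (.node (.node (.leaf 1985) (.leaf 154)) (.node (.leaf 1370) (.leaf 459)))))) (.node (.node (.node (.node (.node (.leaf 2792) (.leaf 1069)) (.node (.leaf 1290) (.leaf 1901))) (.node (.node (.leaf 2328) (.leaf 1303)) (.node (.leaf 2377) (.leaf 1243)))) (.node (.node (.node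 (.leaf 236) (.leaf 2297)) (.node (.leaf 1719) (.leaf 2203))) (.node (.node (.leaf 897) (.leaf 1956)) (.node (.leaf 725) (.leaf 180))))) (.node (.node (.node (.node (.leaf 1927) (.leaf 892)) (.node (.leaf 2424) (.leaf 478))) (.node (.node (.leaf 2018) (.leaf 2330)) (.node (.leaf 2336) (.leaf 1934)))) (.node (.node (.node (.leaf 329) (.leaf 190)) (.node (.leaf 1358) (.leaf 2046))) (.node (.node (.leaf 1236) (.leaf 2591)) (.node (.leaf 305) (.leaf 538)))))))) (.node (.node (.node (.node (.node (.node (.node (.leaf 2498) (.leaf 2743)) (.node (.leaf 879) (.leaf 1747))) (.node (.node (.leaf 2232) (.leaf 133)) (.node (.leaf 662) (.leaf 231)))) (.node (.node (.node (.leaf 698) (.leaf 1650)) (.node (.leaf 2542) (.leaf 2281))) (.node (.node (.leaf 1078) (.leaf 1559)) (.node (.leaf 1118) (.leaf 2212))))) (.node (.node (.node (.node (.leaf 357) (.leaf 1629)) (.node (.leaf 2821) (.leaf 303))) (.node (.node (.leaf 486) (.leaf 32)) (.node (.leaf 2554) (.leaf 2589)))) (.node (.node (.node (.leaf 1791) (.leaf 777)) (.node (.leaf 1145) (.leaf 1021))) (.node (.node (.leaf 1568) (.leaf 1139)) (.node (.leaf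 1223) (.leaf 1365)))))) (.node (.node (.node (.node (.node (.leaf 2323) (.leaf 528)) (.node (.leaf 2037) (.leaf 2733))) (.node (.node (.leaf 1195) (.leaf 1673)) (.node (.leaf 1207) (.leaf 1855)))) (.node (.node (.node (.leaf 2363) (.leaf 1134)) (.node (.leaf 1430) (.leaf 2372))) (.node (.node (.leaf 1769) (.leaf 53)) (.node (.leaf 1556) (.leaf 1690))))) (.node (.node (.node (.node (.leaf 1775) (.leaf 1764)) (.node (.leaf 1708) (.leaf 888))) (.node (.node (.leaf 2627) (.leaf 1026)) (.node (.leaf 2020) (.leaf 2557)))) (.node (.node (.node (.leaf 579) (.leaf 903)) (.node (.leaf 2714) (.leaf 890))) (.node (.node (.leaf 2616) (.leaf 1911)) (.node (.leaf 1410) (.leaf 1881))))))) (.node (.node (.node (.node (.node (.node (.leaf 1312) (.leaf 2276)) (.node (.leaf 452) (.leaf 891))) (.node (.node (.leaf 1555) (.leaf 2783)) (.node (.leaf 1208) (.leaf 558)))) (.node (.node (.node (.leaf 503) (.leaf 62)) (.node (.leaf 942) (.leaf 730))) (.node (.node (.leaf 2552) (.leaf 2867)) (.node (.leaf 2549) (.leaf 965))))) (.node (.node (.node (.node (.leaf 466) (.leaf 88)) (.node (.leaf 1948) (.leaf 2290)))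 (.node (.node (.leaf 2397) (.leaf 1062)) (.node (.leaf 770) (.leaf 408)))) (.node (.node (.node (.leaf 1748) (.leaf 332)) (.node (.leaf 1009) (.leaf 2076))) (.node (.node (.leaf 1034) (.leaf 1639)) (.node (.leaf 254) (.leaf 391)))))) (.node (.node (.node (.node (.node (.leaf 1546) (.leaf 2137)) (.node (.leaf 1963) (.leaf 2278))) (.node (.node (.leaf 941) (.leaf 2439)) (.node (.leaf 83) (.leaf 1128)))) (.node (.node (.node (.leaf 499) (.leaf 2425)) (.node (.leaf 287) (.leaf 2173))) (.node (.node (.leaf 1657) (.leaf 1993)) (.node (.leaf 1750) (.leaf 2740))))) (.node (.node (.node (.node (.leaf 757) (.leaf 1612)) (.node (.leaf 221) (.leaf 1284))) (.node (.node (.leaf 193) (.leaf 1376)) (.node (.leaf 2162) (.leaf 572)))) (.node (.node (.node (.leaf 1903) (.leaf 2658)) (.node (.leaf 2307) (.leaf 1345))) (.node (.node (.leaf 2833) (.leaf 2381)) (.node (.leaf 136) (.leaf 2023))))))))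

def k2Srt_9 : H52.TCert.Tr := .node (.node (.node (.node (.node (.node (.node (.node (.leaf 462) (.leaf 314)) (.node (.leaf 981) (.leaf 2048))) (.node (.node (.leaf 2645) (.leaf 2509)) (.node (.leaf 2455) (.leaf 782)))) (.node (.node (.node (.leaf 1534) (.leaf 1252)) (.node (.leaf 108) (.leaf 1395))) (.node (.node (.leaf 2217) (.leaf 520)) (.node (.leaf 1377) (.leaf 194))))) (.node (.node (.node (.node (.leaf 1317) (.leaf 2816)) (.node (.leaf 507) (.leaf 573))) (.node (.node (.leaf 1655) (.leaf 2693)) (.node (.leaf 2057) (.leaf 2117)))) (.node (.node (.node (.leaf 291) (.leaf 145)) (.node (.leaf 1814) (.leaf 300))) (.node (.node (.leaf 2050) (.leaf 2803)) (.node (.leaf 2420) (.leaf 1532)))))) (.node (.node (.node (.node (.node (.leaf 1209) (.leaf 82)) (.node (.leaf 2103) (.leaf 1895))) (.node (.node (.leaf 206) (.leaf 646)) (.node (.leaf 86) (.leaf 2835)))) (.node (.node (.node (.leaf 1337) (.leaf 1052)) (.node (.leaf 2770) (.leaf 234))) (.node (.node (.leaf 2072) (.leaf 1811)) (.node (.leaf 2006) (.leaf 2510))))) (.node (.node (.node (.node (.leaf 894) (.leaf 1732)) (.node (.leaf 2659)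 (.leaf 1946))) (.node (.node (.leaf 1469) (.leaf 1097)) (.node (.leaf 1443) (.leaf 1333)))) (.node (.node (.node (.leaf 1212) (.leaf 687)) (.node (.leaf 2563) (.leaf 978))) (.node (.node (.leaf 791) (.leaf 818)) (.node (.leaf 1647) (.leaf 509))))))) (.node (.node (.node (.node (.node (.node (.leaf 1471) (.leaf 2487)) (.node (.leaf 2210) (.leaf 274))) (.node (.node (.leaf 2240) (.leaf 208)) (.node (.leaf 2025) (.leaf 1344)))) (.node (.node (.node (.leaf 2698) (.leaf 309)) (.node (.leaf 2236) (.leaf 2626))) (.node (.node (.leaf 1463) (.leaf 1359)) (.node (.leaf 700) (.leaf 1372))))) (.node (.node (.node (.node (.leaf 2479) (.leaf 2146)) (.node (.leaf 2691) (.leaf 2729))) (.node (.node (.leaf 1891) (.leaf 1835)) (.node (.leaf 1856) (.leaf 1408)))) (.node (.node (.node (.leaf 1511) (.leaf 1767)) (.node (.leaf 98) (.leaf 1093))) (.node (.node (.leaf 1843) (.leaf 1439)) (.node (.leaf 2763) (.leaf 1488)))))) (.node (.node (.node (.node (.node (.leaf 1098) (.leaf 588)) (.node (.leaf 69) (.leaf 1154))) (.node (.node (.leaf 2580) (.leaf 2224)) (.node (.leaf 2578) (.leaf 2624)))) (.node (.node (.node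 (.leaf 1936) (.leaf 1295)) (.node (.leaf 1599) (.leaf 718))) (.node (.node (.leaf 2265) (.leaf 1869)) (.node (.leaf 1350) (.leaf 402))))) (.node (.node (.node (.node (.leaf 2588) (.leaf 2453)) (.node (.leaf 2636) (.leaf 1620))) (.node (.node (.leaf 454) (.leaf 671)) (.node (.leaf 1758) (.leaf 1081)))) (.node (.node (.node (.leaf 2546) (.leaf 1664)) (.node (.leaf 617) (.leaf 689))) (.node (.node (.leaf 1323) (.leaf 838)) (.node (.leaf 449) (.leaf 2399)))))))) (.node (.node (.node (.node (.node (.node (.node (.leaf 1626) (.leaf 2707)) (.node (.leaf 1287) (.leaf 1235))) (.node (.node (.leaf 1013) (.leaf 2596)) (.node (.leaf 2271) (.leaf 447)))) (.node (.node (.node (.leaf 2120) (.leaf 1023)) (.node (.leaf 426) (.leaf 1890))) (.node (.node (.leaf 100) (.leaf 48)) (.node (.leaf 2494) (.leaf 299))))) (.node (.node (.node (.node (.leaf 719) (.leaf 2682)) (.node (.leaf 2202) (.leaf 1061))) (.node (.node (.leaf 957) (.leaf 2802)) (.node (.leaf 883) (.leaf 2825)))) (.node (.node (.node (.leaf 2512) (.leaf 2368)) (.node (.leaf 1763) (.leaf 1801))) (.node (.node (.leaf 1725) (.leaf 1380)) (.node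 (.leaf 2725) (.leaf 741)))))) (.node (.node (.node (.node (.node (.leaf 471) (.leaf 1174)) (.node (.leaf 2565) (.leaf 1971))) (.node (.node (.leaf 2404) (.leaf 2863)) (.node (.leaf 1291) (.leaf 2153)))) (.node (.node (.node (.leaf 1606) (.leaf 1492)) (.node (.leaf 1173) (.leaf 261))) (.node (.node (.leaf 2705) (.leaf 889)) (.node (.leaf 475) (.leaf 325))))) (.node (.node (.node (.node (.leaf 1688) (.leaf 1745)) (.node (.leaf 1190) (.leaf 861))) (.node (.node (.leaf 1188) (.leaf 635)) (.node (.leaf 2214) (.leaf 1138)))) (.node (.node (.node (.leaf 1248) (.leaf 186)) (.node (.leaf 798) (.leaf 2003))) (.node (.node (.leaf 1282) (.leaf 1321)) (.node (.leaf 70) (.leaf 110))))))) (.node (.node (.node (.node (.node (.node (.leaf 1577) (.leaf 90)) (.node (.leaf 248) (.leaf 1960))) (.node (.node (.leaf 1049) (.leaf 829)) (.node (.leaf 2174) (.leaf 138)))) (.node (.node (.node (.leaf 2182) (.leaf 109)) (.node (.leaf 2436) (.leaf 1037))) (.node (.node (.leaf 1875) (.leaf 854)) (.node (.leaf 298) (.leaf 2314))))) (.node (.node (.node (.node (.leaf 2872) (.leaf 1433)) (.node (.leaf 1651) (.leaf 702)))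 (.node (.node (.leaf 1391) (.leaf 826)) (.node (.leaf 678) (.leaf 2215)))) (.node (.node (.node (.leaf 2047) (.leaf 1216)) (.node (.leaf 2853) (.leaf 380))) (.node (.node (.leaf 1196) (.leaf 1322)) (.node (.leaf 2197) (.leaf 2443)))))) (.node (.node (.node (.node (.node (.leaf 1921) (.leaf 674)) (.node (.leaf 80) (.leaf 421))) (.node (.node (.leaf 2014) (.leaf 882)) (.node (.leaf 469) (.leaf 349)))) (.node (.node (.node (.leaf 1406) (.leaf 1349)) (.node (.leaf 960) (.leaf 2095))) (.node (.node (.leaf 2481) (.leaf 342)) (.node (.leaf 1997) (.leaf 540))))) (.node (.node (.node (.node (.leaf 375) (.leaf 707)) (.node (.leaf 1085) (.leaf 238))) (.node (.node (.leaf 171) (.leaf 1096)) (.node (.leaf 1786) (.leaf 563)))) (.node (.node (.node (.leaf 2036) (.leaf 2187)) (.node (.leaf 12) (.leaf 745))) (.node (.node (.leaf 2138) (.leaf 2123)) (.node (.leaf 2417) (.leaf 1526))))))))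

def k2Srt_10 : H52.TCert.Tr := .node (.node (.node (.node (.node (.node (.node (.node (.leaf 2637) (.leaf 2102)) (.node (.leaf 650) (.leaf 128))) (.node (.node (.leaf 2030) (.leaf 1275)) (.node (.leaf 862) (.leaf 935)))) (.node (.node (.node (.leaf 440) (.leaf 1969)) (.node (.leaf 432) (.leaf 936))) (.node (.node (.leaf 1954) (.leaf 945)) (.node (.leaf 224) (.leaf 451))))) (.node (.node (.node (.node (.leaf 1397) (.leaf 2838)) (.node (.leaf 2868) (.leaf 445))) (.node (.node (.leaf 2028) (.leaf 2784)) (.node (.leaf 1632) (.leaf 1567)))) (.node (.node (.node (.leaf 2026) (.leaf 2131)) (.node (.leaf 1919) (.leaf 1019))) (.node (.node (.leaf 2879) (.leaf 225)) (.node (.leaf 1043) (.leaf 6)))))) (.node (.node (.node (.node (.node (.leaf 493) (.leaf 530)) (.node (.leaf 1161) (.leaf 1213))) (.node (.node (.leaf 685) (.leaf 1743)) (.node (.leaf 31) (.leaf 1784)))) (.node (.node (.node (.leaf 1522) (.leaf 368)) (.node (.leaf 597) (.leaf 1187))) (.node (.node (.leaf 762) (.leaf 129)) (.node (.leaf 1894) (.leaf 2070))))) (.node (.node (.node (.node (.leaf 2301) (.leaf 2188)) (.node (.leaf 265)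 (.leaf 1944))) (.node (.node (.leaf 1011) (.leaf 392)) (.node (.leaf 1980) (.leaf 2875)))) (.node (.node (.node (.leaf 1512) (.leaf 1962)) (.node (.leaf 1537) (.leaf 937))) (.node (.node (.leaf 384) (.leaf 2538)) (.node (.leaf 379) (.leaf 172))))))) (.node (.node (.node (.node (.node (.node (.leaf 743) (.leaf 2754)) (.node (.leaf 149) (.leaf 2866))) (.node (.node (.leaf 2848) (.leaf 1950)) (.node (.leaf 1740) (.leaf 557)))) (.node (.node (.node (.leaf 515) (.leaf 1605)) (.node (.leaf 348) (.leaf 1165))) (.node (.node (.leaf 1268) (.leaf 2757)) (.node (.leaf 480) (.leaf 2104))))) (.node (.node (.node (.node (.leaf 182) (.leaf 1005)) (.node (.leaf 1902) (.leaf 468))) (.node (.node (.leaf 962) (.leaf 2355)) (.node (.leaf 609) (.leaf 2017)))) (.node (.node (.node (.leaf 2229) (.leaf 636)) (.node (.leaf 2327) (.leaf 902))) (.node (.node (.leaf 1044) (.leaf 1687)) (.node (.leaf 436) (.leaf 2647)))))) (.node (.node (.node (.node (.node (.leaf 1726) (.leaf 571)) (.node (.leaf 280) (.leaf 1759))) (.node (.node (.leaf 1456) (.leaf 2504)) (.node (.leaf 2874) (.leaf 41)))) (.node (.node (.node (.leaf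 2021) (.leaf 1343)) (.node (.leaf 2537) (.leaf 1571))) (.node (.node (.leaf 969) (.leaf 1006)) (.node (.leaf 267) (.leaf 87))))) (.node (.node (.node (.node (.leaf 682) (.leaf 1490)) (.node (.leaf 28) (.leaf 2233))) (.node (.node (.leaf 1390) (.leaf 1257)) (.node (.leaf 268) (.leaf 1435)))) (.node (.node (.node (.leaf 1140) (.leaf 2744)) (.node (.leaf 2090) (.leaf 693))) (.node (.node (.leaf 2223) (.leaf 347)) (.node (.leaf 1520) (.leaf 1813)))))))) (.node (.node (.node (.node (.node (.node (.node (.leaf 1073) (.leaf 1012)) (.node (.leaf 2530) (.leaf 2837))) (.node (.node (.leaf 2429) (.leaf 435)) (.node (.leaf 178) (.leaf 547)))) (.node (.node (.node (.leaf 2832) (.leaf 833)) (.node (.leaf 880) (.leaf 1423))) (.node (.node (.leaf 1293) (.leaf 2310)) (.node (.leaf 479) (.leaf 1509))))) (.node (.node (.node (.node (.leaf 2810) (.leaf 2041)) (.node (.leaf 74) (.leaf 521))) (.node (.node (.leaf 2687) (.leaf 2338)) (.node (.leaf 1167) (.leaf 492)))) (.node (.node (.node (.leaf 2773) (.leaf 1245)) (.node (.leaf 2859) (.leaf 1662))) (.node (.node (.leaf 2515) (.leaf 1014)) (.node (.leaf 219)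 (.leaf 1815)))))) (.node (.node (.node (.node (.node (.leaf 1831) (.leaf 1666)) (.node (.leaf 1915) (.leaf 1808))) (.node (.node (.leaf 2427) (.leaf 1613)) (.node (.leaf 2650) (.leaf 117)))) (.node (.node (.node (.leaf 2747) (.leaf 1859)) (.node (.leaf 289) (.leaf 1366))) (.node (.node (.leaf 2721) (.leaf 2354)) (.node (.leaf 2541) (.leaf 1176))))) (.node (.node (.node (.node (.leaf 1473) (.leaf 2781)) (.node (.leaf 1942) (.leaf 1234))) (.node (.node (.leaf 976) (.leaf 1389)) (.node (.leaf 295) (.leaf 2465)))) (.node (.node (.node (.leaf 1092) (.leaf 2732)) (.node (.leaf 185) (.leaf 1247))) (.node (.node (.leaf 320) (.leaf 210)) (.node (.leaf 1305) (.leaf 453))))))) (.node (.node (.node (.node (.node (.node (.leaf 158) (.leaf 2864)) (.node (.leaf 1723) (.leaf 2111))) (.node (.node (.leaf 758) (.leaf 2401)) (.node (.leaf 192) (.leaf 1375)))) (.node (.node (.node (.leaf 46) (.leaf 1186)) (.node (.leaf 504) (.leaf 63))) (.node (.node (.leaf 1995) (.leaf 2114)) (.node (.leaf 1908) (.leaf 1485))))) (.node (.node (.node (.node (.leaf 2403) (.leaf 1250)) (.node (.leaf 742) (.leaf 2775))) (.node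 (.node (.leaf 2184) (.leaf 1158)) (.node (.leaf 1113) (.leaf 2227)))) (.node (.node (.node (.leaf 2513) (.leaf 2385)) (.node (.leaf 998) (.leaf 1529))) (.node (.node (.leaf 49) (.leaf 2556)) (.node (.leaf 2737) (.leaf 2194)))))) (.node (.node (.node (.node (.node (.leaf 2791) (.leaf 2812)) (.node (.leaf 1925) (.leaf 262))) (.node (.node (.leaf 2704) (.leaf 644)) (.node (.leaf 2484) (.leaf 560)))) (.node (.node (.node (.leaf 2248) (.leaf 181)) (.node (.leaf 955) (.leaf 843))) (.node (.node (.leaf 2529) (.leaf 1990)) (.node (.leaf 1089) (.leaf 2152))))) (.node (.node (.node (.node (.leaf 2464) (.leaf 2027)) (.node (.leaf 1108) (.leaf 1378))) (.node (.node (.leaf 2400) (.leaf 216)) (.node (.leaf 1938) (.leaf 622)))) (.node (.node (.node (.leaf 2738) (.leaf 926)) (.node (.leaf 612) (.leaf 33))) (.node (.node (.leaf 2575) (.leaf 1828)) (.node (.leaf 1269) (.leaf 972))))))))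

def k2Srt_11 : H52.TCert.Tr := .node (.node (.node (.node (.node (.node (.node (.node (.leaf 1192) (.leaf 864)) (.node (.leaf 2577) (.leaf 1766))) (.node (.node (.leaf 2163) (.leaf 2617)) (.node (.leaf 187) (.leaf 1249)))) (.node (.node (.node (.leaf 553) (.leaf 1659)) (.node (.leaf 2862) (.leaf 278))) (.node (.node (.leaf 1825) (.leaf 1227)) (.node (.leaf 284) (.leaf 2246))))) (.node (.node (.node (.node (.leaf 968) (.leaf 2551)) (.node (.leaf 1996) (.leaf 443))) (.node (.node (.leaf 256) (.leaf 726)) (.node (.leaf 2272) (.leaf 1424)))) (.node (.node (.node (.leaf 626) (.leaf 306)) (.node (.leaf 1462) (.leaf 393))) (.node (.node (.leaf 974) (.leaf 1387)) (.node (.leaf 1324) (.leaf 2534)))))) (.node (.node (.node (.node (.node (.leaf 1609) (.leaf 2426)) (.node (.leaf 1262) (.leaf 1135))) (.node (.node (.leaf 1475) (.leaf 360)) (.node (.leaf 474) (.leaf 126)))) (.node (.node (.node (.leaf 10) (.leaf 806)) (.node (.leaf 1958) (.leaf 2329))) (.node (.node (.leaf 1924) (.leaf 18)) (.node (.leaf 35) (.leaf 1643))))) (.node (.node (.node (.node (.leaf 2254) (.leaf 1125)) (.node (.leaf 692)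 (.leaf 2516))) (.node (.node (.leaf 727) (.leaf 258)) (.node (.leaf 2536) (.leaf 341)))) (.node (.node (.node (.leaf 2413) (.leaf 2854)) (.node (.leaf 1425) (.leaf 1459))) (.node (.node (.leaf 802) (.leaf 2501)) (.node (.leaf 1448) (.leaf 1583))))))) (.leaf 0)) (.leaf 0)

def k2Srt : H52.TCert.Tr := .node (.node (.node (.node (k2Srt_0) (k2Srt_1)) (.node (k2Srt_2) (k2Srt_3))) (.node (.node (k2Srt_4) (k2Srt_5)) (.node (k2Srt_6) (k2Srt_7)))) (.node (.node (.node (k2Srt_8) (k2Srt_9)) (.node (k2Srt_10) (k2Srt_11))) (.node (.node (.leaf 0) (.leaf 0)) (.node (.leaf 0) (.leaf 0))))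

def k2Next_0 : H52.TCert.Tr := .node (.node (.node (.node (.node (.node (.node (.node (.leaf 12885032961) (.leaf 25770131460)) (.node (.leaf 38655229959) (.leaf 51540328458))) (.node (.node (.leaf 64425426957) (.leaf 77310525456)) (.node (.leaf 90195623955) (.leaf 103080722454)))) (.node (.node (.node (.leaf 115965820953) (.leaf 128850919452)) (.node (.leaf 141736017951) (.leaf 154621116450))) (.node (.node (.leaf 167506214949) (.leaf 180391313448)) (.node (.leaf 193276411947) (.leaf 206161510446))))) (.node (.node (.node (.node (.leaf 219046608945) (.leaf 231931707444)) (.node (.leaf 244816805943) (.leaf 257701904442))) (.node (.node (.leaf 270587002941) (.leaf 283472101440)) (.node (.leaf 296357199939) (.leaf 309242298438)))) (.node (.node (.node (.leaf 322127396937) (.leaf 335012495436)) (.node (.leaf 347897593935) (.leaf 360782692434))) (.node (.node (.leaf 373667790933) (.leaf 386552889432)) (.node (.leaf 399437987931) (.leaf 412323086430)))))) (.node (.node (.node (.node (.node (.leaf 425208184929) (.leaf 438093283428)) (.node (.leaf 450978381927) (.leaf 463863480426))) (.node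 (.node (.leaf 476748578925) (.leaf 489633677424)) (.node (.leaf 502518775923) (.leaf 515403874422)))) (.node (.node (.node (.leaf 528288972921) (.leaf 541174071420)) (.node (.leaf 554059169919) (.leaf 566944268418))) (.node (.node (.leaf 579829366917) (.leaf 592714465416)) (.node (.leaf 605599563915) (.leaf 618484662414))))) (.node (.node (.node (.node (.leaf 631369760913) (.leaf 644254859412)) (.node (.leaf 657139957911) (.leaf 670025056410))) (.node (.node (.leaf 682910154909) (.leaf 695795253408)) (.node (.leaf 704380600483) (.leaf 717270417573)))) (.node (.node (.node (.leaf 730155516072) (.leaf 743040614571)) (.node (.leaf 755925713070) (.leaf 768810811569))) (.node (.node (.leaf 781695910068) (.leaf 794581008567)) (.node (.leaf 807466107066) (.leaf 820351205565))))))) (.node (.node (.node (.node (.node (.node (.leaf 833236304064) (.leaf 846121402563)) (.node (.leaf 859006501062) (.leaf 871891599561))) (.node (.node (.leaf 597013889228) (.leaf 893366763726)) (.node (.leaf 901956829315) (.leaf 914841927891)))) (.node (.node (.node (.leaf 927727026390) (.leaf 940612124889)) (.node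 (.leaf 953497223388) (.leaf 966382321887))) (.node (.node (.leaf 979267420386) (.leaf 987857485976)) (.node (.leaf 1000742584551) (.leaf 1013627683050))))) (.node (.node (.node (.node (.leaf 1022217748641) (.leaf 1035102847215)) (.node (.leaf 1047987945714) (.leaf 1056569819381))) (.node (.node (.leaf 1069463109879) (.leaf 1082348208378)) (.node (.leaf 1095233306877) (.leaf 1108118405376)))) (.node (.node (.node (.leaf 1121003503875) (.leaf 1129593569298)) (.node (.leaf 1142478668040) (.leaf 1151064342795))) (.node (.node (.leaf 1163953832205) (.leaf 1176838930704)) (.node (.leaf 1189724029203) (.leaf 1202609127702)))))) (.node (.node (.node (.node (.node (.leaf 1215494226201) (.leaf 1228379324700)) (.node (.leaf 1236959625503) (.leaf 1245550149921))) (.node (.node (.leaf 1258444554531) (.leaf 1271329653030)) (.node (.leaf 1284214751529) (.leaf 1297099850028)))) (.node (.node (.node (.leaf 1309984948527) (.leaf 1322870047026)) (.node (.leaf 1335755145525) (.leaf 1340045393979))) (.node (.node (.leaf 1172546650425) (.leaf 1361525342523)) (.node (.leaf 1374410441022) (.leaf 1387295539521)))))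 (.node (.node (.node (.node (.leaf 1395872629060) (.leaf 1408770703686)) (.node (.leaf 1421655802185) (.leaf 1434540900684))) (.node (.node (.leaf 1447425999183) (.leaf 1460311097682)) (.node (.leaf 1473196196181) (.leaf 1486081294680)))) (.node (.node (.node (.leaf 1494671360072) (.leaf 1301398028637)) (.node (.leaf 1511851491630) (.leaf 1524736590177))) (.node (.node (.leaf 1537621688676) (.leaf 1550506787175)) (.node (.leaf 1563391885674) (.leaf 1576276984173)))))))) (.node (.node (.node (.node (.node (.node (.node (.leaf 1589162082672) (.leaf 1602047181171)) (.node (.leaf 1614932279670) (.leaf 1627817378169))) (.node (.node (.leaf 1640702476668) (.leaf 1653587575167)) (.node (.leaf 1666472673666) (.leaf 1675048452485)))) (.node (.node (.node (.leaf 1683641598343) (.leaf 1696537903497)) (.node (.leaf 1709423001996) (.leaf 1722308100495))) (.node (.node (.leaf 1735193198994) (.leaf 1748078297493)) (.node (.leaf 1760963395992) (.leaf 1773848494491))))) (.node (.node (.node (.node (.leaf 1778123145218) (.leaf 1791028625823)) (.node (.leaf 1803913724322) (.leaf 1816798822821))) (.node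 (.node (.leaf 1829683921320) (.leaf 1567691112875)) (.node (.leaf 1851159085485) (.leaf 1859749151077)))) (.node (.node (.node (.leaf 1872634249650) (.leaf 1885519348149)) (.node (.leaf 1898404446648) (.leaf 1911289545147))) (.node (.node (.leaf 1924174643646) (.leaf 1937059742145)) (.node (.leaf 1945649807738) (.leaf 1958534906310)))))) (.node (.node (.node (.node (.node (.leaf 1971420004809) (.leaf 1980010070403)) (.node (.leaf 146059231694) (.leaf 2001485234640))) (.node (.node (.leaf 2014370333139) (.leaf 2027255431638)) (.node (.leaf 2040140530137) (.leaf 2053025628636)))) (.node (.node (.node (.leaf 2065910727135) (.leaf 2074500792365)) (.node (.leaf 919154786788) (.leaf 2091676795366))) (.node (.node (.leaf 2104566022632) (.leaf 2117451121131)) (.node (.leaf 2130336219630) (.leaf 2143221318129))))) (.node (.node (.node (.node (.leaf 2151811383329) (.leaf 2164696482294)) (.node (.leaf 2173277307385) (.leaf 2181867831803))) (.node (.node (.leaf 343630807549) (.leaf 2203351777791)) (.node (.leaf 2211941843205) (.leaf 2224826941956)))) (.node (.node (.node (.leaf 2237712040455) (.leaf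 2250597138954)) (.node (.leaf 2263482237453) (.leaf 2267772944524))) (.node (.node (.leaf 2113158644241) (.leaf 2289252434451)) (.node (.leaf 2302137532950) (.leaf 2315022631449))))))) (.node (.node (.node (.node (.node (.node (.leaf 2323600376348) (.leaf 2336497795614)) (.node (.leaf 2349382894113) (.leaf 2357972959506))) (.node (.node (.leaf 2366563025112) (.leaf 2379448123944)) (.node (.leaf 2388038189146) (.leaf 2400923288109)))) (.node (.node (.node (.leaf 2409513353369) (.leaf 2422398452274)) (.node (.leaf 2435283550773) (.leaf 2448168649272))) (.node (.node (.leaf 2456749736507) (.leaf 2469643813437)) (.node (.leaf 2478199276096) (.leaf 2491118977602))))) (.node (.node (.node (.node (.leaf 558352695877) (.leaf 2508299108934)) (.node (.leaf 2521184207433) (.leaf 1842579571276))) (.node (.node (.leaf 2542659371598) (.leaf 1520434610769)) (.node (.leaf 2559839502930) (.leaf 2564098490524)))) (.node (.node (.node (.leaf 2577019634262) (.leaf 2585602425433)) (.node (.leaf 2598494798427) (.leaf 2611379896926))) (.node (.node (.leaf 2624264995425) (.leaf 2632855060671)) (.node (.leaf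 2641445126246) (.leaf 2654330225256)))))) (.node (.node (.node (.node (.node (.leaf 2667215323755) (.leaf 2680100422254)) (.node (.leaf 2254884700785) (.leaf 2473942254194))) (.node (.node (.leaf 2705870619252) (.leaf 2718755717751)) (.node (.leaf 2731640816250) (.leaf 2735930147201)))) (.node (.node (.node (.leaf 2748820947582) (.leaf 2761706046081)) (.node (.leaf 2774591144580) (.leaf 2778862191175))) (.node (.node (.leaf 2791771275912) (.leaf 2796051694159)) (.node (.leaf 2804656374157) (.leaf 2817541472910))))) (.node (.node (.node (.node (.leaf 2826106438289) (.leaf 2839016637075)) (.node (.leaf 2847592284822) (.leaf 2860491801240))) (.node (.node (.leaf 2873376899739) (.leaf 2886261998238)) (.node (.leaf 2061628474017) (.leaf 2903438787235)))) (.node (.node (.node (.leaf 2912015024805) (.leaf 2924917293735)) (.node (.leaf 2937802392234) (.leaf 2950687490733))) (.node (.node (.leaf 2963572589232) (.leaf 2976457687731)) (.node (.leaf 2980733583748) (.leaf 2985010790773))))))))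

def k2Next_1 : H52.TCert.Tr := .node (.node (.node (.node (.node (.node (.node (.node (.leaf 2997932851896) (.leaf 3010817950395)) (.node (.leaf 3023703048894) (.leaf 3036588147393))) (.node (.node (.leaf 3049473245892) (.leaf 3062358344391)) (.node (.leaf 3066649313498) (.leaf 2920624685771)))) (.node (.node (.node (.leaf 3088128541389) (.leaf 3101013639888)) (.node (.leaf 3113898738387) (.leaf 3122478383830))) (.node (.node (.leaf 3135373902552) (.leaf 1846883910363)) (.node (.leaf 3156849066717) (.leaf 3169734165216))))) (.node (.node (.node (.node (.leaf 3182619263715) (.leaf 3195504362214)) (.node (.leaf 3204094427366) (.leaf 3212684493534))) (.node (.node (.leaf 3221255226093) (.leaf 3225548358377)) (.node (.leaf 330761831152) (.leaf 3247044756210)))) (.node (.node (.node (.leaf 3255597925109) (.leaf 816093594359)) (.node (.leaf 3277109986041) (.leaf 3289995084540))) (.node (.node (.leaf 3298575450879) (.leaf 1030842614529)) (.node (.leaf 3165441491715) (.leaf 3328650380037)))))) (.node (.node (.node (.node (.node (.leaf 3337210626824) (.leaf 3345830511070)) (.node (.leaf 3358715609868)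 (.leaf 3371600708367))) (.node (.node (.leaf 3384485806866) (.leaf 3393075871824)) (.node (.leaf 3405960971031) (.leaf 3414527836954)))) (.node (.node (.node (.leaf 3427436135196) (.leaf 3440321233695)) (.node (.leaf 3448911298964) (.leaf 3457477903140))) (.node (.node (.leaf 3466091430620) (.leaf 3259933131441)) (.node (.leaf 3483271562025) (.leaf 3491861627633))))) (.node (.node (.node (.node (.leaf 3504746726190) (.leaf 3517631824689)) (.node (.leaf 3530516923188) (.leaf 3543402021687))) (.node (.node (.leaf 3551979242298) (.leaf 3564877185852)) (.node (.leaf 3573467251458) (.leaf 3586352350017)))) (.node (.node (.node (.leaf 3599237448516) (.leaf 1533358375751)) (.node (.leaf 3616385270601) (.leaf 3629302678347))) (.node (.node (.leaf 3633589977802) (.leaf 2134615720640)) (.node (.leaf 738789950287) (.leaf 3650777841763))))))) (.node (.node (.node (.node (.node (.node (.leaf 3659367907884) (.leaf 3663659860189)) (.node (.leaf 3676548039510) (.leaf 3689433138009))) (.node (.node (.leaf 3698023203451) (.leaf 3710908302174)) (.node (.leaf 3723793400673) (.leaf 3732376257380)))) (.node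 (.node (.node (.leaf 3740966716262) (.leaf 3753858630504)) (.node (.leaf 3766743729003) (.leaf 3775321736046))) (.node (.node (.leaf 3788218893168) (.leaf 3796808958107)) (.node (.leaf 3805388931957) (.leaf 3818284122999))))) (.node (.node (.node (.node (.leaf 3822563688740) (.leaf 3685125260155)) (.node (.leaf 3835464254140) (.leaf 3844040164222))) (.node (.node (.leaf 3856939418496) (.leaf 3865519719299)) (.node (.leaf 3878414582661) (.leaf 3891299681160)))) (.node (.node (.node (.leaf 3899889746147) (.leaf 3908468409229)) (.node (.leaf 3921364910991) (.leaf 3929954976293))) (.node (.node (.leaf 3938545041713) (.leaf 2229148255126)) (.node (.leaf 3955725173254) (.leaf 3968610272154)))))) (.node (.node (.node (.node (.node (.leaf 3981495370653) (.leaf 3994380469152)) (.node (.leaf 4002928329635) (.leaf 4015855633317))) (.node (.node (.leaf 4028740731816) (.leaf 4041625830315)) (.node (.leaf 4054510928814) (.leaf 4063045157809)))) (.node (.node (.node (.leaf 4075986092979) (.leaf 1112422482870)) (.node (.leaf 1331468895159) (.leaf 2710186820536))) (.node (.node (.leaf 4101746262970) (.leaf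 4114641388476)) (.node (.leaf 4123182367679) (.leaf 4131813458881))))) (.node (.node (.node (.node (.leaf 4144706618307) (.leaf 4157591716806)) (.node (.leaf 4161835237381) (.leaf 4174771848138))) (.node (.node (.leaf 4179062554662) (.leaf 4191951979470)) (.node (.leaf 4200542044757) (.leaf 3985793811119)))) (.node (.node (.node (.leaf 4217722176468) (.leaf 4226312241962)) (.node (.leaf 4239197340633) (.leaf 4252082439132))) (.node (.node (.leaf 4264967537631) (.leaf 4273557603060)) (.node (.leaf 4282100417508) (.leaf 4290721940454)))))))) (.node (.node (.node (.node (.node (.node (.node (.leaf 1425994679212) (.leaf 4307917865961)) (.node (.leaf 4320802964460) (.leaf 4329393030068))) (.node (.node (.leaf 262059197425) (.leaf 4346573160676)) (.node (.leaf 4359458259957) (.leaf 4372343358456)))) (.node (.node (.node (.leaf 4385228456955) (.leaf 4389504417821)) (.node (.leaf 4398113554558) (.leaf 1876967949313))) (.node (.node (.leaf 4415290344451) (.leaf 4428178785285)) (.node (.leaf 493988938760) (.leaf 4445332964362))))) (.node (.node (.node (.node (.leaf 4458244015116) (.leaf 4466834079804))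 (.node (.leaf 4475424145678) (.leaf 4484006609939))) (.node (.node (.leaf 4488302101339) (.leaf 691558351894)) (.node (.leaf 4505489375468) (.leaf 4514079441377)))) (.node (.node (.node (.leaf 4526964540444) (.leaf 4539849638943)) (.node (.leaf 4552734737442) (.leaf 4565619835941))) (.node (.node (.leaf 4569911263598) (.leaf 4436771079209)) (.node (.leaf 4591390032939) (.leaf 4599970333742)))))) (.node (.node (.node (.node (.node (.leaf 4612865197104) (.leaf 4625750295603)) (.node (.leaf 4630014263789) (.leaf 4638635393463))) (.node (.node (.leaf 4651520492601) (.leaf 4660110557354)) (.node (.leaf 4668700623128) (.leaf 3509059584379)))) (.node (.node (.node (.leaf 4681522086977) (.leaf 4694470820931)) (.node (.leaf 4707355919430) (.leaf 3925664662601))) (.node (.node (.leaf 1211252802634) (.leaf 4728767448140)) (.node (.leaf 4741716182094) (.leaf 1529020548177))))) (.node (.node (.node (.node (.leaf 4750277672986) (.leaf 4763191346259)) (.node (.leaf 4209140695370) (.leaf 4776076444450))) (.node (.node (.leaf 3487544050777) (.leaf 4793256576090)) (.node (.leaf 4797486793086) (.leaf 4801780712186))))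 (.node (.node (.node (.leaf 4806135972600) (.leaf 4814731739252)) (.node (.leaf 4827616838754) (.leaf 3079565345893))) (.node (.node (.leaf 4844796969374) (.leaf 4853387034806)) (.node (.leaf 3174055019627) (.leaf 4874862199917))))))) (.node (.node (.node (.node (.node (.node (.leaf 4887747298416) (.leaf 4557023544435)) (.node (.leaf 4724521960564) (.leaf 4909222462581))) (.node (.node (.leaf 4922107561080) (.leaf 4934992659579)) (.node (.leaf 4939283039154) (.leaf 1241321047167)))) (.node (.node (.node (.leaf 4960762856577) (.leaf 4973647955076)) (.node (.leaf 4977899799197) (.leaf 3217006526488))) (.node (.node (.leaf 4986502054999) (.leaf 4995123118881)) (.node (.leaf 2602826531980) (.leaf 5012259144846))))) (.node (.node (.node (.node (.leaf 5020881847440) (.leaf 2714496074898)) (.node (.leaf 5038049264788) (.leaf 5046661153942))) (.node (.node (.leaf 5055240078488) (.leaf 5068138677402)) (.node (.leaf 1219848176797) (.leaf 5085318808201)))) (.node (.node (.node (.leaf 5098203907233) (.leaf 5111089005732)) (.node (.leaf 5115368833973) (.leaf 5119624348583))) (.node (.node (.leaf 5132564169897)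 (.leaf 5145449268396)) (.node (.leaf 5153977468079) (.leaf 1464662623409)))))) (.node (.node (.node (.node (.node (.leaf 5175514498227) (.leaf 5184104563473)) (.node (.leaf 5188396581305) (.leaf 5063845675801))) (.node (.node (.leaf 3771060651194) (.leaf 5209874759716)) (.node (.leaf 2499742598334) (.leaf 5218437366421)))) (.node (.node (.node (.leaf 4213442675904) (.leaf 5239939990722)) (.node (.leaf 5252825089221) (.leaf 5265710187720))) (.node (.node (.leaf 5278595286219) (.leaf 5287185351109)) (.node (.leaf 5295775417539) (.leaf 1138231936210))))) (.node (.node (.node (.node (.leaf 5304348705998) (.leaf 678685902036)) (.node (.leaf 5317216371359) (.leaf 5325786776791))) (.node (.node (.leaf 5334430712706) (.leaf 5347315811547)) (.node (.leaf 5355898471646) (.leaf 1988651713760)))) (.node (.node (.node (.leaf 5248471597942) (.leaf 5373010445538)) (.node (.leaf 5381629215972) (.leaf 5390266139645))) (.node (.node (.leaf 5398856204357) (.leaf 5411741304042)) (.node (.leaf 5424626402541) (.leaf 5428883555149))))))))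

def k2Next_2 : H52.TCert.Tr := .node (.node (.node (.node (.node (.node (.node (.node (.leaf 5433198576237) (.leaf 5446101566706)) (.node (.leaf 5454691632064) (.leaf 5458968707705))) (.node (.node (.leaf 5467576730817) (.leaf 429580223650)) (.node (.leaf 5484756862203) (.leaf 5493346927829)))) (.node (.node (.node (.leaf 5506232026368) (.leaf 5519117124867)) (.node (.leaf 5532002223366) (.leaf 5544887321865))) (.node (.node (.leaf 5553467622668) (.leaf 5566362486030)) (.node (.leaf 5574952551649) (.leaf 5587837650195))))) (.node (.node (.node (.node (.leaf 5600722748694) (.leaf 3478928294121)) (.node (.leaf 1043713819929) (.leaf 2783224464666))) (.node (.node (.leaf 5617855366328) (.leaf 4449617511600)) (.node (.leaf 1705187869981) (.leaf 2869076820147)))) (.node (.node (.node (.leaf 5630716740669) (.leaf 5635080389052)) (.node (.leaf 5643638867233) (.leaf 5656558175523))) (.node (.node (.leaf 5665148241020) (.leaf 5678033339688)) (.node (.leaf 5690918438187) (.leaf 5699502867758)))))) (.node (.node (.node (.node (.node (.leaf 5708093130032) (.leaf 5716688633966)) (.node (.leaf 5725278700270)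 (.leaf 2821871568182))) (.node (.node (.leaf 3534845575549) (.leaf 5738156000061)) (.node (.leaf 5742447493630) (.leaf 5652183844154)))) (.node (.node (.node (.leaf 5755343930541) (.leaf 5763923248445)) (.node (.leaf 5776819094847) (.leaf 5789704193346))) (.node (.node (.leaf 5802589291845) (.leaf 5806803255746)) (.node (.leaf 5815465674057) (.leaf 1305758926155))))) (.node (.node (.node (.node (.leaf 5832654521398) (.leaf 1318644023817)) (.node (.leaf 3040925975451) (.leaf 5849834652355))) (.node (.node (.leaf 5858424718246) (.leaf 5871309817173)) (.node (.leaf 5884194915672) (.leaf 5897080014171)))) (.node (.node (.node (.leaf 2370911994843) (.leaf 5914260145503)) (.node (.leaf 5927145244002) (.leaf 5940030342501))) (.node (.node (.leaf 3977230484840) (.leaf 3607863362681)) (.node (.leaf 5965800539499) (.leaf 5970043733122))))))) (.node (.node (.node (.node (.node (.node (.leaf 5982980670831) (.leaf 3521960412530)) (.node (.leaf 6000160802163) (.leaf 6004415136303))) (.node (.node (.leaf 6008676155400) (.leaf 6013008282513)) (.node (.leaf 6017268385110) (.leaf 6025840166266)))) (.node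 (.node (.node (.leaf 3307216897404) (.leaf 5695152981374)) (.node (.leaf 6043098088749) (.leaf 3315807094144))) (.node (.node (.leaf 6064586294658) (.leaf 6068795933782)) (.node (.leaf 5192708130055) (.leaf 6081766425964))))) (.node (.node (.node (.node (.leaf 378035307913) (.leaf 5226979394954)) (.node (.leaf 6098946557056) (.leaf 5781059995021))) (.node (.node (.leaf 4183391405454) (.leaf 2723022243216)) (.node (.leaf 6124648007057) (.leaf 4303650817427)))) (.node (.node (.node (.leaf 3556326638997) (.leaf 6154781984151)) (.node (.leaf 6163372048471) (.leaf 5536306955183))) (.node (.node (.leaf 4153323357448) (.leaf 1670832719261)) (.node (.leaf 1018001556894) (.leaf 4368076178848)))))) (.node (.node (.node (.node (.node (.leaf 6197732311712) (.leaf 6210617410980)) (.node (.leaf 6223502509479) (.leaf 6232050566570))) (.node (.node (.leaf 6236385312816) (.leaf 6141898524077)) (.node (.leaf 6253545850287) (.leaf 6266452837809)))) (.node (.node (.node (.leaf 6275036480948) (.leaf 6279311131932)) (.node (.leaf 6283537220660) (.leaf 6292223034025))) (.node (.node (.leaf 6296482611836) (.leaf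 6309403166139)) (.node (.leaf 1692313452790) (.leaf 6322270438847))))) (.node (.node (.node (.node (.leaf 6330878329416) (.leaf 6339468395416)) (.node (.leaf 6348053546437) (.leaf 6360943560135))) (.node (.node (.leaf 6369450132938) (.leaf 1855523194316)) (.node (.leaf 2452427507150) (.leaf 4243525207503)))) (.node (.node (.node (.leaf 6399573165521) (.leaf 5854083613208)) (.node (.leaf 6412483954131) (.leaf 6416694641227))) (.node (.node (.leaf 5592110073303) (.leaf 6433959118296)) (.node (.leaf 2083157444059) (.leaf 6451139248743)))))))) (.node (.node (.node (.node (.node (.node (.node (.leaf 6459729314050) (.leaf 6472614413793)) (.node (.leaf 6485499512292) (.leaf 6498384610791))) (.node (.node (.leaf 2306488992663) (.leaf 6365240755275)) (.node (.leaf 6506882007348) (.leaf 6519859774956)))) (.node (.node (.node (.leaf 6524151333704) (.leaf 1967194703344)) (.node (.leaf 1657957189106) (.leaf 6549925004303))) (.node (.node (.leaf 6558459692534) (.leaf 6567080166904)) (.node (.leaf 6575681832442) (.leaf 6579956482370))))) (.node (.node (.node (.node (.leaf 3388791457277) (.leaf 6597170365950))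 (.node (.leaf 1919872665089) (.leaf 532675102210))) (.node (.node (.leaf 6610014503035) (.leaf 6618604701188)) (.node (.leaf 6631530628614) (.leaf 5785355879945)))) (.node (.node (.node (.leaf 6644415726541) (.leaf 6648700667245)) (.node (.leaf 6652941763940) (.leaf 640051774990))) (.node (.node (.leaf 4136155285008) (.leaf 6678676964882)) (.node (.leaf 6687339185684) (.leaf 6700251153942)))))) (.node (.node (.node (.node (.node (.leaf 4634329875993) (.leaf 6713120392730)) (.node (.leaf 6726021350940) (.leaf 6734578189855))) (.node (.node (.leaf 6747496515105) (.leaf 4247733404751)) (.node (.leaf 1962903077192) (.leaf 6764676646437)))) (.node (.node (.node (.leaf 6777561744936) (.leaf 5579265999495)) (.node (.leaf 1185514521497) (.leaf 17251960365))) (.node (.node (.leaf 6794702751275) (.leaf 1009421125167)) (.node (.leaf 6816217040433) (.leaf 5828311122245))))) (.node (.node (.node (.node (.leaf 2637214058036) (.leaf 1688009770550)) (.node (.leaf 5836964890167) (.leaf 6846276699705))) (.node (.node (.leaf 2800329688635) (.leaf 6751793251900)) (.node (.leaf 6867700090430) (.leaf 6880642532928))))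 (.node (.node (.node (.leaf 4879187969603) (.leaf 6897799136837)) (.node (.leaf 6906412728557) (.leaf 1739567269449))) (.node (.node (.leaf 6923579426379) (.leaf 6932096484941)) (.node (.leaf 6945068025423) (.leaf 6949260296339))))))) (.node (.node (.node (.node (.node (.node (.leaf 6957939295827) (.leaf 2293618770084)) (.node (.leaf 6820514365973) (.leaf 5128248296636))) (.node (.node (.leaf 47351006768) (.leaf 6983723320920)) (.node (.leaf 635741799382) (.leaf 6992313385867)))) (.node (.node (.node (.leaf 7000903451487) (.leaf 7009485915743)) (.node (.leaf 5751034414689) (.leaf 5867032479330))) (.node (.node (.leaf 7030910355044) (.leaf 7039534958182)) (.node (.leaf 7043849126803) (.leaf 5244198979091))))) (.node (.node (.node (.node (.leaf 2572742559337) (.leaf 7056738877695)) (.node (.leaf 1572065771914) (.leaf 7065327370879))) (.node (.node (.leaf 3869785392750) (.leaf 1808289236591)) (.node (.leaf 7086804108781) (.leaf 7099689207411)))) (.node (.node (.node (.leaf 7112574305910) (.leaf 7125459404409)) (.node (.leaf 3801147508348) (.leaf 7138320385661))) (.node (.node (.leaf 7146934567498)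 (.leaf 7155418269313)) (.node (.leaf 665819873977) (.leaf 7078206309225)))))) (.node (.node (.node (.node (.node (.leaf 7164114699793) (.leaf 7172696245893)) (.node (.leaf 5463307978375) (.leaf 3792456386185))) (.node (.node (.leaf 7198474962570) (.leaf 7207033833101)) (.node (.leaf 266398007941) (.leaf 7215615247400)))) (.node (.node (.node (.leaf 7219866764315) (.leaf 7228540192185)) (.node (.leaf 7237130257094) (.leaf 7241404711794))) (.node (.node (.leaf 7254310389399) (.leaf 4067444852378)) (.node (.leaf 7271456835228) (.leaf 7284375619230))))) (.node (.node (.node (.node (.leaf 7292922234529) (.leaf 7301489231523)) (.node (.leaf 7310145815452) (.leaf 7091058443497))) (.node (.node (.leaf 5196961547713) (.leaf 7318678210215)) (.node (.leaf 7323019380144) (.leaf 7095397844650)))) (.node (.node (.node (.leaf 6863469741740) (.leaf 7348801111174)) (.node (.leaf 2465372702384) (.leaf 7357300670475))) (.node (.node (.leaf 7361654162479) (.leaf 7365967938971)) (.node (.leaf 7374571308692) (.leaf 7378754209259))))))))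

def k2Next_3 : H52.TCert.Tr := .node (.node (.node (.node (.node (.node (.node (.node (.leaf 7391751440055) (.leaf 7400341505691)) (.node (.leaf 7404541052217) (.leaf 7417521637053))) (.node (.node (.leaf 7430406735552) (.leaf 2942143694531)) (.node (.leaf 7443291833004) (.leaf 7451881899446)))) (.node (.node (.node (.leaf 7460471965022) (.leaf 790387951306)) (.node (.leaf 7477652096479) (.leaf 7490537195214))) (.node (.node (.leaf 7499125425873) (.leaf 674424424147)) (.node (.leaf 7520602425045) (.leaf 7533487523544))))) (.node (.node (.node (.node (.leaf 7537733928032) (.leaf 7542066839666)) (.node (.leaf 6695881081362) (.leaf 7546368492647))) (.node (.node (.leaf 524097160926) (.leaf 7559155812063)) (.node (.leaf 5639407468716) (.leaf 7572100024034)))) (.node (.node (.node (.leaf 7580732884550) (.leaf 339409307366)) (.node (.leaf 7589289853976) (.leaf 7516230321896))) (.node (.node (.leaf 7597899056106) (.leaf 4393845785873)) (.node (.leaf 7606503081183) (.leaf 6872058169068)))))) (.node (.node (.node (.node (.node (.leaf 7623683213037) (.leaf 7632273278563)) (.node (.leaf 7636497597235)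 (.leaf 7649453410035))) (.node (.node (.leaf 7658043474240) (.leaf 5952848134384)) (.node (.leaf 2628551837432) (.leaf 1026614232825)))) (.node (.node (.node (.leaf 7679518638472) (.leaf 7688010008317)) (.node (.leaf 7696599222015) (.leaf 3229837362945))) (.node (.node (.leaf 6859095869186) (.leaf 6227820283651)) (.node (.leaf 7383118317317) (.leaf 4350901880582))))) (.node (.node (.node (.node (.leaf 7249953425159) (.leaf 2246385861665)) (.node (.leaf 7735254516449) (.leaf 6184871069450))) (.node (.node (.leaf 4355107127744) (.leaf 7756829230860)) (.node (.leaf 7765419295412) (.leaf 4947846431300)))) (.node (.node (.node (.leaf 4333740557086) (.leaf 7778304393547)) (.node (.leaf 7791189493524) (.leaf 7211369105175))) (.node (.node (.leaf 4501237859717) (.leaf 7683815638809)) (.node (.leaf 7816959689975) (.leaf 7829844789021))))))) (.node (.node (.node (.node (.node (.node (.leaf 236263245600) (.leaf 7838383802022)) (.node (.leaf 751739012898) (.leaf 7859910018852))) (.node (.node (.leaf 365192283943) (.leaf 2834734712617)) (.node (.leaf 7877066162635) (.leaf 7885673137963)))) (.node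 (.node (.node (.leaf 7898565314349) (.leaf 7907155379577)) (.node (.leaf 4655865333554) (.leaf 4836254091060))) (.node (.node (.leaf 7928602953057) (.leaf 7941515642679)) (.node (.leaf 2899152209568) (.leaf 7950080542522))))) (.node (.node (.node (.node (.leaf 7958695773567) (.leaf 3075296658229)) (.node (.leaf 1752468161782) (.leaf 4230664357450))) (.node (.node (.leaf 7975757612864) (.leaf 5712428270745)) (.node (.leaf 7387415185219) (.leaf 7992972609348)))) (.node (.node (.node (.leaf 747446404934) (.leaf 8010236167745)) (.node (.leaf 6202011748170) (.leaf 6090385982272))) (.node (.node (.leaf 2555601356620) (.leaf 8027406468939)) (.node (.leaf 3423211554638) (.leaf 1597828563376)))))) (.node (.node (.node (.node (.node (.leaf 8044559730512) (.leaf 8048866100484)) (.node (.leaf 3595010574163) (.leaf 8001647150933))) (.node (.node (.leaf 8070343819833) (.leaf 4148997128932)) (.node (.leaf 8078956693200) (.leaf 1786793362896)))) (.node (.node (.node (.leaf 8087546758295) (.leaf 8096136822989)) (.node (.leaf 8100324835566) (.leaf 8108942755679))) (.node (.node (.leaf 8113306271956) (.leaf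 8126202054498)) (.node (.leaf 8134715639653) (.leaf 8143367374695))))) (.node (.node (.node (.node (.leaf 8151972250690) (.leaf 8031653070648)) (.node (.leaf 8164857349995) (.leaf 8177742448494))) (.node (.node (.leaf 2744609015665) (.leaf 4020214433651)) (.node (.leaf 2757488281461) (.leaf 8207692334966)))) (.node (.node (.node (.leaf 1954335426388) (.leaf 6889252980601)) (.node (.leaf 8229242144635) (.leaf 7262856609836))) (.node (.node (.leaf 8233492480716) (.leaf 4810418880670)) (.node (.leaf 3354495223678) (.leaf 8250758006519)))))))) (.node (.node (.node (.node (.node (.node (.node (.leaf 8255051399992) (.leaf 8259285026300)) (.node (.leaf 8272233170820) (.leaf 8276479771235))) (.node (.node (.leaf 6528430114696) (.leaf 2581348614343)) (.node (.leaf 8285054502334) (.leaf 4277910176430)))) (.node (.node (.node (.leaf 4587151624074) (.leaf 2280754317196)) (.node (.leaf 970770940894) (.leaf 8306505286404))) (.node (.node (.leaf 8315178518415) (.leaf 8328068597649)) (.node (.leaf 8267932239764) (.leaf 5918592139970))))) (.node (.node (.node (.node (.leaf 3951480013343) (.leaf 8349543761814))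 (.node (.leaf 8358128322457) (.leaf 8366723892482))) (.node (.node (.leaf 8370976392213) (.leaf 8375269655412)) (.node (.leaf 4531318359668) (.leaf 8388199056414)))) (.node (.node (.node (.leaf 6691687172002) (.leaf 2516978370063)) (.node (.leaf 8405262337956) (.leaf 6214946064294))) (.node (.node (.leaf 2057351857567) (.leaf 2259202344872)) (.node (.leaf 4913487284137) (.leaf 8426772562787)))))) (.node (.node (.node (.node (.node (.leaf 6219241359275) (.leaf 8443934082989)) (.node (.leaf 8216357898159) (.leaf 8452609017589))) (.node (.node (.leaf 8456817278990) (.leaf 8465474324402)) (.node (.leaf 8469764046913) (.leaf 7134069981413)))) (.node (.node (.node (.leaf 8482689778781) (.leaf 7297244791968)) (.node (.leaf 8491279845010) (.leaf 2658714387708))) (.node (.node (.leaf 8504164942442) (.leaf 8512643401661)) (.node (.leaf 2701664454591) (.leaf 8529935140054))))) (.node (.node (.node (.node (.leaf 8538427361219) (.leaf 8547066120133)) (.node (.leaf 8551301055964) (.leaf 8564295403464))) (.node (.node (.leaf 6257898096551) (.leaf 610016167555)) (.node (.leaf 8577106706883) (.leaf 6262193326030))))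 (.node (.node (.node (.leaf 8590014218296) (.leaf 6240718618976)) (.node (.leaf 8602928351186) (.leaf 837650024404))) (.node (.node (.leaf 7894225323990) (.leaf 8624425861150)) (.node (.leaf 8628701692045) (.leaf 7473335697897))))))) (.node (.node (.node (.node (.node (.node (.leaf 8632979293477) (.leaf 1662284203995)) (.node (.leaf 8645886149630) (.leaf 8654404913118))) (.node (.node (.leaf 8663081157987) (.leaf 8671645992930)) (.node (.leaf 3401709783012) (.leaf 8680224392097)))) (.node (.node (.node (.leaf 8611542009830) (.leaf 8340959135105)) (.node (.leaf 8697436766485) (.leaf 8705919092714))) (.node (.node (.leaf 2843377991902) (.leaf 8718916585452)) (.node (.leaf 3453197353355) (.leaf 8727506649587))))) (.node (.node (.node (.node (.leaf 5510558057389) (.leaf 8740391749617)) (.node (.leaf 459694999540) (.leaf 2147617277942))) (.node (.node (.leaf 8761756550824) (.leaf 3826949619983)) (.node (.leaf 3474655479802) (.leaf 8774695059509)))) (.node (.node (.node (.leaf 7937233586172) (.leaf 7224134992418)) (.node (.leaf 2959366554869) (.leaf 5489034594178))) (.node (.node (.leaf 8796130379775)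 (.leaf 8800411124656)) (.node (.leaf 5862642877657) (.leaf 3470450032741)))))) (.node (.node (.node (.node (.node (.leaf 8809112273092) (.leaf 897774192644)) (.node (.leaf 8821997372361) (.leaf 8830587437463))) (.node (.node (.leaf 5257174845449) (.leaf 8852062603275)) (.node (.leaf 8675962914613) (.leaf 481171539982)))) (.node (.node (.node (.leaf 7082524346384) (.leaf 8869115135909)) (.node (.leaf 2177683884050) (.leaf 8882042241268))) (.node (.node (.leaf 8263637403127) (.leaf 6893490537621)) (.node (.leaf 5300125237299) (.leaf 3547720583166))))) (.node (.node (.node (.node (.leaf 8890599080649) (.leaf 4819089098775)) (.node (.leaf 8903474742792) (.leaf 4917864695679))) (.node (.node (.leaf 8907845404464) (.leaf 1365934669908)) (.node (.leaf 8912186245437) (.leaf 2993684611793)))) (.node (.node (.node (.leaf 2156209702940) (.leaf 3281491199112)) (.node (.leaf 3083896358943) (.leaf 6768927441786))) (.node (.node (.leaf 7984480519719) (.leaf 120290215969)) (.node (.leaf 8942242759916) (.leaf 107428316128))))))))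

def k2Next_4 : H52.TCert.Tr := .node (.node (.node (.node (.node (.node (.node (.node (.leaf 6056020411632) (.leaf 5729576028195)) (.node (.leaf 1073800740927) (.leaf 111802517540))) (.node (.node (.leaf 8023081812073) (.leaf 8486992087077)) (.node (.leaf 8963717726932) (.leaf 6902149285734)))) (.node (.node (.node (.leaf 2972254341161) (.leaf 8985186338859)) (.node (.leaf 8993798686518) (.leaf 8091847819597))) (.node (.node (.leaf 1649370398803) (.leaf 3809687962167)) (.node (.leaf 6030197786671) (.leaf 9006683784513))))) (.node (.node (.node (.node (.leaf 1155483698906) (.leaf 4338054596659)) (.node (.leaf 8967927432504) (.leaf 3728043214630))) (.node (.node (.leaf 9028091185205) (.leaf 7018114384022)) (.node (.leaf 9041044047333) (.leaf 9049634112956)))) (.node (.node (.node (.leaf 6854897763439) (.leaf 9062519212092)) (.node (.leaf 6665895806894) (.leaf 9066806183034))) (.node (.node (.leaf 3539191466022) (.leaf 773232592524)) (.node (.leaf 9088289409090) (.leaf 8173461505571)))))) (.node (.node (.node (.node (.node (.leaf 6760417396806) (.leaf 9109715421256)) (.node (.leaf 9118269245514)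 (.leaf 9126944702801))) (.node (.node (.leaf 7718063573070) (.leaf 9139712559183)) (.node (.leaf 6335216289844) (.leaf 9157009934418)))) (.node (.node (.node (.leaf 9165511133269) (.leaf 5480388362696)) (.node (.leaf 1997213337687) (.leaf 2955075847138))) (.node (.node (.leaf 6717384229517) (.leaf 7468968379195)) (.node (.leaf 7275687904113) (.leaf 9178485098103))))) (.node (.node (.node (.node (.leaf 9186953922650) (.leaf 9195616995420)) (.node (.leaf 9204132546654) (.leaf 9212845359294))) (.node (.node (.leaf 9221435425033) (.leaf 5008026830948)) (.node (.leaf 9230021362959) (.leaf 9234315346967)))) (.node (.node (.node (.leaf 1327157020775) (.leaf 9242876839968)) (.node (.leaf 6635860461673) (.leaf 9260090722410))) (.node (.node (.leaf 9272975820909) (.leaf 9281565886299)) (.node (.leaf 9285856069310) (.leaf 2233524750176))))))) (.node (.node (.node (.node (.node (.node (.leaf 9298746015861) (.leaf 5166987610019)) (.node (.leaf 9311631116036) (.leaf 9320084211833))) (.node (.node (.leaf 9328713271419) (.leaf 9341696346237)) (.node (.leaf 4643002255292) (.leaf 6077521463425)))) (.node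 (.node (.node (.leaf 6395258077216) (.leaf 9358849935001)) (.node (.leaf 313675482969) (.leaf 9376056608901))) (.node (.node (.leaf 9384557938824) (.leaf 5523468519562)) (.node (.leaf 9397531772821) (.leaf 9401765463103))))) (.node (.node (.node (.node (.leaf 6541266518033) (.leaf 2688734134576)) (.node (.leaf 5364557677378) (.leaf 9191292864655))) (.node (.node (.leaf 5935781251163) (.leaf 1413187963024)) (.node (.leaf 9423170633728) (.leaf 1400163928198)))) (.node (.node (.node (.leaf 721612834963) (.leaf 8959311284372)) (.node (.leaf 1404460009491) (.leaf 9264313600149))) (.node (.node (.leaf 983691626646) (.leaf 4926355081368)) (.node (.leaf 5557831927157) (.leaf 9461957263527)))))) (.node (.node (.node (.node (.node (.leaf 3324447230027) (.leaf 4080316514909)) (.node (.leaf 1975829465244) (.leaf 8585784264862))) (.node (.node (.leaf 9483386553047) (.leaf 9487677326704)) (.node (.leaf 6627279440034) (.leaf 9500489023617)))) (.node (.node (.node (.leaf 9453368049940) (.leaf 9509192008445)) (.node (.leaf 6150538331844) (.leaf 3015089522030))) (.node (.node (.leaf 9517779517467) (.leaf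 317972874396)) (.node (.leaf 9526339568765) (.leaf 5931495327915))))) (.node (.node (.node (.node (.leaf 4093219635468) (.leaf 7915761109165)) (.node (.leaf 9547857921106) (.leaf 9556447987616))) (.node (.node (.leaf 9564994013362) (.leaf 158942038196)) (.node (.leaf 4222098999477) (.leaf 4711582075063)))) (.node (.node (.node (.leaf 8508452440248) (.leaf 9590683271480)) (.node (.leaf 9307200880939) (.leaf 9595067105844))) (.node (.node (.leaf 9599280022613) (.leaf 9161293891037)) (.node (.leaf 3637932720379) (.leaf 4406783051964)))))))) (.node (.node (.node (.node (.node (.node (.node (.leaf 2967946855530) (.leaf 2504021641406)) (.node (.leaf 9620873478790) (.leaf 1292932090049))) (.node (.node (.leaf 4582873499551) (.leaf 9569334134775)) (.node (.leaf 9637918409228) (.leaf 9650938710213)))) (.node (.node (.node (.leaf 4316589458133) (.leaf 9663823808179)) (.node (.leaf 6073161090928) (.leaf 5957177313483))) (.node (.node (.leaf 9672406597922) (.leaf 9676692259354)) (.node (.leaf 7945782035095) (.leaf 1181152315169))))) (.node (.node (.node (.node (.leaf 9680970712973) (.leaf 9268540016847))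 (.node (.leaf 9693889038260) (.leaf 9698179352711))) (.node (.node (.leaf 1610760849619) (.leaf 8130381220053)) (.node (.leaf 9719643310294) (.leaf 395285366234)))) (.node (.node (.node (.leaf 1194026469369) (.leaf 4312295604768)) (.node (.leaf 7821283951295) (.leaf 3912863778492))) (.node (.node (.leaf 9148330607751) (.leaf 2126157449121)) (.node (.leaf 55946250461) (.leaf 8293671962256)))))) (.node (.node (.node (.node (.node (.leaf 9294357660189) (.leaf 4849166911710)) (.node (.leaf 4088949768799) (.leaf 7731090098400))) (.node (.node (.leaf 3904167609172) (.leaf 4990777754508)) (.node (.leaf 9728250022114) (.leaf 3620696359208)))) (.node (.node (.node (.leaf 3333043783260) (.leaf 8843391928549)) (.node (.leaf 6798981269734) (.leaf 9788350595532))) (.node (.node (.leaf 4127503943912) (.leaf 5961558198505)) (.node (.leaf 9801148858630) (.leaf 3715296397547))))) (.node (.node (.node (.node (.leaf 6094702250221) (.leaf 1275755102598)) (.node (.leaf 9749681471497) (.leaf 86049228273))) (.node (.node (.leaf 7189821655280) (.leaf 1606457821113)) (.node (.leaf 9835625121065) (.leaf 9839917139319))))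 (.node (.node (.node (.leaf 7026700781812) (.leaf 6790423969870)) (.node (.leaf 9852793522421) (.leaf 5974447818062))) (.node (.node (.leaf 9856995164635) (.leaf 3990175089593)) (.node (.leaf 6721672579270) (.leaf 3560675870969))))))) (.node (.node (.node (.node (.node (.node (.leaf 9869952616278) (.leaf 7408924623956)) (.node (.leaf 7279977629370) (.leaf 1636529996970))) (.node (.node (.leaf 6111829361970) (.leaf 2529886406388)) (.node (.leaf 9878444770815) (.leaf 9071062681853)))) (.node (.node (.node (.leaf 5733782194430) (.leaf 6910753376511)) (.node (.leaf 7563443177729) (.leaf 614331450501))) (.node (.node (.leaf 9908622264293) (.leaf 8147616073693)) (.node (.leaf 2693040373834) (.leaf 3311571043509))))) (.node (.node (.node (.node (.leaf 6988054201066) (.leaf 3702304672005)) (.node (.leaf 8409697421574) (.leaf 9930023437039))) (.node (.node (.leaf 9938685790473) (.leaf 2482509710078)) (.node (.leaf 8946421401774) (.leaf 9947228735755)))) (.node (.node (.node (.leaf 9951586748582) (.leaf 4720286368453)) (.node (.leaf 880504143892) (.leaf 9955871098857))) (.node (.node (.leaf 7782627608731)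 (.leaf 889210210564)) (.node (.leaf 9964325112004) (.leaf 9973066172097)))))) (.node (.node (.node (.node (.node (.leaf 6657307183367) (.leaf 9977223055462)) (.node (.leaf 2787483780930) (.leaf 9985951271080))) (.node (.node (.leaf 9994541336704) (.leaf 1756794259736)) (.node (.leaf 10011721466634) (.leaf 10020311533440)))) (.node (.node (.node (.leaf 1645125436851) (.leaf 10037491665183)) (.node (.leaf 10050376763682) (.leaf 7911460636674))) (.node (.node (.leaf 10054667337922) (.leaf 5892758570026)) (.node (.leaf 1481811036165) (.leaf 1503390075174))))) (.node (.node (.node (.node (.leaf 687286454567) (.leaf 10033115563841)) (.node (.leaf 6494114611523) (.leaf 8594374002769))) (.node (.node (.leaf 10071851926239) (.leaf 992215762181)) (.node (.leaf 10084737026346) (.leaf 9363081855439)))) (.node (.node (.node (.leaf 4840495450413) (.leaf 1984428968238)) (.node (.leaf 7752570110262) (.leaf 10110385850673))) (.node (.node (.leaf 10118975129907) (.leaf 5308593735008)) (.node (.leaf 9771118953025) (.leaf 7035254145725))))))))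

def k2Next_5 : H52.TCert.Tr := .node (.node (.node (.node (.node (.node (.node (.node (.leaf 7426130839861) (.leaf 3028076726582)) (.node (.leaf 2808989025722) (.leaf 4548477847521))) (.node (.node (.leaf 10131830015174) (.leaf 9474793604524)) (.node (.leaf 3032272012261) (.leaf 10144867486008)))) (.node (.node (.node (.leaf 10149024302245) (.leaf 8877745112144)) (.node (.leaf 7159808394484) (.leaf 8139083547171))) (.node (.node (.leaf 10157641894204) (.leaf 9904349644644)) (.node (.leaf 6300843247762) (.leaf 10106213239103))))) (.node (.node (.node (.node (.leaf 10179227748415) (.leaf 6562865415787)) (.node (.leaf 584162543940) (.leaf 10192089122328))) (.node (.node (.leaf 1718044525328) (.leaf 6038879668550)) (.node (.leaf 708825385288) (.leaf 446762912074)))) (.node (.node (.node (.leaf 2495521424366) (.leaf 10217733488721)) (.node (.leaf 3350230534476) (.leaf 10230756279687))) (.node (.node (.leaf 5042372610312) (.leaf 10239347394895)) (.node (.leaf 10247948272998) (.leaf 10256390555987)))))) (.node (.node (.node (.node (.node (.leaf 9208566450203) (.leaf 9968660645663)) (.node (.leaf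 1713794319205) (.leaf 10269423438052))) (.node (.node (.leaf 5978652476996) (.leaf 9431804609810)) (.node (.leaf 4789033765208) (.leaf 10278008783709)))) (.node (.node (.node (.leaf 5441880458899) (.leaf 4011619058647)) (.node (.leaf 10286491764260) (.leaf 10290887853402))) (.node (.node (.leaf 5596435908162) (.leaf 6708896074077)) (.node (.leaf 10303645549639) (.leaf 3320097735881))))) (.node (.node (.node (.node (.leaf 3191263332637) (.leaf 4170553558857)) (.node (.leaf 8310855893420) (.leaf 10307952443853))) (.node (.node (.leaf 455391642035) (.leaf 10316619254113)) (.node (.leaf 7061005797731) (.leaf 2989353208164)))) (.node (.node (.node (.leaf 4956547582309) (.leaf 6356690994057)) (.node (.leaf 9925723947133) (.leaf 10333765239993))) (.node (.node (.leaf 8804768743808) (.leaf 5394593218658)) (.node (.leaf 10338107721043) (.leaf 10342381913354))))))) (.node (.node (.node (.node (.node (.node (.leaf 6378155280589) (.leaf 3418951845659)) (.node (.leaf 3264264602022) (.leaf 10350999766759))) (.node (.node (.leaf 8534256977055) (.leaf 8693171815762)) (.node (.leaf 30161897373) (.leaf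 1928532133822)))) (.node (.node (.node (.leaf 10359580591577) (.leaf 6086126798557)) (.node (.leaf 10346614294360) (.leaf 137487189170))) (.node (.node (.leaf 8383927354417) (.leaf 10372461562222)) (.node (.leaf 10376750499366) (.leaf 10381075548122))))) (.node (.node (.node (.node (.leaf 8345190532518) (.leaf 10385358980767)) (.node (.leaf 1799716800883) (.leaf 10393846285154))) (.node (.node (.leaf 1812634929525) (.leaf 9135554234508)) (.node (.leaf 2194843961720) (.leaf 4007323566597)))) (.node (.node (.node (.leaf 9380224895093) (.leaf 5313033471926)) (.node (.leaf 2877632022568) (.leaf 240605006202))) (.node (.node (.leaf 3251378653548) (.leaf 4033080265083)) (.node (.leaf 10432504138108) (.leaf 10436911826893)))))) (.node (.node (.node (.node (.node (.leaf 8860668135792) (.leaf 764544024599)) (.node (.leaf 10441191195398) (.leaf 3668012040284))) (.node (.node (.leaf 777548466101) (.leaf 10454109849046)) (.node (.leaf 279296017508) (.leaf 10458384173374)))) (.node (.node (.node (.leaf 10466951039364) (.leaf 1314401093171)) (.node (.leaf 3139753346789) (.leaf 10471180797639))) (.node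 (.node (.leaf 7456188074361) (.leaf 944963193223)) (.node (.leaf 10484141918600) (.leaf 1288589805241))))) (.node (.node (.node (.node (.leaf 7413239644965) (.leaf 10488437604571)) (.node (.leaf 2538445015435) (.leaf 10501225318796))) (.node (.node (.leaf 8770474543502) (.leaf 10514163042703)) (.node (.leaf 9010976524357) (.leaf 10522830373946)))) (.node (.node (.node (.leaf 10535715473811) (.leaf 10544301148566)) (.node (.leaf 10161902060249) (.leaf 6970792936778))) (.node (.node (.leaf 408182917528) (.leaf 8362338550686)) (.node (.leaf 8886424766005) (.leaf 163361129056)))))))) (.node (.node (.node (.node (.node (.node (.node (.leaf 6756069083546) (.leaf 5089697400769)) (.node (.leaf 5819839940883) (.leaf 8791907109276))) (.node (.node (.leaf 7795526994333) (.leaf 8572916205983)) (.node (.leaf 9418943431445) (.leaf 1730945482802)))) (.node (.node (.node (.leaf 4097560348241) (.leaf 6425432754594)) (.node (.leaf 10600138999613) (.leaf 10604416468106))) (.node (.node (.leaf 7997317711075) (.leaf 8323801022876)) (.node (.leaf 5613684197798) (.leaf 10621503146408))))) (.node (.node (.node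 (.node (.leaf 7129807915434) (.leaf 3444697663916)) (.node (.leaf 10638739637753) (.leaf 9096826652903))) (.node (.node (.leaf 9809867704175) (.leaf 10651571194287)) (.node (.leaf 5407526488497) (.leaf 3242734848430)))) (.node (.node (.node (.leaf 2894928349619) (.leaf 7666676139695)) (.node (.leaf 5282972566776) (.leaf 4045977421527))) (.node (.node (.leaf 5123982034603) (.leaf 700221032284)) (.node (.leaf 4037387092756) (.leaf 10673080763367)))))) (.node (.node (.node (.node (.node (.leaf 8203461068391) (.leaf 2207772837350)) (.node (.leaf 10677323499901) (.leaf 2044532949750))) (.node (.node (.leaf 5811166643487) (.leaf 1099574019400)) (.node (.leaf 10690336655799) (.leaf 1580711151867)))) (.node (.node (.node (.leaf 10698882285935) (.leaf 5609300296193)) (.node (.leaf 8066111898052) (.leaf 5377418004188))) (.node (.node (.leaf 10711800089021) (.leaf 3758111523466)) (.node (.leaf 2813300179818) (.leaf 4462634600895))))) (.node (.node (.node (.node (.leaf 10724575347666) (.leaf 7971490497719)) (.node (.leaf 5201310845378) (.leaf 10741877049795))) (.node (.node (.leaf 9552171239840)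 (.leaf 10754743667143)) (.node (.leaf 10758954813383) (.leaf 6554203916746)))) (.node (.node (.node (.leaf 3706638566761) (.leaf 4617239199910)) (.node (.leaf 10737435346665) (.leaf 9766883295980))) (.node (.node (.leaf 9337309693927) (.leaf 10771942278929)) (.node (.leaf 10780532344570) (.leaf 10784680445315))))))) (.node (.node (.node (.node (.node (.node (.leaf 3045277895120) (.leaf 10793397519166)) (.node (.leaf 3058174657961) (.leaf 1554857461269))) (.node (.node (.leaf 5033813412214) (.leaf 10802007508073)) (.node (.leaf 8224974178772) (.leaf 7022436483388)))) (.node (.node (.node (.leaf 8916462798803) (.leaf 8899270215777)) (.node (.leaf 8920812094721) (.leaf 3895676044407))) (.node (.node (.leaf 8568624908759) (.leaf 5403173586368)) (.node (.leaf 5385995814545) (.leaf 9225732032375))))) (.node (.node (.node (.node (.leaf 2018651930768) (.leaf 1743921940924)) (.node (.leaf 1052428863193) (.leaf 10832024371572))) (.node (.node (.leaf 7670906421536) (.leaf 8473976637915)) (.node (.leaf 6511211184629) (.leaf 7920010331858)))) (.node (.node (.node (.leaf 1834116449048) (.leaf 8989486809514))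 (.node (.leaf 10844910323200) (.leaf 10857842936286))) (.node (.node (.leaf 10866280172001) (.leaf 10222164967632)) (.node (.leaf 10209303136232) (.leaf 10368119343463)))))) (.node (.node (.node (.node (.node (.leaf 8242208246244) (.leaf 10226340858342)) (.node (.leaf 786139185955) (.leaf 10887742556564))) (.node (.node (.leaf 7627911661061) (.leaf 10892195530222)) (.node (.leaf 10900793263208) (.leaf 4454047482514)))) (.node (.node (.node (.leaf 3375870182468) (.leaf 10909290267736)) (.node (.leaf 10913534249169) (.leaf 6343671415899))) (.node (.node (.leaf 10922268427204) (.leaf 3285691138860)) (.node (.leaf 10707479431664) (.leaf 10935153525587))))) (.node (.node (.node (.node (.leaf 850555701747) (.leaf 7370311599584)) (.node (.leaf 10948038623979) (.leaf 10956628690925))) (.node (.node (.leaf 10965152500216) (.leaf 9174211561187)) (.node (.leaf 10973776185850) (.leaf 6051657288188)))) (.node (.node (.node (.leaf 2426722453457) (.leaf 10982341806037)) (.node (.leaf 9199987590246) (.leaf 10776092541103))) (.node (.node (.leaf 10990918109506) (.leaf 1623665478144)) (.node (.leaf 3874081277246)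 (.leaf 9775513471044))))))))

def k2Next_6 : H52.TCert.Tr := .node (.node (.node (.node (.node (.node (.node (.node (.leaf 3569246143767) (.leaf 7675270596823)) (.node (.leaf 10282312141071) (.leaf 5527790879281))) (.node (.node (.leaf 11021054183940) (.leaf 5647958606985)) (.node (.leaf 2933630896023) (.leaf 94623433753)))) (.node (.node (.node (.leaf 10234964542609) (.leaf 6455492216951)) (.node (.leaf 6545540384589) (.leaf 11008169477283))) (.node (.node (.leaf 9891388523283) (.leaf 9934427785737)) (.node (.leaf 7421872048651) (.leaf 4561336403647))))) (.node (.node (.node (.node (.leaf 5987353036523) (.leaf 11059684706830)) (.node (.leaf 11063860003611) (.leaf 9822707779698))) (.node (.node (.leaf 6249253962082) (.leaf 10612972782123)) (.node (.leaf 124610873501) (.leaf 1932794529680)))) (.node (.node (.node (.leaf 1619366775171) (.leaf 7335889405583)) (.node (.leaf 4698857210821) (.leaf 8873502967520))) (.node (.node (.leaf 4106097132847) (.leaf 7567854076570)) (.node (.leaf 5901453952013) (.leaf 11076889610441)))))) (.node (.node (.node (.node (.node (.leaf 4754697881819) (.leaf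 11089774708584)) (.node (.leaf 7481915605947) (.leaf 4733086860509))) (.node (.node (.leaf 7963015776116) (.leaf 7142532055106)) (.node (.leaf 4999478970538) (.leaf 8448274795031)))) (.node (.node (.node (.leaf 949343618031) (.leaf 4522727966409)) (.node (.leaf 9436134573046) (.leaf 11098195691248))) (.node (.node (.leaf 571369981566) (.leaf 8478388980249)) (.node (.leaf 11106935703833) (.leaf 506918930971))))) (.node (.node (.node (.node (.leaf 11119771519516) (.leaf 2087479740786)) (.node (.leaf 9736779006964) (.leaf 10625853949023))) (.node (.node (.leaf 11081185363947) (.leaf 3380257751144)) (.node (.leaf 2023099402554) (.leaf 4256475056024)))) (.node (.node (.node (.leaf 4479716689940) (.leaf 7593503754262)) (.node (.leaf 10127702755435) (.leaf 11136928712541))) (.node (.node (.leaf 11141278730580) (.leaf 8057421692969)) (.node (.leaf 10093343213446) (.leaf 2620004697270))))))) (.node (.node (.node (.node (.node (.node (.leaf 11149893503246) (.leaf 2525442804261)) (.node (.leaf 11167085300262) (.leaf 11175592331817))) (.node (.node (.leaf 2199170057233) (.leaf 11003797833134)) (.node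 (.leaf 2418236065919) (.leaf 11184135866923)))) (.node (.node (.node (.leaf 10728999027287) (.leaf 11192845666179)) (.node (.leaf 7743952520230) (.leaf 11197045211608))) (.node (.node (.leaf 11162716932656) (.leaf 11205685020462)) (.node (.leaf 4900644784066) (.leaf 11033779701430))))) (.node (.node (.node (.node (.leaf 11209932014900) (.leaf 11214307394354)) (.node (.leaf 8053234862416) (.leaf 8658825315026))) (.node (.node (.leaf 10810522272396) (.leaf 6446839302710)) (.node (.leaf 11235805824011) (.leaf 11029560429113)))) (.node (.node (.node (.leaf 9255743326778) (.leaf 10479887451876)) (.node (.leaf 1950018439241) (.leaf 1889916684859))) (.node (.node (.leaf 1344496469514) (.leaf 10475597006414)) (.node (.leaf 5231339963098) (.leaf 11265871053353)))))) (.node (.node (.node (.node (.node (.leaf 10213604198648) (.leaf 1039554118183)) (.node (.leaf 11283049089602) (.leaf 11291641250131))) (.node (.node (.leaf 3603612174066) (.leaf 4196355410035)) (.node (.leaf 10299386364904) (.leaf 9023850285349)))) (.node (.node (.node (.leaf 6605763447322) (.leaf 5051047742023)) (.node (.leaf 3934357358171)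 (.leaf 5991651871158))) (.node (.node (.leaf 172558861) (.leaf 9217059324679)) (.node (.leaf 11132672671931) (.leaf 3625125022218))))) (.node (.node (.node (.node (.leaf 10849161775691) (.leaf 6408103199235)) (.node (.leaf 7988755039292) (.leaf 1262860110082))) (.node (.node (.leaf 5922927411493) (.leaf 11321655429084)) (.node (.leaf 8744726235056) (.leaf 9058138915443)))) (.node (.node (.node (.leaf 3680830423691) (.leaf 8431121729629)) (.node (.leaf 7932961096312) (.leaf 9346021722071))) (.node (.node (.leaf 201966160072) (.leaf 9105451386624)) (.node (.leaf 11338886611850) (.leaf 11343155169083)))))))) (.node (.node (.node (.node (.node (.node (.node (.leaf 6532818471506) (.leaf 11355918369864)) (.node (.leaf 11046714149461) (.leaf 8813371327380))) (.node (.node (.leaf 4471168500301) (.leaf 6876389901565)) (.node (.leaf 9942879700960) (.leaf 11364544808541)))) (.node (.node (.node (.leaf 11368937621543) (.leaf 485453332965)) (.node (.leaf 4299375247983) (.leaf 8701665282539))) (.node (.node (.leaf 8422603621475) (.leaf 10518492547672)) (.node (.leaf 2766031489016) (.leaf 11377465820733)))))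 (.node (.node (.node (.node (.leaf 4411089093511) (.leaf 10097612947962)) (.node (.leaf 11381716617484) (.leaf 9504888195515))) (.node (.node (.leaf 4260693737895) (.leaf 8418224572032)) (.node (.leaf 932074883266) (.leaf 11326002497582)))) (.node (.node (.node (.leaf 11171266824468) (.leaf 11145613281467)) (.node (.leaf 10750464754896) (.leaf 6464095717822))) (.node (.node (.leaf 3814044207498) (.leaf 601419546793)) (.node (.leaf 11390362453287) (.leaf 11394587558007)))))) (.node (.node (.node (.node (.node (.leaf 2753247970571) (.leaf 11407607138057)) (.node (.leaf 9818469369288) (.leaf 9496342366060))) (.node (.node (.leaf 6137648122466) (.leaf 975116110369)) (.node (.leaf 648714390115) (.leaf 11429056154196)))) (.node (.node (.node (.leaf 11437582846566) (.leaf 1477559779766)) (.node (.leaf 3053841418191) (.leaf 10995266226792))) (.node (.node (.leaf 3070971282263) (.leaf 3131045382761)) (.node (.leaf 2285010946562) (.leaf 6502746620136))))) (.node (.node (.node (.node (.leaf 5450484812394) (.leaf 9706719544954)) (.node (.leaf 11454777329947) (.leaf 11463442565228))) (.node (.node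 (.leaf 11472032629100) (.leaf 8182087812772)) (.node (.leaf 11480512791611) (.leaf 11373122619785)))) (.node (.node (.node (.leaf 5759690932716) (.leaf 7258546768178)) (.node (.leaf 11484804218987) (.leaf 11493507794973))) (.node (.node (.leaf 1907079382987) (.leaf 9655123511119)) (.node (.leaf 9427612533081) (.leaf 11497709898211))))))) (.node (.node (.node (.node (.node (.node (.leaf 5794081735332) (.leaf 11295844927153)) (.node (.leaf 11506392892182) (.leaf 11450453658232))) (.node (.node (.leaf 10252153718818) (.leaf 9393231234709)) (.node (.leaf 3736760484314) (.leaf 10089050343929)))) (.node (.node (.node (.leaf 7825474126903) (.leaf 11519207082617)) (.node (.leaf 11527843940987) (.leaf 11532073633219))) (.node (.node (.leaf 11536352610405) (.leaf 11540687882787)) (.node (.leaf 8439754786829) (.leaf 10565773231528))))) (.node (.node (.node (.node (.leaf 2431006935514) (.leaf 7705172707913)) (.node (.leaf 210577196842) (.leaf 11411904268343))) (.node (.node (.leaf 8650137273743) (.leaf 11549170599381)) (.node (.leaf 11562228320898) (.leaf 11570818385605)))) (.node (.node (.node (.leaf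 11574975726684) (.leaf 3655191431816)) (.node (.leaf 6640193505925) (.leaf 11583639126213))) (.node (.node (.leaf 2272138496208) (.leaf 11587903489594)) (.node (.leaf 4677308123751) (.leaf 10312306722380)))))) (.node (.node (.node (.node (.node (.leaf 9522114003444) (.leaf 4965116152410)) (.node (.leaf 10819055127168) (.leaf 4544235178347))) (.node (.node (.leaf 8435392186424) (.leaf 11592153236963)) (.node (.leaf 11600883614316) (.leaf 10462717413679)))) (.node (.node (.node (.leaf 8160457917251) (.leaf 11441804018230)) (.node (.leaf 9607965509644) (.leaf 11609445304919))) (.node (.node (.leaf 10746185386038) (.leaf 627222446289)) (.node (.leaf 8839219448465) (.leaf 3148245696992))))) (.node (.node (.node (.node (.leaf 10527120949843) (.leaf 7872851084908)) (.node (.leaf 9745302683807) (.leaf 9388905793833))) (.node (.node (.leaf 11626652437138) (.leaf 11635144788628)) (.node (.leaf 184861198908) (.leaf 8542700571041)))) (.node (.node (.node (.leaf 4930776336816) (.leaf 7640856528430)) (.node (.leaf 6824842101111) (.leaf 2353809459756))) (.node (.node (.leaf 5909993097795) (.leaf 11643759167489))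 (.node (.leaf 8190674929079) (.leaf 4866375682115))))))))

def k2Next_7 : H52.TCert.Tr := .node (.node (.node (.node (.node (.node (.node (.node (.leaf 11652278845475) (.leaf 4904961574812)) (.node (.leaf 11012353427756) (.leaf 11617998472790))) (.node (.node (.leaf 11656682864786) (.leaf 10411169548642)) (.node (.leaf 9290192194188) (.leaf 11544891558083)))) (.node (.node (.node (.leaf 11252919569052) (.leaf 7834073040945)) (.node (.leaf 8714599926429) (.leaf 11424709413365))) (.node (.node (.leaf 2375182256073) (.leaf 9354533931661)) (.node (.leaf 6326529819816) (.leaf 9711001404894))))) (.node (.node (.node (.node (.leaf 6743123887921) (.leaf 11673888555291)) (.node (.leaf 8607258315423) (.leaf 3960004217504))) (.node (.node (.leaf 6683142195873) (.leaf 9762495006959)) (.node (.leaf 863289083375) (.leaf 2345061253962)))) (.node (.node (.node (.leaf 8637344516227) (.leaf 11690982902012)) (.node (.leaf 10608732932638) (.leaf 7395996665827))) (.node (.node (.leaf 6829004489262) (.leaf 11416157882857)) (.node (.leaf 11699533318819) (.leaf 11351628645375)))))) (.node (.node (.node (.node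 (.node (.leaf 9182726194513) (.leaf 10101868921081)) (.node (.leaf 4672954958428) (.leaf 11708259436307))) (.node (.node (.leaf 11094072953128) (.leaf 9900055792193)) (.node (.leaf 4982243461461) (.leaf 5583634762189)))) (.node (.node (.node (.leaf 10999584523137) (.leaf 11716745497255)) (.node (.leaf 7181313116841) (.leaf 6193521756663))) (.node (.node (.leaf 11639477307840) (.leaf 11729573448285)) (.node (.leaf 6172045672996) (.leaf 11733954855568))))) (.node (.node (.node (.node (.leaf 4024422042285) (.leaf 10905027151265)) (.node (.leaf 11257261195684) (.leaf 5171319802285))) (.node (.node (.leaf 3693840631896) (.leaf 133303962287)) (.node (.leaf 4050273043332) (.leaf 7773958638020)))) (.node (.node (.node (.leaf 2340862558294) (.leaf 8667423378096)) (.node (.leaf 5570738258697) (.leaf 9440464734324))) (.node (.node (.leaf 2650083820492) (.leaf 3294410049774)) (.node (.leaf 9831273073330) (.leaf 8684457689934))))))) (.node (.node (.node (.node (.node (.node (.leaf 11763945113379) (.leaf 7232759137557)) (.node (.leaf 6975159798452) (.leaf 11772520825314))) (.node (.node (.leaf 11781113449142)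 (.leaf 2242140505995)) (.node (.leaf 1765411391419) (.leaf 2439690453402)))) (.node (.node (.node (.leaf 2186267593401) (.leaf 4363718492530)) (.node (.leaf 1267114312183) (.leaf 11794149541094))) (.node (.node (.leaf 5562162675925) (.leaf 11802732202045)) (.node (.leaf 6245017389017) (.leaf 8641632797186))))) (.node (.node (.node (.node (.leaf 10496997918809) (.leaf 1134004537733)) (.node (.leaf 305110387278) (.leaf 9625183718075))) (.node (.node (.leaf 5497613977160) (.leaf 575694834365)) (.node (.leaf 11811203582260) (.leaf 6159163394273)))) (.node (.node (.node (.leaf 11158505390578) (.leaf 6807558619664)) (.node (.leaf 6468385442175) (.leaf 6842062209367))) (.node (.node (.leaf 352275530963) (.leaf 3208520664358)) (.node (.leaf 8847813051149) (.leaf 8525685459650)))))) (.node (.node (.node (.node (.node (.leaf 253483090009) (.leaf 4608525600036)) (.node (.leaf 734569302628) (.leaf 5721000969160))) (.node (.node (.leaf 4621408731379) (.leaf 6730251569859)) (.node (.leaf 4767594318123) (.leaf 8392443167615)))) (.node (.node (.node (.leaf 4380928705349) (.leaf 7769710199828)) (.node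 (.leaf 3590618810543) (.leaf 287819432367))) (.node (.node (.leaf 1894136742088) (.leaf 4084573473477)) (.node (.leaf 11330298448365) (.leaf 9848396973230))))) (.node (.node (.node (.node (.leaf 2671591951046) (.leaf 7005253468692)) (.node (.leaf 11849871263559) (.leaf 9079611524742))) (.node (.node (.leaf 11038202202553) (.leaf 11854181239130)) (.node (.leaf 2534103189584) (.leaf 10789138794769)))) (.node (.node (.node (.leaf 6940799927551) (.leaf 11862853683152)) (.node (.leaf 3367435504331) (.leaf 1353015757004))) (.node (.node (.leaf 5072446882820) (.leaf 2770316233404)) (.node (.leaf 5686540435825) (.leaf 11880060750490)))))))) (.node (.node (.node (.node (.node (.node (.node (.leaf 6781934700117) (.leaf 5944253483442)) (.node (.leaf 11287198370429) (.leaf 3363053308624))) (.node (.node (.leaf 7151147090980) (.leaf 34501233054)) (.node (.leaf 9633703592391) (.leaf 3161250530683)))) (.node (.node (.node (.leaf 8121964627401) (.leaf 9350271076168)) (.node (.leaf 841962818172) (.leaf 11897166103336))) (.node (.node (.leaf 10767551890365) (.leaf 5076831503151)) (.node (.leaf 7847086850767)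 (.leaf 5291581374667))))) (.node (.node (.node (.node (.leaf 7855659813181) (.leaf 11909994645833)) (.node (.leaf 7447655090329) (.leaf 11222899034612))) (.node (.node (.leaf 11798449684759) (.leaf 11918600374078)) (.node (.leaf 10003013240077) (.leaf 2005923400193)))) (.node (.node (.node (.leaf 9534962666005) (.leaf 11922982767052)) (.node (.leaf 8864889899566) (.leaf 10578528962286))) (.node (.node (.leaf 9075416039830) (.leaf 10449787357100)) (.node (.leaf 9741150914446) (.leaf 11927303423967)))))) (.node (.node (.node (.node (.node (.leaf 5888562299782) (.leaf 4758982035668)) (.node (.leaf 10861998377690) (.leaf 9492037962208))) (.node (.node (.leaf 11935851415924) (.leaf 6811853457597)) (.node (.leaf 10505666628116) (.leaf 7439065549197)))) (.node (.node (.node (.leaf 9513403877977) (.leaf 10647346348169)) (.node (.leaf 1795410037420) (.leaf 936438268024))) (.node (.node (.leaf 7864261410873) (.leaf 10007417586694)) (.node (.leaf 11665238525643) (.leaf 4071789824733))))) (.node (.node (.node (.node (.leaf 1065302100466) (.leaf 3496207779985)) (.node (.leaf 11566528922096) (.leaf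 5016672666045))) (.node (.node (.leaf 11360351947486) (.leaf 6953652454414)) (.node (.leaf 11953070213798) (.leaf 803270429190)))) (.node (.node (.node (.leaf 5746712379882) (.leaf 5476146612960)) (.node (.leaf 11227180433542) (.leaf 5094013732442))) (.node (.node (.leaf 9092491970920) (.leaf 10926468630369)) (.node (.leaf 9315811199024) (.leaf 5471895290037))))))) (.node (.node (.node (.node (.node (.node (.leaf 11970256437667) (.leaf 996615129009)) (.node (.leaf 8014591755202) (.leaf 8972346526280))) (.node (.node (.leaf 6962324834172) (.leaf 7434756426061)) (.node (.leaf 824816700135) (.leaf 6773222277586)))) (.node (.node (.node (.leaf 7812587652486) (.leaf 9784067098650)) (.node (.leaf 6438270795908) (.leaf 5549147818721))) (.node (.node (.leaf 11514820102350) (.leaf 11995945369696)) (.node (.leaf 1159809665735) (.leaf 5338812712981))))) (.node (.node (.node (.node (.leaf 3302985828409) (.leaf 223422973888)) (.node (.leaf 227815655943) (.leaf 10273666367673))) (.node (.node (.leaf 5106835917408) (.leaf 7662374816490)) (.node (.leaf 12004597238094) (.leaf 2568473281605)))) (.node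 (.node (.node (.leaf 3582131899116) (.leaf 2096125118756)) (.node (.leaf 7585076019576) (.leaf 7954449041599))) (.node (.node (.leaf 12013190187180) (.leaf 10561435797105)) (.node (.leaf 5540678470212) (.leaf 10570078685858)))))) (.node (.node (.node (.node (.node (.leaf 9732434690901) (.leaf 2675906972350)) (.node (.leaf 11072509905646) (.leaf 10123250502383))) (.node (.node (.leaf 10634375203568) (.leaf 5995856463725)) (.node (.leaf 9083880735723) (.leaf 4342296019198)))) (.node (.node (.node (.leaf 7116803277963) (.leaf 8194981168021)) (.node (.leaf 12034531527242) (.leaf 6704475931406))) (.node (.node (.leaf 11201279821598) (.leaf 9685255326205)) (.node (.leaf 11686732957477) (.leaf 11832795531036))))) (.node (.node (.node (.node (.leaf 4535654876829) (.leaf 1103817083264)) (.node (.leaf 12038870338026) (.leaf 11111264226036))) (.node (.node (.leaf 8710370099941) (.leaf 300831673078)) (.node (.leaf 661608989415) (.leaf 1198474398387)))) (.node (.node (.node (.leaf 9113960909236) (.leaf 11892902135792)) (.node (.leaf 4896401981960) (.leaf 9019615413524))) (.node (.node (.leaf 3577836538507)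 (.leaf 7615027415794)) (.node (.leaf 2327882173092) (.leaf 2332178187098))))))))

def k2Next_8 : H52.TCert.Tr := .node (.node (.node (.node (.node (.node (.node (.node (.leaf 1941509376719) (.leaf 3779635052615)) (.node (.leaf 416781371922) (.leaf 6180478387297))) (.node (.node (.leaf 4325191060151) (.leaf 6317932413283)) (.node (.leaf 10406802817519) (.leaf 10548622329052)))) (.node (.node (.node (.leaf 7340274549021) (.leaf 5149702226683)) (.node (.leaf 2444013862966) (.leaf 2929263968743))) (.node (.node (.leaf 2856272791120) (.leaf 6421101283323)) (.node (.leaf 274942266006) (.leaf 8495627045550))))) (.node (.node (.node (.node (.leaf 150480554747) (.leaf 5622257287639)) (.node (.leaf 6391095626292) (.leaf 5102467680264))) (.node (.node (.leaf 2220669733416) (.leaf 8560050700884)) (.node (.leaf 9367338748313) (.leaf 8297931407868)))) (.node (.node (.node (.leaf 7868553692204) (.leaf 2121784822085)) (.node (.leaf 10320826204853) (.leaf 8555737973810))) (.node (.node (.leaf 2740307823321) (.leaf 171950473853)) (.node (.leaf 10355308824835) (.leaf 8826335920391)))))) (.node (.node (.node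 (.node (.node (.leaf 9371795524003) (.leaf 5682297834237)) (.node (.leaf 10883556247027) (.leaf 12086216361656))) (.node (.node (.leaf 7121136321910) (.leaf 11682465515870)) (.node (.leaf 8199138117629) (.leaf 9444776020064)))) (.node (.node (.node (.leaf 11660870354308) (.leaf 6167575659367)) (.node (.leaf 9792695961322) (.leaf 1585001793324))) (.node (.node (.leaf 2727420955338) (.leaf 6833476732111)) (.node (.leaf 5669433117439) (.leaf 10763210132224))))) (.node (.node (.node (.node (.leaf 8757592589492) (.leaf 1838316585007)) (.node (.leaf 10153473083132) (.leaf 9702424250847))) (.node (.node (.leaf 8104631929420) (.leaf 12098977991300)) (.node (.leaf 4140461132404) (.leaf 4058910623128)))) (.node (.node (.node (.leaf 2852021144290) (.leaf 7967224299937)) (.node (.leaf 2396671249124) (.leaf 3947080321587))) (.node (.node (.leaf 9629474161179) (.leaf 6786228095430)) (.node (.leaf 12107697489092) (.leaf 12060351857650))))))) (.node (.node (.node (.node (.node (.node (.leaf 8817699064580) (.leaf 10140602663438)) (.node (.leaf 12120465867645) (.leaf 12129055279879))) (.node (.node (.leaf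 356511058050) (.leaf 10685916972109)) (.node (.leaf 3749619892902) (.leaf 5158301337491)))) (.node (.node (.node (.leaf 7013772757623) (.leaf 11888515483812)) (.node (.leaf 5162612623300) (.leaf 10398146823589))) (.node (.node (.leaf 9874276288574) (.leaf 6588494185525)) (.node (.leaf 923494910576) (.leaf 9530584596483))))) (.node (.node (.node (.node (.leaf 12137762720155) (.leaf 9668092037367)) (.node (.leaf 12142050542941) (.leaf 4110326760683))) (.node (.node (.leaf 9410295891362) (.leaf 1679436679791)) (.node (.leaf 4746049423306) (.leaf 11901365911714)))) (.node (.node (.node (.leaf 7713916782522) (.leaf 12146245175513)) (.node (.leaf 6584206100604) (.leaf 7103934499597))) (.node (.node (.leaf 6601398028277) (.leaf 5368850286634)) (.node (.leaf 5274328566180) (.leaf 6146152925527)))))) (.node (.node (.node (.node (.node (.leaf 6429605692371) (.leaf 7503374582768)) (.node (.leaf 799021532122) (.leaf 12154850510216))) (.node (.node (.leaf 9861381491471) (.leaf 3268655319736)) (.node (.leaf 8186391168326) (.leaf 10853467423071)))) (.node (.node (.node (.leaf 11965831250013) (.leaf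 9032469119154)) (.node (.leaf 7202781399116) (.leaf 9577880749864))) (.node (.node (.leaf 5437608036673) (.leaf 433933845455)) (.node (.leaf 11789777438141) (.leaf 7288744839198))))) (.node (.node (.node (.node (.leaf 68865493361) (.leaf 4286382672537)) (.node (.leaf 11759692875294) (.leaf 11746912108855))) (.node (.node (.leaf 12163468560077) (.leaf 11386109102298)) (.node (.leaf 3500530403489) (.leaf 12167704544556)))) (.node (.node (.node (.leaf 4187764165102) (.leaf 12025950372578)) (.node (.leaf 7709621421085) (.leaf 11433233681033))) (.node (.node (.leaf 3118155500158) (.leaf 588550703576)) (.node (.leaf 5321587885737) (.leaf 7692343117649)))))))) (.node (.node (.node (.node (.node (.node (.node (.leaf 10531324494479) (.leaf 2916461119925)) (.node (.leaf 11991726951003) (.leaf 10423941532176))) (.node (.node (.leaf 5222847086827) (.leaf 11755383556373)) (.node (.leaf 9990131942946) (.leaf 1902803356255)))) (.node (.node (.node (.leaf 2216250640658) (.leaf 7048199537082)) (.node (.leaf 4771816343205) (.leaf 11957373438629))) (.node (.node (.leaf 3461881923483) (.leaf 11867177551502))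 (.node (.leaf 7176962049946) (.leaf 7524957620447))))) (.node (.node (.node (.node (.leaf 3019501930255) (.leaf 8929422738296)) (.node (.leaf 10694628477526) (.leaf 1078215247630))) (.node (.node (.leaf 7512079731026) (.leaf 10363941159879)) (.node (.leaf 98906147603) (.leaf 12180608059943)))) (.node (.node (.node (.leaf 9865701100242) (.leaf 9036737087957)) (.node (.leaf 1430401255488) (.leaf 7701031029025))) (.node (.node (.leaf 1168385639663) (.leaf 12184962598854)) (.node (.leaf 6120462878966) (.leaf 4509880027328)))))) (.node (.node (.node (.node (.node (.leaf 4376742462680) (.leaf 11124007504461)) (.node (.leaf 3998615341764) (.leaf 6352411558818))) (.node (.node (.leaf 12193428278038) (.leaf 5003782587699)) (.node (.leaf 1490429216695) (.leaf 5875664685848)))) (.node (.node (.node (.leaf 12202119595570) (.leaf 5673789359941)) (.node (.leaf 7889886447080) (.leaf 10681742001361))) (.node (.node (.leaf 12047465252550) (.leaf 10402442707820)) (.node (.leaf 3646465508624) (.leaf 5179910456839))))) (.node (.node (.node (.node (.leaf 3972981261938) (.leaf 7902891674162)) (.node (.leaf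 1348662855687) (.leaf 3886964476698))) (.node (.node (.leaf 11042539898951) (.leaf 11940195403538)) (.node (.leaf 6481125050163) (.leaf 8018854020969)))) (.node (.node (.node (.leaf 6623005902226) (.leaf 1146942064931)) (.node (.leaf 10703069906370) (.leaf 9642276029456))) (.node (.node (.leaf 12214983723433) (.leaf 7327241734025)) (.node (.leaf 292118398651) (.leaf 1357268846791))))))) (.node (.node (.node (.node (.node (.node (.leaf 12219344881670) (.leaf 8620185879695)) (.node (.leaf 5415995115506) (.leaf 12227777792718))) (.node (.node (.leaf 9560607228474) (.leaf 10428345943746)) (.node (.leaf 5343014094078) (.leaf 12189274996844)))) (.node (.node (.node (.leaf 9960126350091) (.leaf 6837608121943)) (.node (.leaf 12030376806201) (.leaf 4685940000300))) (.node (.node (.leaf 11605035385232) (.leaf 12232212744970)) (.node (.leaf 7610769408630) (.leaf 3341600884180))))) (.node (.node (.node (.node (.leaf 9659406485849) (.leaf 3513459081934)) (.node (.leaf 7602200904942) (.leaf 3745385351969))) (.node (.node (.leaf 6270710383234) (.leaf 8040239858929)) (.node (.leaf 5879997007637) (.leaf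 8779099998590)))) (.node (.node (.node (.leaf 8246475163562) (.leaf 6670208599834)) (.node (.leaf 8895060379286) (.leaf 3002235619607))) (.node (.node (.leaf 1542076696826) (.leaf 6738930502197)) (.node (.leaf 12245138670323) (.leaf 5420403589304)))))) (.node (.node (.node (.node (.node (.leaf 8517080515376) (.leaf 2512686417449)) (.node (.leaf 11596575212906) (.leaf 6129043701882))) (.node (.node (.leaf 1417343011422) (.leaf 11300199728635)) (.node (.leaf 10574352943269) (.leaf 12197878693999)))) (.node (.node (.node (.leaf 6034444846541) (.leaf 8083258868730)) (.node (.leaf 8856363008889) (.leaf 7529101199632))) (.node (.node (.leaf 403858196578) (.leaf 11502020461757)) (.node (.leaf 8156255094361) (.leaf 11523536389620))))) (.node (.node (.node (.node (.leaf 8319475384932) (.leaf 11403239557354)) (.node (.leaf 3109688837311) (.leaf 7464840135339))) (.node (.node (.leaf 1993051866168) (.leaf 3839786090769)) (.node (.leaf 6047471372095) (.leaf 8336649554407)))) (.node (.node (.node (.leaf 4332717669) (.leaf 549904059080)) (.node (.leaf 11871455544647) (.leaf 6373776753999))) (.node (.node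 (.leaf 12094642850422) (.leaf 43066919153)) (.node (.leaf 828985639938) (.leaf 6442603185265))))))))

def k2Next_9 : H52.TCert.Tr := .node (.node (.node (.node (.node (.node (.node (.node (.leaf 10643046337310) (.leaf 10952212548166)) (.node (.leaf 10870708504803) (.leaf 8598579512644))) (.node (.node (.leaf 8521269314512) (.leaf 11016778222315)) (.node (.leaf 6936490543149) (.leaf 9612263688983)))) (.node (.node (.node (.leaf 4952152475725) (.leaf 12266476013879)) (.node (.leaf 1116855404402) (.leaf 10806183135858))) (.node (.node (.leaf 11819889460948) (.leaf 2392439849949)) (.node (.leaf 11239934331578) (.leaf 11841412072351))))) (.node (.node (.node (.node (.leaf 11489167673326) (.leaf 9247189173257)) (.node (.leaf 9921415154438) (.leaf 4269350062812))) (.node (.node (.leaf 5703896793698) (.leaf 12111984789048)) (.node (.leaf 10183444268661) (.leaf 11467617929942)))) (.node (.node (.node (.leaf 10389710440979) (.leaf 12275127552176)) (.node (.leaf 11270008734036) (.leaf 12279462888221))) (.node (.node (.leaf 910717814947) (.leaf 4690190009684)) (.node (.leaf 11630905657495) (.leaf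 11085319440570)))))) (.node (.node (.node (.node (.node (.leaf 10557197388410) (.leaf 11579403272478)) (.node (.leaf 11669499086848) (.leaf 957937290028))) (.node (.node (.leaf 9689633393208) (.leaf 4574159833805)) (.node (.leaf 6116175121088) (.leaf 11815642530926)))) (.node (.node (.node (.leaf 12077558926054) (.leaf 10969388222869)) (.node (.leaf 10668802378499) (.leaf 867770696592))) (.node (.node (.leaf 7554950695726) (.leaf 3783957547408)) (.node (.leaf 10076144206592) (.leaf 9754054099881))))) (.node (.node (.node (.node (.leaf 2590046030504) (.leaf 2594258419789)) (.node (.leaf 7804127478643) (.leaf 3152542829001))) (.node (.node (.leaf 10587162279998) (.leaf 1005145033486)) (.node (.leaf 11102596041517) (.leaf 10187703913069)))) (.node (.node (.node (.leaf 4647284902535) (.leaf 12056118168255)) (.node (.leaf 9543457047979) (.leaf 9723867957579))) (.node (.node (.leaf 6515588270895) (.leaf 1821067378763)) (.node (.leaf 11944393442144) (.leaf 11858524637851))))))) (.node (.node (.node (.node (.node (.node (.leaf 12176418409252) (.leaf 7069645078776)) (.node (.leaf 2607056880702)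 (.leaf 12300862294559))) (.node (.node (.leaf 11313046356310) (.leaf 12116252361173)) (.node (.leaf 10896352676610) (.leaf 6850588969766)))) (.node (.node (.node (.leaf 9152681085582) (.leaf 7722526442816)) (.node (.leaf 12305192913416) (.leaf 12223626217631))) (.node (.node (.leaf 5660944304881) (.leaf 249220369202)) (.node (.leaf 1438969037066) (.leaf 9144171758821))))) (.node (.node (.node (.node (.leaf 11884302239410) (.leaf 4862044866483)) (.node (.leaf 5351549763844) (.leaf 10797569540975))) (.node (.node (.leaf 9912853858388) (.leaf 9827067495060)) (.node (.leaf 4492713657703) (.leaf 8581411832740)))) (.node (.node (.node (.leaf 1451869209012) (.leaf 11905835206558)) (.node (.leaf 10540035408922) (.leaf 2078870276824))) (.node (.node (.leaf 653021678211) (.leaf 1546353707478)) (.node (.leaf 10986603023112) (.leaf 9457685038624)))))) (.node (.node (.node (.node (.node (.leaf 11983138456808) (.leaf 1700984850888)) (.node (.leaf 7185541104081) (.leaf 9715288181247))) (.node (.node (.leaf 11557863426847) (.leaf 2547048842023)) (.node (.leaf 4969405614804) (.leaf 8353744422785)))) (.node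 (.node (.node (.leaf 11261465398058) (.leaf 73115961187)) (.node (.leaf 12051731581270) (.leaf 906353181946))) (.node (.node (.leaf 10200709660887) (.leaf 9981506554231)) (.node (.leaf 12313770985858) (.leaf 3187001787773))))) (.node (.node (.node (.node (.leaf 6915063415622) (.leaf 11347484609053)) (.node (.leaf 1915714472412) (.leaf 2310796413701))) (.node (.node (.leaf 7980102975556) (.leaf 3642260523731)) (.node (.leaf 2319349448928) (.leaf 11115533109669)))) (.node (.node (.node (.leaf 6476994906552) (.leaf 10874908639630)) (.node (.leaf 10879203412699) (.leaf 3861246839068))) (.node (.node (.leaf 8723109381524) (.leaf 10264974199237)) (.node (.leaf 5136864905985) (.leaf 6571304288896)))))))) (.node (.node (.node (.node (.node (.node (.node (.leaf 11510531294407) (.leaf 2190498726423)) (.node (.leaf 1125438456828) (.leaf 5205536999119))) (.node (.node (.leaf 6966608068865) (.leaf 1868484249269)) (.node (.leaf 10664518418642) (.leaf 4703176753287)))) (.node (.node (.node (.leaf 3092506280177) (.leaf 6661619516957)) (.node (.leaf 2907846216234) (.leaf 12258012563958))) (.node (.node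 (.leaf 6996583975273) (.leaf 1224246168279)) (.node (.leaf 9603700097382) (.leaf 9015146056017))))) (.node (.node (.node (.node (.leaf 11244241881132) (.leaf 3848398112245)) (.node (.leaf 4891971356256) (.leaf 12069037605478))) (.node (.node (.leaf 7799664738978) (.leaf 9779806341733)) (.node (.leaf 11678175200920) (.leaf 3126915761910)))) (.node (.node (.node (.leaf 2405197679255) (.leaf 8731828816092)) (.node (.leaf 6674427742232) (.leaf 12318104881100))) (.node (.node (.leaf 9101150978897) (.leaf 390906907383)) (.node (.leaf 3762542412189) (.leaf 11738289604036)))))) (.node (.node (.node (.node (.node (.leaf 7267149416855) (.leaf 10827741596241)) (.node (.leaf 4832016401079) (.leaf 1370276693426))) (.node (.node (.leaf 8735965251704) (.leaf 8766131340725)) (.node (.leaf 9586377820971) (.leaf 9466178046657)))) (.node (.node (.node (.leaf 5141174485328) (.leaf 12081837375835)) (.node (.leaf 7494899796764) (.leaf 5502030645713))) (.node (.node (.leaf 3852689083154) (.leaf 713000224778)) (.node (.leaf 5948598127015) (.leaf 5360123578172))))) (.node (.node (.node (.node (.leaf 11188405863629)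 (.leaf 2486938569017)) (.node (.leaf 12210705599180) (.leaf 11931593736487))) (.node (.node (.leaf 8787653494295) (.leaf 5841272111280)) (.node (.leaf 12322270481034) (.leaf 12287995480196)))) (.node (.node (.node (.leaf 1378778153310) (.leaf 7645083470144)) (.node (.leaf 11914266674635) (.leaf 4419683944936))) (.node (.node (.leaf 9814147925976) (.leaf 2551385622646)) (.node (.leaf 6382470171014) (.leaf 1632275530956))))))) (.node (.node (.node (.node (.node (.node (.leaf 2139081411026) (.leaf 9758203183438)) (.node (.leaf 11978763141603) (.leaf 8401142613677))) (.node (.node (.leaf 10814799874572) (.leaf 8074646652194)) (.node (.leaf 10552890558343) (.leaf 8924945451544)))) (.node (.node (.node (.leaf 10058914662915) (.leaf 8237878608716)) (.node (.leaf 11068292991262) (.leaf 1254159876415))) (.node (.node (.leaf 6927905063389) (.leaf 10325172161071)) (.node (.leaf 8461239060602) (.leaf 1391601060337))))) (.node (.node (.node (.node (.leaf 369388684396) (.leaf 12249322490373)) (.node (.leaf 962213513567) (.leaf 11399026379030))) (.node (.node (.leaf 9277197912746) (.leaf 4737533544203))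 (.node (.leaf 8753297294932) (.leaf 4432499116781)))) (.node (.node (.node (.leaf 7486210378550) (.leaf 11768243619399)) (.node (.leaf 854863055163) (.leaf 3436100256935))) (.node (.node (.leaf 12330981591225) (.leaf 6107591083341)) (.node (.leaf 9805565135297) (.leaf 2864901261775)))))) (.node (.node (.node (.node (.node (.leaf 11703963945763) (.leaf 5905650092796)) (.node (.leaf 3431839826937) (.leaf 4423982777976))) (.node (.node (.leaf 4118966830194) (.leaf 10630160122814)) (.node (.leaf 9998859043998) (.leaf 10960780657550)))) (.node (.node (.node (.leaf 11875628616241) (.leaf 12064567134933)) (.node (.leaf 7507669355069) (.leaf 9169842865438))) (.node (.node (.leaf 3942937528802) (.leaf 12292363127546)) (.node (.leaf 5626572898998) (.leaf 4664350869368))))) (.node (.node (.node (.node (.leaf 4295132121636) (.leaf 3410376131544)) (.node (.leaf 12240795798011) (.leaf 12124832795404))) (.node (.node (.leaf 2615818389074) (.leaf 5080947951898)) (.node (.leaf 5768291420362) (.leaf 7924223576307)))) (.node (.node (.node (.leaf 11712429689451) (.leaf 2168988435587)) (.node (.leaf 7194117343358)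 (.leaf 726031534346))) (.node (.node (.leaf 11231527307925) (.leaf 10733285015955)) (.node (.leaf 326591973728) (.leaf 11622363956950))))))))

def k2Next_10 : H52.TCert.Tr := .node (.node (.node (.node (.node (.node (.node (.node (.leaf 176267463480) (.leaf 5824126388770)) (.node (.leaf 6060308758716) (.leaf 11304533035147))) (.node (.node (.leaf 2010049675489) (.leaf 10591506533172)) (.node (.leaf 11948760106186) (.leaf 2461153364109)))) (.node (.node (.node (.leaf 545548665034) (.leaf 11751214418566)) (.node (.leaf 6386621942399) (.leaf 519855277182))) (.node (.node (.leaf 6189162365344) (.leaf 1825534641484)) (.node (.leaf 537017255308) (.leaf 3238553258677))))) (.node (.node (.node (.node (.leaf 12339583124778) (.leaf 8769897590)) (.node (.leaf 10917846779299) (.leaf 3234281292753))) (.node (.node (.leaf 10174853219002) (.leaf 11776835323370)) (.node (.leaf 7073911473042) (.leaf 9405980608694)))) (.node (.node (.node (.leaf 12253570859562) (.leaf 12309552955919)) (.node (.leaf 6537114879742) (.leaf 10114734688603))) (.node (.node (.leaf 5025297664591) (.leaf 10205018062986)) (.node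 (.leaf 10080363545468) (.leaf 1280064752245)))))) (.node (.node (.node (.node (.node (.leaf 8688894543254) (.leaf 9251543975702)) (.node (.leaf 7761057548910) (.leaf 2070274704191))) (.node (.node (.leaf 562761763174) (.leaf 1469060219968)) (.node (.leaf 12103231801839) (.leaf 8933678645798)))) (.node (.node (.node (.leaf 11553650378777) (.leaf 12008763687007)) (.node (.leaf 3672351378234) (.leaf 81758587407))) (.node (.node (.leaf 11974491833754) (.leaf 10136246681612)) (.node (.leaf 10509941735787) (.leaf 11725405489517))))) (.node (.node (.node (.node (.leaf 11334465290413) (.leaf 3831149954083)) (.node (.leaf 4595710230975) (.leaf 9449108605457))) (.node (.node (.leaf 11613737388820) (.leaf 876360762407)) (.node (.leaf 10582987442259) (.leaf 6288006906138)))) (.node (.node (.node (.leaf 10170510344715) (.leaf 12000247155509)) (.node (.leaf 7739688419349) (.leaf 6305086966401))) (.node (.node (.leaf 8036046341812) (.leaf 12348209693362)) (.node (.leaf 11785485355177) (.leaf 2684356396785))))))) (.node (.node (.node (.node (.node (.node (.leaf 9796952589621) (.leaf 11837052421768))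 (.node (.leaf 7726669825898) (.leaf 12283777450488))) (.node (.node (.leaf 10329474467256) (.leaf 9238553297927)) (.node (.leaf 4870681396060) (.leaf 3397504140863)))) (.node (.node (.node (.leaf 8937898050778) (.leaf 11742535222888)) (.node (.leaf 6176198363891) (.leaf 3006644290972))) (.node (.node (.leaf 2890688628848) (.leaf 10943721048824)) (.node (.leaf 21597325327) (.leaf 1726684791408))))) (.node (.node (.node (.node (.leaf 10419660393187) (.leaf 6489868273874)) (.node (.leaf 4496961110314) (.leaf 12356729111646))) (.node (.node (.leaf 2276409150181) (.leaf 12296606517575)) (.node (.leaf 1206976121009) (.leaf 6884967909555)))) (.node (.node (.node (.leaf 2663067093234) (.leaf 2100425721371)) (.node (.leaf 12017392552591) (.leaf 2645812774168))) (.node (.node (.leaf 7881435185977) (.leaf 9479088440267)) (.node (.leaf 2383803320027) (.leaf 8749008486761)))))) (.node (.node (.node (.node (.node (.leaf 1443116942641) (.leaf 8332338594648)) (.node (.leaf 8413856598841) (.leaf 3096694098405))) (.node (.node (.leaf 7550640458555) (.leaf 5798239210302)) (.node (.leaf 4518344656496) (.leaf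 468265534433)))) (.node (.node (.node (.leaf 7305751691578) (.leaf 6313653436928)) (.node (.leaf 5772495751725) (.leaf 8980879051513))) (.node (.node (.leaf 10720423314956) (.leaf 4204816367744)) (.node (.leaf 9002332326422) (.leaf 7576471865803))))) (.node (.node (.node (.node (.leaf 9646601535834) (.leaf 11695319548017)) (.node (.leaf 4578570995578) (.leaf 11128417550529))) (.node (.node (.leaf 3882839115097) (.leaf 9324543279717)) (.node (.leaf 7052409177376) (.leaf 4883561515518)))) (.node (.node (.node (.leaf 9917217636367) (.leaf 4441129224971)) (.node (.leaf 5330103503583) (.leaf 1516264489385))) (.node (.node (.leaf 1383167625520) (.leaf 10028936529647)) (.node (.leaf 6919261586285) (.leaf 3178421748693)))))))) (.node (.node (.node (.node (.node (.node (.node (.leaf 11806902979187) (.leaf 11824065809181)) (.node (.leaf 3272807679987) (.leaf 60286372584))) (.node (.node (.leaf 6021673911437) (.leaf 7808263717171)) (.node (.leaf 8061668886639) (.leaf 8280816945897)))) (.node (.node (.node (.leaf 10295066494477) (.leaf 12262302221930)) (.node (.leaf 7344462824595) (.leaf 10041735514782)))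 (.node (.node (.leaf 1086709500713) (.leaf 10840544248850)) (.node (.leaf 7331523987290) (.leaf 11961610208604))))) (.node (.node (.node (.node (.leaf 6592960791707) (.leaf 2697296544739)) (.node (.leaf 1507637395783) (.leaf 2882104330835))) (.node (.node (.leaf 9122689321534) (.leaf 8117674379977)) (.node (.leaf 12236401279568) (.leaf 1769628762934)))) (.node (.node (.node (.leaf 6979504898408) (.leaf 10445423970924)) (.node (.leaf 511287166736) (.leaf 12365240402172))) (.node (.node (.leaf 10063271101354) (.leaf 3105417069904)) (.node (.leaf 9045359788441) (.leaf 10977961904476)))))) (.node (.node (.node (.node (.node (.leaf 10660222994545) (.leaf 9053959752457)) (.node (.leaf 11317370488124) (.leaf 2297995593895))) (.node (.node (.leaf 3612139849944) (.leaf 11218554061611)) (.node (.leaf 2048724699609) (.leaf 197627021971)))) (.node (.node (.node (.leaf 8212134561946) (.leaf 11248704881709)) (.node (.leaf 442569917084) (.leaf 10716128216459))) (.node (.node (.leaf 6206383328040) (.leaf 472485792236)) (.node (.leaf 11828430636847) (.leaf 9333145470275))))) (.node (.node (.node (.node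 (.leaf 1864169228353) (.leaf 11446240870833)) (.node (.leaf 189076211309) (.leaf 10930779326295))) (.node (.node (.leaf 12090511786026) (.leaf 11987356025432)) (.node (.leaf 11025292462705) (.leaf 2108956018747)))) (.node (.node (.node (.leaf 4780477252857) (.leaf 11420401927960)) (.node (.leaf 12352491488499) (.leaf 10067553880122))) (.node (.node (.leaf 7851386473023) (.leaf 4715991010001)) (.node (.leaf 9844208174942) (.leaf 2946426734284))))))) (.node (.node (.node (.node (.node (.node (.leaf 811901583989) (.leaf 8950772796197)) (.node (.leaf 12021728413952) (.leaf 11055379646075))) (.node (.node (.leaf 9573559961352) (.leaf 6803407833473)) (.node (.leaf 9895662193397) (.leaf 4943631551031)))) (.node (.node (.node (.leaf 3143918486759) (.leaf 10617322408040)) (.node (.leaf 12172088902376) (.leaf 11476266452749))) (.node (.node (.leaf 10823450036816) (.leaf 7786837576284)) (.node (.leaf 5514907026619) (.leaf 214863841149))))) (.node (.node (.node (.node (.leaf 7353081268990) (.leaf 10656002410209)) (.node (.leaf 884872579728) (.leaf 12343862363545))) (.node (.node (.leaf 10196440975762)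 (.leaf 9616465396377)) (.node (.leaf 8615877739059) (.leaf 2160528590468)))) (.node (.node (.node (.leaf 4234998513871) (.leaf 8783393718847)) (.node (.leaf 12326739381009) (.leaf 1782599650109))) (.node (.node (.leaf 9131181934219) (.leaf 10243595568814)) (.node (.leaf 10415306115395) (.leaf 10939452162620)))))) (.node (.node (.node (.node (.node (.leaf 7314345165856) (.leaf 4604229651248)) (.node (.leaf 760376134434) (.leaf 9470437492739))) (.node (.node (.leaf 9539192619821) (.leaf 7842783299634)) (.node (.leaf 5029562157292) (.leaf 622899824105)))) (.node (.node (.node (.leaf 11648128124273) (.leaf 12159086363814)) (.node (.leaf 1232670950019) (.leaf 7108306601475))) (.node (.node (.leaf 8169063910207) (.leaf 8379491878738)) (.node (.leaf 382380279458) (.leaf 1881201181251))))) (.node (.node (.node (.node (.leaf 7245692796934) (.leaf 6403981511320)) (.node (.leaf 6614337522487) (.leaf 5214114351680))) (.node (.node (.leaf 1559256763163) (.leaf 8997977458957)) (.node (.leaf 5059659107093) (.leaf 12335204731687)))) (.node (.node (.node (.leaf 8955021558218) (.leaf 9882853181807)) (.node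 (.leaf 11154167301832) (.leaf 8302358233662))) (.node (.node (.leaf 1249899252074) (.leaf 10045988931202)) (.node (.leaf 9414753780329) (.leaf 3526356566364))))))))

def k2Next_11 : H52.TCert.Tr := .node (.node (.node (.node (.node (.node (.node (.node (.leaf 12206375045664) (.leaf 12270807154727)) (.node (.leaf 8005866228321) (.leaf 11845595170246))) (.node (.node (.leaf 3199893898022) (.leaf 498321263409)) (.node (.leaf 10166348154167) (.leaf 5235636505369)))) (.node (.node (.node (.leaf 3719443644559) (.leaf 6103322722772)) (.node (.leaf 4823274751983) (.leaf 8289471235063))) (.node (.node (.leaf 4402491231027) (.leaf 3964376124075)) (.node (.leaf 9887126062067) (.leaf 1060990618400))))) (.node (.node (.node (.node (.leaf 5270105688206) (.leaf 10260761149589)) (.node (.leaf 7748282288570) (.leaf 12073178696508))) (.node (.node (.leaf 5845595062832) (.leaf 9303052910993)) (.node (.leaf 4784774252971) (.leaf 9582089276081)))) (.node (.node (.node (.leaf 8220714533888) (.leaf 421085840667)) (.node (.leaf 7653763515874) (.leaf 10015970822606))) (.node (.node (.leaf 7168463798952) (.leaf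 10024500004363)) (.node (.leaf 1091062661920) (.leaf 10492612184531)))))) (.node (.node (.node (.node (.node (.leaf 3917119621408) (.leaf 1499068237841)) (.node (.leaf 10836276218016) (.leaf 12133418140843))) (.node (.node (.leaf 11051008656699) (.leaf 10595859892323)) (.node (.leaf 11308759188856) (.leaf 4857709594710)))) (.node (.node (.node (.leaf 2362254887007) (.leaf 11459070986717)) (.node (.leaf 11278760216158) (.leaf 5261509330872))) (.node (.node (.leaf 12150528214482) (.leaf 2031657617023)) (.node (.leaf 11274476915089) (.leaf 11721143092778))))) (.node (.node (.node (.node (.leaf 5604990714704) (.leaf 6133398701819)) (.node (.leaf 12043102128238) (.leaf 8499837141422))) (.node (.node (.leaf 1456023274477) (.leaf 11179968039696)) (.node (.leaf 4166233490775) (.leaf 8396817302106)))) (.node (.node (.node (.leaf 2413831260297) (.leaf 7619323037573)) (.node (.leaf 2035855459016) (.leaf 8834895775092))) (.node (.node (.leaf 8976646539845) (.leaf 1593557844269)) (.node (.leaf 2830565704530) (.leaf 12361010644882))))))) (.leaf 0)) (.leaf 0)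

def k2Next : H52.TCert.Tr := .node (.node (.node (.node (k2Next_0) (k2Next_1)) (.node (k2Next_2) (k2Next_3))) (.node (.node (k2Next_4) (k2Next_5)) (.node (k2Next_6) (k2Next_7)))) (.node (.node (.node (k2Next_8) (k2Next_9)) (.node (k2Next_10) (k2Next_11))) (.node (.node (.leaf 0) (.leaf 0)) (.node (.leaf 0) (.leaf 0))))

def k2Wit_0 : H52.TCert.Tr := .node (.node (.node (.node (.node (.node (.node (.node (.leaf 5) (.leaf 0)) (.node (.leaf 0) (.leaf 0))) (.node (.node (.leaf 0) (.leaf 0)) (.node (.leaf 0) (.leaf 0)))) (.node (.node (.node (.leaf 1) (.leaf 0)) (.node (.leaf 0) (.leaf 0))) (.node (.node (.leaf 0) (.leaf 0)) (.node (.leaf 1) (.leaf 0))))) (.node (.node (.node (.node (.leaf 0) (.leaf 0)) (.node (.leaf 0) (.leaf 0))) (.node (.node (.leaf 0) (.leaf 0)) (.node (.leaf 1) (.leaf 0)))) (.node (.node (.node (.leaf 0) (.leaf 0)) (.node (.leaf 0) (.leaf 0))) (.node (.node (.leaf 0) (.leaf 0)) (.node (.leaf 0) (.leaf 0)))))) (.node (.node (.node (.node (.node (.leaf 1) (.leaf 0)) (.node (.leaf 0) (.leaf 0))) (.node (.node (.leaf 0) (.leaf 0)) (.node (.leaf 0) (.leaf 0)))) (.node (.node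 (.node (.leaf 0) (.leaf 0)) (.node (.leaf 0) (.leaf 0))) (.node (.node (.leaf 0) (.leaf 0)) (.node (.leaf 0) (.leaf 1))))) (.node (.node (.node (.node (.leaf 0) (.leaf 0)) (.node (.leaf 1) (.leaf 0))) (.node (.node (.leaf 0) (.leaf 0)) (.node (.leaf 0) (.leaf 0)))) (.node (.node (.node (.leaf 0) (.leaf 0)) (.node (.leaf 0) (.leaf 0))) (.node (.node (.leaf 0) (.leaf 1)) (.node (.leaf 0) (.leaf 0))))))) (.node (.node (.node (.node (.node (.node (.leaf 0) (.leaf 0)) (.node (.leaf 0) (.leaf 0))) (.node (.node (.leaf 0) (.leaf 0)) (.node (.leaf 1) (.leaf 0)))) (.node (.node (.node (.leaf 0) (.leaf 1)) (.node (.leaf 0) (.leaf 0))) (.node (.node (.leaf 0) (.leaf 0)) (.node (.leaf 0) (.leaf 0))))) (.node (.node (.node (.node (.leaf 5) (.leaf 0)) (.node (.leaf 0) (.leaf 1))) (.node (.node (.leaf 0) (.leaf 0)) (.node (.leaf 0) (.leaf 0)))) (.node (.node (.node (.leaf 0) (.leaf 0)) (.node (.leaf 5) (.leaf 0))) (.node (.node (.leaf 0) (.leaf 0)) (.node (.leaf 0) (.leaf 0)))))) (.node (.node (.node (.node (.node (.leaf 0) (.leaf 0)) (.node (.leaf 0) (.leaf 0))) (.node (.node (.leaf 0) (.leaf 0)) (.node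 (.leaf 1) (.leaf 1)))) (.node (.node (.node (.leaf 0) (.leaf 0)) (.node (.leaf 0) (.leaf 0))) (.node (.node (.leaf 0) (.leaf 0)) (.node (.leaf 5) (.leaf 0))))) (.node (.node (.node (.node (.leaf 0) (.leaf 0)) (.node (.leaf 0) (.leaf 0))) (.node (.node (.leaf 0) (.leaf 0)) (.node (.leaf 0) (.leaf 1)))) (.node (.node (.node (.leaf 0) (.leaf 1)) (.node (.leaf 0) (.leaf 0))) (.node (.node (.leaf 0) (.leaf 0)) (.node (.leaf 0) (.leaf 0)))))))) (.node (.node (.node (.node (.node (.node (.node (.leaf 0) (.leaf 0)) (.node (.leaf 0) (.leaf 0))) (.node (.node (.leaf 5) (.leaf 0)) (.node (.leaf 0) (.leaf 0)))) (.node (.node (.node (.leaf 0) (.leaf 0)) (.node (.leaf 1) (.leaf 0))) (.node (.node (.leaf 0) (.leaf 0)) (.node (.leaf 0) (.leaf 0))))) (.node (.node (.node (.node (.leaf 0) (.leaf 0)) (.node (.leaf 0) (.leaf 0))) (.node (.node (.leaf 0) (.leaf 0)) (.node (.leaf 0) (.leaf 0)))) (.node (.node (.node (.leaf 0) (.leaf 0)) (.node (.leaf 5) (.leaf 0))) (.node (.node (.leaf 1) (.leaf 0)) (.node (.leaf 1) (.leaf 0)))))) (.node (.node (.node (.node (.node (.leaf 0) (.leaf 0)) (.node (.leaf 0) (.leaf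 0))) (.node (.node (.leaf 0) (.leaf 0)) (.node (.leaf 0) (.leaf 1)))) (.node (.node (.node (.leaf 0) (.leaf 0)) (.node (.leaf 0) (.leaf 1))) (.node (.node (.leaf 0) (.leaf 0)) (.node (.leaf 0) (.leaf 5))))) (.node (.node (.node (.node (.leaf 0) (.leaf 0)) (.node (.leaf 0) (.leaf 0))) (.node (.node (.leaf 0) (.leaf 1)) (.node (.leaf 0) (.leaf 0)))) (.node (.node (.node (.leaf 0) (.leaf 1)) (.node (.leaf 0) (.leaf 0))) (.node (.node (.leaf 0) (.leaf 0)) (.node (.leaf 0) (.leaf 1))))))) (.node (.node (.node (.node (.node (.node (.leaf 0) (.leaf 0)) (.node (.leaf 1) (.leaf 0))) (.node (.node (.leaf 0) (.leaf 1)) (.node (.leaf 0) (.leaf 0)))) (.node (.node (.node (.leaf 0) (.leaf 0)) (.node (.leaf 0) (.leaf 0))) (.node (.node (.leaf 0) (.leaf 0)) (.node (.leaf 0) (.leaf 0))))) (.node (.node (.node (.node (.leaf 0) (.leaf 0)) (.node (.leaf 0) (.leaf 1))) (.node (.node (.leaf 0) (.leaf 0)) (.node (.leaf 0) (.leaf 0)))) (.node (.node (.node (.leaf 0) (.leaf 5)) (.node (.leaf 0) (.leaf 0))) (.node (.node (.leaf 0) (.leaf 0)) (.node (.leaf 0) (.leaf 1)))))) (.node (.node (.node (.node (.node (.leaf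 0) (.leaf 0)) (.node (.leaf 0) (.leaf 0))) (.node (.node (.leaf 0) (.leaf 1)) (.node (.leaf 0) (.leaf 0)))) (.node (.node (.node (.leaf 1) (.leaf 0)) (.node (.leaf 0) (.leaf 0))) (.node (.node (.leaf 1) (.leaf 0)) (.node (.leaf 0) (.leaf 0))))) (.node (.node (.node (.node (.leaf 0) (.leaf 1)) (.node (.leaf 0) (.leaf 1))) (.node (.node (.leaf 0) (.leaf 0)) (.node (.leaf 0) (.leaf 0)))) (.node (.node (.node (.leaf 0) (.leaf 1)) (.node (.leaf 0) (.leaf 0))) (.node (.node (.leaf 0) (.leaf 0)) (.node (.leaf 0) (.leaf 0))))))))

def k2Wit_1 : H52.TCert.Tr := .node (.node (.node (.node (.node (.node (.node (.node (.leaf 1) (.leaf 0)) (.node (.leaf 0) (.leaf 0))) (.node (.node (.leaf 0) (.leaf 0)) (.node (.leaf 0) (.leaf 0)))) (.node (.node (.node (.leaf 0) (.leaf 0)) (.node (.leaf 0) (.leaf 1))) (.node (.node (.leaf 0) (.leaf 0)) (.node (.leaf 0) (.leaf 0))))) (.node (.node (.node (.node (.leaf 0) (.leaf 1)) (.node (.leaf 0) (.leaf 0))) (.node (.node (.leaf 1) (.leaf 0)) (.node (.leaf 5) (.leaf 0)))) (.node (.node (.node (.leaf 0) (.leaf 0)) (.node (.leaf 0) (.leaf 0))) (.node (.node (.leaf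 0) (.leaf 0)) (.node (.leaf 0) (.leaf 0)))))) (.node (.node (.node (.node (.node (.leaf 0) (.leaf 0)) (.node (.leaf 0) (.leaf 0))) (.node (.node (.leaf 0) (.leaf 0)) (.node (.leaf 0) (.leaf 0)))) (.node (.node (.node (.leaf 0) (.leaf 0)) (.node (.leaf 0) (.leaf 0))) (.node (.node (.leaf 0) (.leaf 0)) (.node (.leaf 0) (.leaf 0))))) (.node (.node (.node (.node (.leaf 0) (.leaf 0)) (.node (.leaf 0) (.leaf 0))) (.node (.node (.leaf 0) (.leaf 0)) (.node (.leaf 1) (.leaf 0)))) (.node (.node (.node (.leaf 0) (.leaf 0)) (.node (.leaf 0) (.leaf 0))) (.node (.node (.leaf 0) (.leaf 0)) (.node (.leaf 0) (.leaf 0))))))) (.node (.node (.node (.node (.node (.node (.leaf 0) (.leaf 0)) (.node (.leaf 0) (.leaf 0))) (.node (.node (.leaf 0) (.leaf 0)) (.node (.leaf 0) (.leaf 0)))) (.node (.node (.node (.leaf 0) (.leaf 0)) (.node (.leaf 1) (.leaf 0))) (.node (.node (.leaf 0) (.leaf 0)) (.node (.leaf 1) (.leaf 0))))) (.node (.node (.node (.node (.leaf 0) (.leaf 1)) (.node (.leaf 1) (.leaf 0))) (.node (.node (.leaf 0) (.leaf 0)) (.node (.leaf 0) (.leaf 0)))) (.node (.node (.node (.leaf 0) (.leaf 1)) (.node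 (.leaf 0) (.leaf 0))) (.node (.node (.leaf 0) (.leaf 0)) (.node (.leaf 0) (.leaf 0)))))) (.node (.node (.node (.node (.node (.leaf 0) (.leaf 0)) (.node (.leaf 0) (.leaf 0))) (.node (.node (.leaf 0) (.leaf 0)) (.node (.leaf 0) (.leaf 0)))) (.node (.node (.node (.leaf 0) (.leaf 0)) (.node (.leaf 0) (.leaf 0))) (.node (.node (.leaf 0) (.leaf 0)) (.node (.leaf 0) (.leaf 0))))) (.node (.node (.node (.node (.leaf 0) (.leaf 0)) (.node (.leaf 1) (.leaf 0))) (.node (.node (.leaf 0) (.leaf 5)) (.node (.leaf 0) (.leaf 1)))) (.node (.node (.node (.leaf 0) (.leaf 0)) (.node (.leaf 0) (.leaf 0))) (.node (.node (.leaf 0) (.leaf 0)) (.node (.leaf 0) (.leaf 1)))))))) (.node (.node (.node (.node (.node (.node (.node (.leaf 0) (.leaf 0)) (.node (.leaf 0) (.leaf 0))) (.node (.node (.leaf 0) (.leaf 0)) (.node (.leaf 0) (.leaf 0)))) (.node (.node (.node (.leaf 0) (.leaf 0)) (.node (.leaf 0) (.leaf 0))) (.node (.node (.leaf 0) (.leaf 0)) (.node (.leaf 0) (.leaf 0))))) (.node (.node (.node (.node (.leaf 0) (.leaf 0)) (.node (.leaf 1) (.leaf 0))) (.node (.node (.leaf 0) (.leaf 0)) (.node (.leaf 5) (.leaf 0))))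 (.node (.node (.node (.leaf 0) (.leaf 0)) (.node (.leaf 0) (.leaf 0))) (.node (.node (.leaf 1) (.leaf 0)) (.node (.leaf 0) (.leaf 0)))))) (.node (.node (.node (.node (.node (.leaf 5) (.leaf 0)) (.node (.leaf 0) (.leaf 0))) (.node (.node (.leaf 1) (.leaf 5)) (.node (.leaf 0) (.leaf 0)))) (.node (.node (.node (.leaf 0) (.leaf 0)) (.node (.leaf 0) (.leaf 1))) (.node (.node (.leaf 0) (.leaf 0)) (.node (.leaf 0) (.leaf 5))))) (.node (.node (.node (.node (.leaf 0) (.leaf 0)) (.node (.leaf 0) (.leaf 5))) (.node (.node (.leaf 1) (.leaf 0)) (.node (.leaf 0) (.leaf 0)))) (.node (.node (.node (.leaf 1) (.leaf 0)) (.node (.leaf 0) (.leaf 0))) (.node (.node (.leaf 0) (.leaf 0)) (.node (.leaf 0) (.leaf 0))))))) (.node (.node (.node (.node (.node (.node (.leaf 0) (.leaf 0)) (.node (.leaf 0) (.leaf 0))) (.node (.node (.leaf 0) (.leaf 0)) (.node (.leaf 0) (.leaf 0)))) (.node (.node (.node (.leaf 0) (.leaf 0)) (.node (.leaf 5) (.leaf 0))) (.node (.node (.leaf 0) (.leaf 0)) (.node (.leaf 0) (.leaf 0))))) (.node (.node (.node (.node (.leaf 0) (.leaf 0)) (.node (.leaf 0) (.leaf 0))) (.node (.node (.leaf 0)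 (.leaf 0)) (.node (.leaf 0) (.leaf 0)))) (.node (.node (.node (.leaf 0) (.leaf 0)) (.node (.leaf 0) (.leaf 5))) (.node (.node (.leaf 0) (.leaf 0)) (.node (.leaf 0) (.leaf 0)))))) (.node (.node (.node (.node (.node (.leaf 0) (.leaf 5)) (.node (.leaf 0) (.leaf 0))) (.node (.node (.leaf 0) (.leaf 5)) (.node (.leaf 0) (.leaf 0)))) (.node (.node (.node (.leaf 0) (.leaf 0)) (.node (.leaf 0) (.leaf 0))) (.node (.node (.leaf 0) (.leaf 0)) (.node (.leaf 0) (.leaf 0))))) (.node (.node (.node (.node (.leaf 0) (.leaf 0)) (.node (.leaf 0) (.leaf 0))) (.node (.node (.leaf 0) (.leaf 0)) (.node (.leaf 0) (.leaf 0)))) (.node (.node (.node (.leaf 0) (.leaf 0)) (.node (.leaf 0) (.leaf 0))) (.node (.node (.leaf 0) (.leaf 0)) (.node (.leaf 0) (.leaf 5))))))))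

def k2Wit_2 : H52.TCert.Tr := .node (.node (.node (.node (.node (.node (.node (.node (.leaf 0) (.leaf 0)) (.node (.leaf 0) (.leaf 0))) (.node (.node (.leaf 1) (.leaf 0)) (.node (.leaf 5) (.leaf 0)))) (.node (.node (.node (.leaf 0) (.leaf 0)) (.node (.leaf 0) (.leaf 0))) (.node (.node (.leaf 0) (.leaf 0)) (.node (.leaf 0) (.leaf 0))))) (.node (.node (.node (.node (.leaf 1) (.leaf 0)) (.node (.leaf 0) (.leaf 1))) (.node (.node (.leaf 0) (.leaf 0)) (.node (.leaf 0) (.leaf 0)))) (.node (.node (.node (.leaf 0) (.leaf 0)) (.node (.leaf 0) (.leaf 5))) (.node (.node (.leaf 0) (.leaf 0)) (.node (.leaf 5) (.leaf 0)))))) (.node (.node (.node (.node (.node (.leaf 0) (.leaf 0)) (.node (.leaf 0) (.leaf 0))) (.node (.node (.leaf 0) (.leaf 0)) (.node (.leaf 0) (.leaf 1)))) (.node (.node (.node (.leaf 0) (.leaf 0)) (.node (.leaf 0) (.leaf 0))) (.node (.node (.leaf 0) (.leaf 0)) (.node (.leaf 5) (.leaf 0))))) (.node (.node (.node (.node (.leaf 0) (.leaf 0)) (.node (.leaf 0) (.leaf 1))) (.node (.node (.leaf 0) (.leaf 0)) (.node (.leaf 0) (.leaf 0)))) (.node (.node (.node (.leaf 0) (.leaf 0)) (.node (.leaf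 0) (.leaf 1))) (.node (.node (.leaf 0) (.leaf 0)) (.node (.leaf 0) (.leaf 0))))))) (.node (.node (.node (.node (.node (.node (.leaf 0) (.leaf 5)) (.node (.leaf 0) (.leaf 0))) (.node (.node (.leaf 0) (.leaf 5)) (.node (.leaf 0) (.leaf 5)))) (.node (.node (.node (.leaf 1) (.leaf 0)) (.node (.leaf 0) (.leaf 0))) (.node (.node (.leaf 0) (.leaf 0)) (.node (.leaf 5) (.leaf 0))))) (.node (.node (.node (.node (.leaf 0) (.leaf 1)) (.node (.leaf 0) (.leaf 0))) (.node (.node (.leaf 0) (.leaf 5)) (.node (.leaf 0) (.leaf 0)))) (.node (.node (.node (.leaf 0) (.leaf 0)) (.node (.leaf 0) (.leaf 0))) (.node (.node (.leaf 0) (.leaf 5)) (.node (.leaf 0) (.leaf 0)))))) (.node (.node (.node (.node (.node (.leaf 0) (.leaf 0)) (.node (.leaf 0) (.leaf 0))) (.node (.node (.leaf 0) (.leaf 0)) (.node (.leaf 0) (.leaf 0)))) (.node (.node (.node (.leaf 0) (.leaf 0)) (.node (.leaf 0) (.leaf 0))) (.node (.node (.leaf 1) (.leaf 0)) (.node (.leaf 1) (.leaf 5))))) (.node (.node (.node (.node (.leaf 0) (.leaf 0)) (.node (.leaf 0) (.leaf 1))) (.node (.node (.leaf 0) (.leaf 1)) (.node (.leaf 0) (.leaf 0)))) (.node (.node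 (.node (.leaf 0) (.leaf 0)) (.node (.leaf 0) (.leaf 0))) (.node (.node (.leaf 1) (.leaf 0)) (.node (.leaf 0) (.leaf 0)))))))) (.node (.node (.node (.node (.node (.node (.node (.leaf 0) (.leaf 0)) (.node (.leaf 0) (.leaf 5))) (.node (.node (.leaf 0) (.leaf 0)) (.node (.leaf 0) (.leaf 0)))) (.node (.node (.node (.leaf 0) (.leaf 0)) (.node (.leaf 1) (.leaf 0))) (.node (.node (.leaf 0) (.leaf 0)) (.node (.leaf 0) (.leaf 0))))) (.node (.node (.node (.node (.leaf 0) (.leaf 0)) (.node (.leaf 0) (.leaf 0))) (.node (.node (.leaf 0) (.leaf 0)) (.node (.leaf 0) (.leaf 0)))) (.node (.node (.node (.leaf 0) (.leaf 0)) (.node (.leaf 0) (.leaf 0))) (.node (.node (.leaf 0) (.leaf 0)) (.node (.leaf 1) (.leaf 0)))))) (.node (.node (.node (.node (.node (.leaf 0) (.leaf 0)) (.node (.leaf 0) (.leaf 0))) (.node (.node (.leaf 0) (.leaf 0)) (.node (.leaf 0) (.leaf 0)))) (.node (.node (.node (.leaf 0) (.leaf 0)) (.node (.leaf 0) (.leaf 0))) (.node (.node (.leaf 1) (.leaf 0)) (.node (.leaf 0) (.leaf 0))))) (.node (.node (.node (.node (.leaf 0) (.leaf 0)) (.node (.leaf 1) (.leaf 0))) (.node (.node (.leaf 1) (.leaf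 0)) (.node (.leaf 0) (.leaf 0)))) (.node (.node (.node (.leaf 0) (.leaf 0)) (.node (.leaf 0) (.leaf 0))) (.node (.node (.leaf 1) (.leaf 0)) (.node (.leaf 0) (.leaf 1))))))) (.node (.node (.node (.node (.node (.node (.leaf 0) (.leaf 0)) (.node (.leaf 0) (.leaf 0))) (.node (.node (.leaf 1) (.leaf 0)) (.node (.leaf 5) (.leaf 5)))) (.node (.node (.node (.leaf 0) (.leaf 0)) (.node (.leaf 0) (.leaf 0))) (.node (.node (.leaf 0) (.leaf 0)) (.node (.leaf 0) (.leaf 0))))) (.node (.node (.node (.node (.leaf 5) (.leaf 0)) (.node (.leaf 0) (.leaf 0))) (.node (.node (.leaf 0) (.leaf 0)) (.node (.leaf 0) (.leaf 1)))) (.node (.node (.node (.leaf 0) (.leaf 0)) (.node (.leaf 1) (.leaf 0))) (.node (.node (.leaf 1) (.leaf 0)) (.node (.leaf 0) (.leaf 0)))))) (.node (.node (.node (.node (.node (.leaf 0) (.leaf 0)) (.node (.leaf 5) (.leaf 0))) (.node (.node (.leaf 0) (.leaf 5)) (.node (.leaf 0) (.leaf 1)))) (.node (.node (.node (.leaf 0) (.leaf 0)) (.node (.leaf 0) (.leaf 0))) (.node (.node (.leaf 0) (.leaf 1)) (.node (.leaf 0) (.leaf 5))))) (.node (.node (.node (.node (.leaf 0) (.leaf 0)) (.node (.leaf 0)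 (.leaf 1))) (.node (.node (.leaf 0) (.leaf 0)) (.node (.leaf 0) (.leaf 0)))) (.node (.node (.node (.leaf 0) (.leaf 0)) (.node (.leaf 0) (.leaf 1))) (.node (.node (.leaf 0) (.leaf 0)) (.node (.leaf 0) (.leaf 0))))))))

def k2Wit_3 : H52.TCert.Tr := .node (.node (.node (.node (.node (.node (.node (.node (.leaf 5) (.leaf 0)) (.node (.leaf 0) (.leaf 0))) (.node (.node (.leaf 0) (.leaf 0)) (.node (.leaf 0) (.leaf 0)))) (.node (.node (.node (.leaf 0) (.leaf 0)) (.node (.leaf 5) (.leaf 0))) (.node (.node (.leaf 0) (.leaf 0)) (.node (.leaf 0) (.leaf 0))))) (.node (.node (.node (.node (.leaf 0) (.leaf 0)) (.node (.leaf 0) (.leaf 0))) (.node (.node (.leaf 0) (.leaf 0)) (.node (.leaf 0) (.leaf 5)))) (.node (.node (.node (.leaf 0) (.leaf 0)) (.node (.leaf 0) (.leaf 0))) (.node (.node (.leaf 0) (.leaf 0)) (.node (.leaf 5) (.leaf 0)))))) (.node (.node (.node (.node (.node (.leaf 0) (.leaf 0)) (.node (.leaf 0) (.leaf 1))) (.node (.node (.leaf 0) (.leaf 0)) (.node (.leaf 0) (.leaf 0)))) (.node (.node (.node (.leaf 1) (.leaf 5)) (.node (.leaf 0) (.leaf 0))) (.node (.node (.leaf 0) (.leaf 0)) (.node (.leaf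 0) (.leaf 0))))) (.node (.node (.node (.node (.leaf 0) (.leaf 0)) (.node (.leaf 5) (.leaf 0))) (.node (.node (.leaf 0) (.leaf 5)) (.node (.leaf 0) (.leaf 0)))) (.node (.node (.node (.leaf 0) (.leaf 0)) (.node (.leaf 0) (.leaf 0))) (.node (.node (.leaf 0) (.leaf 0)) (.node (.leaf 0) (.leaf 0))))))) (.node (.node (.node (.node (.node (.node (.leaf 0) (.leaf 0)) (.node (.leaf 0) (.leaf 5))) (.node (.node (.leaf 0) (.leaf 0)) (.node (.leaf 0) (.leaf 0)))) (.node (.node (.node (.leaf 0) (.leaf 0)) (.node (.leaf 0) (.leaf 0))) (.node (.node (.leaf 0) (.leaf 0)) (.node (.leaf 0) (.leaf 0))))) (.node (.node (.node (.node (.leaf 5) (.leaf 0)) (.node (.leaf 0) (.leaf 0))) (.node (.node (.leaf 0) (.leaf 1)) (.node (.leaf 0) (.leaf 0)))) (.node (.node (.node (.leaf 5) (.leaf 5)) (.node (.leaf 0) (.leaf 0))) (.node (.node (.leaf 0) (.leaf 5)) (.node (.leaf 0) (.leaf 1)))))) (.node (.node (.node (.node (.node (.leaf 0) (.leaf 5)) (.node (.leaf 0) (.leaf 1))) (.node (.node (.leaf 0) (.leaf 0)) (.node (.leaf 0) (.leaf 0)))) (.node (.node (.node (.leaf 0) (.leaf 0)) (.node (.leaf 0) (.leaf 0))) (.node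 (.node (.leaf 0) (.leaf 5)) (.node (.leaf 0) (.leaf 0))))) (.node (.node (.node (.node (.leaf 0) (.leaf 0)) (.node (.leaf 0) (.leaf 0))) (.node (.node (.leaf 0) (.leaf 0)) (.node (.leaf 0) (.leaf 0)))) (.node (.node (.node (.leaf 0) (.leaf 5)) (.node (.leaf 1) (.leaf 0))) (.node (.node (.leaf 0) (.leaf 0)) (.node (.leaf 0) (.leaf 0)))))))) (.node (.node (.node (.node (.node (.node (.node (.leaf 0) (.leaf 5)) (.node (.leaf 0) (.leaf 5))) (.node (.node (.leaf 0) (.leaf 0)) (.node (.leaf 0) (.leaf 0)))) (.node (.node (.node (.leaf 0) (.leaf 5)) (.node (.leaf 0) (.leaf 0))) (.node (.node (.leaf 0) (.leaf 5)) (.node (.leaf 0) (.leaf 0))))) (.node (.node (.node (.node (.leaf 0) (.leaf 0)) (.node (.leaf 0) (.leaf 0))) (.node (.node (.leaf 0) (.leaf 0)) (.node (.leaf 0) (.leaf 5)))) (.node (.node (.node (.leaf 5) (.leaf 0)) (.node (.leaf 5) (.leaf 5))) (.node (.node (.leaf 0) (.leaf 0)) (.node (.leaf 0) (.leaf 0)))))) (.node (.node (.node (.node (.node (.leaf 0) (.leaf 0)) (.node (.leaf 0) (.leaf 1))) (.node (.node (.leaf 0) (.leaf 0)) (.node (.leaf 0) (.leaf 0)))) (.node (.node (.node (.leaf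 5) (.leaf 0)) (.node (.leaf 0) (.leaf 0))) (.node (.node (.leaf 1) (.leaf 0)) (.node (.leaf 0) (.leaf 0))))) (.node (.node (.node (.node (.leaf 5) (.leaf 5)) (.node (.leaf 0) (.leaf 5))) (.node (.node (.leaf 0) (.leaf 0)) (.node (.leaf 0) (.leaf 0)))) (.node (.node (.node (.leaf 0) (.leaf 0)) (.node (.leaf 0) (.leaf 0))) (.node (.node (.leaf 0) (.leaf 1)) (.node (.leaf 0) (.leaf 0))))))) (.node (.node (.node (.node (.node (.node (.leaf 0) (.leaf 0)) (.node (.leaf 5) (.leaf 1))) (.node (.node (.leaf 0) (.leaf 0)) (.node (.leaf 0) (.leaf 0)))) (.node (.node (.node (.leaf 0) (.leaf 0)) (.node (.leaf 0) (.leaf 1))) (.node (.node (.leaf 5) (.leaf 0)) (.node (.leaf 0) (.leaf 0))))) (.node (.node (.node (.node (.leaf 0) (.leaf 0)) (.node (.leaf 1) (.leaf 0))) (.node (.node (.leaf 0) (.leaf 0)) (.node (.leaf 1) (.leaf 1)))) (.node (.node (.node (.leaf 0) (.leaf 0)) (.node (.leaf 0) (.leaf 0))) (.node (.node (.leaf 0) (.leaf 0)) (.node (.leaf 0) (.leaf 0)))))) (.node (.node (.node (.node (.node (.leaf 0) (.leaf 0)) (.node (.leaf 1) (.leaf 0))) (.node (.node (.leaf 5) (.leaf 0)) (.node (.leaf 5)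 (.leaf 0)))) (.node (.node (.node (.leaf 0) (.leaf 0)) (.node (.leaf 0) (.leaf 0))) (.node (.node (.leaf 5) (.leaf 0)) (.node (.leaf 0) (.leaf 1))))) (.node (.node (.node (.node (.leaf 0) (.leaf 0)) (.node (.leaf 0) (.leaf 0))) (.node (.node (.leaf 0) (.leaf 0)) (.node (.leaf 0) (.leaf 0)))) (.node (.node (.node (.leaf 0) (.leaf 0)) (.node (.leaf 1) (.leaf 0))) (.node (.node (.leaf 0) (.leaf 0)) (.node (.leaf 0) (.leaf 0))))))))

def k2Wit_4 : H52.TCert.Tr := .node (.node (.node (.node (.node (.node (.node (.node (.leaf 0) (.leaf 0)) (.node (.leaf 0) (.leaf 0))) (.node (.node (.leaf 0) (.leaf 0)) (.node (.leaf 1) (.leaf 0)))) (.node (.node (.node (.leaf 0) (.leaf 1)) (.node (.leaf 0) (.leaf 0))) (.node (.node (.leaf 0) (.leaf 0)) (.node (.leaf 0) (.leaf 0))))) (.node (.node (.node (.node (.leaf 0) (.leaf 0)) (.node (.leaf 0) (.leaf 0))) (.node (.node (.leaf 0) (.leaf 0)) (.node (.leaf 0) (.leaf 0)))) (.node (.node (.node (.leaf 0) (.leaf 0)) (.node (.leaf 0) (.leaf 0))) (.node (.node (.leaf 0) (.leaf 0)) (.node (.leaf 0) (.leaf 0)))))) (.node (.node (.node (.node (.node (.leaf 1) (.leaf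 0)) (.node (.leaf 0) (.leaf 1))) (.node (.node (.leaf 0) (.leaf 0)) (.node (.leaf 0) (.leaf 0)))) (.node (.node (.node (.leaf 0) (.leaf 0)) (.node (.leaf 0) (.leaf 0))) (.node (.node (.leaf 0) (.leaf 1)) (.node (.leaf 0) (.leaf 0))))) (.node (.node (.node (.node (.leaf 0) (.leaf 0)) (.node (.leaf 0) (.leaf 5))) (.node (.node (.leaf 0) (.leaf 0)) (.node (.leaf 0) (.leaf 0)))) (.node (.node (.node (.leaf 0) (.leaf 0)) (.node (.leaf 0) (.leaf 0))) (.node (.node (.leaf 0) (.leaf 0)) (.node (.leaf 1) (.leaf 0))))))) (.node (.node (.node (.node (.node (.node (.leaf 0) (.leaf 5)) (.node (.leaf 0) (.leaf 1))) (.node (.node (.leaf 0) (.leaf 0)) (.node (.leaf 1) (.leaf 0)))) (.node (.node (.node (.leaf 0) (.leaf 0)) (.node (.leaf 0) (.leaf 1))) (.node (.node (.leaf 0) (.leaf 0)) (.node (.leaf 0) (.leaf 0))))) (.node (.node (.node (.node (.leaf 1) (.leaf 0)) (.node (.leaf 0) (.leaf 0))) (.node (.node (.leaf 0) (.leaf 0)) (.node (.leaf 0) (.leaf 0)))) (.node (.node (.node (.leaf 0) (.leaf 0)) (.node (.leaf 0) (.leaf 1))) (.node (.node (.leaf 0) (.leaf 0)) (.node (.leaf 0) (.leaf 0)))))) (.node (.node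 (.node (.node (.node (.leaf 0) (.leaf 5)) (.node (.leaf 1) (.leaf 0))) (.node (.node (.leaf 0) (.leaf 0)) (.node (.leaf 0) (.leaf 0)))) (.node (.node (.node (.leaf 0) (.leaf 0)) (.node (.leaf 0) (.leaf 5))) (.node (.node (.leaf 0) (.leaf 0)) (.node (.leaf 0) (.leaf 0))))) (.node (.node (.node (.node (.leaf 0) (.leaf 0)) (.node (.leaf 0) (.leaf 5))) (.node (.node (.leaf 0) (.leaf 0)) (.node (.leaf 0) (.leaf 0)))) (.node (.node (.node (.leaf 0) (.leaf 0)) (.node (.leaf 0) (.leaf 0))) (.node (.node (.leaf 0) (.leaf 0)) (.node (.leaf 0) (.leaf 0)))))))) (.node (.node (.node (.node (.node (.node (.node (.leaf 0) (.leaf 0)) (.node (.leaf 0) (.leaf 0))) (.node (.node (.leaf 5) (.leaf 0)) (.node (.leaf 0) (.leaf 0)))) (.node (.node (.node (.leaf 0) (.leaf 0)) (.node (.leaf 0) (.leaf 0))) (.node (.node (.leaf 0) (.leaf 0)) (.node (.leaf 0) (.leaf 0))))) (.node (.node (.node (.node (.leaf 0) (.leaf 0)) (.node (.leaf 0) (.leaf 0))) (.node (.node (.leaf 0) (.leaf 0)) (.node (.leaf 0) (.leaf 5)))) (.node (.node (.node (.leaf 0) (.leaf 0)) (.node (.leaf 0) (.leaf 0))) (.node (.node (.leaf 0) (.leaf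 0)) (.node (.leaf 0) (.leaf 0)))))) (.node (.node (.node (.node (.node (.leaf 0) (.leaf 0)) (.node (.leaf 0) (.leaf 0))) (.node (.node (.leaf 0) (.leaf 0)) (.node (.leaf 5) (.leaf 1)))) (.node (.node (.node (.leaf 0) (.leaf 0)) (.node (.leaf 0) (.leaf 1))) (.node (.node (.leaf 0) (.leaf 0)) (.node (.leaf 0) (.leaf 0))))) (.node (.node (.node (.node (.leaf 0) (.leaf 0)) (.node (.leaf 0) (.leaf 0))) (.node (.node (.leaf 0) (.leaf 0)) (.node (.leaf 0) (.leaf 0)))) (.node (.node (.node (.leaf 1) (.leaf 0)) (.node (.leaf 1) (.leaf 0))) (.node (.node (.leaf 0) (.leaf 0)) (.node (.leaf 1) (.leaf 0))))))) (.node (.node (.node (.node (.node (.node (.leaf 0) (.leaf 0)) (.node (.leaf 0) (.leaf 0))) (.node (.node (.leaf 0) (.leaf 0)) (.node (.leaf 0) (.leaf 0)))) (.node (.node (.node (.leaf 0) (.leaf 0)) (.node (.leaf 0) (.leaf 0))) (.node (.node (.leaf 0) (.leaf 0)) (.node (.leaf 0) (.leaf 5))))) (.node (.node (.node (.node (.leaf 0) (.leaf 0)) (.node (.leaf 0) (.leaf 5))) (.node (.node (.leaf 0) (.leaf 0)) (.node (.leaf 0) (.leaf 0)))) (.node (.node (.node (.leaf 1) (.leaf 0)) (.node (.leaf 0)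 (.leaf 0))) (.node (.node (.leaf 0) (.leaf 0)) (.node (.leaf 1) (.leaf 0)))))) (.node (.node (.node (.node (.node (.leaf 0) (.leaf 0)) (.node (.leaf 0) (.leaf 0))) (.node (.node (.leaf 0) (.leaf 5)) (.node (.leaf 5) (.leaf 0)))) (.node (.node (.node (.leaf 0) (.leaf 0)) (.node (.leaf 0) (.leaf 0))) (.node (.node (.leaf 0) (.leaf 0)) (.node (.leaf 0) (.leaf 0))))) (.node (.node (.node (.node (.leaf 0) (.leaf 1)) (.node (.leaf 0) (.leaf 0))) (.node (.node (.leaf 0) (.leaf 0)) (.node (.leaf 0) (.leaf 0)))) (.node (.node (.node (.leaf 0) (.leaf 0)) (.node (.leaf 0) (.leaf 0))) (.node (.node (.leaf 0) (.leaf 0)) (.node (.leaf 0) (.leaf 0))))))))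

def k2Wit_5 : H52.TCert.Tr := .node (.node (.node (.node (.node (.node (.node (.node (.leaf 0) (.leaf 0)) (.node (.leaf 0) (.leaf 0))) (.node (.node (.leaf 1) (.leaf 0)) (.node (.leaf 0) (.leaf 0)))) (.node (.node (.node (.leaf 0) (.leaf 0)) (.node (.leaf 5) (.leaf 0))) (.node (.node (.leaf 0) (.leaf 0)) (.node (.leaf 0) (.leaf 1))))) (.node (.node (.node (.node (.leaf 0) (.leaf 0)) (.node (.leaf 0) (.leaf 0))) (.node (.node (.leaf 5) (.leaf 0)) (.node (.leaf 0) (.leaf 0)))) (.node (.node (.node (.leaf 0) (.leaf 0)) (.node (.leaf 0) (.leaf 0))) (.node (.node (.leaf 0) (.leaf 0)) (.node (.leaf 0) (.leaf 0)))))) (.node (.node (.node (.node (.node (.leaf 0) (.leaf 0)) (.node (.leaf 1) (.leaf 0))) (.node (.node (.leaf 0) (.leaf 0)) (.node (.leaf 5) (.leaf 5)))) (.node (.node (.node (.leaf 1) (.leaf 0)) (.node (.leaf 0) (.leaf 0))) (.node (.node (.leaf 0) (.leaf 0)) (.node (.leaf 0) (.leaf 0))))) (.node (.node (.node (.node (.leaf 0) (.leaf 0)) (.node (.leaf 0) (.leaf 0))) (.node (.node (.leaf 0) (.leaf 1)) (.node (.leaf 0) (.leaf 0)))) (.node (.node (.node (.leaf 0) (.leaf 0)) (.node (.leaf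 0) (.leaf 0))) (.node (.node (.leaf 0) (.leaf 0)) (.node (.leaf 0) (.leaf 0))))))) (.node (.node (.node (.node (.node (.node (.leaf 1) (.leaf 0)) (.node (.leaf 0) (.leaf 0))) (.node (.node (.leaf 0) (.leaf 0)) (.node (.leaf 0) (.leaf 0)))) (.node (.node (.node (.leaf 5) (.leaf 1)) (.node (.leaf 0) (.leaf 0))) (.node (.node (.leaf 0) (.leaf 0)) (.node (.leaf 1) (.leaf 0))))) (.node (.node (.node (.node (.leaf 5) (.leaf 5)) (.node (.leaf 0) (.leaf 0))) (.node (.node (.leaf 1) (.leaf 0)) (.node (.leaf 1) (.leaf 0)))) (.node (.node (.node (.leaf 0) (.leaf 0)) (.node (.leaf 0) (.leaf 0))) (.node (.node (.leaf 1) (.leaf 0)) (.node (.leaf 0) (.leaf 0)))))) (.node (.node (.node (.node (.node (.leaf 1) (.leaf 0)) (.node (.leaf 0) (.leaf 0))) (.node (.node (.leaf 0) (.leaf 0)) (.node (.leaf 0) (.leaf 0)))) (.node (.node (.node (.leaf 0) (.leaf 0)) (.node (.leaf 0) (.leaf 0))) (.node (.node (.leaf 1) (.leaf 0)) (.node (.leaf 0) (.leaf 0))))) (.node (.node (.node (.node (.leaf 0) (.leaf 1)) (.node (.leaf 0) (.leaf 0))) (.node (.node (.leaf 1) (.leaf 0)) (.node (.leaf 0) (.leaf 0)))) (.node (.node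 (.node (.leaf 0) (.leaf 0)) (.node (.leaf 0) (.leaf 0))) (.node (.node (.leaf 0) (.leaf 0)) (.node (.leaf 0) (.leaf 0)))))))) (.node (.node (.node (.node (.node (.node (.node (.leaf 0) (.leaf 0)) (.node (.leaf 0) (.leaf 0))) (.node (.node (.leaf 0) (.leaf 0)) (.node (.leaf 0) (.leaf 0)))) (.node (.node (.node (.leaf 0) (.leaf 0)) (.node (.leaf 0) (.leaf 0))) (.node (.node (.leaf 0) (.leaf 0)) (.node (.leaf 0) (.leaf 0))))) (.node (.node (.node (.node (.leaf 0) (.leaf 0)) (.node (.leaf 0) (.leaf 1))) (.node (.node (.leaf 0) (.leaf 1)) (.node (.leaf 0) (.leaf 0)))) (.node (.node (.node (.leaf 0) (.leaf 0)) (.node (.leaf 0) (.leaf 0))) (.node (.node (.leaf 0) (.leaf 5)) (.node (.leaf 0) (.leaf 0)))))) (.node (.node (.node (.node (.node (.leaf 0) (.leaf 0)) (.node (.leaf 0) (.leaf 5))) (.node (.node (.leaf 0) (.leaf 0)) (.node (.leaf 0) (.leaf 0)))) (.node (.node (.node (.leaf 0) (.leaf 1)) (.node (.leaf 0) (.leaf 0))) (.node (.node (.leaf 0) (.leaf 1)) (.node (.leaf 0) (.leaf 0))))) (.node (.node (.node (.node (.leaf 0) (.leaf 0)) (.node (.leaf 5) (.leaf 0))) (.node (.node (.leaf 5) (.leaf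 0)) (.node (.leaf 0) (.leaf 0)))) (.node (.node (.node (.leaf 0) (.leaf 0)) (.node (.leaf 0) (.leaf 0))) (.node (.node (.leaf 0) (.leaf 1)) (.node (.leaf 0) (.leaf 1))))))) (.node (.node (.node (.node (.node (.node (.leaf 0) (.leaf 0)) (.node (.leaf 1) (.leaf 5))) (.node (.node (.leaf 0) (.leaf 0)) (.node (.leaf 1) (.leaf 0)))) (.node (.node (.node (.leaf 0) (.leaf 0)) (.node (.leaf 0) (.leaf 0))) (.node (.node (.leaf 0) (.leaf 0)) (.node (.leaf 0) (.leaf 0))))) (.node (.node (.node (.node (.leaf 0) (.leaf 0)) (.node (.leaf 0) (.leaf 0))) (.node (.node (.leaf 0) (.leaf 0)) (.node (.leaf 0) (.leaf 0)))) (.node (.node (.node (.leaf 0) (.leaf 0)) (.node (.leaf 0) (.leaf 0))) (.node (.node (.leaf 0) (.leaf 0)) (.node (.leaf 0) (.leaf 5)))))) (.node (.node (.node (.node (.node (.leaf 5) (.leaf 0)) (.node (.leaf 0) (.leaf 0))) (.node (.node (.leaf 0) (.leaf 0)) (.node (.leaf 0) (.leaf 0)))) (.node (.node (.node (.leaf 0) (.leaf 0)) (.node (.leaf 0) (.leaf 0))) (.node (.node (.leaf 0) (.leaf 1)) (.node (.leaf 0) (.leaf 0))))) (.node (.node (.node (.node (.leaf 0) (.leaf 0)) (.node (.leaf 0)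 (.leaf 0))) (.node (.node (.leaf 0) (.leaf 0)) (.node (.leaf 0) (.leaf 0)))) (.node (.node (.node (.leaf 0) (.leaf 0)) (.node (.leaf 0) (.leaf 0))) (.node (.node (.leaf 1) (.leaf 1)) (.node (.leaf 0) (.leaf 0))))))))

def k2Wit_6 : H52.TCert.Tr := .node (.node (.node (.node (.node (.node (.node (.node (.leaf 0) (.leaf 0)) (.node (.leaf 1) (.leaf 0))) (.node (.node (.leaf 0) (.leaf 0)) (.node (.leaf 0) (.leaf 0)))) (.node (.node (.node (.leaf 0) (.leaf 0)) (.node (.leaf 0) (.leaf 0))) (.node (.node (.leaf 0) (.leaf 0)) (.node (.leaf 0) (.leaf 0))))) (.node (.node (.node (.node (.leaf 0) (.leaf 0)) (.node (.leaf 0) (.leaf 0))) (.node (.node (.leaf 0) (.leaf 0)) (.node (.leaf 0) (.leaf 0)))) (.node (.node (.node (.leaf 0) (.leaf 0)) (.node (.leaf 0) (.leaf 0))) (.node (.node (.leaf 0) (.leaf 0)) (.node (.leaf 0) (.leaf 0)))))) (.node (.node (.node (.node (.node (.leaf 0) (.leaf 5)) (.node (.leaf 0) (.leaf 0))) (.node (.node (.leaf 0) (.leaf 0)) (.node (.leaf 0) (.leaf 0)))) (.node (.node (.node (.leaf 0) (.leaf 0)) (.node (.leaf 0) (.leaf 0))) (.node (.node (.leaf 0) (.leaf 0)) (.node (.leaf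 0) (.leaf 0))))) (.node (.node (.node (.node (.leaf 0) (.leaf 0)) (.node (.leaf 0) (.leaf 1))) (.node (.node (.leaf 1) (.leaf 0)) (.node (.leaf 0) (.leaf 0)))) (.node (.node (.node (.leaf 0) (.leaf 0)) (.node (.leaf 1) (.leaf 0))) (.node (.node (.leaf 5) (.leaf 0)) (.node (.leaf 1) (.leaf 0))))))) (.node (.node (.node (.node (.node (.node (.leaf 0) (.leaf 1)) (.node (.leaf 0) (.leaf 0))) (.node (.node (.leaf 0) (.leaf 0)) (.node (.leaf 0) (.leaf 1)))) (.node (.node (.node (.leaf 0) (.leaf 0)) (.node (.leaf 0) (.leaf 0))) (.node (.node (.leaf 0) (.leaf 0)) (.node (.leaf 1) (.leaf 0))))) (.node (.node (.node (.node (.leaf 0) (.leaf 1)) (.node (.leaf 0) (.leaf 0))) (.node (.node (.leaf 1) (.leaf 0)) (.node (.leaf 0) (.leaf 0)))) (.node (.node (.node (.leaf 0) (.leaf 0)) (.node (.leaf 0) (.leaf 0))) (.node (.node (.leaf 0) (.leaf 0)) (.node (.leaf 0) (.leaf 0)))))) (.node (.node (.node (.node (.node (.leaf 0) (.leaf 1)) (.node (.leaf 0) (.leaf 0))) (.node (.node (.leaf 0) (.leaf 0)) (.node (.leaf 0) (.leaf 0)))) (.node (.node (.node (.leaf 0) (.leaf 0)) (.node (.leaf 0) (.leaf 0))) (.node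 (.node (.leaf 0) (.leaf 0)) (.node (.leaf 0) (.leaf 0))))) (.node (.node (.node (.node (.leaf 0) (.leaf 0)) (.node (.leaf 0) (.leaf 0))) (.node (.node (.leaf 0) (.leaf 0)) (.node (.leaf 1) (.leaf 5)))) (.node (.node (.node (.leaf 0) (.leaf 0)) (.node (.leaf 0) (.leaf 0))) (.node (.node (.leaf 0) (.leaf 0)) (.node (.leaf 0) (.leaf 0)))))))) (.node (.node (.node (.node (.node (.node (.node (.leaf 0) (.leaf 0)) (.node (.leaf 5) (.leaf 0))) (.node (.node (.leaf 0) (.leaf 0)) (.node (.leaf 0) (.leaf 0)))) (.node (.node (.node (.leaf 0) (.leaf 0)) (.node (.leaf 0) (.leaf 0))) (.node (.node (.leaf 0) (.leaf 0)) (.node (.leaf 0) (.leaf 0))))) (.node (.node (.node (.node (.leaf 0) (.leaf 0)) (.node (.leaf 0) (.leaf 5))) (.node (.node (.leaf 0) (.leaf 1)) (.node (.leaf 0) (.leaf 0)))) (.node (.node (.node (.leaf 0) (.leaf 0)) (.node (.leaf 0) (.leaf 0))) (.node (.node (.leaf 0) (.leaf 0)) (.node (.leaf 5) (.leaf 0)))))) (.node (.node (.node (.node (.node (.leaf 0) (.leaf 0)) (.node (.leaf 0) (.leaf 0))) (.node (.node (.leaf 0) (.leaf 0)) (.node (.leaf 0) (.leaf 0)))) (.node (.node (.node (.leaf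 0) (.leaf 1)) (.node (.leaf 0) (.leaf 0))) (.node (.node (.leaf 0) (.leaf 0)) (.node (.leaf 0) (.leaf 1))))) (.node (.node (.node (.node (.leaf 0) (.leaf 0)) (.node (.leaf 0) (.leaf 0))) (.node (.node (.leaf 1) (.leaf 0)) (.node (.leaf 1) (.leaf 0)))) (.node (.node (.node (.leaf 1) (.leaf 0)) (.node (.leaf 1) (.leaf 0))) (.node (.node (.leaf 0) (.leaf 0)) (.node (.leaf 5) (.leaf 0))))))) (.node (.node (.node (.node (.node (.node (.leaf 0) (.leaf 1)) (.node (.leaf 0) (.leaf 0))) (.node (.node (.leaf 0) (.leaf 0)) (.node (.leaf 0) (.leaf 0)))) (.node (.node (.node (.leaf 0) (.leaf 0)) (.node (.leaf 5) (.leaf 0))) (.node (.node (.leaf 0) (.leaf 0)) (.node (.leaf 0) (.leaf 0))))) (.node (.node (.node (.node (.leaf 1) (.leaf 0)) (.node (.leaf 0) (.leaf 0))) (.node (.node (.leaf 0) (.leaf 0)) (.node (.leaf 0) (.leaf 5)))) (.node (.node (.node (.leaf 0) (.leaf 0)) (.node (.leaf 5) (.leaf 1))) (.node (.node (.leaf 0) (.leaf 5)) (.node (.leaf 1) (.leaf 1)))))) (.node (.node (.node (.node (.node (.leaf 0) (.leaf 0)) (.node (.leaf 0) (.leaf 0))) (.node (.node (.leaf 1) (.leaf 0)) (.node (.leaf 0)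 (.leaf 1)))) (.node (.node (.node (.leaf 0) (.leaf 1)) (.node (.leaf 0) (.leaf 1))) (.node (.node (.leaf 5) (.leaf 0)) (.node (.leaf 0) (.leaf 0))))) (.node (.node (.node (.node (.leaf 0) (.leaf 0)) (.node (.leaf 0) (.leaf 0))) (.node (.node (.leaf 0) (.leaf 0)) (.node (.leaf 1) (.leaf 0)))) (.node (.node (.node (.leaf 0) (.leaf 1)) (.node (.leaf 0) (.leaf 0))) (.node (.node (.leaf 0) (.leaf 0)) (.node (.leaf 0) (.leaf 0))))))))

def k2Wit_7 : H52.TCert.Tr := .node (.node (.node (.node (.node (.node (.node (.node (.leaf 0) (.leaf 0)) (.node (.leaf 0) (.leaf 0))) (.node (.node (.leaf 0) (.leaf 1)) (.node (.leaf 0) (.leaf 0)))) (.node (.node (.node (.leaf 0) (.leaf 0)) (.node (.leaf 0) (.leaf 0))) (.node (.node (.leaf 1) (.leaf 0)) (.node (.leaf 0) (.leaf 0))))) (.node (.node (.node (.node (.leaf 5) (.leaf 1)) (.node (.leaf 1) (.leaf 0))) (.node (.node (.leaf 0) (.leaf 0)) (.node (.leaf 1) (.leaf 0)))) (.node (.node (.node (.leaf 0) (.leaf 0)) (.node (.leaf 0) (.leaf 0))) (.node (.node (.leaf 1) (.leaf 0)) (.node (.leaf 0) (.leaf 0)))))) (.node (.node (.node (.node (.node (.leaf 0) (.leaf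 0)) (.node (.leaf 5) (.leaf 0))) (.node (.node (.leaf 0) (.leaf 0)) (.node (.leaf 0) (.leaf 0)))) (.node (.node (.node (.leaf 1) (.leaf 0)) (.node (.leaf 0) (.leaf 0))) (.node (.node (.leaf 0) (.leaf 0)) (.node (.leaf 0) (.leaf 0))))) (.node (.node (.node (.node (.leaf 0) (.leaf 1)) (.node (.leaf 1) (.leaf 0))) (.node (.node (.leaf 0) (.leaf 0)) (.node (.leaf 0) (.leaf 0)))) (.node (.node (.node (.leaf 0) (.leaf 1)) (.node (.leaf 1) (.leaf 0))) (.node (.node (.leaf 0) (.leaf 0)) (.node (.leaf 0) (.leaf 0))))))) (.node (.node (.node (.node (.node (.node (.leaf 0) (.leaf 5)) (.node (.leaf 0) (.leaf 0))) (.node (.node (.leaf 5) (.leaf 1)) (.node (.leaf 0) (.leaf 0)))) (.node (.node (.node (.leaf 0) (.leaf 0)) (.node (.leaf 0) (.leaf 5))) (.node (.node (.leaf 5) (.leaf 0)) (.node (.leaf 0) (.leaf 0))))) (.node (.node (.node (.node (.leaf 0) (.leaf 0)) (.node (.leaf 0) (.leaf 0))) (.node (.node (.leaf 0) (.leaf 0)) (.node (.leaf 0) (.leaf 0)))) (.node (.node (.node (.leaf 0) (.leaf 0)) (.node (.leaf 0) (.leaf 0))) (.node (.node (.leaf 5) (.leaf 0)) (.node (.leaf 0) (.leaf 0)))))) (.node (.node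 (.node (.node (.node (.leaf 0) (.leaf 0)) (.node (.leaf 0) (.leaf 0))) (.node (.node (.leaf 0) (.leaf 0)) (.node (.leaf 0) (.leaf 0)))) (.node (.node (.node (.leaf 0) (.leaf 0)) (.node (.leaf 1) (.leaf 1))) (.node (.node (.leaf 0) (.leaf 0)) (.node (.leaf 0) (.leaf 0))))) (.node (.node (.node (.node (.leaf 1) (.leaf 0)) (.node (.leaf 0) (.leaf 0))) (.node (.node (.leaf 0) (.leaf 0)) (.node (.leaf 0) (.leaf 1)))) (.node (.node (.node (.leaf 0) (.leaf 0)) (.node (.leaf 5) (.leaf 0))) (.node (.node (.leaf 0) (.leaf 0)) (.node (.leaf 0) (.leaf 0)))))))) (.node (.node (.node (.node (.node (.node (.node (.leaf 1) (.leaf 5)) (.node (.leaf 0) (.leaf 0))) (.node (.node (.leaf 0) (.leaf 0)) (.node (.leaf 0) (.leaf 0)))) (.node (.node (.node (.leaf 0) (.leaf 0)) (.node (.leaf 0) (.leaf 0))) (.node (.node (.leaf 0) (.leaf 0)) (.node (.leaf 0) (.leaf 5))))) (.node (.node (.node (.node (.leaf 1) (.leaf 1)) (.node (.leaf 0) (.leaf 0))) (.node (.node (.leaf 0) (.leaf 0)) (.node (.leaf 0) (.leaf 0)))) (.node (.node (.node (.leaf 0) (.leaf 0)) (.node (.leaf 0) (.leaf 5))) (.node (.node (.leaf 0) (.leaf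 1)) (.node (.leaf 0) (.leaf 0)))))) (.node (.node (.node (.node (.node (.leaf 0) (.leaf 0)) (.node (.leaf 0) (.leaf 0))) (.node (.node (.leaf 0) (.leaf 0)) (.node (.leaf 0) (.leaf 0)))) (.node (.node (.node (.leaf 0) (.leaf 0)) (.node (.leaf 5) (.leaf 0))) (.node (.node (.leaf 0) (.leaf 0)) (.node (.leaf 1) (.leaf 0))))) (.node (.node (.node (.node (.leaf 0) (.leaf 0)) (.node (.leaf 0) (.leaf 0))) (.node (.node (.leaf 0) (.leaf 0)) (.node (.leaf 0) (.leaf 0)))) (.node (.node (.node (.leaf 0) (.leaf 0)) (.node (.leaf 0) (.leaf 0))) (.node (.node (.leaf 0) (.leaf 0)) (.node (.leaf 0) (.leaf 0))))))) (.node (.node (.node (.node (.node (.node (.leaf 0) (.leaf 0)) (.node (.leaf 0) (.leaf 0))) (.node (.node (.leaf 1) (.leaf 1)) (.node (.leaf 0) (.leaf 0)))) (.node (.node (.node (.leaf 0) (.leaf 0)) (.node (.leaf 0) (.leaf 0))) (.node (.node (.leaf 0) (.leaf 0)) (.node (.leaf 0) (.leaf 0))))) (.node (.node (.node (.node (.leaf 0) (.leaf 0)) (.node (.leaf 1) (.leaf 0))) (.node (.node (.leaf 5) (.leaf 0)) (.node (.leaf 0) (.leaf 0)))) (.node (.node (.node (.leaf 0) (.leaf 5)) (.node (.leaf 0)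 (.leaf 0))) (.node (.node (.leaf 0) (.leaf 0)) (.node (.leaf 0) (.leaf 0)))))) (.node (.node (.node (.node (.node (.leaf 1) (.leaf 0)) (.node (.leaf 0) (.leaf 0))) (.node (.node (.leaf 0) (.leaf 5)) (.node (.leaf 0) (.leaf 0)))) (.node (.node (.node (.leaf 0) (.leaf 5)) (.node (.leaf 0) (.leaf 5))) (.node (.node (.leaf 0) (.leaf 0)) (.node (.leaf 5) (.leaf 5))))) (.node (.node (.node (.node (.leaf 0) (.leaf 0)) (.node (.leaf 0) (.leaf 0))) (.node (.node (.leaf 0) (.leaf 0)) (.node (.leaf 0) (.leaf 0)))) (.node (.node (.node (.leaf 0) (.leaf 0)) (.node (.leaf 0) (.leaf 0))) (.node (.node (.leaf 0) (.leaf 5)) (.node (.leaf 0) (.leaf 0))))))))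

def k2Wit_8 : H52.TCert.Tr := .node (.node (.node (.node (.node (.node (.node (.node (.leaf 0) (.leaf 0)) (.node (.leaf 1) (.leaf 5))) (.node (.node (.leaf 0) (.leaf 0)) (.node (.leaf 1) (.leaf 0)))) (.node (.node (.node (.leaf 0) (.leaf 0)) (.node (.leaf 0) (.leaf 0))) (.node (.node (.leaf 0) (.leaf 1)) (.node (.leaf 0) (.leaf 0))))) (.node (.node (.node (.node (.leaf 1) (.leaf 0)) (.node (.leaf 1) (.leaf 0))) (.node (.node (.leaf 0) (.leaf 0)) (.node (.leaf 0) (.leaf 0)))) (.node (.node (.node (.leaf 0) (.leaf 0)) (.node (.leaf 0) (.leaf 0))) (.node (.node (.leaf 0) (.leaf 0)) (.node (.leaf 0) (.leaf 5)))))) (.node (.node (.node (.node (.node (.leaf 0) (.leaf 0)) (.node (.leaf 0) (.leaf 0))) (.node (.node (.leaf 0) (.leaf 0)) (.node (.leaf 0) (.leaf 0)))) (.node (.node (.node (.leaf 0) (.leaf 5)) (.node (.leaf 5) (.leaf 0))) (.node (.node (.leaf 0) (.leaf 1)) (.node (.leaf 0) (.leaf 0))))) (.node (.node (.node (.node (.leaf 0) (.leaf 0)) (.node (.leaf 5) (.leaf 0))) (.node (.node (.leaf 5) (.leaf 0)) (.node (.leaf 0) (.leaf 0)))) (.node (.node (.node (.leaf 0) (.leaf 0)) (.node (.leaf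 0) (.leaf 1))) (.node (.node (.leaf 1) (.leaf 0)) (.node (.leaf 0) (.leaf 0))))))) (.node (.node (.node (.node (.node (.node (.leaf 0) (.leaf 1)) (.node (.leaf 0) (.leaf 1))) (.node (.node (.leaf 0) (.leaf 5)) (.node (.leaf 1) (.leaf 0)))) (.node (.node (.node (.leaf 0) (.leaf 1)) (.node (.leaf 0) (.leaf 1))) (.node (.node (.leaf 0) (.leaf 0)) (.node (.leaf 0) (.leaf 0))))) (.node (.node (.node (.node (.leaf 0) (.leaf 0)) (.node (.leaf 0) (.leaf 0))) (.node (.node (.leaf 0) (.leaf 5)) (.node (.leaf 0) (.leaf 0)))) (.node (.node (.node (.leaf 0) (.leaf 0)) (.node (.leaf 0) (.leaf 5))) (.node (.node (.leaf 0) (.leaf 0)) (.node (.leaf 5) (.leaf 0)))))) (.node (.node (.node (.node (.node (.leaf 0) (.leaf 0)) (.node (.leaf 5) (.leaf 0))) (.node (.node (.leaf 0) (.leaf 0)) (.node (.leaf 5) (.leaf 0)))) (.node (.node (.node (.leaf 0) (.leaf 0)) (.node (.leaf 5) (.leaf 5))) (.node (.node (.leaf 0) (.leaf 0)) (.node (.leaf 0) (.leaf 0))))) (.node (.node (.node (.node (.leaf 0) (.leaf 0)) (.node (.leaf 0) (.leaf 0))) (.node (.node (.leaf 0) (.leaf 0)) (.node (.leaf 0) (.leaf 0)))) (.node (.node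 (.node (.leaf 0) (.leaf 0)) (.node (.leaf 0) (.leaf 0))) (.node (.node (.leaf 0) (.leaf 0)) (.node (.leaf 0) (.leaf 0)))))))) (.node (.node (.node (.node (.node (.node (.node (.leaf 0) (.leaf 0)) (.node (.leaf 5) (.leaf 0))) (.node (.node (.leaf 0) (.leaf 0)) (.node (.leaf 0) (.leaf 0)))) (.node (.node (.node (.leaf 0) (.leaf 0)) (.node (.leaf 0) (.leaf 5))) (.node (.node (.leaf 0) (.leaf 5)) (.node (.leaf 0) (.leaf 0))))) (.node (.node (.node (.node (.leaf 0) (.leaf 1)) (.node (.leaf 0) (.leaf 0))) (.node (.node (.leaf 0) (.leaf 0)) (.node (.leaf 0) (.leaf 0)))) (.node (.node (.node (.leaf 0) (.leaf 1)) (.node (.leaf 0) (.leaf 5))) (.node (.node (.leaf 0) (.leaf 0)) (.node (.leaf 0) (.leaf 0)))))) (.node (.node (.node (.node (.node (.leaf 0) (.leaf 0)) (.node (.leaf 0) (.leaf 0))) (.node (.node (.leaf 5) (.leaf 0)) (.node (.leaf 0) (.leaf 0)))) (.node (.node (.node (.leaf 0) (.leaf 0)) (.node (.leaf 0) (.leaf 0))) (.node (.node (.leaf 0) (.leaf 0)) (.node (.leaf 0) (.leaf 0))))) (.node (.node (.node (.node (.leaf 0) (.leaf 0)) (.node (.leaf 0) (.leaf 0))) (.node (.node (.leaf 0) (.leaf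 0)) (.node (.leaf 0) (.leaf 0)))) (.node (.node (.node (.leaf 1) (.leaf 0)) (.node (.leaf 0) (.leaf 0))) (.node (.node (.leaf 0) (.leaf 0)) (.node (.leaf 0) (.leaf 0))))))) (.node (.node (.node (.node (.node (.node (.leaf 1) (.leaf 0)) (.node (.leaf 0) (.leaf 0))) (.node (.node (.leaf 0) (.leaf 0)) (.node (.leaf 0) (.leaf 0)))) (.node (.node (.node (.leaf 5) (.leaf 0)) (.node (.leaf 0) (.leaf 0))) (.node (.node (.leaf 5) (.leaf 5)) (.node (.leaf 0) (.leaf 0))))) (.node (.node (.node (.node (.leaf 0) (.leaf 0)) (.node (.leaf 0) (.leaf 0))) (.node (.node (.leaf 0) (.leaf 0)) (.node (.leaf 0) (.leaf 0)))) (.node (.node (.node (.leaf 0) (.leaf 0)) (.node (.leaf 0) (.leaf 0))) (.node (.node (.leaf 0) (.leaf 0)) (.node (.leaf 5) (.leaf 0)))))) (.node (.node (.node (.node (.node (.leaf 0) (.leaf 0)) (.node (.leaf 0) (.leaf 0))) (.node (.node (.leaf 0) (.leaf 1)) (.node (.leaf 0) (.leaf 0)))) (.node (.node (.node (.leaf 0) (.leaf 0)) (.node (.leaf 0) (.leaf 1))) (.node (.node (.leaf 0) (.leaf 0)) (.node (.leaf 5) (.leaf 0))))) (.node (.node (.node (.node (.leaf 0) (.leaf 0)) (.node (.leaf 1)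 (.leaf 0))) (.node (.node (.leaf 0) (.leaf 0)) (.node (.leaf 0) (.leaf 0)))) (.node (.node (.node (.leaf 0) (.leaf 5)) (.node (.leaf 0) (.leaf 0))) (.node (.node (.leaf 1) (.leaf 0)) (.node (.leaf 5) (.leaf 5))))))))

def k2Wit_9 : H52.TCert.Tr := .node (.node (.node (.node (.node (.node (.node (.node (.leaf 5) (.leaf 1)) (.node (.leaf 0) (.leaf 0))) (.node (.node (.leaf 0) (.leaf 0)) (.node (.leaf 0) (.leaf 0)))) (.node (.node (.node (.leaf 0) (.leaf 1)) (.node (.leaf 0) (.leaf 1))) (.node (.node (.leaf 0) (.leaf 0)) (.node (.leaf 0) (.leaf 0))))) (.node (.node (.node (.node (.leaf 0) (.leaf 0)) (.node (.leaf 0) (.leaf 0))) (.node (.node (.leaf 0) (.leaf 5)) (.node (.leaf 0) (.leaf 1)))) (.node (.node (.node (.leaf 0) (.leaf 5)) (.node (.leaf 0) (.leaf 0))) (.node (.node (.leaf 0) (.leaf 5)) (.node (.leaf 0) (.leaf 0)))))) (.node (.node (.node (.node (.node (.leaf 0) (.leaf 0)) (.node (.leaf 0) (.leaf 0))) (.node (.node (.leaf 0) (.leaf 0)) (.node (.leaf 0) (.leaf 1)))) (.node (.node (.node (.leaf 0) (.leaf 0)) (.node (.leaf 0) (.leaf 0))) (.node (.node (.leaf 5) (.leaf 0)) (.node (.leaf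 0) (.leaf 1))))) (.node (.node (.node (.node (.leaf 0) (.leaf 0)) (.node (.leaf 0) (.leaf 1))) (.node (.node (.leaf 0) (.leaf 1)) (.node (.leaf 0) (.leaf 0)))) (.node (.node (.node (.leaf 0) (.leaf 0)) (.node (.leaf 0) (.leaf 0))) (.node (.node (.leaf 0) (.leaf 0)) (.node (.leaf 0) (.leaf 1))))))) (.node (.node (.node (.node (.node (.node (.leaf 0) (.leaf 0)) (.node (.leaf 5) (.leaf 5))) (.node (.node (.leaf 5) (.leaf 1)) (.node (.leaf 0) (.leaf 1)))) (.node (.node (.node (.leaf 5) (.leaf 5)) (.node (.leaf 0) (.leaf 0))) (.node (.node (.leaf 0) (.leaf 0)) (.node (.leaf 0) (.leaf 0))))) (.node (.node (.node (.node (.leaf 0) (.leaf 5)) (.node (.leaf 5) (.leaf 0))) (.node (.node (.leaf 1) (.leaf 0)) (.node (.leaf 0) (.leaf 0)))) (.node (.node (.node (.leaf 0) (.leaf 0)) (.node (.leaf 0) (.leaf 0))) (.node (.node (.leaf 0) (.leaf 5)) (.node (.leaf 0) (.leaf 1)))))) (.node (.node (.node (.node (.node (.leaf 0) (.leaf 0)) (.node (.leaf 1) (.leaf 0))) (.node (.node (.leaf 0) (.leaf 0)) (.node (.leaf 0) (.leaf 5)))) (.node (.node (.node (.leaf 5) (.leaf 0)) (.node (.leaf 0) (.leaf 1))) (.node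 (.node (.leaf 0) (.leaf 0)) (.node (.leaf 0) (.leaf 0))))) (.node (.node (.node (.node (.leaf 5) (.leaf 0)) (.node (.leaf 0) (.leaf 0))) (.node (.node (.leaf 0) (.leaf 0)) (.node (.leaf 0) (.leaf 0)))) (.node (.node (.node (.leaf 0) (.leaf 0)) (.node (.leaf 0) (.leaf 0))) (.node (.node (.leaf 0) (.leaf 0)) (.node (.leaf 1) (.leaf 0)))))))) (.node (.node (.node (.node (.node (.node (.node (.leaf 5) (.leaf 0)) (.node (.leaf 0) (.leaf 0))) (.node (.node (.leaf 0) (.leaf 0)) (.node (.leaf 0) (.leaf 0)))) (.node (.node (.node (.leaf 0) (.leaf 1)) (.node (.leaf 5) (.leaf 1))) (.node (.node (.leaf 0) (.leaf 1)) (.node (.leaf 5) (.leaf 0))))) (.node (.node (.node (.node (.leaf 0) (.leaf 1)) (.node (.leaf 0) (.leaf 0))) (.node (.node (.leaf 5) (.leaf 0)) (.node (.leaf 0) (.leaf 0)))) (.node (.node (.node (.leaf 0) (.leaf 0)) (.node (.leaf 0) (.leaf 0))) (.node (.node (.leaf 0) (.leaf 5)) (.node (.leaf 0) (.leaf 0)))))) (.node (.node (.node (.node (.node (.leaf 0) (.leaf 0)) (.node (.leaf 0) (.leaf 0))) (.node (.node (.leaf 0) (.leaf 0)) (.node (.leaf 0) (.leaf 1)))) (.node (.node (.node (.leaf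 0) (.leaf 5)) (.node (.leaf 0) (.leaf 0))) (.node (.node (.leaf 0) (.leaf 0)) (.node (.leaf 0) (.leaf 0))))) (.node (.node (.node (.node (.leaf 0) (.leaf 1)) (.node (.leaf 5) (.leaf 0))) (.node (.node (.leaf 1) (.leaf 0)) (.node (.leaf 0) (.leaf 0)))) (.node (.node (.node (.leaf 0) (.leaf 0)) (.node (.leaf 0) (.leaf 0))) (.node (.node (.leaf 0) (.leaf 5)) (.node (.leaf 0) (.leaf 0))))))) (.node (.node (.node (.node (.node (.node (.leaf 5) (.leaf 5)) (.node (.leaf 1) (.leaf 0))) (.node (.node (.leaf 0) (.leaf 5)) (.node (.leaf 0) (.leaf 0)))) (.node (.node (.node (.leaf 0) (.leaf 0)) (.node (.leaf 0) (.leaf 0))) (.node (.node (.leaf 0) (.leaf 5)) (.node (.leaf 0) (.leaf 0))))) (.node (.node (.node (.node (.leaf 0) (.leaf 0)) (.node (.leaf 0) (.leaf 0))) (.node (.node (.leaf 0) (.leaf 0)) (.node (.leaf 0) (.leaf 0)))) (.node (.node (.node (.leaf 0) (.leaf 0)) (.node (.leaf 5) (.leaf 1))) (.node (.node (.leaf 0) (.leaf 0)) (.node (.leaf 0) (.leaf 0)))))) (.node (.node (.node (.node (.node (.leaf 0) (.leaf 0)) (.node (.leaf 0) (.leaf 0))) (.node (.node (.leaf 0) (.leaf 0)) (.node (.leaf 0)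 (.leaf 0)))) (.node (.node (.node (.leaf 0) (.leaf 0)) (.node (.leaf 0) (.leaf 5))) (.node (.node (.leaf 0) (.leaf 0)) (.node (.leaf 0) (.leaf 0))))) (.node (.node (.node (.node (.leaf 0) (.leaf 0)) (.node (.leaf 0) (.leaf 0))) (.node (.node (.leaf 0) (.leaf 0)) (.node (.leaf 0) (.leaf 0)))) (.node (.node (.node (.leaf 0) (.leaf 5)) (.node (.leaf 1) (.leaf 0))) (.node (.node (.leaf 0) (.leaf 0)) (.node (.leaf 0) (.leaf 0))))))))

def k2Wit_10 : H52.TCert.Tr := .node (.node (.node (.node (.node (.node (.node (.node (.leaf 0) (.leaf 0)) (.node (.leaf 0) (.leaf 0))) (.node (.node (.leaf 0) (.leaf 1)) (.node (.leaf 5) (.leaf 0)))) (.node (.node (.node (.leaf 5) (.leaf 0)) (.node (.leaf 0) (.leaf 0))) (.node (.node (.leaf 1) (.leaf 0)) (.node (.leaf 0) (.leaf 0))))) (.node (.node (.node (.node (.leaf 0) (.leaf 0)) (.node (.leaf 0) (.leaf 0))) (.node (.node (.leaf 0) (.leaf 0)) (.node (.leaf 0) (.leaf 0)))) (.node (.node (.node (.leaf 0) (.leaf 0)) (.node (.leaf 0) (.leaf 0))) (.node (.node (.leaf 0) (.leaf 0)) (.node (.leaf 0) (.leaf 0)))))) (.node (.node (.node (.node (.node (.leaf 5) (.leaf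 0)) (.node (.leaf 0) (.leaf 0))) (.node (.node (.leaf 0) (.leaf 0)) (.node (.leaf 0) (.leaf 0)))) (.node (.node (.node (.leaf 1) (.leaf 0)) (.node (.leaf 0) (.leaf 0))) (.node (.node (.leaf 0) (.leaf 0)) (.node (.leaf 0) (.leaf 0))))) (.node (.node (.node (.node (.leaf 0) (.leaf 0)) (.node (.leaf 0) (.leaf 0))) (.node (.node (.leaf 5) (.leaf 0)) (.node (.leaf 5) (.leaf 0)))) (.node (.node (.node (.leaf 0) (.leaf 0)) (.node (.leaf 0) (.leaf 0))) (.node (.node (.leaf 0) (.leaf 0)) (.node (.leaf 0) (.leaf 0))))))) (.node (.node (.node (.node (.node (.node (.leaf 5) (.leaf 0)) (.node (.leaf 1) (.leaf 0))) (.node (.node (.leaf 5) (.leaf 0)) (.node (.leaf 0) (.leaf 0)))) (.node (.node (.node (.leaf 1) (.leaf 0)) (.node (.leaf 0) (.leaf 0))) (.node (.node (.leaf 0) (.leaf 0)) (.node (.leaf 1) (.leaf 5))))) (.node (.node (.node (.node (.leaf 5) (.leaf 0)) (.node (.leaf 0) (.leaf 0))) (.node (.node (.leaf 1) (.leaf 0)) (.node (.leaf 0) (.leaf 0)))) (.node (.node (.node (.leaf 0) (.leaf 0)) (.node (.leaf 1) (.leaf 1))) (.node (.node (.leaf 0) (.leaf 5)) (.node (.leaf 0) (.leaf 0)))))) (.node (.node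 (.node (.node (.node (.leaf 0) (.leaf 1)) (.node (.leaf 0) (.leaf 0))) (.node (.node (.leaf 0) (.leaf 0)) (.node (.leaf 0) (.leaf 0)))) (.node (.node (.node (.leaf 0) (.leaf 0)) (.node (.leaf 0) (.leaf 0))) (.node (.node (.leaf 0) (.leaf 1)) (.node (.leaf 0) (.leaf 0))))) (.node (.node (.node (.node (.leaf 0) (.leaf 0)) (.node (.leaf 0) (.leaf 0))) (.node (.node (.leaf 1) (.leaf 0)) (.node (.leaf 0) (.leaf 0)))) (.node (.node (.node (.leaf 0) (.leaf 1)) (.node (.leaf 0) (.leaf 0))) (.node (.node (.leaf 0) (.leaf 5)) (.node (.leaf 1) (.leaf 0)))))))) (.node (.node (.node (.node (.node (.node (.node (.leaf 0) (.leaf 1)) (.node (.leaf 0) (.leaf 0))) (.node (.node (.leaf 0) (.leaf 0)) (.node (.leaf 0) (.leaf 0)))) (.node (.node (.node (.leaf 0) (.leaf 0)) (.node (.leaf 0) (.leaf 0))) (.node (.node (.leaf 0) (.leaf 0)) (.node (.leaf 0) (.leaf 0))))) (.node (.node (.node (.node (.leaf 0) (.leaf 0)) (.node (.leaf 0) (.leaf 5))) (.node (.node (.leaf 5) (.leaf 0)) (.node (.leaf 0) (.leaf 5)))) (.node (.node (.node (.leaf 0) (.leaf 0)) (.node (.leaf 0) (.leaf 0))) (.node (.node (.leaf 0) (.leaf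 0)) (.node (.leaf 0) (.leaf 0)))))) (.node (.node (.node (.node (.node (.leaf 0) (.leaf 0)) (.node (.leaf 0) (.leaf 5))) (.node (.node (.leaf 0) (.leaf 1)) (.node (.leaf 5) (.leaf 0)))) (.node (.node (.node (.leaf 0) (.leaf 5)) (.node (.leaf 0) (.leaf 1))) (.node (.node (.leaf 0) (.leaf 0)) (.node (.leaf 0) (.leaf 0))))) (.node (.node (.node (.node (.leaf 0) (.leaf 0)) (.node (.leaf 0) (.leaf 5))) (.node (.node (.leaf 0) (.leaf 5)) (.node (.leaf 1) (.leaf 0)))) (.node (.node (.node (.leaf 0) (.leaf 0)) (.node (.leaf 0) (.leaf 0))) (.node (.node (.leaf 0) (.leaf 5)) (.node (.leaf 0) (.leaf 0))))))) (.node (.node (.node (.node (.node (.node (.leaf 0) (.leaf 5)) (.node (.leaf 0) (.leaf 0))) (.node (.node (.leaf 0) (.leaf 1)) (.node (.leaf 0) (.leaf 0)))) (.node (.node (.node (.leaf 0) (.leaf 0)) (.node (.leaf 0) (.leaf 0))) (.node (.node (.leaf 5) (.leaf 0)) (.node (.leaf 0) (.leaf 0))))) (.node (.node (.node (.node (.leaf 0) (.leaf 0)) (.node (.leaf 0) (.leaf 0))) (.node (.node (.leaf 0) (.leaf 0)) (.node (.leaf 0) (.leaf 0)))) (.node (.node (.node (.leaf 0) (.leaf 0)) (.node (.leaf 0)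 (.leaf 0))) (.node (.node (.leaf 0) (.leaf 0)) (.node (.leaf 1) (.leaf 0)))))) (.node (.node (.node (.node (.node (.leaf 0) (.leaf 0)) (.node (.leaf 0) (.leaf 5))) (.node (.node (.leaf 0) (.leaf 0)) (.node (.leaf 0) (.leaf 0)))) (.node (.node (.node (.leaf 0) (.leaf 0)) (.node (.leaf 0) (.leaf 0))) (.node (.node (.leaf 0) (.leaf 0)) (.node (.leaf 0) (.leaf 0))))) (.node (.node (.node (.node (.leaf 0) (.leaf 0)) (.node (.leaf 0) (.leaf 0))) (.node (.node (.leaf 0) (.leaf 1)) (.node (.leaf 0) (.leaf 0)))) (.node (.node (.node (.leaf 0) (.leaf 0)) (.node (.leaf 0) (.leaf 0))) (.node (.node (.leaf 0) (.leaf 0)) (.node (.leaf 0) (.leaf 0))))))))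

def k2Wit_11 : H52.TCert.Tr := .node (.node (.node (.node (.node (.node (.node (.node (.leaf 0) (.leaf 0)) (.node (.leaf 0) (.leaf 0))) (.node (.node (.leaf 0) (.leaf 0)) (.node (.leaf 0) (.leaf 0)))) (.node (.node (.node (.leaf 0) (.leaf 0)) (.node (.leaf 1) (.leaf 0))) (.node (.node (.leaf 0) (.leaf 0)) (.node (.leaf 1) (.leaf 0))))) (.node (.node (.node (.node (.leaf 0) (.leaf 0)) (.node (.leaf 0) (.leaf 0))) (.node (.node (.leaf 0) (.leaf 0)) (.node (.leaf 0) (.leaf 0)))) (.node (.node (.node (.leaf 0) (.leaf 0)) (.node (.leaf 0) (.leaf 0))) (.node (.node (.leaf 0) (.leaf 0)) (.node (.leaf 0) (.leaf 0)))))) (.node (.node (.node (.node (.node (.leaf 0) (.leaf 0)) (.node (.leaf 5) (.leaf 0))) (.node (.node (.leaf 0) (.leaf 0)) (.node (.leaf 0) (.leaf 0)))) (.node (.node (.node (.leaf 0) (.leaf 0)) (.node (.leaf 0) (.leaf 0))) (.node (.node (.leaf 0) (.leaf 0)) (.node (.leaf 0) (.leaf 0))))) (.node (.node (.node (.node (.leaf 0) (.leaf 0)) (.node (.leaf 0) (.leaf 0))) (.node (.node (.leaf 5) (.leaf 0)) (.node (.leaf 0) (.leaf 0)))) (.node (.node (.node (.leaf 0) (.leaf 0)) (.node (.leaf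 0) (.leaf 0))) (.node (.node (.leaf 0) (.leaf 0)) (.node (.leaf 1) (.leaf 5))))))) (.leaf 0)) (.leaf 0)

def k2Wit : H52.TCert.Tr := .node (.node (.node (.node (k2Wit_0) (k2Wit_1)) (.node (k2Wit_2) (k2Wit_3))) (.node (.node (k2Wit_4) (k2Wit_5)) (.node (k2Wit_6) (k2Wit_7)))) (.node (.node (.node (k2Wit_8) (k2Wit_9)) (.node (k2Wit_10) (k2Wit_11))) (.node (.node (.leaf 0) (.leaf 0)) (.node (.leaf 0) (.leaf 0))))

/-- involution positions -/
def k2Inv : List ℕ := [80, 90, 110, 132, 154, 175, 217, 278, 373, 406, 416, 421, 431, 435, 458, 475, 481, 485, 511, 518, 539, 542, 558, 577, 581, 583, 590, 597, 605, 623, 643, 710, 711, 720, 738, 741, 751, 768, 778, 791, 798, 809, 818, 821, 835, 848, 856, 857, 861, 865, 877, 889, 897, 899, 905, 909, 919, 920, 922, 923, 936, 944, 945, 947, 962, 972, 996, 998, 1004, 1075, 1089, 1121, 1131, 1139, 1156, 1175, 1190, 1231, 1235, 1253, 1254, 1290, 1300, 1318, 1319, 1352, 1360, 1361, 1437, 1443, 1458, 1460, 1475, 1503, 1504, 1569, 1596, 1655, 1666, 1683, 1694, 1726, 1738, 1751, 1754, 1757, 1772, 1808, 1826, 1857, 1860, 1867, 1868, 1884, 1914, 1921, 1935, 1947,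 1962, 2004, 2009, 2021, 2025, 2027, 2030, 2031, 2045, 2051, 2079, 2089, 2090, 2098, 2100, 2117, 2133, 2139, 2142, 2146, 2150, 2154, 2155, 2178, 2187, 2189, 2203, 2212, 2248, 2252, 2253, 2270, 2286, 2297, 2302, 2303, 2304, 2325, 2329, 2333, 2348, 2370, 2371, 2372, 2376, 2377, 2385, 2386, 2397, 2407, 2408, 2416, 2432, 2442, 2446, 2452, 2461, 2473, 2482, 2493, 2496, 2497, 2501, 2509, 2522, 2539, 2553, 2566, 2568, 2592, 2612, 2614, 2624, 2628, 2639, 2640, 2653, 2685, 2707, 2708, 2711, 2723, 2726, 2729, 2739, 2741, 2749, 2753, 2764, 2787, 2850, 2868, 2879]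

/-- elements of a cell stabiliser -/
def k2E : Enum where
  num := 2880
  move := [[0, 1, 4, 0, 0, 2, 2, 0, 3, 3, 0, 5, 1, 5, 0, 4, 1, 4, 0, 2, 0, 3, 6, 4, 1, 5, 1, 8, 1], [0, 0, 0, 2, 4, 3, 0, 0, 2, 0, 3, 0, 6, 5, 0, 3, 1, 8, 3], [0, 2, 0, 3, 3, 4, 2, 2, 2, 0, 3, 3, 0, 6, 4, 2, 5, 1, 3, 1]]
  pre := []
  seed := []
  par := k2Par
  code := k2Code
  srt := k2Srt
  depth := 12
  fuel := 2880

end H65.LyPerm.Data
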