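import Cfsg.Agent.H65.LyPerm.Enum

/-! Generated lists of elements of the G2(5) model by images of a base. -/

set_option autoImplicit false
set_option maxRecDepth 100000
set_option maxHeartbeats 0

namespace H65.LyPerm.Data

def k3Par_0 : H52.TCert.Tr := .node (.node (.node (.node (.node (.node (.node (.node (.leaf 0) (.leaf 0)) (.node (.leaf 65536) (.leaf 1))) (.node (.node (.leaf 65537) (.leaf 2)) (.node (.leaf 65538) (.leaf 3)))) (.node (.node (.node (.leaf 65539) (.leaf 4)) (.node (.leaf 65540) (.leaf 5))) (.node (.node (.leaf 65541) (.leaf 6)) (.node (.leaf 65542) (.leaf 7))))) (.node (.node (.node (.node (.leaf 65543) (.leaf 8)) (.node (.leaf 65544) (.leaf 9))) (.node (.node (.leaf 65545) (.leaf 10)) (.node (.leaf 65546) (.leaf 11)))) (.node (.node (.node (.leaf 65547) (.leaf 12)) (.node (.leaf 65548) (.leaf 13))) (.node (.node (.leaf 65549) (.leaf 14)) (.node (.leaf 65550) (.leaf 15)))))) (.node (.node (.node (.node (.node (.leaf 65551) (.leaf 16)) (.node (.leaf 65552) (.leaf 17))) (.node (.node (.leaf 65553) (.leaf 18)) (.node (.leaf 65554) (.leaf 19)))) (.node (.node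 (.node (.leaf 65555) (.leaf 20)) (.node (.leaf 65556) (.leaf 21))) (.node (.node (.leaf 65557) (.leaf 22)) (.node (.leaf 65558) (.leaf 23))))) (.node (.node (.node (.node (.leaf 65559) (.leaf 24)) (.node (.leaf 65560) (.leaf 25))) (.node (.node (.leaf 65561) (.leaf 26)) (.node (.leaf 65562) (.leaf 27)))) (.node (.node (.node (.leaf 65563) (.leaf 28)) (.node (.leaf 65564) (.leaf 29))) (.node (.node (.leaf 65565) (.leaf 30)) (.node (.leaf 65566) (.leaf 65567))))))) (.node (.node (.node (.node (.node (.node (.leaf 32) (.leaf 65568)) (.node (.leaf 33) (.leaf 65569))) (.node (.node (.leaf 34) (.leaf 65570)) (.node (.leaf 35) (.leaf 65571)))) (.node (.node (.node (.leaf 36) (.leaf 65572)) (.node (.leaf 37) (.leaf 65573))) (.node (.node (.leaf 38) (.leaf 65574)) (.node (.leaf 39) (.leaf 65575))))) (.node (.node (.node (.node (.leaf 40) (.leaf 65576)) (.node (.leaf 41) (.leaf 65577))) (.node (.node (.leaf 42) (.leaf 65578)) (.node (.leaf 43) (.leaf 65579)))) (.node (.node (.node (.leaf 44) (.leaf 65580)) (.node (.leaf 45) (.leaf 65581))) (.node (.node (.leaf 46) (.leaf 65582)) (.node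 (.leaf 47) (.leaf 65583)))))) (.node (.node (.node (.node (.node (.leaf 48) (.leaf 65584)) (.node (.leaf 49) (.leaf 65585))) (.node (.node (.leaf 50) (.leaf 65586)) (.node (.leaf 51) (.leaf 65587)))) (.node (.node (.node (.leaf 52) (.leaf 65588)) (.node (.leaf 53) (.leaf 65589))) (.node (.node (.leaf 54) (.leaf 65590)) (.node (.leaf 55) (.leaf 65591))))) (.node (.node (.node (.node (.leaf 56) (.leaf 65592)) (.node (.leaf 57) (.leaf 65593))) (.node (.node (.leaf 58) (.leaf 65594)) (.node (.leaf 59) (.leaf 65595)))) (.node (.node (.node (.leaf 60) (.leaf 65596)) (.node (.leaf 61) (.leaf 65597))) (.node (.node (.leaf 62) (.leaf 65598)) (.node (.leaf 63) (.leaf 65599)))))))) (.node (.node (.node (.node (.node (.node (.node (.leaf 64) (.leaf 65600)) (.node (.leaf 65) (.leaf 65601))) (.node (.node (.leaf 66) (.leaf 65602)) (.node (.leaf 67) (.leaf 65603)))) (.node (.node (.node (.leaf 68) (.leaf 65604)) (.node (.leaf 69) (.leaf 65605))) (.node (.node (.leaf 70) (.leaf 65606)) (.node (.leaf 71) (.leaf 65607))))) (.node (.node (.node (.node (.leaf 72) (.leaf 65608)) (.node (.leaf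 73) (.leaf 65609))) (.node (.node (.leaf 74) (.leaf 65610)) (.node (.leaf 75) (.leaf 65611)))) (.node (.node (.node (.leaf 76) (.leaf 65612)) (.node (.leaf 77) (.leaf 65613))) (.node (.node (.leaf 78) (.leaf 65614)) (.node (.leaf 79) (.leaf 65615)))))) (.node (.node (.node (.node (.node (.leaf 80) (.leaf 65616)) (.node (.leaf 81) (.leaf 65617))) (.node (.node (.leaf 82) (.leaf 65618)) (.node (.leaf 83) (.leaf 65619)))) (.node (.node (.node (.leaf 84) (.leaf 65620)) (.node (.leaf 85) (.leaf 65621))) (.node (.node (.leaf 86) (.leaf 65622)) (.node (.leaf 87) (.leaf 65623))))) (.node (.node (.node (.node (.leaf 88) (.leaf 65624)) (.node (.leaf 89) (.leaf 65625))) (.node (.node (.leaf 90) (.leaf 65626)) (.node (.leaf 91) (.leaf 65627)))) (.node (.node (.node (.leaf 92) (.leaf 65628)) (.node (.leaf 93) (.leaf 65629))) (.node (.node (.leaf 65630) (.leaf 65631)) (.node (.leaf 96) (.leaf 97))))))) (.node (.node (.node (.node (.node (.node (.leaf 65633) (.leaf 98)) (.node (.leaf 65634) (.leaf 99))) (.node (.node (.leaf 65635) (.leaf 100)) (.node (.leaf 65636) (.leaf 101)))) (.node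 (.node (.node (.leaf 65637) (.leaf 102)) (.node (.leaf 103) (.leaf 104))) (.node (.node (.leaf 65640) (.leaf 65641)) (.node (.leaf 106) (.leaf 65642))))) (.node (.node (.node (.node (.leaf 107) (.leaf 65643)) (.node (.leaf 108) (.leaf 65644))) (.node (.node (.leaf 109) (.leaf 65645)) (.node (.leaf 65646) (.leaf 65647)))) (.node (.node (.node (.leaf 112) (.leaf 113)) (.node (.leaf 65649) (.leaf 114))) (.node (.node (.leaf 65650) (.leaf 115)) (.node (.leaf 65651) (.leaf 116)))))) (.node (.node (.node (.node (.node (.leaf 65652) (.leaf 117)) (.node (.leaf 65653) (.leaf 118))) (.node (.node (.leaf 65654) (.leaf 119)) (.node (.leaf 65655) (.leaf 65656)))) (.node (.node (.node (.leaf 121) (.leaf 122)) (.node (.leaf 65658) (.leaf 123))) (.node (.node (.leaf 65659) (.leaf 124)) (.node (.leaf 65660) (.leaf 125))))) (.node (.node (.node (.node (.leaf 65661) (.leaf 126)) (.node (.leaf 65662) (.leaf 127))) (.node (.node (.leaf 65663) (.leaf 128)) (.node (.leaf 65664) (.leaf 129)))) (.node (.node (.node (.leaf 65665) (.leaf 130)) (.node (.leaf 65666) (.leaf 131))) (.node (.node (.leaf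 65667) (.leaf 132)) (.node (.leaf 65668) (.leaf 133))))))))

def k3Par_1 : H52.TCert.Tr := .node (.node (.node (.node (.node (.node (.node (.node (.leaf 65669) (.leaf 134)) (.node (.leaf 65670) (.leaf 135))) (.node (.node (.leaf 65671) (.leaf 65672)) (.node (.leaf 65673) (.leaf 65674)))) (.node (.node (.node (.leaf 139) (.leaf 140)) (.node (.leaf 65676) (.leaf 141))) (.node (.node (.leaf 65677) (.leaf 142)) (.node (.leaf 65678) (.leaf 143))))) (.node (.node (.node (.node (.leaf 65679) (.leaf 144)) (.node (.leaf 65680) (.leaf 145))) (.node (.node (.leaf 65681) (.leaf 146)) (.node (.leaf 65682) (.leaf 147)))) (.node (.node (.node (.leaf 65683) (.leaf 148)) (.node (.leaf 65684) (.leaf 149))) (.node (.node (.leaf 65685) (.leaf 150)) (.node (.leaf 65686) (.leaf 151)))))) (.node (.node (.node (.node (.node (.leaf 65687) (.leaf 65688)) (.node (.leaf 65689) (.leaf 65690))) (.node (.node (.leaf 155) (.leaf 65692)) (.node (.leaf 65693) (.leaf 158)))) (.node (.node (.node (.leaf 159) (.leaf 65695)) (.node (.leaf 160) (.leaf 65696))) (.node (.node (.leaf 161) (.leaf 65697)) (.node (.leaf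 162) (.leaf 65698))))) (.node (.node (.node (.node (.leaf 163) (.leaf 65699)) (.node (.leaf 164) (.leaf 165))) (.node (.node (.leaf 166) (.leaf 65702)) (.node (.leaf 65703) (.leaf 65704)))) (.node (.node (.node (.leaf 65705) (.leaf 65706)) (.node (.leaf 171) (.leaf 65708))) (.node (.node (.leaf 65709) (.leaf 174)) (.node (.leaf 175) (.leaf 65711))))))) (.node (.node (.node (.node (.node (.node (.leaf 176) (.leaf 65712)) (.node (.leaf 177) (.leaf 65713))) (.node (.node (.leaf 178) (.leaf 65714)) (.node (.leaf 179) (.leaf 65715)))) (.node (.node (.node (.leaf 180) (.leaf 65716)) (.node (.leaf 181) (.leaf 65717))) (.node (.node (.leaf 65718) (.leaf 183)) (.node (.leaf 184) (.leaf 65720))))) (.node (.node (.node (.node (.leaf 185) (.leaf 65721)) (.node (.leaf 186) (.leaf 65722))) (.node (.node (.leaf 65723) (.leaf 188)) (.node (.leaf 65724) (.leaf 65725)))) (.node (.node (.node (.leaf 190) (.leaf 65726)) (.node (.leaf 191) (.leaf 65727))) (.node (.node (.leaf 192) (.leaf 65728)) (.node (.leaf 193) (.leaf 65729)))))) (.node (.node (.node (.node (.node (.leaf 194) (.leaf 65730))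 (.node (.leaf 195) (.leaf 65731))) (.node (.node (.leaf 196) (.leaf 65732)) (.node (.leaf 197) (.leaf 198)))) (.node (.node (.node (.leaf 199) (.leaf 200)) (.node (.leaf 65736) (.leaf 201))) (.node (.node (.leaf 65737) (.leaf 202)) (.node (.leaf 203) (.leaf 65739))))) (.node (.node (.node (.node (.leaf 204) (.leaf 65740)) (.node (.leaf 205) (.leaf 65741))) (.node (.node (.leaf 206) (.leaf 65742)) (.node (.leaf 207) (.leaf 65743)))) (.node (.node (.node (.leaf 208) (.leaf 65744)) (.node (.leaf 209) (.leaf 65745))) (.node (.node (.leaf 210) (.leaf 211)) (.node (.leaf 212) (.leaf 213)))))))) (.node (.node (.node (.node (.node (.node (.node (.leaf 65749) (.leaf 215)) (.node (.leaf 65751) (.leaf 216))) (.node (.node (.leaf 65752) (.leaf 217)) (.node (.leaf 65753) (.leaf 218)))) (.node (.node (.node (.leaf 65754) (.leaf 219)) (.node (.leaf 220) (.leaf 221))) (.node (.node (.leaf 65757) (.leaf 65758)) (.node (.leaf 223) (.leaf 224))))) (.node (.node (.node (.node (.leaf 225) (.leaf 226)) (.node (.leaf 65762) (.leaf 65763))) (.node (.node (.leaf 65764) (.leaf 229)) (.node (.leaf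 230) (.leaf 231)))) (.node (.node (.node (.leaf 65767) (.leaf 232)) (.node (.leaf 65768) (.leaf 233))) (.node (.node (.leaf 65769) (.leaf 234)) (.node (.leaf 65770) (.leaf 65771)))))) (.node (.node (.node (.node (.node (.leaf 236) (.leaf 65773)) (.node (.leaf 65774) (.leaf 65775))) (.node (.node (.leaf 240) (.leaf 241)) (.node (.leaf 65777) (.leaf 242)))) (.node (.node (.node (.leaf 65778) (.leaf 243)) (.node (.leaf 65779) (.leaf 244))) (.node (.node (.leaf 65780) (.leaf 245)) (.node (.leaf 65781) (.leaf 65782))))) (.node (.node (.node (.node (.leaf 247) (.leaf 248)) (.node (.leaf 65785) (.leaf 65786))) (.node (.node (.leaf 65787) (.leaf 252)) (.node (.leaf 253) (.leaf 65789)))) (.node (.node (.node (.leaf 254) (.leaf 65790)) (.node (.leaf 255) (.leaf 65791))) (.node (.node (.leaf 256) (.leaf 65792)) (.node (.leaf 65793) (.leaf 258))))))) (.node (.node (.node (.node (.node (.node (.leaf 259) (.leaf 260)) (.node (.leaf 261) (.leaf 65797))) (.node (.node (.leaf 262) (.leaf 65798)) (.node (.leaf 65799) (.leaf 65800)))) (.node (.node (.node (.leaf 65801) (.leaf 65802)) (.node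 (.leaf 267) (.leaf 268))) (.node (.node (.leaf 65804) (.leaf 269)) (.node (.leaf 65805) (.leaf 270))))) (.node (.node (.node (.node (.leaf 65806) (.leaf 271)) (.node (.leaf 65807) (.leaf 272))) (.node (.node (.leaf 65808) (.leaf 273)) (.node (.leaf 274) (.leaf 65811)))) (.node (.node (.node (.leaf 65812) (.leaf 65813)) (.node (.leaf 65814) (.leaf 65815))) (.node (.node (.leaf 280) (.leaf 65817)) (.node (.leaf 65818) (.leaf 283)))))) (.node (.node (.node (.node (.node (.leaf 284) (.leaf 65820)) (.node (.leaf 285) (.leaf 286))) (.node (.node (.leaf 65822) (.leaf 65823)) (.node (.leaf 65824) (.leaf 289)))) (.node (.node (.node (.leaf 65825) (.leaf 290)) (.node (.leaf 291) (.leaf 65827))) (.node (.node (.leaf 292) (.leaf 65828)) (.node (.leaf 293) (.leaf 65829))))) (.node (.node (.node (.node (.leaf 65830) (.leaf 295)) (.node (.leaf 65831) (.leaf 296))) (.node (.node (.leaf 65832) (.leaf 297)) (.node (.leaf 65833) (.leaf 65834)))) (.node (.node (.node (.leaf 299) (.leaf 300)) (.node (.leaf 65836) (.leaf 301))) (.node (.node (.leaf 65837) (.leaf 302)) (.node (.leaf 303) (.leaf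 304))))))))

def k3Par_2 : H52.TCert.Tr := .node (.node (.node (.node (.node (.node (.node (.node (.leaf 305) (.leaf 65841)) (.node (.leaf 306) (.leaf 65842))) (.node (.node (.leaf 307) (.leaf 308)) (.node (.leaf 309) (.leaf 65845)))) (.node (.node (.node (.leaf 310) (.leaf 65846)) (.node (.leaf 311) (.leaf 65847))) (.node (.node (.leaf 312) (.leaf 65848)) (.node (.leaf 313) (.leaf 314))))) (.node (.node (.node (.node (.leaf 316) (.leaf 65852)) (.node (.leaf 317) (.leaf 65853))) (.node (.node (.leaf 318) (.leaf 65854)) (.node (.leaf 319) (.leaf 65855)))) (.node (.node (.node (.leaf 320) (.leaf 321)) (.node (.leaf 65858) (.leaf 65859))) (.node (.node (.leaf 324) (.leaf 325)) (.node (.leaf 326) (.leaf 327)))))) (.node (.node (.node (.node (.node (.leaf 65863) (.leaf 65864)) (.node (.leaf 65865) (.leaf 330))) (.node (.node (.leaf 331) (.leaf 332)) (.node (.leaf 65868) (.leaf 65869)))) (.node (.node (.node (.leaf 334) (.leaf 65870)) (.node (.leaf 335) (.leaf 65871))) (.node (.node (.leaf 65872) (.leaf 337)) (.node (.leaf 65874) (.leaf 65875))))) (.node (.node (.node (.node (.leaf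 340) (.leaf 65877)) (.node (.leaf 65878) (.leaf 343))) (.node (.node (.leaf 65879) (.leaf 344)) (.node (.leaf 345) (.leaf 65881)))) (.node (.node (.node (.leaf 65882) (.leaf 65883)) (.node (.leaf 65884) (.leaf 350))) (.node (.node (.leaf 65886) (.leaf 351)) (.node (.leaf 65887) (.leaf 352))))))) (.node (.node (.node (.node (.node (.node (.leaf 65888) (.leaf 353)) (.node (.leaf 65889) (.leaf 354))) (.node (.node (.leaf 65890) (.leaf 65891)) (.node (.leaf 65892) (.leaf 65893)))) (.node (.node (.node (.leaf 358) (.leaf 65894)) (.node (.leaf 359) (.leaf 65895))) (.node (.node (.leaf 65896) (.leaf 362)) (.node (.leaf 65899) (.leaf 65900))))) (.node (.node (.node (.node (.leaf 365) (.leaf 65901)) (.node (.leaf 367) (.leaf 368))) (.node (.node (.leaf 65904) (.leaf 65905)) (.node (.leaf 65906) (.leaf 65908)))) (.node (.node (.node (.leaf 65909) (.leaf 374)) (.node (.leaf 375) (.leaf 65911))) (.node (.node (.leaf 65912) (.leaf 377)) (.node (.leaf 378) (.leaf 65914)))))) (.node (.node (.node (.node (.node (.leaf 379) (.leaf 65915)) (.node (.leaf 65916) (.leaf 65917))) (.node (.node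 (.leaf 382) (.leaf 65919)) (.node (.leaf 65920) (.leaf 385)))) (.node (.node (.node (.leaf 65921) (.leaf 386)) (.node (.leaf 65922) (.leaf 387))) (.node (.node (.leaf 65923) (.leaf 65924)) (.node (.leaf 389) (.leaf 65928))))) (.node (.node (.node (.node (.leaf 393) (.leaf 65929)) (.node (.leaf 394) (.leaf 65931))) (.node (.node (.leaf 396) (.leaf 397)) (.node (.leaf 65934) (.leaf 65935)))) (.node (.node (.node (.leaf 401) (.leaf 402)) (.node (.leaf 65938) (.leaf 404))) (.node (.node (.leaf 405) (.leaf 65941)) (.node (.leaf 406) (.leaf 65942)))))))) (.node (.node (.node (.node (.node (.node (.node (.leaf 407) (.leaf 65943)) (.node (.leaf 65944) (.leaf 410))) (.node (.node (.leaf 65947) (.leaf 65948)) (.node (.leaf 413) (.leaf 414)))) (.node (.node (.node (.leaf 415) (.leaf 416)) (.node (.leaf 65952) (.leaf 65953))) (.node (.node (.leaf 418) (.leaf 65955)) (.node (.leaf 65956) (.leaf 421))))) (.node (.node (.node (.node (.leaf 65957) (.leaf 65958)) (.node (.leaf 423) (.leaf 65961))) (.node (.node (.leaf 65962) (.leaf 428)) (.node (.leaf 429) (.leaf 430)))) (.node (.node (.node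 (.leaf 431) (.leaf 65967)) (.node (.leaf 65968) (.leaf 433))) (.node (.node (.leaf 434) (.leaf 435)) (.node (.leaf 65972) (.leaf 65973)))))) (.node (.node (.node (.node (.node (.leaf 65974) (.leaf 65975)) (.node (.leaf 440) (.leaf 441))) (.node (.node (.leaf 65977) (.leaf 442)) (.node (.leaf 65978) (.leaf 443)))) (.node (.node (.node (.leaf 65979) (.leaf 444)) (.node (.leaf 65980) (.leaf 445))) (.node (.node (.leaf 65981) (.leaf 446)) (.node (.leaf 65983) (.leaf 65984))))) (.node (.node (.node (.node (.leaf 65985) (.leaf 450)) (.node (.leaf 451) (.leaf 65987))) (.node (.node (.leaf 65988) (.leaf 65989)) (.node (.leaf 454) (.leaf 455)))) (.node (.node (.node (.leaf 456) (.leaf 65992)) (.node (.leaf 65993) (.leaf 458))) (.node (.node (.leaf 65994) (.leaf 459)) (.node (.leaf 65995) (.leaf 460))))))) (.node (.node (.node (.node (.node (.node (.leaf 65996) (.leaf 65997)) (.node (.leaf 462) (.leaf 463))) (.node (.node (.leaf 65999) (.leaf 66000)) (.node (.leaf 465) (.leaf 466)))) (.node (.node (.node (.leaf 66004) (.leaf 469)) (.node (.leaf 470) (.leaf 471))) (.node (.node (.leaf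 66007) (.leaf 472)) (.node (.leaf 66008) (.leaf 66009))))) (.node (.node (.node (.node (.leaf 66010) (.leaf 475)) (.node (.leaf 476) (.leaf 478))) (.node (.node (.leaf 66014) (.leaf 479)) (.node (.leaf 66015) (.leaf 480)))) (.node (.node (.node (.leaf 66016) (.leaf 481)) (.node (.leaf 66017) (.leaf 482))) (.node (.node (.leaf 66019) (.leaf 66020)) (.node (.leaf 485) (.leaf 486)))))) (.node (.node (.node (.node (.node (.leaf 66022) (.leaf 66025)) (.node (.leaf 66026) (.leaf 491))) (.node (.node (.leaf 66028) (.leaf 66029)) (.node (.leaf 66030) (.leaf 66031)))) (.node (.node (.node (.leaf 496) (.leaf 66032)) (.node (.leaf 497) (.leaf 498))) (.node (.node (.leaf 66034) (.leaf 66036)) (.node (.leaf 66037) (.leaf 503))))) (.node (.node (.node (.node (.leaf 504) (.leaf 505)) (.node (.leaf 66041) (.leaf 66042))) (.node (.node (.leaf 66043) (.leaf 66044)) (.node (.leaf 509) (.leaf 66045)))) (.node (.node (.node (.leaf 66046) (.leaf 66047)) (.node (.leaf 513) (.leaf 66050))) (.node (.node (.leaf 66051) (.leaf 516)) (.node (.leaf 66052) (.leaf 518))))))))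

def k3Par_3 : H52.TCert.Tr := .node (.node (.node (.node (.node (.node (.node (.node (.leaf 66054) (.leaf 66055)) (.node (.leaf 66056) (.leaf 522))) (.node (.node (.leaf 523) (.leaf 524)) (.node (.leaf 66060) (.leaf 525)))) (.node (.node (.node (.leaf 66061) (.leaf 66062)) (.node (.leaf 527) (.leaf 528))) (.node (.node (.leaf 66064) (.leaf 529)) (.node (.leaf 66065) (.leaf 530))))) (.node (.node (.node (.node (.leaf 532) (.leaf 66071)) (.node (.leaf 66072) (.leaf 538))) (.node (.node (.leaf 539) (.leaf 66076)) (.node (.leaf 66077) (.leaf 543)))) (.node (.node (.node (.leaf 544) (.leaf 66080)) (.node (.leaf 546) (.leaf 547))) (.node (.node (.leaf 66083) (.leaf 548)) (.node (.leaf 66084) (.leaf 549)))))) (.node (.node (.node (.node (.node (.leaf 66085) (.leaf 66086)) (.node (.leaf 551) (.leaf 66088))) (.node (.node (.leaf 66089) (.leaf 556)) (.node (.leaf 557) (.leaf 66093)))) (.node (.node (.node (.leaf 66094) (.leaf 559)) (.node (.leaf 66096) (.leaf 561))) (.node (.node (.leaf 564) (.leaf 565)) (.node (.leaf 66101) (.leaf 566))))) (.node (.node (.node (.node (.leaf 568)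 (.leaf 66104)) (.node (.leaf 569) (.leaf 66105))) (.node (.node (.leaf 66110) (.leaf 66113)) (.node (.leaf 579) (.leaf 66118)))) (.node (.node (.node (.leaf 66120) (.leaf 66121)) (.node (.leaf 66123) (.leaf 588))) (.node (.node (.leaf 66124) (.leaf 589)) (.node (.leaf 66125) (.leaf 590))))))) (.node (.node (.node (.node (.node (.node (.leaf 66126) (.leaf 66127)) (.node (.leaf 595) (.leaf 596))) (.node (.node (.leaf 66132) (.leaf 598)) (.node (.leaf 66137) (.leaf 66141)))) (.node (.node (.node (.leaf 606) (.leaf 611)) (.node (.leaf 614) (.leaf 66151))) (.node (.node (.leaf 66152) (.leaf 619)) (.node (.leaf 620) (.leaf 66156))))) (.node (.node (.node (.node (.leaf 66157) (.leaf 66158)) (.node (.leaf 623) (.leaf 66164))) (.node (.node (.leaf 66166) (.leaf 631)) (.node (.leaf 636) (.leaf 66173)))) (.node (.node (.node (.leaf 638) (.leaf 641)) (.node (.leaf 646) (.leaf 648))) (.node (.node (.leaf 650) (.leaf 651)) (.node (.leaf 652) (.leaf 653)))))) (.node (.node (.node (.node (.node (.leaf 655) (.leaf 656)) (.node (.leaf 657) (.leaf 66193))) (.node (.node (.leaf 659) (.leaf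 660)) (.node (.leaf 66198) (.leaf 663)))) (.node (.node (.node (.leaf 66201) (.leaf 66203)) (.node (.leaf 66205) (.leaf 670))) (.node (.node (.leaf 671) (.leaf 672)) (.node (.leaf 674) (.leaf 675))))) (.node (.node (.node (.node (.leaf 66211) (.leaf 66212)) (.node (.leaf 66215) (.leaf 66216))) (.node (.node (.leaf 681) (.leaf 66220)) (.node (.leaf 685) (.leaf 686)))) (.node (.node (.node (.leaf 66222) (.leaf 66223)) (.node (.leaf 688) (.leaf 689))) (.node (.node (.leaf 690) (.leaf 693)) (.node (.leaf 66229) (.leaf 66230)))))))) (.node (.node (.node (.node (.node (.node (.node (.leaf 66231) (.leaf 66232)) (.node (.leaf 66233) (.leaf 66234))) (.node (.node (.leaf 699) (.leaf 700)) (.node (.leaf 66236) (.leaf 66238)))) (.node (.node (.node (.leaf 66239) (.leaf 707)) (.node (.leaf 66243) (.leaf 66244))) (.node (.node (.leaf 66245) (.leaf 66246)) (.node (.leaf 66247) (.leaf 712))))) (.node (.node (.node (.node (.leaf 66249) (.leaf 66250)) (.node (.leaf 715) (.leaf 720))) (.node (.node (.leaf 66256) (.leaf 66257)) (.node (.leaf 722) (.leaf 66259)))) (.node (.node (.node (.leaf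 727) (.leaf 733)) (.node (.leaf 735) (.leaf 736))) (.node (.node (.leaf 66272) (.leaf 737)) (.node (.leaf 739) (.leaf 66276)))))) (.node (.node (.node (.node (.node (.leaf 741) (.leaf 742)) (.node (.leaf 745) (.leaf 746))) (.node (.node (.leaf 66282) (.leaf 66285)) (.node (.leaf 66292) (.leaf 66295)))) (.node (.node (.node (.leaf 66296) (.leaf 761)) (.node (.leaf 66297) (.leaf 762))) (.node (.node (.leaf 66298) (.leaf 763)) (.node (.leaf 66300) (.leaf 767))))) (.node (.node (.node (.node (.leaf 768) (.leaf 66304)) (.node (.leaf 770) (.leaf 777))) (.node (.node (.leaf 66315) (.leaf 66316)) (.node (.leaf 783) (.leaf 66320)))) (.node (.node (.node (.leaf 785) (.leaf 66325)) (.node (.leaf 790) (.leaf 800))) (.node (.node (.leaf 805) (.leaf 807)) (.node (.leaf 808) (.leaf 809))))))) (.node (.node (.node (.node (.node (.node (.leaf 66349) (.leaf 66350)) (.node (.leaf 816) (.leaf 817))) (.node (.node (.leaf 820) (.leaf 66362)) (.node (.leaf 66366) (.leaf 66380)))) (.node (.node (.node (.leaf 851) (.leaf 66389)) (.node (.leaf 854) (.leaf 66400))) (.node (.node (.leaf 865) (.leaf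 66403)) (.node (.leaf 870) (.leaf 66411))))) (.node (.node (.node (.node (.leaf 66413) (.leaf 66416)) (.node (.leaf 66418) (.leaf 885))) (.node (.node (.leaf 66426) (.leaf 892)) (.node (.leaf 893) (.leaf 894)))) (.node (.node (.node (.leaf 66430) (.leaf 895)) (.node (.leaf 897) (.leaf 899))) (.node (.node (.leaf 900) (.leaf 66439)) (.node (.leaf 66445) (.leaf 66446)))))) (.node (.node (.node (.node (.node (.leaf 911) (.leaf 66447)) (.node (.leaf 66455) (.leaf 927))) (.node (.node (.leaf 928) (.leaf 66467)) (.node (.leaf 66485) (.leaf 66490)))) (.node (.node (.node (.leaf 960) (.leaf 965)) (.node (.leaf 971) (.leaf 66510))) (.node (.node (.leaf 975) (.leaf 979)) (.node (.leaf 66515) (.leaf 66530))))) (.leaf 0))))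

def k3Par : H52.TCert.Tr := .node (.node (k3Par_0) (k3Par_1)) (.node (k3Par_2) (k3Par_3))

def k3Code_0 : H52.TCert.Tr := .node (.node (.node (.node (.node (.node (.node (.node (.leaf 224826519373754728448) (.leaf 5353028040448488055564)) (.node (.leaf 7028538902671591288085) (.leaf 22461674154460975148485))) (.node (.node (.leaf 10469189682981607288261) (.leaf 9784052328652509324950)) (.node (.leaf 3458929780820099049110) (.leaf 12186696343861660910346)))) (.node (.node (.node (.leaf 1573892740830061791247) (.leaf 2709601490136932549386)) (.node (.leaf 11577102615134191126543) (.leaf 11089962587190042888207))) (.node (.node (.leaf 8153853056959960056586) (.leaf 2573726162188970100751)) (.node (.leaf 5698986042199651451658) (.leaf 9033360743267519703461))))) (.node (.node (.node (.node (.leaf 14336590532952335092195) (.leaf 8791247786682860409068)) (.node (.leaf 114725659494164956535) (.leaf 7900089300454442281381))) (.node (.node (.leaf 15817204721362656299491) (.leaf 19320161427574358839532)) (.node (.leaf 17722158671641584633207) (.leaf 11130663523822697550060)))) (.node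 (.node (.node (.leaf 16416867058767196456311) (.leaf 16618576455855127439781)) (.node (.leaf 16934380874279720946147) (.leaf 16693317008842270871788))) (.node (.node (.leaf 5578450084500754498935) (.leaf 18961533958272744270245)) (.node (.leaf 8852579740400194816483) (.leaf 14467443746146285995936)))))) (.node (.node (.node (.node (.node (.leaf 21504961798844503855945) (.leaf 3611154719415169986715)) (.node (.leaf 10735232383832356758251) (.leaf 17078594326312276738562))) (.node (.node (.leaf 9313691170784405784208) (.leaf 22057876522383056700661)) (.node (.leaf 18324822107960082600866) (.leaf 5199139614000679045024)))) (.node (.node (.node (.leaf 21761889059922575594313) (.leaf 11341415311588968214683)) (.node (.leaf 7912552466146916672235) (.leaf 156899436579716022786))) (.node (.node (.leaf 17774064428756769769104) (.leaf 16337402982062648329461)) (.node (.leaf 17100307483306522153890) (.leaf 10671736584064861422082))))) (.node (.node (.node (.node (.leaf 6463329158379295049360) (.leaf 7464363709999494825205)) (.node (.leaf 18857801090186589246370) (.leaf 5895309320384993609632)))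 (.node (.node (.leaf 7951975659362637452105) (.leaf 8716408532648400924827)) (.node (.leaf 13388222103028483531499) (.leaf 13578121828035196961282)))) (.node (.node (.node (.leaf 6029809461091303687824) (.leaf 15472261979134843192565)) (.node (.leaf 11579248085640765379490) (.leaf 18186474342610756519840))) (.node (.node (.leaf 21751372875369518371657) (.leaf 11919498065177665745051)) (.node (.leaf 22099801169548496904939) (.leaf 15101052285083952555641))))))) (.node (.node (.node (.node (.node (.node (.leaf 6981423145379137370191) (.leaf 3917632530149837741895)) (.node (.leaf 19403805836312417614049) (.leaf 19503324027228259830854))) (.node (.node (.leaf 10146120407465615985965) (.leaf 15104794888559042153316)) (.node (.leaf 10590153181074108257334) (.leaf 8145473433134954171114)))) (.node (.node (.node (.leaf 4374756152204914534983) (.leaf 15066851961217551991873)) (.node (.leaf 17234417498978301154556) (.leaf 10496860441710711254146))) (.node (.node (.leaf 10603915917798714849935) (.leaf 16144538410385898485471)) (.node (.leaf 6265528635636579631104) (.leaf 11618384395943188997753)))))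 (.node (.node (.node (.node (.leaf 19282969745412046075983) (.leaf 14802844615807066185543)) (.node (.leaf 10178563298113109539041) (.leaf 17178638611354079185990))) (.node (.node (.leaf 17831646641034148187437) (.leaf 1381582394753515834212)) (.node (.leaf 10642882262284637246518) (.leaf 11413413822437143562986)))) (.node (.node (.node (.leaf 22271375961254782872135) (.leaf 903028319159581148225)) (.node (.leaf 16483988637154522338556) (.leaf 1498911082227879652482))) (.node (.node (.leaf 18855258529485847181967) (.leaf 20872918838225618450143)) (.node (.leaf 15212819606382072599606) (.leaf 19490613244638780803818)))))) (.node (.node (.node (.node (.node (.leaf 2685168371431911336519) (.leaf 20162620792484482647105)) (.node (.leaf 10988818433292035298556) (.leaf 4223368116180370566274))) (.node (.node (.leaf 9964782417637385943695) (.leaf 21701881398581025584863)) (.node (.leaf 22416686973504059834368) (.leaf 14850800865715811722873)))) (.node (.node (.node (.leaf 11744106662540681820239) (.leaf 5799388369130026114887)) (.node (.leaf 337027793128102541537) (.leaf 18568116033885863005254)))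 (.node (.node (.leaf 22452499448522047622445) (.leaf 10088135063922530306916)) (.node (.leaf 12650260122643751015478) (.leaf 10087005293996284496618))))) (.node (.node (.node (.node (.leaf 22438770410655594490439) (.leaf 15558023711179237327937)) (.node (.leaf 10614246653337706501372) (.leaf 18623765702920666426498))) (.node (.node (.leaf 8431631010039143578255) (.leaf 1030866710238047221471)) (.node (.leaf 19568597895877862981632) (.leaf 11389964223931874616953)))) (.node (.node (.node (.leaf 4999681800562983385167) (.leaf 19112061133773497835335)) (.node (.leaf 11728117281099133532385) (.leaf 22131907723664455027782))) (.node (.node (.leaf 4280882149235398905133) (.leaf 1802135537239989898084)) (.node (.leaf 15028568534194373603111) (.leaf 7636163326868585355832)))))))) (.node (.node (.node (.node (.node (.node (.node (.leaf 14944526315233002997180) (.leaf 2559542932554280645591)) (.node (.leaf 5070619933438099334028) (.leaf 4564747341523771997126))) (.node (.node (.leaf 13162081416325930460793) (.leaf 3312598612384954908672)) (.node (.leaf 4892420681333191941959) (.leaf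 11305568612764930193487)))) (.node (.node (.node (.leaf 19432523843660125916004) (.leaf 5849371122409973550381)) (.node (.leaf 371815853109224328262) (.leaf 9198437189545410115809))) (.node (.node (.leaf 17380391501932297432341) (.leaf 14508377914770603516684)) (.node (.leaf 12073813258779031542328) (.leaf 1112963781437630459687))))) (.node (.node (.node (.node (.leaf 4732261111409240390598) (.leaf 19496337457899631616908)) (.node (.leaf 2867337288340647424983) (.leaf 4592242341151093179836))) (.node (.node (.leaf 9391052466530664532714) (.leaf 9877221942500452734006)) (.node (.leaf 1836864435408434660417) (.leaf 13847112048738870209095)))) (.node (.node (.node (.leaf 9290919353511649359583) (.leaf 14046549948514445277839)) (.node (.leaf 1596913071052893596802) (.leaf 19239257704893841151228))) (.node (.node (.leaf 2727169779037353779980) (.leaf 17370081932895545666837)) (.node (.leaf 8563338638336907521831) (.leaf 9413038042463520528952)))))) (.node (.node (.node (.node (.node (.leaf 19575590897930735207868) (.leaf 921550180980651045847)) (.node (.leaf 200094514949654127500)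 (.leaf 10057293709589588327366))) (.node (.node (.leaf 14817846198352922977913) (.leaf 20950315624392386281472)) (.node (.leaf 15513845543753495093063) (.leaf 14043804650941182359631)))) (.node (.node (.node (.leaf 163749973986516847460) (.leaf 6635512317821335407917)) (.node (.leaf 20302247507247433403462) (.leaf 2400804416204921321697))) (.node (.node (.leaf 293483895823012375829) (.leaf 19292164898909176800012)) (.node (.leaf 15307553139048981928504) (.leaf 10193162518043345202983))))) (.node (.node (.node (.node (.leaf 1749553899338519952326) (.leaf 21979769287574467486604)) (.node (.leaf 6675516087866921530327) (.leaf 11678044518061294437820))) (.node (.node (.leaf 97328842118529174250) (.leaf 5423348003549472920630)) (.node (.leaf 2280693679082183656513) (.leaf 11835989806802162428487)))) (.node (.node (.node (.leaf 6780742537587228161759) (.leaf 10966959598188967508623)) (.node (.leaf 11382959081976934345858) (.leaf 19828439267255900673276))) (.node (.node (.leaf 20692739460761936732940) (.leaf 3939747874102514102055)) (.node (.leaf 14463650719308356729798) (.leaf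 3155709458473714496471))))))) (.node (.node (.node (.node (.node (.node (.leaf 18280025685187850356156) (.leaf 908828318095693138666)) (.node (.leaf 2523098326223289553974) (.leaf 22075342972925185754177))) (.node (.node (.leaf 7449587928587386726983) (.leaf 1387305550515201357535)) (.node (.leaf 2830792484233481337487) (.leaf 7880431298689939451010)))) (.node (.node (.node (.leaf 20233836312967760188668) (.leaf 3603224308791077217036)) (.node (.leaf 8041137631686093713191) (.leaf 1404341395151091647932))) (.node (.node (.leaf 17947778491929990411223) (.leaf 13910294035318720347078)) (.node (.leaf 14640081744467189278329) (.leaf 9859093451658351607808))))) (.node (.node (.node (.node (.leaf 2733881339982865833799) (.leaf 21964551909757261559887)) (.node (.leaf 16785828615781953784676) (.leaf 17815537755497746631981))) (.node (.node (.leaf 11013327429190703795270) (.leaf 945920357490682706145)) (.node (.leaf 18875093788895235023628) (.leaf 12276756625943488868135)))) (.node (.node (.node (.leaf 10465240428640022805446) (.leaf 21215267291704864486359)) (.node (.leaf 1191251196868604773820)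 (.leaf 18941494415382099938026))) (.node (.node (.leaf 8706289984257275204662) (.leaf 18416208417935057093697)) (.node (.leaf 11936312027842612275783) (.leaf 17393194574399152535263)))))) (.node (.node (.node (.node (.node (.leaf 21460492510274712582799) (.leaf 10482583639525617740930)) (.node (.leaf 21424173819563356263676) (.leaf 11682762505502842692364))) (.node (.node (.leaf 2174685046227123645717) (.leaf 7549513720759445991207)) (.node (.leaf 16533177381402619124280) (.leaf 2773133774143580779479)))) (.node (.node (.node (.leaf 2190986179815334290316) (.leaf 13148354190564318553721)) (.node (.leaf 10219555763943228112896) (.leaf 18547070271836531433287))) (.node (.node (.leaf 5101937434797981022287) (.leaf 16587460209232551562084)) (.node (.leaf 11123425387837057043757) (.leaf 2017038531387587382342))))) (.node (.node (.node (.node (.leaf 12417591632831322405089) (.leaf 15651585091399346276535)) (.node (.leaf 20835851821162984552264) (.leaf 8193095672293439682376))) (.node (.node (.leaf 14168795058046093772983) (.leaf 9205083165987502786192)) (.node (.leaf 22003701562096446620162)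 (.leaf 7131469268230084203426)))) (.node (.node (.node (.leaf 5969082777489467606261) (.leaf 752232426498046829291)) (.node (.leaf 1495937942996397502619) (.leaf 3259875504770916029257))) (.node (.node (.leaf 9357134293930410330016) (.leaf 1699569603715136335655)) (.node (.leaf 15033398728870789585464) (.leaf 12664865721955599229708))))))))

def k3Code_1 : H52.TCert.Tr := .node (.node (.node (.node (.node (.node (.node (.node (.leaf 3561866872318708690197) (.leaf 22274473394051625100172)) (.node (.leaf 560355511877900221382) (.leaf 22237879377825167132092))) (.node (.node (.leaf 11411721354688723563479) (.leaf 17842646526674235242721)) (.node (.leaf 44972502321980837165) (.leaf 16690139951124891449423)))) (.node (.node (.node (.leaf 17034804795082474038905) (.leaf 13860929594936722499222)) (.node (.leaf 11180342297395078964886) (.leaf 18553269404905521589701))) (.node (.node (.leaf 8364611103899732192709) (.leaf 7379222419386712274760)) (.node (.leaf 17221736527312555034807) (.leaf 22055449009485406849207))))) (.node (.node (.node (.node (.leaf 9678129912054201726792) (.leaf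 8272702906385173058377)) (.node (.leaf 16340378520795035617184) (.leaf 9322853193878757810923))) (.node (.node (.leaf 9443094395110687486107) (.leaf 9076989708605950989218)) (.node (.leaf 17416284070472810792181) (.leaf 21924582361602321778320)))) (.node (.node (.node (.leaf 15358395001987234546178) (.leaf 12307817244710095297080)) (.node (.leaf 14805962084561630113575) (.leaf 16045541615774601260309))) (.node (.node (.leaf 9838205394655176073996) (.leaf 9831320447128498058199)) (.node (.leaf 17491093441382430229948) (.leaf 20204212942810945665990)))))) (.node (.node (.node (.node (.node (.leaf 1565082643983208620940) (.leaf 2808017181841967813884)) (.node (.leaf 4601888343306799561359) (.leaf 6143929330765668657735))) (.node (.node (.leaf 16087303975080243186410) (.leaf 2953309769664866069957)) (.node (.leaf 7519384037292236056214) (.leaf 4428665863642882164919)))) (.node (.node (.node (.leaf 20909674935556783814472) (.leaf 14354228494310506514615)) (.node (.leaf 6160133642740029326992) (.leaf 1060970541999741846018))) (.node (.node (.leaf 143383921873864725410) (.leaf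 605559815065404835061)) (.node (.leaf 1389865119435882636011) (.leaf 21981762036743321989275))))) (.node (.node (.node (.node (.leaf 18543603029097138262857) (.leaf 6262719968545260554144)) (.node (.leaf 7292871939665831833383) (.leaf 17443016733884342280972))) (.node (.node (.leaf 4877033748485746271116) (.leaf 11546573586153076833222)) (.node (.leaf 13139985084967056061399) (.leaf 16755417842354008242401)))) (.node (.node (.node (.leaf 9865562842415486799149) (.leaf 20705707825856520435791)) (.node (.leaf 6235454191158383355513) (.leaf 18205079735272710350486))) (.node (.node (.leaf 6045060971349939367365) (.leaf 12056781608937550722888)) (.node (.leaf 5050386024458963536055) (.leaf 759040658364667541320))))))) (.node (.node (.node (.node (.node (.node (.leaf 5334086147854209389385) (.leaf 9158090322188124768160)) (.node (.leaf 18035172600507916526315) (.leaf 19529493350649180991643))) (.node (.node (.leaf 22116928926849825018786) (.leaf 9471459070066372805877)) (.node (.leaf 16536420028044441552528) (.leaf 562809409732177609218)))) (.node (.node (.node (.leaf 1658258889849315105336)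 (.leaf 20606223246681009958695)) (.node (.leaf 4471100749304504659221) (.leaf 15479455218538299597580))) (.node (.node (.leaf 1829881788023763715516) (.leaf 7566838932291438689222)) (.node (.leaf 8082011635004043242626) (.leaf 18413909676688410809596))))) (.node (.node (.node (.node (.leaf 18468071797572886443743) (.leaf 5260057333769394338447)) (.node (.leaf 3218452761191941571649) (.leaf 3363082979326670907975))) (.node (.node (.leaf 4001800765834558247990) (.leaf 13019432709505348120005)) (.node (.leaf 21397125603972258082245) (.leaf 20889024906268042639176)))) (.node (.node (.node (.leaf 6828030165500500218697) (.leaf 3274617788194007304096)) (.node (.leaf 771392591671218934690) (.leaf 16760661053518839121141))) (.node (.node (.leaf 8026145111269939709584) (.leaf 9818296012732712141314)) (.node (.leaf 10565881265785260186168) (.leaf 17508863789776618532647)))))) (.node (.node (.node (.node (.node (.leaf 20471718661556168928533) (.leaf 10006800389775046714124)) (.node (.leaf 16325740720839756395479) (.leaf 21435304648406852453820))) (.node (.node (.leaf 15685583666974666505158)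 (.leaf 15852775346639861621644)) (.node (.leaf 18881923110056661167234) (.leaf 5523976301193394796255)))) (.node (.node (.node (.leaf 17266575303469352846401) (.leaf 18762096621021730130666)) (.node (.leaf 761028760299476816950) (.leaf 15747163608697445559749))) (.node (.node (.leaf 7178467678860703477189) (.leaf 11114423794152306493623)) (.node (.leaf 21709931193410684814992) (.leaf 8673823010695592329730))))) (.node (.node (.node (.node (.leaf 7606098241085609677730) (.leaf 6102511981574802048245)) (.node (.leaf 4616302892353426002761) (.leaf 7643151973754415007648))) (.node (.node (.leaf 3405849941975127830311) (.leaf 12619062594981898558008)) (.node (.leaf 9911761712656485720844) (.leaf 910948180944184716565)))) (.node (.node (.node (.leaf 20206278006376873239436) (.leaf 10945220380489751116742)) (.node (.leaf 22207067840061249275324) (.leaf 5383092612898445734871))) (.node (.node (.leaf 5636832568120332012614) (.leaf 16989983043616452758372)) (.node (.leaf 20769967039851688599367) (.leaf 10123284871065424078457)))))))) (.node (.node (.node (.node (.node (.node (.node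 (.leaf 4738988400605730570240) (.leaf 17573425117030377277623)) (.node (.leaf 6807450332653848180552) (.leaf 7239586801415152702281))) (.node (.node (.leaf 7980593358836782352288) (.leaf 15381442955547185419170)) (.node (.leaf 6623692982307787998453) (.leaf 7166047485292451104400)))) (.node (.node (.node (.leaf 15830126214171553120770) (.leaf 12325003074813538703928)) (.node (.leaf 16028020468551815114005) (.leaf 5962110149157462225879))) (.node (.node (.leaf 7664630064102609569212) (.leaf 20938618409145594684300)) (.node (.leaf 7762052276833330277506) (.leaf 18574922934634170463967))))) (.node (.node (.node (.node (.leaf 16020212380925291234369) (.leaf 6891194124405522483946)) (.node (.leaf 3550133029579308930102) (.leaf 2304806870825204559301))) (.node (.node (.leaf 2940303845127093298838) (.leaf 21976091730208299272375)) (.node (.leaf 3099424388474735474504) (.leaf 303409336558646203298)))) (.node (.node (.node (.leaf 17872967682515492472053) (.leaf 4423187062563487884011)) (.node (.leaf 5931065566176930705563) (.leaf 6422256608135809117991))) (.node (.node (.leaf 3585054189983258024504)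 (.leaf 8008746307995455169292)) (.node (.leaf 8625262918890506169621) (.leaf 14326802689135204121542)))))) (.node (.node (.node (.node (.node (.leaf 6296359852854059746748) (.leaf 13330388390421456795873)) (.node (.leaf 4422112210537344240941) (.leaf 4677515148727135942735))) (.node (.node (.leaf 14146444498721456825977) (.leaf 693172416271065516515)) (.node (.leaf 7295211240245509597605) (.leaf 9509393453007261631863)))) (.node (.node (.node (.leaf 10957494703144622723308) (.leaf 17225090855741194175863)) (.node (.leaf 2607205464895585587436) (.leaf 17520957730346208594403))) (.node (.node (.leaf 16631192880750882138533) (.leaf 19689042769197467544135)) (.node (.leaf 16768159337543218627649) (.leaf 6830178143047709182698))))) (.node (.node (.node (.node (.leaf 18359153428648411347599) (.leaf 14414402851605749601532)) (.node (.leaf 13422586214117639441252) (.leaf 16662617966273769851974))) (.node (.node (.leaf 20096625527896864726855) (.leaf 17483191408896882343936)) (.node (.leaf 17375768099739732658359) (.leaf 15735713842831828858696)))) (.node (.node (.node (.leaf 13863386688715535791944)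 (.leaf 12329359041819922483383)) (.node (.leaf 16212536778574698065349) (.leaf 8631973774604791983557))) (.node (.node (.leaf 5357106047135278442134) (.leaf 14950380277420239431318)) (.node (.leaf 10652136137715217313947) (.leaf 8122799049354733720393))))))) (.node (.node (.node (.node (.node (.node (.leaf 15345745675111869417104) (.leaf 2556670054110366897058)) (.node (.leaf 15681485464448643409529) (.leaf 20804760797339111817216))) (.node (.node (.leaf 1327269780988127595364) (.leaf 22047690434498671447341)) (.node (.leaf 5945032440769788883927) (.leaf 6327823472518569531960)))) (.node (.node (.node (.leaf 6199837558228944651018) (.leaf 3892714278412011799306)) (.node (.leaf 8157509864896169706250) (.leaf 8393401342031181579018))) (.node (.node (.leaf 16161112816041786968079) (.leaf 12790927658452663076215)) (.node (.leaf 19996838752735740727532) (.leaf 1477507630335469062627))))) (.node (.node (.node (.node (.leaf 5566870904877482289573) (.leaf 2420606425718113274339)) (.node (.leaf 13760138812891227728293) (.leaf 8081207005034579723639))) (.node (.node (.leaf 18861939937945624908012)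 (.leaf 2938984950468015503439)) (.node (.leaf 4807787330220956975104) (.leaf 11964372022945605733220)))) (.node (.node (.node (.leaf 11078931339107245083718) (.leaf 14895251153558310041311)) (.node (.leaf 6488779130476427783298) (.leaf 1918468225071966389313))) (.node (.node (.leaf 18069909287370720089142) (.leaf 12701233045016940529847)) (.node (.leaf 16557483235227197192008) (.leaf 1005946295537159906966)))))) (.node (.node (.node (.node (.node (.leaf 16781948798087682239941) (.leaf 14793564833664561229253)) (.node (.leaf 2948180909177184785314) (.leaf 4640559425354475669136))) (.node (.node (.leaf 14794681420785959354882) (.leaf 14966191114890601547680)) (.node (.leaf 15642913012650172166299) (.leaf 3280445059651372534506)))) (.node (.node (.node (.leaf 14004704294053514875958) (.leaf 14218180411396448990943)) (.node (.leaf 8546966428955893382086) (.leaf 9571972092711115826060))) (.node (.node (.leaf 3179893222248139004472) (.leaf 9636595951649407250215)) (.node (.leaf 4454983455343656633098) (.leaf 1450648925121147078671))))) (.node (.node (.node (.node (.leaf 17233218665686893921034)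 (.leaf 18356262185153902807523)) (.node (.leaf 11778459850389864524197) (.leaf 3156760268341162935671))) (.node (.node (.leaf 14378336758004658540780) (.leaf 12961757700217274960355)) (.node (.leaf 12470080344149821139365) (.leaf 14151401593190840992833)))) (.node (.node (.node (.leaf 16699446503431327618102) (.leaf 9675751420908104727183)) (.node (.leaf 10435111509499886843615) (.leaf 5082526224399237911804))) (.node (.node (.leaf 10724669046033151601794) (.leaf 8589282806957933301037)) (.node (.leaf 17798228938303071729889) (.leaf 14306706469661558061135))))))))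

def k3Code_2 : H52.TCert.Tr := .node (.node (.node (.node (.node (.node (.node (.node (.leaf 3326189483712441745408) (.leaf 18357077871531210417785)) (.node (.leaf 16245201386579682707639) (.leaf 6998391424773605013320))) (.node (.node (.leaf 16829515924210741521861) (.leaf 14075379679770406691563)) (.node (.leaf 22061831353446749672265) (.leaf 18902465237534529898400)))) (.node (.node (.node (.leaf 21959063111147377496994) (.leaf 13735348570699636311285)) (.node (.leaf 14073227161095679944313) (.leaf 9870741164403290832896))) (.node (.node (.leaf 12323923174526383147876) (.leaf 5361275996901458742573)) (.node (.leaf 13215354268853289862588) (.leaf 72143094162462912295))))) (.node (.node (.node (.node (.leaf 1013998264176412132106) (.leaf 4009019530406875432975)) (.node (.leaf 5349946683502846903671) (.leaf 18538364924097989808364))) (.node (.node (.leaf 1685709941855159159267) (.leaf 10027272079943992453541)) (.node (.leaf 1160267561946846332279) (.leaf 22092457656729837342956)))) (.node (.node (.node (.leaf 20114359677677515749455) (.leaf 6687274632367268495360)) (.node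 (.leaf 8534176808233355004772) (.leaf 8384372829943949151302))) (.node (.node (.leaf 1818766580822586866319) (.leaf 16211607651047276057852)) (.node (.leaf 4878429200805567932999) (.leaf 13574752711769214161974)))))) (.node (.node (.node (.node (.node (.leaf 9549177328422405130986) (.leaf 1741106113494490466487)) (.node (.leaf 5091709515604029880136) (.leaf 18483012237525927831190))) (.node (.node (.leaf 20753153499828199763397) (.leaf 4260501805556074645136)) (.node (.leaf 10544943339225164366338) (.leaf 9206471299393984677792)))) (.node (.node (.node (.leaf 18443600496271118107713) (.leaf 673339487977267931719)) (.node (.leaf 21801817544211557010154) (.leaf 12280928430691482211382))) (.node (.node (.leaf 21632714454598806279420) (.leaf 10628019999525788202719)) (.node (.leaf 17238849645502548821436) (.leaf 12402382103559056335756))))) (.node (.node (.node (.node (.leaf 3712724347299319688469) (.leaf 7216350928267047700495)) (.node (.leaf 3374072962077041592335) (.leaf 7435768804727327655287))) (.node (.node (.leaf 14330116078795104653548) (.leaf 19859662906176235059279))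 (.node (.leaf 6759664033691273003008) (.leaf 6982677582307700483705)))) (.node (.node (.node (.leaf 682060747415962826463) (.leaf 17631948801683321433218)) (.node (.leaf 17729129759279775122497) (.leaf 3009747046195435222856))) (.node (.node (.leaf 9539800295480584456375) (.leaf 14342737907263405836471)) (.node (.leaf 16489223574112110557000) (.leaf 18016903679838297007766))))))) (.node (.node (.node (.node (.node (.node (.leaf 879098433690840540822) (.leaf 22125095419513451294149)) (.node (.leaf 22352251857311736540613) (.leaf 21840203024081337029538))) (.node (.node (.leaf 2179480538247963706613) (.leaf 7007809945518677475842)) (.node (.leaf 21773194815109367252896) (.leaf 16357756012764948607131)))) (.node (.node (.node (.leaf 22328025870516339606593) (.leaf 1208633128073731975751)) (.node (.leaf 12523198976376947944578) (.leaf 8701392107116486333692))) (.node (.node (.leaf 17322065635789935887804) (.leaf 21322565999615522024725)) (.node (.leaf 16389226390209882654735) (.leaf 19678641670817358186511))))) (.node (.node (.node (.node (.leaf 11302448286044503116259) (.leaf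 12432073881983074707877)) (.node (.leaf 12833229898278708155446) (.leaf 12528094252634882554511))) (.node (.node (.leaf 16849148877066755946207) (.leaf 15310206352312048954498)) (.node (.leaf 8584031448176078921543) (.leaf 1825160893699953637192)))) (.node (.node (.node (.leaf 12014076136161350011063) (.leaf 6459979647565507276229)) (.node (.leaf 9274667334664897635990) (.leaf 10019194091106221893270))) (.node (.node (.leaf 18983280503838981730459) (.leaf 21321098390774595359561)) (.node (.leaf 5231354840523554981520) (.leaf 1824003393858025046530)))))) (.node (.node (.node (.node (.node (.leaf 8062643938495130801058) (.leaf 19664873029120719652085)) (.node (.leaf 16655305770849038940239) (.leaf 13527437755656966387937))) (.node (.node (.leaf 8823630533642178438028) (.leaf 16136543498138035264056)) (.node (.leaf 6469054675719102999829) (.leaf 13988996338841736481251)))) (.node (.node (.node (.leaf 11869753399406750935461) (.leaf 18514851044264010450295)) (.node (.leaf 8677006467721993883884) (.leaf 4496404081266181486671))) (.node (.node (.leaf 17185953555422517665607) (.leaf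 4073920528109204547193)) (.node (.leaf 12102227453476658952847) (.leaf 12077042458649073240810))))) (.node (.node (.node (.node (.leaf 12397845954799628891976) (.leaf 14669176822499990620343)) (.node (.leaf 21398710338541685024406) (.leaf 8608070221463705060597))) (.node (.node (.leaf 15706279814991673493136) (.leaf 18891111479341175775979)) (.node (.leaf 17740089620246797527623) (.leaf 10622369663519155164412)))) (.node (.node (.node (.leaf 13432082365060676655672) (.leaf 2726003278334025444629)) (.node (.leaf 13208047331181688431372) (.leaf 3152299982728640890895))) (.node (.node (.leaf 2410821885168560900579) (.leaf 22437472703498214975909)) (.node (.leaf 16678227201599509202295) (.leaf 20784082845554366484716)))))))) (.node (.node (.node (.node (.node (.node (.node (.leaf 10888384664152515721871) (.leaf 6070401711132477372127)) (.node (.leaf 19964298713789625609346) (.leaf 17709358131720466708705))) (.node (.node (.leaf 3716419194317471659848) (.leaf 1590236353844467419319)) (.node (.leaf 17133089432497998114245) (.leaf 4517254658074165814934)))) (.node (.node (.node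 (.leaf 4172515047438627279689) (.leaf 17685823781732902635152)) (.node (.leaf 9229693202935751852546) (.leaf 14223606785268018544640))) (.node (.node (.leaf 6005784758827029056356) (.leaf 8949434799225741325271)) (.node (.leaf 8203066418026671938104) (.leaf 1826800620091014590619))))) (.node (.node (.node (.node (.leaf 5539912388354497225451) (.leaf 6689866351826460709705)) (.node (.leaf 2463806960710040487157) (.leaf 3605687274681020847010))) (.node (.node (.leaf 10266965648356669064848) (.leaf 14576792452964310042528)) (.node (.leaf 13925491194815222496198) (.leaf 14998912412188147135447)))) (.node (.node (.node (.leaf 2522055886209327241784) (.leaf 3722126265624665009959)) (.node (.leaf 5939174823934812568207) (.leaf 8628822796819007949546))) (.node (.node (.leaf 20794306007892041944134) (.leaf 3604709508977837186887)) (.node (.leaf 7184282406638836661190) (.leaf 18890090110593552755989)))))) (.node (.node (.node (.node (.node (.leaf 17339470651906864228773) (.leaf 14662023006695005130988)) (.node (.leaf 14288271908859633108343) (.leaf 16000411425686647015907))) (.node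 (.node (.leaf 11522444526508697823653) (.leaf 1377942918398879793930)) (.node (.leaf 9794559708331715528719) (.leaf 19441141388499832111882)))) (.node (.node (.node (.leaf 11330338418677200029711) (.leaf 17981027489807407450127)) (.node (.leaf 5054442990397471490826) (.leaf 12087861472470167324687))) (.node (.node (.leaf 20778404091470919533322) (.leaf 15585791827829900687585)) (.node (.leaf 5479338943976624103239) (.leaf 11925059291694562247745))))) (.node (.node (.node (.node (.leaf 8886934193041826723551) (.leaf 3500361804613497728807)) (.node (.leaf 12424216000736941187852) (.leaf 18026054181537206676757))) (.node (.node (.leaf 14037386081040547231969) (.leaf 10488716000771496578349)) (.node (.leaf 8463696584546718192546) (.leaf 7187369239729738954568)))) (.node (.node (.node (.leaf 8197624320003731925413) (.leaf 22453177693035080878563)) (.node (.leaf 18499205256746511895011) (.leaf 17111796689886109444517))) (.node (.node (.leaf 17047575383310395541987) (.leaf 20048611881434919676325)) (.node (.leaf 306813777757019310563) (.leaf 21082494561084788314348))))))) (.node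 (.node (.node (.node (.node (.node (.leaf 15430187586426211632503) (.leaf 7109031073568413684642)) (.node (.leaf 17960708791552276808194) (.leaf 7122213094230087446683))) (.node (.node (.leaf 5928645303365734802155) (.leaf 10958814035552656921417)) (.node (.leaf 10867530406270034096283) (.leaf 3242065732571589461920)))) (.node (.node (.node (.leaf 6180036765717183858320) (.leaf 1155853850007547856316)) (.node (.leaf 16675908838801116996364) (.leaf 16336051010348019960902))) (.node (.node (.leaf 13845921559489275574497) (.leaf 10970670053007059427143)) (.node (.leaf 3492727005128287369295) (.leaf 13265532443951877199100))))) (.node (.node (.node (.node (.leaf 3633110798036058516039) (.leaf 1554151668539815343063)) (.node (.leaf 5985221002939767139605) (.leaf 20912089245681259578743))) (.node (.node (.leaf 14333713372270775144684) (.leaf 15107152317968407103503)) (.node (.leaf 17706011935762126963466) (.leaf 9148721847362041643786)))) (.node (.node (.node (.leaf 6600974637385158199311) (.leaf 14977040318140522922762)) (.node (.leaf 3265207474093095454735) (.leaf 16375523805756610067087)))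 (.node (.node (.leaf 335761825098728014913) (.leaf 18753926802258442996458)) (.node (.leaf 11342811947174817464320) (.leaf 3273706241176544491745)))))) (.node (.node (.node (.node (.node (.leaf 9223815080825084267590) (.leaf 9667472578073854842108)) (.node (.leaf 11250259249030141495200) (.leaf 8392465515774230143723))) (.node (.node (.leaf 10905951568928784042167) (.leaf 16854887022504633775944)) (.node (.leaf 1856637322589735782883) (.leaf 15989876804522512450935)))) (.node (.node (.node (.leaf 14531781330848016411045) (.leaf 7568060042058130196963)) (.node (.leaf 5753294101495785074843) (.leaf 7968371360695921133472))) (.node (.node (.leaf 5586447735104677385033) (.leaf 14727702300920507696784)) (.node (.leaf 6452106284584585405163) (.leaf 18164529101263168517079))))) (.node (.node (.node (.node (.leaf 1771392999358178766101) (.leaf 18123117727497499981535)) (.node (.leaf 2218862814890690460303) (.leaf 15579642619759107511548))) (.node (.node (.leaf 3015139169133442765878) (.leaf 15275353092553236228679)) (.node (.leaf 14118866431926963882852) (.leaf 22421395926651566558509))))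 (.node (.node (.node (.leaf 6539381189281851080704) (.leaf 13712983251295526761431)) (.node (.leaf 13101105127603933720359) (.leaf 19957454630454340331941))) (.node (.node (.leaf 5027959653058864124140) (.leaf 3231724249349524390666)) (.node (.leaf 2513953836164838721551) (.leaf 4851557586859441993807))))))))

def k3Code_3 : H52.TCert.Tr := .node (.node (.node (.node (.node (.node (.node (.node (.leaf 5901216240312488795975) (.leaf 18998181525950329366137)) (.node (.leaf 1760679892968437397215) (.leaf 2134582412498775944999))) (.node (.node (.leaf 2393837557763218154252) (.leaf 63905065826507410502)) (.node (.leaf 2755647449471296256225) (.leaf 15013537810707788548964)))) (.node (.node (.node (.leaf 9395427314983502908717) (.leaf 21719238553668598284802)) (.node (.leaf 14098067587097181145271) (.leaf 7344364101767389850021))) (.node (.node (.leaf 8482634133698615347683) (.leaf 10521573755295024091372)) (.node (.leaf 18975970033238714451319) (.leaf 13926389557932803720437))))) (.node (.node (.node (.node (.leaf 17188273936957539856539) (.leaf 11085662207365546149520)) (.node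 (.leaf 11980311821916314219479) (.leaf 4511877069828687547462))) (.node (.node (.leaf 21678553610743551172423) (.leaf 8150096876813545781903)) (.node (.leaf 3849029412892224721974) (.leaf 20851801348123032399125)))) (.node (.node (.node (.leaf 6287271877708950346296) (.leaf 8715473703609565064999)) (.node (.leaf 6952694875987132646775) (.leaf 244868429990230001679))) (.node (.node (.leaf 4473609498595427779338) (.leaf 18509069654608847995658)) (.node (.leaf 17904921739850713499663) (.leaf 11326748064188102781511)))))) (.node (.node (.node (.node (.node (.leaf 20549805694081982694465) (.leaf 9202046805613864110826)) (.node (.leaf 22514829154004450476032) (.leaf 21641733895854413137340))) (.node (.node (.leaf 2158561298029397025676) (.leaf 11062384443862680521450)) (.node (.leaf 19257431391135452736642) (.leaf 20727813081133017863420)))) (.node (.node (.node (.leaf 1251457219249058071042) (.leaf 15112023016640815964907)) (.node (.leaf 18917292269687763314326) (.leaf 17990314043528852836588))) (.node (.node (.leaf 3357969399825172742658) (.leaf 204380848049512072636)) (.node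 (.leaf 1351839167214494397399) (.leaf 19726507602956283650828))))) (.node (.node (.node (.node (.leaf 1377107985183929085058) (.leaf 9175070352516085617916)) (.node (.leaf 16237828035152380888129) (.leaf 15481460117362856110663))) (.node (.node (.leaf 2127518026455659581676) (.leaf 18999203226324558186511)) (.node (.leaf 15284773014171349301903) (.leaf 19813512568209971717753)))) (.node (.node (.node (.leaf 9259678494459971749308) (.leaf 13677474689876990206860)) (.node (.leaf 19639176362922386134070) (.leaf 12697571844331883169424))) (.node (.node (.leaf 1207687646469294047746) (.leaf 13337605333308767905430)) (.node (.leaf 14643933906052951025302) (.leaf 6928264743113848164588))))))) (.node (.node (.node (.node (.node (.node (.leaf 20371292321872707356023) (.leaf 4148721999175646348663)) (.node (.leaf 15631583425722192115423) (.leaf 16990816801988901973122))) (.node (.node (.leaf 3401354399385368827132) (.leaf 5731634466694250079116)) (.node (.leaf 15711459351862610429967) (.leaf 12038914332993232183111)))) (.node (.node (.node (.leaf 11010910766284344961607) (.leaf 1466644868431575164537))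 (.node (.leaf 14907598309032407180950) (.leaf 6344586579730275082987))) (.node (.node (.leaf 7011175439571130061641) (.leaf 7287933926356034012604)) (.node (.leaf 1263994502826789544844) (.leaf 19002688970433417657286))))) (.node (.node (.node (.node (.leaf 6284942423797769804344) (.leaf 9300894262361965836943)) (.node (.leaf 11115883480058792352312) (.leaf 7358182128922366837825))) (.node (.node (.leaf 8424761630117158888332) (.leaf 13752622457937579395818)) (.node (.leaf 11164186056436895264923) (.leaf 9488698550955013870409)))) (.node (.node (.node (.leaf 17851362013305029494005) (.leaf 14837521447026761968770)) (.node (.leaf 5712161172108001805066) (.leaf 8523921884664576882767))) (.node (.node (.leaf 10176274824320210474038) (.leaf 14749575254890176881420)) (.node (.leaf 8516986072525127601222) (.leaf 18788515891867888128930)))))) (.node (.node (.node (.node (.node (.leaf 6266575695942858258657) (.leaf 7500256117375886232877)) (.node (.leaf 20256220953939784218703) (.leaf 22096146505687396917063))) (.node (.node (.leaf 209325270266291993231) (.leaf 13083642716037538064967))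 (.node (.leaf 5166354389035555768224) (.leaf 7056469245151509779362)))) (.node (.node (.node (.leaf 7416076536974091138888) (.leaf 19268151828876869906215)) (.node (.leaf 21037974474141763189702) (.leaf 10985195031286605747017))) (.node (.node (.leaf 18958733523992332969622) (.leaf 5562213055355081541536)) (.node (.leaf 16298234931530863019253) (.leaf 4949632209562396438683))))) (.node (.node (.node (.node (.leaf 6246862589332568842987) (.leaf 21483659132523881796425)) (.node (.leaf 22177931085239883270627) (.leaf 4063530042627418621303))) (.node (.node (.leaf 15473981865447136366828) (.leaf 8035100479061256145379)) (.node (.leaf 342633476113358104185) (.leaf 7543695525353513722764)))) (.node (.node (.node (.leaf 115297332642135784390) (.leaf 15112764880362449978812)) (.node (.leaf 20081713652131640683650) (.leaf 15496791145793099909303))) (.node (.node (.leaf 18305523805353806179781) (.leaf 9246611335473983474532)) (.node (.leaf 11392081073211194903853) (.leaf 12336722563812128175839)))))))) (.node (.node (.node (.node (.node (.node (.node (.leaf 17970078006688945541356)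 (.leaf 10462988407018286519113)) (.node (.leaf 20446386128193580704491) (.leaf 7944877620576417325803))) (.node (.node (.leaf 21134458487017726101408) (.leaf 10999413855805656772763)) (.node (.leaf 11799326213934587060971) (.leaf 17862495622829520102123)))) (.node (.node (.node (.leaf 13341678338622073439888) (.leaf 15134482441577192536289)) (.node (.leaf 3250525638120817347654) (.leaf 16292508395672535550820))) (.node (.node (.leaf 13983107225733078458183) (.leaf 8914977127451653131334)) (.node (.leaf 15359799075365869332089) (.leaf 6803788806178551245383))))) (.node (.node (.node (.node (.leaf 21158706230587241939458) (.leaf 10004282331744636546501)) (.node (.leaf 14978094797517985292103) (.leaf 16974486304111481306054))) (.node (.node (.leaf 10331821944907086209932) (.leaf 9101824774552527701237)) (.node (.leaf 19579593847694642783894) (.leaf 4801938029354448720802)))) (.node (.node (.node (.leaf 5058192843849122687397) (.leaf 6127017407298982419000)) (.node (.leaf 10148101684686846961273) (.leaf 7594544745122576834375))) (.node (.node (.leaf 9788559096143891314767) (.leaf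 20615874692819188894442)) (.node (.leaf 21822821803725538725165) (.leaf 238157774059979385253)))))) (.node (.node (.node (.node (.node (.leaf 19121216675799618946423) (.leaf 14136031438003923202203)) (.node (.leaf 6237945664790420009115) (.leaf 6797070104250501544161))) (.node (.node (.leaf 14256441650653715778630) (.leaf 21120958880736557827137)) (.node (.leaf 10208065460151986070284) (.leaf 9243525231059119869229)))) (.node (.node (.node (.leaf 13270403011207997107477) (.leaf 3596639974055458214818)) (.node (.leaf 14722849146825827517685) (.leaf 3182570396875625285815))) (.node (.node (.leaf 6975425799148515342152) (.leaf 15178548342821923800992)) (.node (.leaf 3884839286432871024272) (.leaf 10238547923516548072892))))) (.node (.node (.node (.node (.leaf 11565192705902752768908) (.leaf 10579718131187402980294)) (.node (.leaf 12084334260953486830722) (.leaf 16272442108530728342582))) (.node (.node (.leaf 21585672065318786143049) (.leaf 3891545521109691867883)) (.node (.leaf 2448813734433173542140) (.leaf 1350239835899654327366)))) (.node (.node (.node (.leaf 8342914735354313091655)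 (.leaf 14272448994003090717327)) (.node (.leaf 9058882113941951425813) (.leaf 8396034233781788455895))) (.node (.node (.leaf 21014367161847058766392) (.leaf 13146820496730184043242)) (.node (.leaf 11072932710671435502646) (.leaf 3620771518179214560557))))))) (.node (.node (.node (.node (.node (.node (.leaf 5942170981111402643970) (.leaf 5925186544442403620085)) (.node (.leaf 17924940427281043260481) (.leaf 22370248560140503993066))) (.node (.node (.leaf 8813088211515576173058) (.leaf 9391733552370318385932)) (.node (.leaf 4077383749665269515018) (.leaf 20011630773086321745735)))) (.node (.node (.node (.leaf 1501228354182564656087) (.leaf 4976044856713487298343)) (.node (.leaf 7348201155795846969569) (.leaf 12126898181493266022400))) (.node (.node (.leaf 12886850142681813535588) (.leaf 10201333958610260573126)) (.node (.leaf 15085039925084596600832) (.leaf 109740351008518709063))))) (.node (.node (.node (.node (.leaf 19535391454293111318137) (.leaf 16982056712525522062180)) (.node (.leaf 7250203150531474367211) (.leaf 20937622514281136173211))) (.node (.node (.leaf 22291134349139745778247)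 (.leaf 12709987534067450610442)) (.node (.leaf 14492523487285997489222) (.leaf 6757895298562635778916)))) (.node (.node (.node (.leaf 896263578809973640493) (.leaf 16667251039810757635202)) (.node (.leaf 16859656426992663935055) (.leaf 12896740394577471999277))) (.node (.node (.leaf 12894370982380810010624) (.leaf 11795866081336856759140)) (.node (.leaf 19861645366014643320911) (.leaf 18328627816290999769656)))))) (.node (.node (.node (.node (.node (.leaf 19804191572284390161350) (.leaf 9312166954160105235340)) (.node (.leaf 4693604327810094806751) (.leaf 1422835248870220777376))) (.node (.node (.leaf 12830055716981869511925) (.leaf 11265336247721436446720)) (.node (.leaf 20455583285640722041700) (.leaf 7613197529584757450390)))) (.node (.node (.node (.leaf 17529122083330315752502) (.leaf 10204549771908065570245)) (.node (.leaf 22296483851612532482828) (.leaf 5572264981596784864533))) (.node (.node (.leaf 5340755271719553377164) (.leaf 15367490382571948292321)) (.node (.leaf 5797392577936525052998) (.leaf 17177871885906464314620))))) (.leaf 0))))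

def k3Code : H52.TCert.Tr := .node (.node (k3Code_0) (k3Code_1)) (.node (k3Code_2) (k3Code_3))

def k3Srt_0 : H52.TCert.Tr := .node (.node (.node (.node (.node (.node (.node (.node (.leaf 262) (.leaf 773)) (.node (.leaf 527) (.leaf 180))) (.node (.node (.leaf 975) (.leaf 18)) (.node (.leaf 888) (.leaf 300)))) (.node (.node (.node (.leaf 43) (.leaf 168)) (.node (.leaf 162) (.leaf 813))) (.node (.node (.leaf 868) (.leaf 0)) (.node (.leaf 927) (.leaf 795))))) (.node (.node (.node (.node (.leaf 172) (.leaf 407)) (.node (.leaf 702) (.leaf 732))) (.node (.node (.leaf 106) (.leaf 886)) (.node (.leaf 138) (.leaf 258)))) (.node (.node (.node (.leaf 327) (.leaf 301)) (.node (.leaf 553) (.leaf 568))) (.node (.node (.leaf 421) (.leaf 249)) (.node (.leaf 319) (.leaf 362)))))) (.node (.node (.node (.node (.node (.leaf 346) (.leaf 576)) (.node (.leaf 984) (.leaf 89))) (.node (.node (.leaf 193) (.leaf 375)) (.node (.leaf 161) (.leaf 213)))) (.node (.node (.node (.leaf 479) (.leaf 528)) (.node (.leaf 117) (.leaf 299))) (.node (.node (.leaf 143) (.leaf 713)) (.node (.leaf 534) (.leaf 218)))))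 (.node (.node (.node (.node (.leaf 828) (.leaf 585)) (.node (.leaf 808) (.leaf 846))) (.node (.node (.leaf 452) (.leaf 951)) (.node (.leaf 814) (.leaf 816)))) (.node (.node (.node (.leaf 677) (.leaf 85)) (.node (.leaf 197) (.leaf 302))) (.node (.node (.leaf 203) (.leaf 995)) (.node (.leaf 495) (.leaf 841))))))) (.node (.node (.node (.node (.node (.node (.leaf 463) (.leaf 250)) (.node (.leaf 91) (.leaf 968))) (.node (.node (.leaf 721) (.leaf 288)) (.node (.leaf 8) (.leaf 645)))) (.node (.node (.node (.leaf 154) (.leaf 328)) (.node (.leaf 532) (.leaf 253))) (.node (.node (.leaf 545) (.leaf 176)) (.node (.leaf 770) (.leaf 752))))) (.node (.node (.node (.node (.leaf 125) (.leaf 540)) (.node (.leaf 607) (.leaf 599))) (.node (.node (.leaf 655) (.leaf 332)) (.node (.leaf 150) (.leaf 742)))) (.node (.node (.node (.leaf 475) (.leaf 239)) (.node (.leaf 820) (.leaf 771))) (.node (.node (.leaf 804) (.leaf 228)) (.node (.leaf 580) (.leaf 232)))))) (.node (.node (.node (.node (.node (.leaf 754) (.leaf 182)) (.node (.leaf 403) (.leaf 772))) (.node (.node (.leaf 171) (.leaf 636)) (.node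 (.leaf 465) (.leaf 950)))) (.node (.node (.node (.leaf 658) (.leaf 766)) (.node (.leaf 664) (.leaf 194))) (.node (.node (.leaf 449) (.leaf 129)) (.node (.leaf 13) (.leaf 426))))) (.node (.node (.node (.node (.leaf 96) (.leaf 9)) (.node (.leaf 633) (.leaf 156))) (.node (.node (.leaf 208) (.leaf 774)) (.node (.leaf 231) (.leaf 289)))) (.node (.node (.node (.leaf 198) (.leaf 146)) (.node (.leaf 469) (.leaf 404))) (.node (.node (.leaf 482) (.leaf 293)) (.node (.leaf 571) (.leaf 756)))))))) (.node (.node (.node (.node (.node (.node (.node (.leaf 406) (.leaf 635)) (.node (.leaf 191) (.leaf 499))) (.node (.node (.leaf 492) (.leaf 939)) (.node (.leaf 338) (.leaf 765)))) (.node (.node (.node (.leaf 711) (.leaf 906)) (.node (.leaf 251) (.leaf 730))) (.node (.node (.leaf 735) (.leaf 345)) (.node (.leaf 487) (.leaf 133))))) (.node (.node (.node (.node (.leaf 512) (.leaf 812)) (.node (.leaf 339) (.leaf 562))) (.node (.node (.leaf 836) (.leaf 372)) (.node (.leaf 6) (.leaf 718)))) (.node (.node (.node (.leaf 689) (.leaf 402)) (.node (.leaf 256) (.leaf 412))) (.node (.node (.leaf 937) (.leaf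 201)) (.node (.leaf 669) (.leaf 659)))))) (.node (.node (.node (.node (.node (.leaf 33) (.leaf 959)) (.node (.leaf 720) (.leaf 560))) (.node (.node (.leaf 644) (.leaf 665)) (.node (.leaf 790) (.leaf 942)))) (.node (.node (.node (.leaf 949) (.leaf 457)) (.node (.leaf 65) (.leaf 189))) (.node (.node (.leaf 340) (.leaf 529)) (.node (.leaf 883) (.leaf 621))))) (.node (.node (.node (.node (.leaf 966) (.leaf 833)) (.node (.leaf 648) (.leaf 99))) (.node (.node (.leaf 549) (.leaf 124)) (.node (.leaf 72) (.leaf 418)))) (.node (.node (.node (.leaf 409) (.leaf 295)) (.node (.leaf 494) (.leaf 330))) (.node (.node (.leaf 796) (.leaf 619)) (.node (.leaf 787) (.leaf 647))))))) (.node (.node (.node (.node (.node (.node (.leaf 131) (.leaf 147)) (.node (.leaf 290) (.leaf 370))) (.node (.node (.leaf 483) (.leaf 419)) (.node (.leaf 994) (.leaf 144)))) (.node (.node (.node (.leaf 384) (.leaf 919)) (.node (.leaf 470) (.leaf 767))) (.node (.node (.leaf 308) (.leaf 542)) (.node (.leaf 134) (.leaf 879))))) (.node (.node (.node (.node (.leaf 969) (.leaf 120)) (.node (.leaf 764) (.leaf 318))) (.node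 (.node (.leaf 682) (.leaf 920)) (.node (.leaf 130) (.leaf 507)))) (.node (.node (.node (.leaf 546) (.leaf 236)) (.node (.leaf 870) (.leaf 39))) (.node (.node (.leaf 606) (.leaf 337)) (.node (.leaf 320) (.leaf 1004)))))) (.node (.node (.node (.node (.node (.leaf 530) (.leaf 1)) (.node (.leaf 444) (.leaf 525))) (.node (.node (.leaf 379) (.leaf 181)) (.node (.leaf 686) (.leaf 359)))) (.node (.node (.node (.leaf 656) (.leaf 877)) (.node (.leaf 464) (.leaf 1003))) (.node (.node (.leaf 28) (.leaf 748)) (.node (.leaf 380) (.leaf 14))))) (.node (.node (.node (.node (.leaf 858) (.leaf 837)) (.node (.leaf 746) (.leaf 1006))) (.node (.node (.leaf 105) (.leaf 137)) (.node (.leaf 51) (.leaf 768)))) (.node (.node (.node (.leaf 961) (.leaf 708)) (.node (.leaf 410) (.leaf 666))) (.node (.node (.leaf 960) (.leaf 454)) (.node (.leaf 395) (.leaf 248))))))))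

def k3Srt_1 : H52.TCert.Tr := .node (.node (.node (.node (.node (.node (.node (.node (.leaf 722) (.leaf 652)) (.node (.leaf 56) (.leaf 316))) (.node (.node (.leaf 641) (.leaf 369)) (.node (.leaf 921) (.leaf 291)))) (.node (.node (.node (.leaf 298) (.leaf 712)) (.node (.leaf 456) (.leaf 314))) (.node (.node (.leaf 930) (.leaf 880)) (.node (.leaf 305) (.leaf 78))))) (.node (.node (.node (.node (.leaf 864) (.leaf 848)) (.node (.leaf 792) (.leaf 416))) (.node (.node (.leaf 455) (.leaf 843)) (.node (.leaf 411) (.leaf 750)))) (.node (.node (.node (.leaf 601) (.leaf 48)) (.node (.leaf 614) (.leaf 474))) (.node (.node (.leaf 760) (.leaf 728)) (.node (.leaf 390) (.leaf 169)))))) (.node (.node (.node (.node (.node (.leaf 178) (.leaf 537)) (.node (.leaf 657) (.leaf 983))) (.node (.node (.leaf 566) (.leaf 184)) (.node (.leaf 931) (.leaf 911)))) (.node (.node (.node (.leaf 386) (.leaf 344)) (.node (.leaf 431) (.leaf 401))) (.node (.node (.leaf 831) (.leaf 794)) (.node (.leaf 940) (.leaf 64))))) (.node (.node (.node (.node (.leaf 567) (.leaf 515)) (.node (.leaf 581) (.leaf 844))) (.node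 (.node (.leaf 2) (.leaf 871)) (.node (.leaf 705) (.leaf 707)))) (.node (.node (.node (.leaf 247) (.leaf 391)) (.node (.leaf 364) (.leaf 670))) (.node (.node (.leaf 695) (.leaf 561)) (.node (.leaf 387) (.leaf 978))))))) (.node (.node (.node (.node (.node (.node (.leaf 845) (.leaf 306)) (.node (.leaf 422) (.leaf 779))) (.node (.node (.leaf 970) (.leaf 851)) (.node (.leaf 269) (.leaf 872)))) (.node (.node (.node (.leaf 563) (.leaf 196)) (.node (.leaf 49) (.leaf 865))) (.node (.node (.leaf 294) (.leaf 887)) (.node (.leaf 229) (.leaf 333))))) (.node (.node (.node (.node (.leaf 745) (.leaf 923)) (.node (.leaf 368) (.leaf 999))) (.node (.node (.leaf 127) (.leaf 371)) (.node (.leaf 396) (.leaf 398)))) (.node (.node (.node (.leaf 199) (.leaf 19)) (.node (.leaf 42) (.leaf 899))) (.node (.node (.leaf 52) (.leaf 747)) (.node (.leaf 388) (.leaf 413)))))) (.node (.node (.node (.node (.node (.leaf 348) (.leaf 885)) (.node (.leaf 202) (.leaf 608))) (.node (.node (.leaf 467) (.leaf 334)) (.node (.leaf 447) (.leaf 71)))) (.node (.node (.node (.leaf 789) (.leaf 12)) (.node (.leaf 458) (.leaf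 243))) (.node (.node (.leaf 696) (.leaf 654)) (.node (.leaf 273) (.leaf 952))))) (.node (.node (.node (.node (.leaf 268) (.leaf 539)) (.node (.leaf 739) (.leaf 459))) (.node (.node (.leaf 955) (.leaf 852)) (.node (.leaf 116) (.leaf 694)))) (.node (.node (.node (.leaf 780) (.leaf 862)) (.node (.leaf 859) (.leaf 538))) (.node (.node (.leaf 490) (.leaf 158)) (.node (.leaf 598) (.leaf 509)))))))) (.node (.node (.node (.node (.node (.node (.node (.leaf 627) (.leaf 414)) (.node (.leaf 667) (.leaf 443))) (.node (.node (.leaf 367) (.leaf 618)) (.node (.leaf 587) (.leaf 220)))) (.node (.node (.node (.leaf 793) (.leaf 53)) (.node (.leaf 17) (.leaf 964))) (.node (.node (.leaf 612) (.leaf 30)) (.node (.leaf 688) (.leaf 909))))) (.node (.node (.node (.node (.leaf 653) (.leaf 15)) (.node (.leaf 954) (.leaf 277))) (.node (.node (.leaf 917) (.leaf 727)) (.node (.leaf 321) (.leaf 817)))) (.node (.node (.node (.leaf 139) (.leaf 801)) (.node (.leaf 245) (.leaf 551))) (.node (.node (.leaf 736) (.leaf 650)) (.node (.leaf 935) (.leaf 893)))))) (.node (.node (.node (.node (.node (.leaf 824) (.leaf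 602)) (.node (.leaf 152) (.leaf 849))) (.node (.node (.leaf 993) (.leaf 36)) (.node (.leaf 275) (.leaf 252)))) (.node (.node (.node (.leaf 148) (.leaf 965)) (.node (.leaf 776) (.leaf 159))) (.node (.node (.leaf 276) (.leaf 325)) (.node (.leaf 855) (.leaf 423))))) (.node (.node (.node (.node (.leaf 572) (.leaf 544)) (.node (.leaf 491) (.leaf 493))) (.node (.node (.leaf 737) (.leaf 505)) (.node (.leaf 272) (.leaf 5)))) (.node (.node (.node (.leaf 924) (.leaf 678)) (.node (.leaf 349) (.leaf 285))) (.node (.node (.leaf 284) (.leaf 207)) (.node (.leaf 312) (.leaf 523))))))) (.node (.node (.node (.node (.node (.node (.leaf 149) (.leaf 374)) (.node (.leaf 100) (.leaf 913))) (.node (.node (.leaf 353) (.leaf 603)) (.node (.leaf 533) (.leaf 163)))) (.node (.node (.node (.leaf 111) (.leaf 109)) (.node (.leaf 383) (.leaf 68))) (.node (.node (.leaf 922) (.leaf 860)) (.node (.leaf 82) (.leaf 175))))) (.node (.node (.node (.node (.leaf 973) (.leaf 1001)) (.node (.leaf 934) (.leaf 234))) (.node (.node (.leaf 943) (.leaf 660)) (.node (.leaf 916) (.leaf 506)))) (.node (.node (.node (.leaf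 897) (.leaf 216)) (.node (.leaf 4) (.leaf 225))) (.node (.node (.leaf 693) (.leaf 75)) (.node (.leaf 781) (.leaf 550)))))) (.node (.node (.node (.node (.node (.leaf 350) (.leaf 945)) (.node (.leaf 70) (.leaf 76))) (.node (.node (.leaf 114) (.leaf 631)) (.node (.leaf 557) (.leaf 86)))) (.node (.node (.node (.leaf 446) (.leaf 47)) (.node (.leaf 508) (.leaf 34))) (.node (.node (.leaf 710) (.leaf 640)) (.node (.leaf 740) (.leaf 377))))) (.node (.node (.node (.node (.leaf 424) (.leaf 709)) (.node (.leaf 185) (.leaf 717))) (.node (.node (.leaf 875) (.leaf 98)) (.node (.leaf 901) (.leaf 840)))) (.node (.node (.node (.leaf 212) (.leaf 805)) (.node (.leaf 958) (.leaf 472))) (.node (.node (.leaf 785) (.leaf 11)) (.node (.leaf 365) (.leaf 850))))))))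

def k3Srt_2 : H52.TCert.Tr := .node (.node (.node (.node (.node (.node (.node (.node (.leaf 238) (.leaf 23)) (.node (.leaf 854) (.leaf 266))) (.node (.node (.leaf 738) (.leaf 997)) (.node (.leaf 592) (.leaf 135)))) (.node (.node (.node (.leaf 799) (.leaf 680)) (.node (.leaf 41) (.leaf 734))) (.node (.node (.leaf 186) (.leaf 119)) (.node (.leaf 894) (.leaf 260))))) (.node (.node (.node (.node (.leaf 87) (.leaf 676)) (.node (.leaf 309) (.leaf 944))) (.node (.node (.leaf 10) (.leaf 58)) (.node (.leaf 79) (.leaf 179)))) (.node (.node (.node (.leaf 227) (.leaf 122)) (.node (.leaf 104) (.leaf 498))) (.node (.node (.leaf 989) (.leaf 902)) (.node (.leaf 183) (.leaf 616)))))) (.node (.node (.node (.node (.node (.leaf 61) (.leaf 687)) (.node (.leaf 222) (.leaf 471))) (.node (.node (.leaf 786) (.leaf 600)) (.node (.leaf 839) (.leaf 317)))) (.node (.node (.node (.leaf 142) (.leaf 623)) (.node (.leaf 946) (.leaf 683))) (.node (.node (.leaf 622) (.leaf 971)) (.node (.leaf 7) (.leaf 215))))) (.node (.node (.node (.node (.leaf 555) (.leaf 281)) (.node (.leaf 524) (.leaf 393))) (.node (.node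 (.leaf 441) (.leaf 895)) (.node (.leaf 624) (.leaf 559)))) (.node (.node (.node (.leaf 240) (.leaf 690)) (.node (.leaf 593) (.leaf 502))) (.node (.node (.leaf 586) (.leaf 595)) (.node (.leaf 373) (.leaf 110))))))) (.node (.node (.node (.node (.node (.node (.leaf 255) (.leaf 827)) (.node (.leaf 477) (.leaf 981))) (.node (.node (.leaf 461) (.leaf 996)) (.node (.leaf 594) (.leaf 972)))) (.node (.node (.node (.leaf 988) (.leaf 987)) (.node (.leaf 501) (.leaf 341))) (.node (.node (.leaf 869) (.leaf 762)) (.node (.leaf 310) (.leaf 957))))) (.node (.node (.node (.node (.leaf 233) (.leaf 132)) (.node (.leaf 634) (.leaf 526))) (.node (.node (.leaf 719) (.leaf 936)) (.node (.leaf 417) (.leaf 829)))) (.node (.node (.node (.leaf 904) (.leaf 54)) (.node (.leaf 434) (.leaf 632))) (.node (.node (.leaf 611) (.leaf 543)) (.node (.leaf 55) (.leaf 825)))))) (.node (.node (.node (.node (.node (.leaf 761) (.leaf 521)) (.node (.leaf 853) (.leaf 466))) (.node (.node (.leaf 716) (.leaf 151)) (.node (.leaf 265) (.leaf 440)))) (.node (.node (.node (.leaf 205) (.leaf 662)) (.node (.leaf 783) (.leaf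 908))) (.node (.node (.leaf 615) (.leaf 488)) (.node (.leaf 692) (.leaf 167))))) (.node (.node (.node (.node (.leaf 153) (.leaf 522)) (.node (.leaf 517) (.leaf 778))) (.node (.node (.leaf 758) (.leaf 929)) (.node (.leaf 420) (.leaf 503)))) (.node (.node (.node (.leaf 244) (.leaf 489)) (.node (.leaf 651) (.leaf 932))) (.node (.node (.leaf 953) (.leaf 674)) (.node (.leaf 511) (.leaf 415)))))))) (.node (.node (.node (.node (.node (.node (.node (.leaf 564) (.leaf 724)) (.node (.leaf 16) (.leaf 573))) (.node (.node (.leaf 297) (.leaf 500)) (.node (.leaf 433) (.leaf 190)))) (.node (.node (.node (.leaf 31) (.leaf 982)) (.node (.leaf 141) (.leaf 744))) (.node (.node (.leaf 661) (.leaf 206)) (.node (.leaf 830) (.leaf 673))))) (.node (.node (.node (.node (.leaf 625) (.leaf 938)) (.node (.leaf 749) (.leaf 861))) (.node (.node (.leaf 481) (.leaf 484)) (.node (.leaf 81) (.leaf 282)))) (.node (.node (.node (.leaf 164) (.leaf 857)) (.node (.leaf 103) (.leaf 473))) (.node (.node (.leaf 842) (.leaf 128)) (.node (.leaf 445) (.leaf 485)))))) (.node (.node (.node (.node (.node (.leaf 729) (.leaf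 914)) (.node (.leaf 663) (.leaf 775))) (.node (.node (.leaf 126) (.leaf 254)) (.node (.leaf 73) (.leaf 974)))) (.node (.node (.node (.leaf 63) (.leaf 69)) (.node (.leaf 725) (.leaf 809))) (.node (.node (.leaf 889) (.leaf 905)) (.node (.leaf 941) (.leaf 94))))) (.node (.node (.node (.node (.leaf 757) (.leaf 822)) (.node (.leaf 174) (.leaf 597))) (.node (.node (.leaf 448) (.leaf 280)) (.node (.leaf 910) (.leaf 1005)))) (.node (.node (.node (.leaf 389) (.leaf 704)) (.node (.leaf 57) (.leaf 884))) (.node (.node (.leaf 331) (.leaf 819)) (.node (.leaf 891) (.leaf 166))))))) (.node (.node (.node (.node (.node (.node (.leaf 113) (.leaf 755)) (.node (.leaf 685) (.leaf 834))) (.node (.node (.leaf 486) (.leaf 241)) (.node (.leaf 450) (.leaf 356)))) (.node (.node (.node (.leaf 628) (.leaf 838)) (.node (.leaf 439) (.leaf 363))) (.node (.node (.leaf 20) (.leaf 392)) (.node (.leaf 357) (.leaf 743))))) (.node (.node (.node (.node (.leaf 675) (.leaf 400)) (.node (.leaf 394) (.leaf 283))) (.node (.node (.leaf 292) (.leaf 613)) (.node (.leaf 77) (.leaf 460)))) (.node (.node (.node (.leaf 541)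 (.leaf 442)) (.node (.leaf 818) (.leaf 514))) (.node (.node (.leaf 947) (.leaf 907)) (.node (.leaf 878) (.leaf 354)))))) (.node (.node (.node (.node (.node (.leaf 715) (.leaf 45)) (.node (.leaf 274) (.leaf 583))) (.node (.node (.leaf 731) (.leaf 590)) (.node (.leaf 24) (.leaf 90)))) (.node (.node (.node (.leaf 574) (.leaf 230)) (.node (.leaf 326) (.leaf 478))) (.node (.node (.leaf 237) (.leaf 25)) (.node (.leaf 428) (.leaf 610))))) (.node (.node (.node (.node (.leaf 435) (.leaf 985)) (.node (.leaf 714) (.leaf 638))) (.node (.node (.leaf 263) (.leaf 27)) (.node (.leaf 504) (.leaf 311)))) (.node (.node (.node (.leaf 347) (.leaf 430)) (.node (.leaf 480) (.leaf 210))) (.node (.node (.leaf 516) (.leaf 596)) (.node (.leaf 741) (.leaf 986))))))))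

def k3Srt_3 : H52.TCert.Tr := .node (.node (.node (.node (.node (.node (.node (.node (.leaf 26) (.leaf 915)) (.node (.leaf 977) (.leaf 381))) (.node (.node (.leaf 835) (.leaf 264)) (.node (.leaf 700) (.leaf 35)))) (.node (.node (.node (.leaf 46) (.leaf 699)) (.node (.leaf 646) (.leaf 1007))) (.node (.node (.leaf 83) (.leaf 620)) (.node (.leaf 784) (.leaf 270))))) (.node (.node (.node (.node (.leaf 425) (.leaf 496)) (.node (.leaf 74) (.leaf 558))) (.node (.node (.leaf 360) (.leaf 588)) (.node (.leaf 672) (.leaf 157)))) (.node (.node (.node (.leaf 438) (.leaf 140)) (.node (.leaf 223) (.leaf 278))) (.node (.node (.leaf 307) (.leaf 437)) (.node (.leaf 286) (.leaf 351)))))) (.node (.node (.node (.node (.node (.leaf 427) (.leaf 1000)) (.node (.leaf 385) (.leaf 569))) (.node (.node (.leaf 649) (.leaf 726)) (.node (.leaf 643) (.leaf 22)))) (.node (.node (.node (.leaf 570) (.leaf 630)) (.node (.leaf 44) (.leaf 510))) (.node (.node (.leaf 211) (.leaf 84)) (.node (.leaf 261) (.leaf 856))))) (.node (.node (.node (.node (.leaf 903) (.leaf 408)) (.node (.leaf 798) (.leaf 962))) (.node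 (.node (.leaf 204) (.leaf 706)) (.node (.leaf 896) (.leaf 681)))) (.node (.node (.node (.leaf 811) (.leaf 575)) (.node (.leaf 691) (.leaf 322))) (.node (.node (.leaf 476) (.leaf 753)) (.node (.leaf 751) (.leaf 59))))))) (.node (.node (.node (.node (.node (.node (.leaf 315) (.leaf 192)) (.node (.leaf 892) (.leaf 38))) (.node (.node (.leaf 991) (.leaf 497)) (.node (.leaf 513) (.leaf 432)))) (.node (.node (.node (.leaf 335) (.leaf 221)) (.node (.leaf 552) (.leaf 336))) (.node (.node (.leaf 547) (.leaf 698)) (.node (.leaf 797) (.leaf 617))))) (.node (.node (.node (.node (.leaf 531) (.leaf 304)) (.node (.leaf 235) (.leaf 267))) (.node (.node (.leaf 107) (.leaf 399)) (.node (.leaf 115) (.leaf 733)))) (.node (.node (.node (.leaf 361) (.leaf 863)) (.node (.leaf 92) (.leaf 50))) (.node (.node (.leaf 468) (.leaf 214)) (.node (.leaf 358) (.leaf 671)))))) (.node (.node (.node (.node (.node (.leaf 629) (.leaf 519)) (.node (.leaf 810) (.leaf 219))) (.node (.node (.leaf 876) (.leaf 29)) (.node (.leaf 782) (.leaf 604)))) (.node (.node (.node (.leaf 769) (.leaf 821)) (.node (.leaf 847) (.leaf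 121))) (.node (.node (.leaf 928) (.leaf 155)) (.node (.leaf 806) (.leaf 873))))) (.node (.node (.node (.node (.leaf 80) (.leaf 173)) (.node (.leaf 21) (.leaf 66))) (.node (.node (.leaf 136) (.leaf 679)) (.node (.leaf 95) (.leaf 145)))) (.node (.node (.node (.leaf 67) (.leaf 323)) (.node (.leaf 976) (.leaf 118))) (.node (.node (.leaf 160) (.leaf 918)) (.node (.leaf 826) (.leaf 609)))))))) (.node (.node (.node (.node (.node (.node (.node (.leaf 591) (.leaf 429)) (.node (.leaf 815) (.leaf 992))) (.node (.node (.leaf 823) (.leaf 187)) (.node (.leaf 565) (.leaf 990)))) (.node (.node (.node (.leaf 763) (.leaf 642)) (.node (.leaf 462) (.leaf 967))) (.node (.node (.leaf 701) (.leaf 890)) (.node (.leaf 436) (.leaf 536))))) (.node (.node (.node (.node (.leaf 97) (.leaf 287)) (.node (.leaf 376) (.leaf 200))) (.node (.node (.leaf 866) (.leaf 170)) (.node (.leaf 832) (.leaf 898)))) (.node (.node (.node (.leaf 998) (.leaf 352)) (.node (.leaf 800) (.leaf 329))) (.node (.node (.leaf 925) (.leaf 188)) (.node (.leaf 313) (.leaf 807)))))) (.node (.node (.node (.node (.node (.leaf 548) (.leaf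 382)) (.node (.leaf 684) (.leaf 639))) (.node (.node (.leaf 668) (.leaf 451)) (.node (.leaf 242) (.leaf 791)))) (.node (.node (.node (.leaf 93) (.leaf 343)) (.node (.leaf 296) (.leaf 723))) (.node (.node (.leaf 979) (.leaf 397)) (.node (.leaf 165) (.leaf 956))))) (.node (.node (.node (.node (.leaf 874) (.leaf 703)) (.node (.leaf 933) (.leaf 900))) (.node (.node (.leaf 912) (.leaf 217)) (.node (.leaf 605) (.leaf 589)))) (.node (.node (.node (.leaf 342) (.leaf 626)) (.node (.leaf 226) (.leaf 355))) (.node (.node (.leaf 224) (.leaf 881)) (.node (.leaf 32) (.leaf 948))))))) (.node (.node (.node (.node (.node (.node (.leaf 556) (.leaf 803)) (.node (.leaf 788) (.leaf 101))) (.node (.node (.leaf 366) (.leaf 777)) (.node (.leaf 60) (.leaf 40)))) (.node (.node (.node (.leaf 582) (.leaf 554)) (.node (.leaf 926) (.leaf 579))) (.node (.node (.leaf 279) (.leaf 520)) (.node (.leaf 209) (.leaf 405))))) (.node (.node (.node (.node (.leaf 177) (.leaf 303)) (.node (.leaf 246) (.leaf 453))) (.node (.node (.leaf 271) (.leaf 37)) (.node (.leaf 518) (.leaf 195)))) (.node (.node (.node (.leaf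 535) (.leaf 867)) (.node (.leaf 62) (.leaf 324))) (.node (.node (.leaf 577) (.leaf 123)) (.node (.leaf 882) (.leaf 378)))))) (.node (.node (.node (.node (.node (.leaf 259) (.leaf 88)) (.node (.leaf 257) (.leaf 980))) (.node (.node (.leaf 1002) (.leaf 584)) (.node (.leaf 578) (.leaf 963)))) (.node (.node (.node (.leaf 102) (.leaf 759)) (.node (.leaf 637) (.leaf 112))) (.node (.node (.leaf 108) (.leaf 697)) (.node (.leaf 3) (.leaf 802))))) (.leaf 0))))

def k3Srt : H52.TCert.Tr := .node (.node (k3Srt_0) (k3Srt_1)) (.node (k3Srt_2) (k3Srt_3))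

def k3Next_0 : H52.TCert.Tr := .node (.node (.node (.node (.node (.node (.node (.node (.leaf 131073) (.leaf 262147)) (.node (.leaf 393221) (.leaf 524295))) (.node (.node (.leaf 655369) (.leaf 786443)) (.node (.leaf 917517) (.leaf 1048591)))) (.node (.node (.node (.leaf 1179665) (.leaf 1310739)) (.node (.leaf 1441813) (.leaf 1572887))) (.node (.node (.leaf 1703961) (.leaf 1835035)) (.node (.leaf 1966109) (.leaf 2097183))))) (.node (.node (.node (.node (.leaf 2228257) (.leaf 2359331)) (.node (.leaf 2490405) (.leaf 2621479))) (.node (.node (.leaf 2752553) (.leaf 2883627)) (.node (.leaf 3014701) (.leaf 3145775)))) (.node (.node (.node (.leaf 3276849) (.leaf 3407923)) (.node (.leaf 3538997) (.leaf 3670071))) (.node (.node (.leaf 3801145) (.leaf 3932219)) (.node (.leaf 4063293) (.leaf 4128768)))))) (.node (.node (.node (.node (.node (.leaf 4259904) (.leaf 4390978)) (.node (.leaf 4522052) (.leaf 4653126))) (.node (.node (.leaf 4784200) (.leaf 4915274)) (.node (.leaf 5046348) (.leaf 5177422)))) (.node (.node (.node (.leaf 5308496) (.leaf 5439570)) (.node (.leaf 5570644) (.leaf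 5701718))) (.node (.node (.leaf 5832792) (.leaf 5963866)) (.node (.leaf 6094940) (.leaf 6226014))))) (.node (.node (.node (.node (.leaf 6357088) (.leaf 6488162)) (.node (.leaf 6619236) (.leaf 6750310))) (.node (.node (.leaf 6881384) (.leaf 7012458)) (.node (.leaf 7143532) (.leaf 7274606)))) (.node (.node (.node (.leaf 7405680) (.leaf 7536754)) (.node (.leaf 7667828) (.leaf 7798902))) (.node (.node (.leaf 7929976) (.leaf 8061050)) (.node (.leaf 8192124) (.leaf 8323198))))))) (.node (.node (.node (.node (.node (.node (.leaf 8454272) (.leaf 8585346)) (.node (.leaf 8716420) (.leaf 8847494))) (.node (.node (.leaf 8978568) (.leaf 9109642)) (.node (.leaf 9240716) (.leaf 9371790)))) (.node (.node (.node (.leaf 9502864) (.leaf 9633938)) (.node (.leaf 9765012) (.leaf 9896086))) (.node (.node (.leaf 10027160) (.leaf 10158234)) (.node (.leaf 10289308) (.leaf 10420382))))) (.node (.node (.node (.node (.leaf 10551456) (.leaf 10682530)) (.node (.leaf 10813604) (.leaf 10944678))) (.node (.node (.leaf 11075752) (.leaf 11206826)) (.node (.leaf 11337900) (.leaf 11468974)))) (.node (.node (.node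 (.leaf 11600048) (.leaf 11731122)) (.node (.leaf 11862196) (.leaf 11993270))) (.node (.node (.leaf 12124344) (.leaf 12255418)) (.node (.leaf 12320770) (.leaf 12386431)))))) (.node (.node (.node (.node (.node (.leaf 8519870) (.leaf 12583103)) (.node (.leaf 12714177) (.leaf 12845251))) (.node (.node (.leaf 12976325) (.leaf 13107399)) (.node (.leaf 11272393) (.leaf 11403466)))) (.node (.node (.node (.leaf 13369547) (.leaf 13435057)) (.node (.leaf 13566158) (.leaf 13697232))) (.node (.node (.leaf 13828306) (.leaf 13959380)) (.node (.leaf 14024861) (.leaf 14090399))))) (.node (.node (.node (.node (.leaf 10617048) (.leaf 14287065)) (.node (.leaf 14418139) (.leaf 14549213))) (.node (.node (.leaf 14680287) (.leaf 14811361)) (.node (.leaf 14942435) (.leaf 15073509)))) (.node (.node (.node (.leaf 15138963) (.leaf 9437416)) (.node (.leaf 15335657) (.leaf 15466731))) (.node (.node (.leaf 15597805) (.leaf 15728879)) (.node (.leaf 15859953) (.leaf 15991027)))))))) (.node (.node (.node (.node (.node (.node (.node (.leaf 16122101) (.leaf 16253175)) (.node (.leaf 16384249) (.leaf 16515323)))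 (.node (.node (.leaf 16646397) (.leaf 16777471)) (.node (.leaf 16908545) (.leaf 17039619)))) (.node (.node (.node (.leaf 17105003) (.leaf 17170541)) (.node (.leaf 17236073) (.leaf 6684936))) (.node (.node (.leaf 17432841) (.leaf 17563915)) (.node (.leaf 17694989) (.leaf 17826063))))) (.node (.node (.node (.node (.leaf 17957137) (.leaf 18088211)) (.node (.leaf 18219285) (.leaf 18350359))) (.node (.node (.leaf 18481433) (.leaf 18612507)) (.node (.leaf 18743581) (.leaf 18874655)))) (.node (.node (.node (.leaf 18940019) (.leaf 19005557)) (.node (.leaf 19071089) (.leaf 7209252))) (.node (.node (.leaf 19202052) (.leaf 19267590)) (.node (.leaf 15925543) (.leaf 19464488)))))) (.node (.node (.node (.node (.node (.leaf 19595562) (.leaf 19726636)) (.node (.leaf 19857710) (.leaf 19988784))) (.node (.node (.leaf 18415922) (.leaf 18546995)) (.node (.leaf 20250932) (.leaf 20316446)))) (.node (.node (.node (.leaf 20381819) (.leaf 20447357)) (.node (.leaf 20512889) (.leaf 7733562))) (.node (.node (.leaf 20644106) (.leaf 20709644)) (.node (.leaf 17760573) (.leaf 20906302))))) (.node (.node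 (.node (.node (.leaf 21037376) (.leaf 21168450)) (.node (.leaf 21299524) (.leaf 21430598))) (.node (.node (.leaf 21561672) (.leaf 21692746)) (.node (.leaf 21758212) (.leaf 16843085)))) (.node (.node (.node (.leaf 21954894) (.leaf 22085968)) (.node (.leaf 22217042) (.leaf 22282335))) (.node (.node (.leaf 22413653) (.leaf 22479145)) (.node (.leaf 22610264) (.leaf 22741338))))))) (.node (.node (.node (.node (.node (.node (.leaf 22872412) (.leaf 23003486)) (.node (.leaf 23134560) (.leaf 23265634))) (.node (.node (.leaf 23396708) (.leaf 4850022)) (.node (.leaf 4981095) (.leaf 4718952)))) (.node (.node (.node (.leaf 23724393) (.leaf 23855467)) (.node (.leaf 17629549) (.leaf 24052078))) (.node (.node (.leaf 24183152) (.leaf 24314226)) (.node (.leaf 24445300) (.leaf 24576374))))) (.node (.node (.node (.node (.leaf 24707448) (.leaf 24838522)) (.node (.leaf 5374332) (.leaf 5505405))) (.node (.node (.leaf 5243262) (.leaf 25166207)) (.node (.leaf 196950) (.leaf 25297281)))) (.node (.node (.node (.leaf 25428355) (.leaf 25559429)) (.node (.leaf 25690503) (.leaf 24379785))) (.node (.node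 (.leaf 24510858) (.leaf 25952651)) (.node (.leaf 26018169) (.leaf 5898638)))))) (.node (.node (.node (.node (.node (.leaf 6029711) (.leaf 5767568)) (.node (.leaf 26345873) (.leaf 26411372))) (.node (.node (.leaf 26476859) (.leaf 20775317)) (.node (.leaf 20840854) (.leaf 26739095)))) (.node (.node (.node (.leaf 26870169) (.leaf 27001243)) (.node (.leaf 27132317) (.leaf 27197797))) (.node (.node (.leaf 23200160) (.leaf 27328579)) (.node (.leaf 27394117) (.leaf 27459649))))) (.node (.node (.node (.node (.leaf 420) (.leaf 27656613)) (.node (.leaf 27787687) (.leaf 27918761))) (.node (.node (.leaf 28049835) (.leaf 28180909)) (.node (.leaf 28246236) (.leaf 14614960)))) (.node (.node (.node (.leaf 14746033) (.leaf 28442793)) (.node (.leaf 28508331) (.leaf 28573863))) (.node (.node (.leaf 10748341) (.leaf 28770742)) (.node (.leaf 28901816) (.leaf 29032890))))))))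

def k3Next_1 : H52.TCert.Tr := .node (.node (.node (.node (.node (.node (.node (.node (.leaf 29163964) (.leaf 29229118)) (.node (.leaf 3867071) (.leaf 3604928))) (.node (.node (.leaf 3736001) (.leaf 29557186)) (.node (.leaf 29688260) (.leaf 29753523)))) (.node (.node (.node (.leaf 29819055) (.leaf 29884424)) (.node (.leaf 29949962) (.leaf 852426))) (.node (.node (.leaf 30147019) (.leaf 30278093)) (.node (.leaf 30409167) (.leaf 30540241))))) (.node (.node (.node (.node (.leaf 30671315) (.leaf 13631957)) (.node (.leaf 29491670) (.leaf 30867667))) (.node (.node (.leaf 30933205) (.leaf 30998713)) (.node (.leaf 31064251) (.leaf 31129783)))) (.node (.node (.node (.leaf 11796956) (.leaf 31261111)) (.node (.leaf 31326649) (.leaf 29098463))) (.node (.node (.leaf 31523296) (.leaf 3211746)) (.node (.leaf 31719907) (.leaf 31785012)))))) (.node (.node (.node (.node (.node (.leaf 31850550) (.leaf 31982055)) (.node (.leaf 28312041) (.leaf 32178666))) (.node (.node (.leaf 32309740) (.leaf 32440814)) (.node (.leaf 32506316) (.leaf 32637425)))) (.node (.node (.node (.leaf 32768499) (.leaf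 32899573)) (.node (.leaf 32964804) (.leaf 12648952))) (.node (.node (.leaf 33161721) (.leaf 33292795)) (.node (.leaf 8913405) (.leaf 9044478))))) (.node (.node (.node (.node (.leaf 8782335) (.leaf 33620480)) (.node (.leaf 33751554) (.leaf 28967428))) (.node (.node (.leaf 3473925) (.leaf 34013702)) (.node (.leaf 34144776) (.leaf 34275850)))) (.node (.node (.node (.leaf 34406924) (.leaf 9568782)) (.node (.leaf 9306639) (.leaf 459247))) (.node (.node (.leaf 34669072) (.leaf 34800146)) (.node (.leaf 34931220) (.leaf 35062294))))))) (.node (.node (.node (.node (.node (.node (.leaf 15401496) (.leaf 34210329)) (.node (.leaf 35258606) (.leaf 35324144))) (.node (.node (.leaf 9962012) (.leaf 10093085)) (.node (.leaf 9830942) (.leaf 35652127)))) (.node (.node (.node (.leaf 35717635) (.leaf 35783133)) (.node (.leaf 31392291) (.leaf 31457828))) (.node (.node (.leaf 36045349) (.leaf 36110396)) (.node (.leaf 36241960) (.leaf 36373034))))) (.node (.node (.node (.node (.leaf 36438524) (.leaf 33096237)) (.node (.leaf 36569217) (.leaf 36634755))) (.node (.node (.leaf 66096) (.leaf 36766152))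 (.node (.leaf 36831689) (.leaf 36962867)))) (.node (.node (.node (.leaf 10879541) (.leaf 37159478)) (.node (.leaf 37224672) (.leaf 37290210))) (.node (.node (.leaf 37355742) (.leaf 14352872)) (.node (.leaf 37487163) (.leaf 37618237)))))) (.node (.node (.node (.node (.node (.leaf 37749311) (.leaf 37880385)) (.node (.leaf 38011459) (.leaf 38076460))) (.node (.node (.leaf 38141992) (.leaf 38207530)) (.node (.leaf 38339144) (.leaf 38470218)))) (.node (.node (.node (.leaf 38535399) (.leaf 34537702)) (.node (.leaf 14877261) (.leaf 38666252))) (.node (.node (.leaf 38731790) (.leaf 38863440)) (.node (.leaf 38273175) (.leaf 9699922))))) (.node (.node (.node (.node (.leaf 39060051) (.leaf 39125579)) (.node (.leaf 39190764) (.leaf 15270411))) (.node (.node (.leaf 39256636) (.leaf 39322174)) (.node (.leaf 37814873) (.leaf 39518810)))) (.node (.node (.node (.leaf 39583778) (.leaf 2032221)) (.node (.leaf 39780958) (.leaf 39912032))) (.node (.node (.leaf 39977396) (.leaf 40042931)) (.node (.leaf 32113252) (.leaf 40174061)))))))) (.node (.node (.node (.node (.node (.node (.node (.leaf 40239318)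 (.leaf 40370791)) (.node (.leaf 40501865) (.leaf 40632939))) (.node (.node (.leaf 40697989) (.leaf 12911214)) (.node (.leaf 13042220) (.leaf 12780073)))) (.node (.node (.node (.leaf 40829483) (.leaf 40960624)) (.node (.leaf 37683826) (.leaf 41091110))) (.node (.node (.leaf 2294388) (.leaf 2163317)) (.node (.leaf 41288155) (.leaf 41353690))))) (.node (.node (.node (.node (.leaf 13304262) (.leaf 13238904)) (.node (.leaf 41550457) (.leaf 721392))) (.node (.node (.leaf 590459) (.leaf 41747068)) (.node (.leaf 41878142) (.leaf 42009216)))) (.node (.node (.node (.leaf 42074743) (.leaf 13763013)) (.node (.leaf 13894275) (.leaf 42205809))) (.node (.node (.leaf 42271319) (.leaf 39387782)) (.node (.leaf 39453319) (.leaf 2556552)))))) (.node (.node (.node (.node (.node (.leaf 42599049) (.leaf 42664449)) (.node (.leaf 33358476) (.leaf 42795200))) (.node (.node (.leaf 42860733) (.leaf 42992271)) (.node (.leaf 43057473) (.leaf 21234322)))) (.node (.node (.node (.leaf 21365103) (.leaf 43188502)) (.node (.leaf 43254040) (.leaf 26804500))) (.node (.node (.leaf 17891989) (.leaf 24642198))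 (.node (.leaf 24773271) (.leaf 43582104))))) (.node (.node (.node (.node (.leaf 43647069) (.leaf 5636763)) (.node (.leaf 7996060) (.leaf 7864989))) (.node (.node (.leaf 43909408) (.leaf 43974940)) (.node (.leaf 44040208) (.leaf 44105746)))) (.node (.node (.node (.leaf 1376930) (.leaf 44303011)) (.node (.leaf 44434085) (.leaf 44565159))) (.node (.node (.leaf 44696233) (.leaf 44827307)) (.node (.leaf 43778733) (.leaf 44958009))))))) (.node (.node (.node (.node (.node (.node (.leaf 45023523) (.leaf 45089058)) (.node (.leaf 43516593) (.leaf 45286066))) (.node (.node (.leaf 45350995) (.leaf 45416533)) (.node (.leaf 43123382) (.leaf 26542775)))) (.node (.node (.node (.leaf 45679288) (.leaf 45744804)) (.node (.leaf 45875899) (.leaf 46006973))) (.node (.node (.leaf 46138047) (.leaf 46203181)) (.node (.leaf 19530434) (.leaf 46400195))))) (.node (.node (.node (.node (.leaf 46465412) (.leaf 16319174)) (.node (.leaf 16450247) (.leaf 16187739))) (.node (.node (.leaf 46661981) (.leaf 25887433)) (.node (.leaf 25821898) (.leaf 46924491)))) (.node (.node (.node (.leaf 47055565) (.leaf 47120483))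 (.node (.leaf 47186017) (.leaf 16974545))) (.node (.node (.leaf 16712402) (.leaf 983737)) (.node (.leaf 47448787) (.leaf 47579861)))))) (.node (.node (.node (.node (.node (.leaf 47710935) (.leaf 47842009)) (.node (.leaf 22020827) (.leaf 47972691))) (.node (.node (.leaf 48038228) (.leaf 17302238)) (.node (.leaf 48235231) (.leaf 45154677)))) (.node (.node (.node (.leaf 45220215) (.leaf 48300123)) (.node (.leaf 48366277) (.leaf 46334691))) (.node (.node (.leaf 48496882) (.leaf 48562420)) (.node (.leaf 48628384) (.leaf 48693921))))) (.node (.node (.node (.node (.leaf 48825064) (.leaf 18023146)) (.node (.leaf 49021675) (.leaf 24117573))) (.node (.node (.leaf 49086791) (.leaf 49152323)) (.node (.leaf 20971891) (.leaf 27263727)))) (.node (.node (.node (.leaf 27067120) (.leaf 49414897)) (.node (.leaf 49479755) (.leaf 49545287))) (.node (.node (.leaf 49610825) (.leaf 49742582)) (.node (.leaf 49807463) (.leaf 49873228))))))))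

def k3Next_2 : H52.TCert.Tr := .node (.node (.node (.node (.node (.node (.node (.node (.leaf 47317323) (.leaf 21496570)) (.node (.leaf 50003988) (.leaf 50069526))) (.node (.node (.leaf 50201341) (.leaf 49676550)) (.node (.leaf 50332415) (.leaf 50397944)))) (.node (.node (.node (.leaf 50463057) (.leaf 21889743)) (.node (.leaf 22938371) (.leaf 23069444))) (.node (.node (.leaf 50725637) (.leaf 50856711)) (.node (.leaf 50922132) (.leaf 45548298))))) (.node (.node (.node (.node (.leaf 51118859) (.leaf 51249933)) (.node (.leaf 22676239) (.leaf 22806774))) (.node (.node (.leaf 19792656) (.leaf 19923682)) (.node (.leaf 19661190) (.leaf 51446152)))) (.node (.node (.node (.leaf 51511651) (.leaf 49283425)) (.node (.leaf 4326163) (.leaf 4195092))) (.node (.node (.leaf 51708592) (.leaf 51773551)) (.node (.leaf 20185758) (.leaf 20120343)))))) (.node (.node (.node (.node (.node (.leaf 51970840) (.leaf 1245882)) (.node (.leaf 1114906) (.leaf 52167451))) (.node (.node (.leaf 52298525) (.leaf 52429599)) (.node (.leaf 52495126) (.leaf 20579106)))) (.node (.node (.node (.leaf 52626194) (.leaf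 52691359)) (.node (.leaf 50528668) (.leaf 50594206))) (.node (.node (.leaf 4588325) (.leaf 52888358)) (.node (.leaf 52953800) (.leaf 46531369))))) (.node (.node (.node (.node (.leaf 53084454) (.leaf 52036395)) (.node (.leaf 44171988) (.leaf 45482353))) (.node (.node (.leaf 23986988) (.leaf 53347117)) (.node (.leaf 51839791) (.leaf 51904794)))) (.node (.node (.node (.leaf 53543728) (.leaf 53674802)) (.node (.leaf 46727547) (.leaf 46071832))) (.node (.node (.leaf 48758810) (.leaf 1901324)) (.node (.leaf 53740302) (.leaf 44368670))))))) (.node (.node (.node (.node (.node (.node (.leaf 44499672) (.leaf 53805782)) (.node (.leaf 52101802) (.leaf 26149686))) (.node (.node (.leaf 53478113) (.leaf 43712914)) (.node (.leaf 53936512) (.leaf 24904396)))) (.node (.node (.node (.leaf 54002478) (.leaf 54067509)) (.node (.leaf 7340832) (.leaf 54133537))) (.node (.node (.leaf 54264635) (.leaf 54395709)) (.node (.leaf 54526783) (.leaf 54592308))))) (.node (.node (.node (.node (.leaf 48431407) (.leaf 25362737)) (.node (.leaf 53412511) (.leaf 7603010))) (.node (.node (.leaf 54788931) (.leaf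 52363951)) (.node (.leaf 23331653) (.leaf 1508160)))) (.node (.node (.node (.leaf 51053244) (.leaf 54919964)) (.node (.leaf 47645438) (.leaf 47776422))) (.node (.node (.leaf 51577606) (.leaf 54985123)) (.node (.leaf 23593800) (.leaf 23659252)))))) (.node (.node (.node (.node (.node (.leaf 23528178) (.leaf 52822771)) (.node (.leaf 18678584) (.leaf 52560713))) (.node (.node (.leaf 51380932) (.leaf 15794519)) (.node (.leaf 328522) (.leaf 55247258)))) (.node (.node (.node (.leaf 55312658) (.leaf 18153880)) (.node (.leaf 18285372) (.leaf 47252301))) (.node (.node (.leaf 55509838) (.leaf 55574857)) (.node (.leaf 55640141) (.leaf 26936146))))) (.node (.node (.node (.node (.leaf 51183644) (.leaf 45809694)) (.node (.leaf 50135720) (.leaf 23462695))) (.node (.node (.leaf 55771893) (.leaf 50790818)) (.node (.leaf 55837519) (.leaf 6161237)))) (.node (.node (.node (.leaf 50987280) (.leaf 17367870)) (.node (.leaf 17498515) (.leaf 47383292))) (.node (.node (.leaf 53019478) (.leaf 56033625)) (.node (.leaf 25494360) (.leaf 25624875)))))))) (.node (.node (.node (.node (.node (.node (.node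 (.leaf 47906917) (.leaf 6423385)) (.node (.leaf 6292188) (.leaf 5112631))) (.node (.node (.leaf 1770305) (.leaf 1639102)) (.node (.leaf 44761946) (.leaf 52232922)))) (.node (.node (.node (.leaf 46990171) (.leaf 26215219)) (.node (.leaf 26280796) (.leaf 21627741))) (.node (.node (.leaf 48169822) (.leaf 51315551)) (.node (.leaf 19333506) (.leaf 15663968))))) (.node (.node (.node (.node (.leaf 34341729) (.leaf 56820578)) (.node (.leaf 38404251) (.leaf 12059492))) (.node (.node (.leaf 11928421) (.leaf 13500867)) (.node (.leaf 57016352) (.leaf 2425703)))) (.node (.node (.node (.leaf 37552772) (.leaf 57148037)) (.node (.leaf 56885889) (.leaf 57213383))) (.node (.node (.leaf 56754774) (.leaf 57278609)) (.node (.leaf 3343211) (.leaf 35849068)))))) (.node (.node (.node (.node (.node (.leaf 39650157) (.leaf 41157215)) (.node (.leaf 37946222) (.leaf 57672559))) (.node (.node (.leaf 57737798) (.leaf 38797776)) (.node (.leaf 30212735) (.leaf 57803389)))) (.node (.node (.node (.leaf 57868819) (.leaf 27853684)) (.node (.leaf 27984488) (.leaf 27722228))) (.node (.node (.leaf 57999862) (.leaf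 35193718)) (.node (.leaf 58196855) (.leaf 58261665))))) (.node (.node (.node (.node (.leaf 28377978) (.leaf 37421947)) (.node (.leaf 42337148) (.leaf 42402368))) (.node (.node (.leaf 28639799) (.leaf 58590077)) (.node (.leaf 58654873) (.leaf 58721139)))) (.node (.node (.node (.leaf 58786662) (.leaf 58851932)) (.node (.leaf 58917447) (.leaf 29295492))) (.node (.node (.leaf 59114373) (.leaf 33948133)) (.node (.leaf 59179494) (.leaf 59245028))))))) (.node (.node (.node (.node (.node (.node (.leaf 31588873) (.leaf 36503750)) (.node (.leaf 36307138) (.leaf 59376521))) (.node (.node (.leaf 59441289) (.leaf 59506823)) (.node (.leaf 59572835) (.leaf 59637925)))) (.node (.node (.node (.leaf 14484367) (.leaf 59768868)) (.node (.leaf 59834946) (.leaf 37028754))) (.node (.node (.leaf 37094286) (.leaf 14156267)) (.node (.leaf 14222201) (.leaf 33030767))))) (.node (.node (.node (.node (.leaf 60031891) (.leaf 60096570)) (.node (.leaf 57410454) (.leaf 60228164))) (.node (.node (.leaf 42533445) (.leaf 32703028)) (.node (.leaf 32833958) (.leaf 30475160)))) (.node (.node (.node (.leaf 30606208)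 (.leaf 30343701)) (.node (.leaf 41812503) (.leaf 40763898))) (.node (.node (.leaf 8389261) (.leaf 8258457)) (.node (.leaf 41484461) (.leaf 30802842)))))) (.node (.node (.node (.node (.node (.leaf 60556187) (.leaf 31196061)) (.node (.leaf 8651403) (.leaf 42730398))) (.node (.node (.leaf 60752757) (.leaf 57934752)) (.node (.leaf 41223073) (.leaf 57082465)))) (.node (.node (.node (.leaf 57344519) (.leaf 33883042)) (.node (.leaf 61080483) (.leaf 60424399))) (.node (.node (.leaf 60489937) (.leaf 61145673)) (.node (.leaf 15532557) (.leaf 2950039))))) (.node (.node (.node (.node (.leaf 41026139) (.leaf 35455573)) (.node (.leaf 38994815) (.leaf 38928928))) (.node (.node (.leaf 61210852) (.leaf 15205240)) (.node (.leaf 42140580) (.leaf 61276631)))) (.node (.node (.node (.leaf 61342330) (.leaf 61473705)) (.node (.leaf 61604779) (.leaf 42468269))) (.node (.node (.leaf 61735562) (.leaf 41681362)) (.node (.leaf 34734548) (.leaf 11666351))))))))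

def k3Next_3 : H52.TCert.Tr := .node (.node (.node (.node (.node (.node (.node (.node (.leaf 61932464) (.leaf 41419625)) (.node (.leaf 33227698) (.leaf 40895064))) (.node (.node (.leaf 58459025) (.leaf 33489516)) (.node (.leaf 33555053) (.leaf 33424266)))) (.node (.node (.node (.leaf 60687243) (.leaf 60621747)) (.node (.leaf 60294002) (.leaf 62128679))) (.node (.node (.leaf 62194110) (.leaf 29360678)) (.node (.leaf 29426602) (.leaf 58327990))))) (.node (.node (.node (.node (.leaf 62324875) (.leaf 36176824)) (.node (.leaf 57540654) (.leaf 40567692))) (.node (.node (.leaf 59965999) (.leaf 62456376)) (.node (.leaf 10224570) (.leaf 60162493)))) (.node (.node (.node (.leaf 28705708) (.leaf 28836385)) (.node (.leaf 39846515) (.leaf 60818026))) (.node (.node (.leaf 40305138) (.leaf 34865745)) (.node (.leaf 34996686) (.leaf 40108195)))))) (.node (.node (.node (.node (.node (.leaf 10486715) (.leaf 10355301)) (.node (.leaf 9175974) (.leaf 2818990))) (.node (.node (.leaf 2687856) (.leaf 15008700)) (.node (.leaf 35521445) (.leaf 35587005)))) (.node (.node (.node (.leaf 31916990) (.leaf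 58524607)) (.node (.leaf 30016017) (.leaf 39715728))) (.node (.node (.leaf 62718101) (.leaf 62914608)) (.node (.leaf 62980146) (.leaf 35914171))))) (.node (.node (.node (.node (.leaf 56951746) (.leaf 62063555)) (.node (.leaf 61800652) (.leaf 61866189))) (.node (.node (.leaf 35980228) (.leaf 36897192)) (.node (.leaf 41943513) (.leaf 32243927)))) (.node (.node (.node (.leaf 3081096) (.leaf 60949383)) (.node (.leaf 63242854) (.leaf 63046262))) (.node (.node (.leaf 63111349) (.leaf 32375345)) (.node (.leaf 63308338) (.leaf 31654848))))))) (.node (.node (.node (.node (.node (.node (.leaf 34079681) (.leaf 61408149)) (.node (.leaf 62259769) (.leaf 59703726))) (.node (.node (.leaf 62783919) (.leaf 57607043)) (.node (.leaf 40436138) (.leaf 12452756)))) (.node (.node (.node (.leaf 58131306) (.leaf 62652559)) (.node (.leaf 34603599) (.leaf 29623207))) (.node (.node (.leaf 63374236) (.leaf 63176760)) (.node (.leaf 3998598) (.leaf 58983348))))) (.node (.node (.node (.node (.leaf 33685982) (.leaf 35390036)) (.node (.leaf 58393448) (.leaf 34472904))) (.node (.node (.leaf 59048885) (.leaf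 63505038)) (.node (.leaf 11142090) (.leaf 59900514)))) (.node (.node (.node (.leaf 61997256) (.leaf 62390775)) (.node (.leaf 27591583) (.leaf 62587098))) (.node (.node (.leaf 13173672) (.leaf 33817057)) (.node (.leaf 30737351) (.leaf 32048057)))))) (.node (.node (.node (.node (.node (.leaf 63635519) (.leaf 4457420)) (.node (.leaf 49218339) (.leaf 63767332))) (.node (.node (.leaf 6554370) (.leaf 55443714)) (.node (.leaf 27526094) (.leaf 49349457)))) (.node (.node (.node (.leaf 54461120) (.leaf 26607886)) (.node (.leaf 43320044) (.leaf 63897863))) (.node (.node (.leaf 56230709) (.leaf 63964107)) (.node (.leaf 26084145) (.leaf 46858932))))) (.node (.node (.node (.node (.leaf 64029365) (.leaf 25035470)) (.node (.leaf 64094458) (.leaf 56557816))) (.node (.node (.leaf 54199049) (.leaf 21103571)) (.node (.leaf 55705951) (.leaf 48890699)))) (.node (.node (.node (.leaf 48956236) (.leaf 46269201)) (.node (.leaf 64225369) (.leaf 45941481))) (.node (.node (.leaf 44630997) (.leaf 44893142)) (.node (.leaf 64488407) (.leaf 7472089)))))))) (.node (.node (.node (.node (.node (.node (.node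 (.leaf 16057128) (.leaf 51643354)) (.node (.leaf 63701768) (.leaf 24970203))) (.node (.node (.leaf 55116764) (.leaf 64356663)) (.node (.leaf 64422200) (.leaf 64815863)))) (.node (.node (.node (.leaf 22151888) (.leaf 48104193)) (.node (.leaf 50267087) (.leaf 6947552))) (.node (.node (.leaf 21824340) (.leaf 64881326)) (.node (.leaf 64946969) (.leaf 65078240))))) (.node (.node (.node (.node (.leaf 52756842) (.leaf 47514284)) (.node (.leaf 18809657) (.leaf 46596951))) (.node (.node (.leaf 55968722) (.leaf 64553796)) (.node (.leaf 64291654) (.leaf 65143450)))) (.node (.node (.node (.leaf 22544636) (.leaf 25232101)) (.node (.leaf 25756313) (.leaf 43385825))) (.node (.node (.leaf 43450764) (.leaf 16581456)) (.node (.leaf 7078877) (.leaf 24249315)))))) (.node (.node (.node (.node (.node (.leaf 26674148) (.leaf 50659745)) (.node (.leaf 56492293) (.leaf 65339471))) (.node (.node (.leaf 56295505) (.leaf 53281078)) (.node (.leaf 23789884) (.leaf 64685009)))) (.node (.node (.node (.leaf 54329748) (.leaf 54657813)) (.node (.leaf 54722849) (.leaf 45613798))) (.node (.node (.leaf 53150439)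 (.leaf 25101285)) (.node (.leaf 53609428) (.leaf 53215981))))) (.node (.node (.node (.node (.leaf 64160400) (.leaf 65208977)) (.node (.leaf 55051091) (.leaf 56426752))) (.node (.node (.leaf 43844574) (.leaf 65405912)) (.node (.leaf 56361047) (.leaf 6816512)))) (.node (.node (.node (.leaf 54854605) (.leaf 53871586)) (.node (.leaf 65471274) (.leaf 56099521))) (.node (.node (.leaf 23920959) (.leaf 20055007)) (.node (.leaf 46793395) (.leaf 8127462))))))) (.node (.node (.node (.node (.node (.node (.leaf 55903208) (.leaf 56164687)) (.node (.leaf 55378681) (.leaf 49938686))) (.node (.node (.leaf 19137338) (.leaf 22348777)) (.node (.leaf 44237563) (.leaf 65012109)))) (.node (.node (.node (.leaf 65274515) (.leaf 19399396)) (.node (.leaf 64749687) (.leaf 36701162))) (.node (.node (.leaf 59311031) (.leaf 61670257)) (.node (.leaf 65732796) (.leaf 11535340))))) (.node (.node (.node (.node (.leaf 60359625) (.leaf 63570829)) (.node (.leaf 11010942) (.leaf 65930221))) (.node (.node (.leaf 65799089) (.leaf 32571820)) (.node (.leaf 35128163) (.leaf 56624110)))) (.node (.node (.node (.leaf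 56689178) (.leaf 28115514)) (.node (.leaf 12517934) (.leaf 62849458))) (.node (.node (.leaf 38600845) (.leaf 61014488)) (.node (.leaf 63439436) (.leaf 61538850)))))) (.node (.node (.node (.node (.node (.leaf 57475969) (.leaf 60883842)) (.node (.leaf 65995394) (.leaf 58065130))) (.node (.node (.leaf 12190703) (.leaf 62522309)) (.node (.leaf 65864219) (.leaf 30081614)))) (.node (.node (.node (.leaf 65668075) (.leaf 41616326)) (.node (.leaf 65601829) (.leaf 55182311))) (.node (.node (.leaf 42926830) (.leaf 63833040)) (.node (.leaf 64619335) (.leaf 65536733))))) (.leaf 0))))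

def k3Next : H52.TCert.Tr := .node (.node (k3Next_0) (k3Next_1)) (.node (k3Next_2) (k3Next_3))

def k3Wit_0 : H52.TCert.Tr := .node (.node (.node (.node (.node (.node (.node (.node (.leaf 5) (.leaf 0)) (.node (.leaf 0) (.leaf 0))) (.node (.node (.leaf 0) (.leaf 0)) (.node (.leaf 0) (.leaf 5)))) (.node (.node (.node (.leaf 0) (.leaf 0)) (.node (.leaf 0) (.leaf 0))) (.node (.node (.leaf 0) (.leaf 0)) (.node (.leaf 0) (.leaf 0))))) (.node (.node (.node (.node (.leaf 0) (.leaf 0)) (.node (.leaf 0) (.leaf 0))) (.node (.node (.leaf 0) (.leaf 0)) (.node (.leaf 0) (.leaf 0)))) (.node (.node (.node (.leaf 0) (.leaf 0)) (.node (.leaf 0) (.leaf 0))) (.node (.node (.leaf 0) (.leaf 0)) (.node (.leaf 5) (.leaf 0)))))) (.node (.node (.node (.node (.node (.leaf 0) (.leaf 0)) (.node (.leaf 0) (.leaf 0))) (.node (.node (.leaf 0) (.leaf 0)) (.node (.leaf 0) (.leaf 0)))) (.node (.node (.node (.leaf 0) (.leaf 0)) (.node (.leaf 5) (.leaf 0))) (.node (.node (.leaf 5) (.leaf 0)) (.node (.leaf 0) (.leaf 0))))) (.node (.node (.node (.node (.leaf 0) (.leaf 0)) (.node (.leaf 0) (.leaf 0))) (.node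 (.node (.leaf 5) (.leaf 5)) (.node (.leaf 0) (.leaf 0)))) (.node (.node (.node (.leaf 0) (.leaf 5)) (.node (.leaf 0) (.leaf 0))) (.node (.node (.leaf 0) (.leaf 0)) (.node (.leaf 0) (.leaf 1))))))) (.node (.node (.node (.node (.node (.node (.leaf 1) (.leaf 5)) (.node (.leaf 1) (.leaf 0))) (.node (.node (.leaf 5) (.leaf 0)) (.node (.leaf 1) (.leaf 0)))) (.node (.node (.node (.leaf 0) (.leaf 0)) (.node (.leaf 5) (.leaf 0))) (.node (.node (.leaf 0) (.leaf 0)) (.node (.leaf 1) (.leaf 0))))) (.node (.node (.node (.node (.leaf 0) (.leaf 0)) (.node (.leaf 0) (.leaf 0))) (.node (.node (.leaf 0) (.leaf 0)) (.node (.leaf 5) (.leaf 0)))) (.node (.node (.node (.leaf 0) (.leaf 0)) (.node (.leaf 0) (.leaf 0))) (.node (.node (.leaf 0) (.leaf 0)) (.node (.leaf 1) (.leaf 5)))))) (.node (.node (.node (.node (.node (.leaf 0) (.leaf 0)) (.node (.leaf 0) (.leaf 0))) (.node (.node (.leaf 0) (.leaf 0)) (.node (.leaf 1) (.leaf 0)))) (.node (.node (.node (.leaf 0) (.leaf 0)) (.node (.leaf 0) (.leaf 0))) (.node (.node (.leaf 0) (.leaf 0)) (.node (.leaf 5) (.leaf 0))))) (.node (.node (.node (.node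 (.leaf 0) (.leaf 0)) (.node (.leaf 0) (.leaf 0))) (.node (.node (.leaf 0) (.leaf 0)) (.node (.leaf 1) (.leaf 0)))) (.node (.node (.node (.leaf 0) (.leaf 0)) (.node (.leaf 0) (.leaf 0))) (.node (.node (.leaf 0) (.leaf 0)) (.node (.leaf 0) (.leaf 0)))))))) (.node (.node (.node (.node (.node (.node (.node (.leaf 0) (.leaf 0)) (.node (.leaf 0) (.leaf 0))) (.node (.node (.leaf 0) (.leaf 1)) (.node (.leaf 0) (.leaf 0)))) (.node (.node (.node (.leaf 0) (.leaf 0)) (.node (.leaf 0) (.leaf 0))) (.node (.node (.leaf 0) (.leaf 0)) (.node (.leaf 0) (.leaf 5))))) (.node (.node (.node (.node (.leaf 0) (.leaf 0)) (.node (.leaf 0) (.leaf 5))) (.node (.node (.leaf 0) (.leaf 5)) (.node (.leaf 0) (.leaf 0)))) (.node (.node (.node (.leaf 0) (.leaf 5)) (.node (.leaf 0) (.leaf 0))) (.node (.node (.leaf 0) (.leaf 0)) (.node (.leaf 0) (.leaf 0)))))) (.node (.node (.node (.node (.node (.leaf 0) (.leaf 0)) (.node (.leaf 5) (.leaf 5))) (.node (.node (.leaf 0) (.leaf 1)) (.node (.leaf 0) (.leaf 0)))) (.node (.node (.node (.leaf 0) (.leaf 0)) (.node (.leaf 5) (.leaf 0))) (.node (.node (.leaf 0) (.leaf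 0)) (.node (.leaf 5) (.leaf 0))))) (.node (.node (.node (.node (.leaf 0) (.leaf 0)) (.node (.leaf 0) (.leaf 0))) (.node (.node (.leaf 0) (.leaf 5)) (.node (.leaf 5) (.leaf 0)))) (.node (.node (.node (.leaf 0) (.leaf 0)) (.node (.leaf 0) (.leaf 0))) (.node (.node (.leaf 0) (.leaf 0)) (.node (.leaf 0) (.leaf 0))))))) (.node (.node (.node (.node (.node (.node (.leaf 0) (.leaf 0)) (.node (.leaf 5) (.leaf 0))) (.node (.node (.leaf 5) (.leaf 5)) (.node (.leaf 0) (.leaf 5)))) (.node (.node (.node (.leaf 0) (.leaf 0)) (.node (.leaf 0) (.leaf 0))) (.node (.node (.leaf 0) (.leaf 0)) (.node (.leaf 0) (.leaf 1))))) (.node (.node (.node (.node (.leaf 0) (.leaf 0)) (.node (.leaf 5) (.leaf 0))) (.node (.node (.leaf 0) (.leaf 0)) (.node (.leaf 0) (.leaf 0)))) (.node (.node (.node (.leaf 5) (.leaf 0)) (.node (.leaf 0) (.leaf 0))) (.node (.node (.leaf 5) (.leaf 0)) (.node (.leaf 0) (.leaf 0)))))) (.node (.node (.node (.node (.node (.leaf 0) (.leaf 0)) (.node (.leaf 0) (.leaf 0))) (.node (.node (.leaf 0) (.leaf 5)) (.node (.leaf 0) (.leaf 0)))) (.node (.node (.node (.leaf 0) (.leaf 0)) (.node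 (.leaf 1) (.leaf 0))) (.node (.node (.leaf 0) (.leaf 0)) (.node (.leaf 0) (.leaf 0))))) (.node (.node (.node (.node (.leaf 0) (.leaf 0)) (.node (.leaf 0) (.leaf 0))) (.node (.node (.leaf 0) (.leaf 0)) (.node (.leaf 0) (.leaf 0)))) (.node (.node (.node (.leaf 0) (.leaf 0)) (.node (.leaf 0) (.leaf 0))) (.node (.node (.leaf 0) (.leaf 0)) (.node (.leaf 0) (.leaf 0))))))))

def k3Wit_1 : H52.TCert.Tr := .node (.node (.node (.node (.node (.node (.node (.node (.leaf 0) (.leaf 0)) (.node (.leaf 0) (.leaf 0))) (.node (.node (.leaf 0) (.leaf 0)) (.node (.leaf 0) (.leaf 0)))) (.node (.node (.node (.leaf 0) (.leaf 0)) (.node (.leaf 0) (.leaf 0))) (.node (.node (.leaf 0) (.leaf 0)) (.node (.leaf 1) (.leaf 0))))) (.node (.node (.node (.node (.leaf 0) (.leaf 0)) (.node (.leaf 1) (.leaf 0))) (.node (.node (.leaf 0) (.leaf 0)) (.node (.leaf 0) (.leaf 0)))) (.node (.node (.node (.leaf 0) (.leaf 0)) (.node (.leaf 0) (.leaf 0))) (.node (.node (.leaf 5) (.leaf 0)) (.node (.leaf 0) (.leaf 0)))))) (.node (.node (.node (.node (.node (.leaf 0) (.leaf 0)) (.node (.leaf 0) (.leaf 0))) (.node (.node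 (.leaf 0) (.leaf 0)) (.node (.leaf 0) (.leaf 0)))) (.node (.node (.node (.leaf 0) (.leaf 0)) (.node (.leaf 0) (.leaf 1))) (.node (.node (.leaf 1) (.leaf 0)) (.node (.leaf 0) (.leaf 0))))) (.node (.node (.node (.node (.leaf 0) (.leaf 0)) (.node (.leaf 0) (.leaf 1))) (.node (.node (.leaf 0) (.leaf 0)) (.node (.leaf 0) (.leaf 0)))) (.node (.node (.node (.leaf 0) (.leaf 0)) (.node (.leaf 0) (.leaf 0))) (.node (.node (.leaf 0) (.leaf 0)) (.node (.leaf 5) (.leaf 0))))))) (.node (.node (.node (.node (.node (.node (.leaf 0) (.leaf 0)) (.node (.leaf 0) (.leaf 0))) (.node (.node (.leaf 0) (.leaf 0)) (.node (.leaf 0) (.leaf 0)))) (.node (.node (.node (.leaf 0) (.leaf 0)) (.node (.leaf 0) (.leaf 0))) (.node (.node (.leaf 0) (.leaf 0)) (.node (.leaf 0) (.leaf 0))))) (.node (.node (.node (.node (.leaf 0) (.leaf 0)) (.node (.leaf 0) (.leaf 0))) (.node (.node (.leaf 1) (.leaf 0)) (.node (.leaf 0) (.leaf 0)))) (.node (.node (.node (.leaf 0) (.leaf 0)) (.node (.leaf 0) (.leaf 0))) (.node (.node (.leaf 0) (.leaf 0)) (.node (.leaf 0) (.leaf 0)))))) (.node (.node (.node (.node (.node (.leaf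 1) (.leaf 0)) (.node (.leaf 1) (.leaf 0))) (.node (.node (.leaf 0) (.leaf 0)) (.node (.leaf 0) (.leaf 0)))) (.node (.node (.node (.leaf 0) (.leaf 0)) (.node (.leaf 5) (.leaf 0))) (.node (.node (.leaf 0) (.leaf 1)) (.node (.leaf 0) (.leaf 0))))) (.node (.node (.node (.node (.leaf 0) (.leaf 0)) (.node (.leaf 0) (.leaf 0))) (.node (.node (.leaf 0) (.leaf 0)) (.node (.leaf 0) (.leaf 0)))) (.node (.node (.node (.leaf 0) (.leaf 0)) (.node (.leaf 0) (.leaf 0))) (.node (.node (.leaf 0) (.leaf 0)) (.node (.leaf 0) (.leaf 0)))))))) (.node (.node (.node (.node (.node (.node (.node (.leaf 1) (.leaf 0)) (.node (.leaf 0) (.leaf 0))) (.node (.node (.leaf 0) (.leaf 5)) (.node (.leaf 0) (.leaf 0)))) (.node (.node (.node (.leaf 5) (.leaf 0)) (.node (.leaf 0) (.leaf 0))) (.node (.node (.leaf 0) (.leaf 0)) (.node (.leaf 0) (.leaf 0))))) (.node (.node (.node (.node (.leaf 0) (.leaf 0)) (.node (.leaf 1) (.leaf 0))) (.node (.node (.leaf 0) (.leaf 0)) (.node (.leaf 0) (.leaf 0)))) (.node (.node (.node (.leaf 0) (.leaf 0)) (.node (.leaf 0) (.leaf 0))) (.node (.node (.leaf 0) (.leaf 0)) (.node (.leaf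 5) (.leaf 0)))))) (.node (.node (.node (.node (.node (.leaf 0) (.leaf 5)) (.node (.leaf 1) (.leaf 1))) (.node (.node (.leaf 1) (.leaf 0)) (.node (.leaf 5) (.leaf 0)))) (.node (.node (.node (.leaf 0) (.leaf 0)) (.node (.leaf 0) (.leaf 0))) (.node (.node (.leaf 0) (.leaf 0)) (.node (.leaf 0) (.leaf 0))))) (.node (.node (.node (.node (.leaf 0) (.leaf 0)) (.node (.leaf 0) (.leaf 5))) (.node (.node (.leaf 0) (.leaf 1)) (.node (.leaf 0) (.leaf 0)))) (.node (.node (.node (.leaf 0) (.leaf 0)) (.node (.leaf 5) (.leaf 0))) (.node (.node (.leaf 0) (.leaf 0)) (.node (.leaf 0) (.leaf 0))))))) (.node (.node (.node (.node (.node (.node (.leaf 0) (.leaf 0)) (.node (.leaf 0) (.leaf 1))) (.node (.node (.leaf 5) (.leaf 0)) (.node (.leaf 0) (.leaf 5)))) (.node (.node (.node (.leaf 5) (.leaf 0)) (.node (.leaf 0) (.leaf 0))) (.node (.node (.leaf 0) (.leaf 5)) (.node (.leaf 5) (.leaf 0))))) (.node (.node (.node (.node (.leaf 0) (.leaf 0)) (.node (.leaf 0) (.leaf 0))) (.node (.node (.leaf 0) (.leaf 0)) (.node (.leaf 1) (.leaf 5)))) (.node (.node (.node (.leaf 0) (.leaf 0)) (.node (.leaf 0) (.leaf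 5))) (.node (.node (.leaf 5) (.leaf 0)) (.node (.leaf 0) (.leaf 0)))))) (.node (.node (.node (.node (.node (.leaf 0) (.leaf 5)) (.node (.leaf 0) (.leaf 0))) (.node (.node (.leaf 0) (.leaf 0)) (.node (.leaf 5) (.leaf 0)))) (.node (.node (.node (.leaf 5) (.leaf 0)) (.node (.leaf 5) (.leaf 5))) (.node (.node (.leaf 0) (.leaf 0)) (.node (.leaf 5) (.leaf 0))))) (.node (.node (.node (.node (.leaf 0) (.leaf 0)) (.node (.leaf 0) (.leaf 0))) (.node (.node (.leaf 0) (.leaf 0)) (.node (.leaf 5) (.leaf 0)))) (.node (.node (.node (.leaf 5) (.leaf 0)) (.node (.leaf 5) (.leaf 0))) (.node (.node (.leaf 5) (.leaf 0)) (.node (.leaf 0) (.leaf 0))))))))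

def k3Wit_2 : H52.TCert.Tr := .node (.node (.node (.node (.node (.node (.node (.node (.leaf 1) (.leaf 0)) (.node (.leaf 0) (.leaf 0))) (.node (.node (.leaf 0) (.leaf 0)) (.node (.leaf 5) (.leaf 0)))) (.node (.node (.node (.leaf 0) (.leaf 0)) (.node (.leaf 0) (.leaf 1))) (.node (.node (.leaf 0) (.leaf 0)) (.node (.leaf 5) (.leaf 5))))) (.node (.node (.node (.node (.leaf 0) (.leaf 0)) (.node (.leaf 0) (.leaf 0))) (.node (.node (.leaf 0) (.leaf 0)) (.node (.leaf 5) (.leaf 5)))) (.node (.node (.node (.leaf 0) (.leaf 1)) (.node (.leaf 0) (.leaf 0))) (.node (.node (.leaf 5) (.leaf 0)) (.node (.leaf 0) (.leaf 5)))))) (.node (.node (.node (.node (.node (.leaf 0) (.leaf 0)) (.node (.leaf 0) (.leaf 0))) (.node (.node (.leaf 5) (.leaf 0)) (.node (.leaf 0) (.leaf 0)))) (.node (.node (.node (.leaf 0) (.leaf 5)) (.node (.leaf 0) (.leaf 5))) (.node (.node (.leaf 0) (.leaf 5)) (.node (.leaf 0) (.leaf 0))))) (.node (.node (.node (.node (.leaf 0) (.leaf 0)) (.node (.leaf 0) (.leaf 0))) (.node (.node (.leaf 0) (.leaf 0)) (.node (.leaf 1) (.leaf 0)))) (.node (.node (.node (.leaf 0) (.leaf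 0)) (.node (.leaf 0) (.leaf 5))) (.node (.node (.leaf 0) (.leaf 0)) (.node (.leaf 0) (.leaf 5))))))) (.node (.node (.node (.node (.node (.node (.leaf 0) (.leaf 0)) (.node (.leaf 0) (.leaf 0))) (.node (.node (.leaf 0) (.leaf 0)) (.node (.leaf 0) (.leaf 0)))) (.node (.node (.node (.leaf 0) (.leaf 0)) (.node (.leaf 0) (.leaf 0))) (.node (.node (.leaf 5) (.leaf 0)) (.node (.leaf 0) (.leaf 0))))) (.node (.node (.node (.node (.leaf 0) (.leaf 0)) (.node (.leaf 5) (.leaf 5))) (.node (.node (.leaf 0) (.leaf 0)) (.node (.leaf 0) (.leaf 5)))) (.node (.node (.node (.leaf 0) (.leaf 0)) (.node (.leaf 0) (.leaf 5))) (.node (.node (.leaf 0) (.leaf 0)) (.node (.leaf 0) (.leaf 0)))))) (.node (.node (.node (.node (.node (.leaf 0) (.leaf 0)) (.node (.leaf 0) (.leaf 0))) (.node (.node (.leaf 5) (.leaf 0)) (.node (.leaf 0) (.leaf 0)))) (.node (.node (.node (.leaf 0) (.leaf 0)) (.node (.leaf 0) (.leaf 0))) (.node (.node (.leaf 0) (.leaf 0)) (.node (.leaf 0) (.leaf 0))))) (.node (.node (.node (.node (.leaf 0) (.leaf 0)) (.node (.leaf 0) (.leaf 0))) (.node (.node (.leaf 0) (.leaf 0)) (.node (.leaf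 0) (.leaf 0)))) (.node (.node (.node (.leaf 5) (.leaf 0)) (.node (.leaf 0) (.leaf 0))) (.node (.node (.leaf 0) (.leaf 0)) (.node (.leaf 5) (.leaf 5)))))))) (.node (.node (.node (.node (.node (.node (.node (.leaf 0) (.leaf 0)) (.node (.leaf 0) (.leaf 0))) (.node (.node (.leaf 0) (.leaf 0)) (.node (.leaf 0) (.leaf 5)))) (.node (.node (.node (.leaf 0) (.leaf 5)) (.node (.leaf 0) (.leaf 1))) (.node (.node (.leaf 0) (.leaf 0)) (.node (.leaf 0) (.leaf 0))))) (.node (.node (.node (.node (.leaf 0) (.leaf 0)) (.node (.leaf 0) (.leaf 0))) (.node (.node (.leaf 0) (.leaf 5)) (.node (.leaf 0) (.leaf 0)))) (.node (.node (.node (.leaf 0) (.leaf 0)) (.node (.leaf 0) (.leaf 0))) (.node (.node (.leaf 0) (.leaf 0)) (.node (.leaf 0) (.leaf 0)))))) (.node (.node (.node (.node (.node (.leaf 0) (.leaf 0)) (.node (.leaf 0) (.leaf 0))) (.node (.node (.leaf 0) (.leaf 0)) (.node (.leaf 1) (.leaf 0)))) (.node (.node (.node (.leaf 0) (.leaf 0)) (.node (.leaf 0) (.leaf 0))) (.node (.node (.leaf 0) (.leaf 0)) (.node (.leaf 0) (.leaf 0))))) (.node (.node (.node (.node (.leaf 0) (.leaf 0)) (.node (.leaf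 0) (.leaf 0))) (.node (.node (.leaf 0) (.leaf 0)) (.node (.leaf 0) (.leaf 0)))) (.node (.node (.node (.leaf 0) (.leaf 0)) (.node (.leaf 0) (.leaf 0))) (.node (.node (.leaf 1) (.leaf 0)) (.node (.leaf 0) (.leaf 0))))))) (.node (.node (.node (.node (.node (.node (.leaf 0) (.leaf 1)) (.node (.leaf 1) (.leaf 0))) (.node (.node (.leaf 0) (.leaf 0)) (.node (.leaf 0) (.leaf 0)))) (.node (.node (.node (.leaf 0) (.leaf 0)) (.node (.leaf 0) (.leaf 0))) (.node (.node (.leaf 0) (.leaf 0)) (.node (.leaf 0) (.leaf 0))))) (.node (.node (.node (.node (.leaf 0) (.leaf 0)) (.node (.leaf 0) (.leaf 0))) (.node (.node (.leaf 0) (.leaf 0)) (.node (.leaf 0) (.leaf 0)))) (.node (.node (.node (.leaf 0) (.leaf 0)) (.node (.leaf 5) (.leaf 0))) (.node (.node (.leaf 0) (.leaf 1)) (.node (.leaf 1) (.leaf 0)))))) (.node (.node (.node (.node (.node (.leaf 0) (.leaf 0)) (.node (.leaf 0) (.leaf 0))) (.node (.node (.leaf 0) (.leaf 0)) (.node (.leaf 0) (.leaf 0)))) (.node (.node (.node (.leaf 0) (.leaf 0)) (.node (.leaf 0) (.leaf 1))) (.node (.node (.leaf 0) (.leaf 0)) (.node (.leaf 0) (.leaf 1))))) (.node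 (.node (.node (.node (.leaf 1) (.leaf 0)) (.node (.leaf 0) (.leaf 1))) (.node (.node (.leaf 1) (.leaf 0)) (.node (.leaf 0) (.leaf 0)))) (.node (.node (.node (.leaf 1) (.leaf 0)) (.node (.leaf 0) (.leaf 0))) (.node (.node (.leaf 0) (.leaf 0)) (.node (.leaf 0) (.leaf 0))))))))

def k3Wit_3 : H52.TCert.Tr := .node (.node (.node (.node (.node (.node (.node (.node (.leaf 0) (.leaf 0)) (.node (.leaf 0) (.leaf 0))) (.node (.node (.leaf 0) (.leaf 0)) (.node (.leaf 1) (.leaf 0)))) (.node (.node (.node (.leaf 1) (.leaf 0)) (.node (.leaf 0) (.leaf 0))) (.node (.node (.leaf 1) (.leaf 0)) (.node (.leaf 0) (.leaf 0))))) (.node (.node (.node (.node (.leaf 0) (.leaf 0)) (.node (.leaf 5) (.leaf 0))) (.node (.node (.leaf 1) (.leaf 0)) (.node (.leaf 1) (.leaf 0)))) (.node (.node (.node (.leaf 0) (.leaf 0)) (.node (.leaf 0) (.leaf 0))) (.node (.node (.leaf 0) (.leaf 0)) (.node (.leaf 1) (.leaf 0)))))) (.node (.node (.node (.node (.node (.leaf 0) (.leaf 0)) (.node (.leaf 1) (.leaf 0))) (.node (.node (.leaf 0) (.leaf 0)) (.node (.leaf 0) (.leaf 1)))) (.node (.node (.node (.leaf 0) (.leaf 0))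 (.node (.leaf 0) (.leaf 0))) (.node (.node (.leaf 0) (.leaf 0)) (.node (.leaf 0) (.leaf 1))))) (.node (.node (.node (.node (.leaf 0) (.leaf 0)) (.node (.leaf 0) (.leaf 0))) (.node (.node (.leaf 0) (.leaf 0)) (.node (.leaf 0) (.leaf 0)))) (.node (.node (.node (.leaf 0) (.leaf 0)) (.node (.leaf 1) (.leaf 0))) (.node (.node (.leaf 0) (.leaf 0)) (.node (.leaf 0) (.leaf 0))))))) (.node (.node (.node (.node (.node (.node (.leaf 0) (.leaf 0)) (.node (.leaf 0) (.leaf 0))) (.node (.node (.leaf 0) (.leaf 0)) (.node (.leaf 0) (.leaf 1)))) (.node (.node (.node (.leaf 0) (.leaf 0)) (.node (.leaf 0) (.leaf 0))) (.node (.node (.leaf 0) (.leaf 0)) (.node (.leaf 0) (.leaf 0))))) (.node (.node (.node (.node (.leaf 0) (.leaf 0)) (.node (.leaf 0) (.leaf 0))) (.node (.node (.leaf 0) (.leaf 1)) (.node (.leaf 0) (.leaf 0)))) (.node (.node (.node (.leaf 0) (.leaf 0)) (.node (.leaf 0) (.leaf 0))) (.node (.node (.leaf 1) (.leaf 0)) (.node (.leaf 0) (.leaf 0)))))) (.node (.node (.node (.node (.node (.leaf 0) (.leaf 0)) (.node (.leaf 0) (.leaf 0))) (.node (.node (.leaf 0) (.leaf 0)) (.node (.leaf 0)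 (.leaf 0)))) (.node (.node (.node (.leaf 5) (.leaf 0)) (.node (.leaf 0) (.leaf 5))) (.node (.node (.leaf 0) (.leaf 0)) (.node (.leaf 0) (.leaf 0))))) (.node (.node (.node (.node (.leaf 5) (.leaf 0)) (.node (.leaf 0) (.leaf 0))) (.node (.node (.leaf 0) (.leaf 0)) (.node (.leaf 0) (.leaf 0)))) (.node (.node (.node (.leaf 0) (.leaf 0)) (.node (.leaf 0) (.leaf 0))) (.node (.node (.leaf 0) (.leaf 0)) (.node (.leaf 0) (.leaf 0)))))))) (.node (.node (.node (.node (.node (.node (.node (.leaf 0) (.leaf 0)) (.node (.leaf 0) (.leaf 5))) (.node (.node (.leaf 0) (.leaf 0)) (.node (.leaf 0) (.leaf 0)))) (.node (.node (.node (.leaf 0) (.leaf 0)) (.node (.leaf 0) (.leaf 0))) (.node (.node (.leaf 0) (.leaf 5)) (.node (.leaf 0) (.leaf 0))))) (.node (.node (.node (.node (.leaf 0) (.leaf 0)) (.node (.leaf 0) (.leaf 0))) (.node (.node (.leaf 0) (.leaf 5)) (.node (.leaf 0) (.leaf 0)))) (.node (.node (.node (.leaf 0) (.leaf 0)) (.node (.leaf 0) (.leaf 0))) (.node (.node (.leaf 0) (.leaf 0)) (.node (.leaf 0) (.leaf 5)))))) (.node (.node (.node (.node (.node (.leaf 0) (.leaf 0)) (.node (.leaf 5)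 (.leaf 0))) (.node (.node (.leaf 0) (.leaf 0)) (.node (.leaf 0) (.leaf 0)))) (.node (.node (.node (.leaf 0) (.leaf 0)) (.node (.leaf 5) (.leaf 0))) (.node (.node (.leaf 0) (.leaf 0)) (.node (.leaf 5) (.leaf 0))))) (.node (.node (.node (.node (.leaf 0) (.leaf 0)) (.node (.leaf 5) (.leaf 5))) (.node (.node (.leaf 0) (.leaf 0)) (.node (.leaf 0) (.leaf 0)))) (.node (.node (.node (.leaf 5) (.leaf 0)) (.node (.leaf 0) (.leaf 0))) (.node (.node (.leaf 0) (.leaf 0)) (.node (.leaf 5) (.leaf 0))))))) (.node (.node (.node (.node (.node (.node (.leaf 0) (.leaf 0)) (.node (.leaf 5) (.leaf 0))) (.node (.node (.leaf 0) (.leaf 0)) (.node (.leaf 0) (.leaf 0)))) (.node (.node (.node (.leaf 0) (.leaf 0)) (.node (.leaf 0) (.leaf 1))) (.node (.node (.leaf 0) (.leaf 0)) (.node (.leaf 1) (.leaf 0))))) (.node (.node (.node (.node (.leaf 5) (.leaf 0)) (.node (.leaf 0) (.leaf 0))) (.node (.node (.leaf 0) (.leaf 0)) (.node (.leaf 0) (.leaf 0)))) (.node (.node (.node (.leaf 0) (.leaf 0)) (.node (.leaf 5) (.leaf 0))) (.node (.node (.leaf 1) (.leaf 0)) (.node (.leaf 0) (.leaf 0)))))) (.node (.node (.node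 (.node (.node (.leaf 0) (.leaf 0)) (.node (.leaf 0) (.leaf 0))) (.node (.node (.leaf 0) (.leaf 5)) (.node (.leaf 0) (.leaf 0)))) (.node (.node (.node (.leaf 5) (.leaf 0)) (.node (.leaf 0) (.leaf 0))) (.node (.node (.leaf 0) (.leaf 0)) (.node (.leaf 0) (.leaf 0))))) (.leaf 0))))

def k3Wit : H52.TCert.Tr := .node (.node (k3Wit_0) (k3Wit_1)) (.node (k3Wit_2) (k3Wit_3))

/-- involution positions -/
def k3Inv : List ℕ := [7, 30, 42, 44, 52, 53, 57, 65, 68, 74, 86, 95, 110, 143, 147, 149, 153, 162, 163, 170, 174, 181, 182, 194, 196, 197, 199, 210, 216, 220, 229, 284, 318, 362, 389, 392, 414, 417, 422, 435, 442, 452, 455, 456, 461, 462, 471, 475, 476, 481, 486, 488, 490, 491, 494, 502, 504, 506, 508, 518, 526, 527, 534, 535, 540, 543, 548, 553, 555, 557, 571, 575, 588, 594, 595, 599, 603, 612, 632, 638, 639, 647, 649, 661, 730, 786, 872, 875, 880, 899, 909, 917, 927, 930, 938, 942, 946, 947, 952, 958, 962, 976, 986, 997, 1000]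

/-- elements of a cell stabiliser -/
def k3E : Enum where
  num := 1008
  move := [[0, 2, 2, 0, 3, 3, 4, 2, 0, 3, 2, 2, 0, 3, 3, 3, 4, 2, 0, 2, 0, 3, 3, 6, 8, 3, 8, 6], [0, 2, 0, 3, 2, 4, 3, 0, 2, 0, 3, 2, 2, 0, 3, 3, 2, 0, 3, 0, 3, 4, 2, 6, 4, 2, 7, 8, 4]]
  pre := []
  seed := []
  par := k3Par
  code := k3Code
  srt := k3Srt
  depth := 10
  fuel := 1008

end H65.LyPerm.Data
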