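import Cfsg.Agent.H65.LyPerm.Enum

/-! Generated lists of elements of the G2(5) model by images of a base. -/

set_option autoImplicit false
set_option maxRecDepth 100000
set_option maxHeartbeats 0

namespace H65.LyPerm.Data

def k4Par_0 : H52.TCert.Tr := .node (.node (.node (.node (.node (.node (.node (.node (.leaf 0) (.leaf 0)) (.node (.leaf 65536) (.leaf 1))) (.node (.node (.leaf 65537) (.leaf 2)) (.node (.leaf 65538) (.leaf 3)))) (.node (.node (.node (.leaf 65539) (.leaf 4)) (.node (.leaf 65540) (.leaf 5))) (.node (.node (.leaf 65541) (.leaf 6)) (.node (.leaf 65542) (.leaf 7))))) (.node (.node (.node (.node (.leaf 65543) (.leaf 8)) (.node (.leaf 65544) (.leaf 9))) (.node (.node (.leaf 65545) (.leaf 10)) (.node (.leaf 65546) (.leaf 11)))) (.node (.node (.node (.leaf 65547) (.leaf 12)) (.node (.leaf 65548) (.leaf 13))) (.node (.node (.leaf 65549) (.leaf 14)) (.node (.leaf 65550) (.leaf 15)))))) (.node (.node (.node (.node (.node (.leaf 65551) (.leaf 16)) (.node (.leaf 65552) (.leaf 17))) (.node (.node (.leaf 65553) (.leaf 18)) (.node (.leaf 65554) (.leaf 19)))) (.node (.node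 (.node (.leaf 65555) (.leaf 20)) (.node (.leaf 65556) (.leaf 21))) (.node (.node (.leaf 65557) (.leaf 22)) (.node (.leaf 65558) (.leaf 23))))) (.node (.node (.node (.node (.leaf 65559) (.leaf 24)) (.node (.leaf 65560) (.leaf 25))) (.node (.node (.leaf 65561) (.leaf 26)) (.node (.leaf 65562) (.leaf 27)))) (.node (.node (.node (.leaf 65563) (.leaf 28)) (.node (.leaf 65564) (.leaf 29))) (.node (.node (.leaf 65565) (.leaf 30)) (.node (.leaf 65566) (.leaf 31))))))) (.node (.node (.node (.node (.node (.node (.leaf 65567) (.leaf 32)) (.node (.leaf 65568) (.leaf 33))) (.node (.node (.leaf 65569) (.leaf 34)) (.node (.leaf 65570) (.leaf 35)))) (.node (.node (.node (.leaf 65571) (.leaf 36)) (.node (.leaf 65572) (.leaf 37))) (.node (.node (.leaf 65573) (.leaf 38)) (.node (.leaf 65574) (.leaf 39))))) (.node (.node (.node (.node (.leaf 65575) (.leaf 40)) (.node (.leaf 65576) (.leaf 41))) (.node (.node (.leaf 65577) (.leaf 42)) (.node (.leaf 65578) (.leaf 43)))) (.node (.node (.node (.leaf 65579) (.leaf 44)) (.node (.leaf 65580) (.leaf 45))) (.node (.node (.leaf 65581) (.leaf 46)) (.node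 (.leaf 65582) (.leaf 47)))))) (.node (.node (.node (.node (.node (.leaf 65583) (.leaf 48)) (.node (.leaf 65584) (.leaf 49))) (.node (.node (.leaf 65585) (.leaf 50)) (.node (.leaf 65586) (.leaf 51)))) (.node (.node (.node (.leaf 65587) (.leaf 52)) (.node (.leaf 65588) (.leaf 53))) (.node (.node (.leaf 65589) (.leaf 54)) (.node (.leaf 65590) (.leaf 55))))) (.node (.node (.node (.node (.leaf 65591) (.leaf 56)) (.node (.leaf 65592) (.leaf 57))) (.node (.node (.leaf 65593) (.leaf 58)) (.node (.leaf 65594) (.leaf 59)))) (.node (.node (.node (.leaf 65595) (.leaf 60)) (.node (.leaf 65596) (.leaf 61))) (.node (.node (.leaf 65597) (.leaf 62)) (.node (.leaf 65598) (.leaf 65599)))))))) (.node (.node (.node (.node (.node (.node (.node (.leaf 64) (.leaf 65600)) (.node (.leaf 65) (.leaf 65601))) (.node (.node (.leaf 66) (.leaf 65602)) (.node (.leaf 67) (.leaf 65603)))) (.node (.node (.node (.leaf 68) (.leaf 65604)) (.node (.leaf 69) (.leaf 65605))) (.node (.node (.leaf 70) (.leaf 65606)) (.node (.leaf 71) (.leaf 65607))))) (.node (.node (.node (.node (.leaf 72) (.leaf 65608)) (.node (.leaf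 73) (.leaf 65609))) (.node (.node (.leaf 74) (.leaf 65610)) (.node (.leaf 75) (.leaf 65611)))) (.node (.node (.node (.leaf 76) (.leaf 65612)) (.node (.leaf 77) (.leaf 65613))) (.node (.node (.leaf 78) (.leaf 65614)) (.node (.leaf 79) (.leaf 65615)))))) (.node (.node (.node (.node (.node (.leaf 80) (.leaf 65616)) (.node (.leaf 81) (.leaf 65617))) (.node (.node (.leaf 82) (.leaf 65618)) (.node (.leaf 83) (.leaf 84)))) (.node (.node (.node (.leaf 65620) (.leaf 85)) (.node (.leaf 65621) (.leaf 86))) (.node (.node (.leaf 65622) (.leaf 87)) (.node (.leaf 65623) (.leaf 88))))) (.node (.node (.node (.node (.leaf 65624) (.leaf 89)) (.node (.leaf 65625) (.leaf 90))) (.node (.node (.leaf 65626) (.leaf 91)) (.node (.leaf 65627) (.leaf 92)))) (.node (.node (.node (.leaf 65628) (.leaf 93)) (.node (.leaf 65629) (.leaf 94))) (.node (.node (.leaf 65630) (.leaf 95)) (.node (.leaf 65631) (.leaf 96))))))) (.node (.node (.node (.node (.node (.node (.leaf 65632) (.leaf 97)) (.node (.leaf 65633) (.leaf 98))) (.node (.node (.leaf 65634) (.leaf 99)) (.node (.leaf 65635) (.leaf 100)))) (.node (.node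 (.node (.leaf 65636) (.leaf 101)) (.node (.leaf 65637) (.leaf 102))) (.node (.node (.leaf 65638) (.leaf 103)) (.node (.leaf 65639) (.leaf 104))))) (.node (.node (.node (.node (.leaf 65640) (.leaf 105)) (.node (.leaf 65641) (.leaf 106))) (.node (.node (.leaf 65642) (.leaf 107)) (.node (.leaf 65643) (.leaf 108)))) (.node (.node (.node (.leaf 65644) (.leaf 109)) (.node (.leaf 65645) (.leaf 110))) (.node (.node (.leaf 65646) (.leaf 111)) (.node (.leaf 65647) (.leaf 112)))))) (.node (.node (.node (.node (.node (.leaf 65648) (.leaf 113)) (.node (.leaf 65649) (.leaf 114))) (.node (.node (.leaf 65650) (.leaf 115)) (.node (.leaf 65651) (.leaf 116)))) (.node (.node (.node (.leaf 65652) (.leaf 117)) (.node (.leaf 118) (.leaf 65654))) (.node (.node (.leaf 119) (.leaf 65655)) (.node (.leaf 120) (.leaf 65656))))) (.node (.node (.node (.node (.leaf 121) (.leaf 65657)) (.node (.leaf 122) (.leaf 65658))) (.node (.node (.leaf 123) (.leaf 65659)) (.node (.leaf 124) (.leaf 65660)))) (.node (.node (.node (.leaf 125) (.leaf 65661)) (.node (.leaf 126) (.leaf 65662))) (.node (.node (.leaf 127) (.leaf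 65663)) (.node (.leaf 128) (.leaf 65664))))))))

def k4Par_1 : H52.TCert.Tr := .node (.node (.node (.node (.node (.node (.node (.node (.leaf 129) (.leaf 65665)) (.node (.leaf 130) (.leaf 65666))) (.node (.node (.leaf 131) (.leaf 65667)) (.node (.leaf 132) (.leaf 65668)))) (.node (.node (.node (.leaf 133) (.leaf 65669)) (.node (.leaf 134) (.leaf 65670))) (.node (.node (.leaf 135) (.leaf 65671)) (.node (.leaf 136) (.leaf 65672))))) (.node (.node (.node (.node (.leaf 137) (.leaf 65673)) (.node (.leaf 138) (.leaf 65674))) (.node (.node (.leaf 139) (.leaf 65675)) (.node (.leaf 140) (.leaf 65676)))) (.node (.node (.node (.leaf 141) (.leaf 65677)) (.node (.leaf 142) (.leaf 65678))) (.node (.node (.leaf 143) (.leaf 65679)) (.node (.leaf 144) (.leaf 65680)))))) (.node (.node (.node (.node (.node (.leaf 145) (.leaf 65681)) (.node (.leaf 146) (.leaf 147))) (.node (.node (.leaf 65683) (.leaf 148)) (.node (.leaf 65684) (.leaf 149)))) (.node (.node (.node (.leaf 65685) (.leaf 150)) (.node (.leaf 65686) (.leaf 151))) (.node (.node (.leaf 65687) (.leaf 152)) (.node (.leaf 65688) (.leaf 153)))))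 (.node (.node (.node (.node (.leaf 65689) (.leaf 154)) (.node (.leaf 65690) (.leaf 155))) (.node (.node (.leaf 65691) (.leaf 156)) (.node (.leaf 65692) (.leaf 157)))) (.node (.node (.node (.leaf 65693) (.leaf 158)) (.node (.leaf 65694) (.leaf 159))) (.node (.node (.leaf 65695) (.leaf 160)) (.node (.leaf 65696) (.leaf 161))))))) (.node (.node (.node (.node (.node (.node (.leaf 65697) (.leaf 162)) (.node (.leaf 65698) (.leaf 163))) (.node (.node (.leaf 65699) (.leaf 164)) (.node (.leaf 65700) (.leaf 165)))) (.node (.node (.node (.leaf 65701) (.leaf 166)) (.node (.leaf 65702) (.leaf 167))) (.node (.node (.leaf 168) (.leaf 65704)) (.node (.leaf 169) (.leaf 65705))))) (.node (.node (.node (.node (.leaf 170) (.leaf 65706)) (.node (.leaf 171) (.leaf 65707))) (.node (.node (.leaf 172) (.leaf 65708)) (.node (.leaf 173) (.leaf 65709)))) (.node (.node (.node (.leaf 174) (.leaf 65710)) (.node (.leaf 175) (.leaf 65711))) (.node (.node (.leaf 176) (.leaf 65712)) (.node (.leaf 177) (.leaf 65713)))))) (.node (.node (.node (.node (.node (.leaf 178) (.leaf 65714)) (.node (.leaf 179) (.leaf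 180))) (.node (.node (.leaf 65716) (.leaf 181)) (.node (.leaf 65717) (.leaf 182)))) (.node (.node (.node (.leaf 65718) (.leaf 183)) (.node (.leaf 65719) (.leaf 184))) (.node (.node (.leaf 65720) (.leaf 185)) (.node (.leaf 65721) (.leaf 186))))) (.node (.node (.node (.node (.leaf 65722) (.leaf 187)) (.node (.leaf 65723) (.leaf 188))) (.node (.node (.leaf 65724) (.leaf 65725)) (.node (.leaf 190) (.leaf 65726)))) (.node (.node (.node (.leaf 191) (.leaf 65727)) (.node (.leaf 192) (.leaf 65728))) (.node (.node (.leaf 193) (.leaf 194)) (.node (.leaf 65730) (.leaf 195)))))))) (.node (.node (.node (.node (.node (.node (.node (.leaf 65731) (.leaf 196)) (.node (.leaf 65732) (.leaf 197))) (.node (.node (.leaf 65733) (.leaf 198)) (.node (.leaf 65734) (.leaf 199)))) (.node (.node (.node (.leaf 65735) (.leaf 200)) (.node (.leaf 65736) (.leaf 201))) (.node (.node (.leaf 65737) (.leaf 202)) (.node (.leaf 65738) (.leaf 203))))) (.node (.node (.node (.node (.leaf 65739) (.leaf 204)) (.node (.leaf 65740) (.leaf 205))) (.node (.node (.leaf 65741) (.leaf 206)) (.node (.leaf 65742) (.leaf 207))))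 (.node (.node (.node (.leaf 65743) (.leaf 208)) (.node (.leaf 65744) (.leaf 209))) (.node (.node (.leaf 210) (.leaf 65746)) (.node (.leaf 211) (.leaf 65747)))))) (.node (.node (.node (.node (.node (.leaf 212) (.leaf 65748)) (.node (.leaf 213) (.leaf 214))) (.node (.node (.leaf 65750) (.leaf 215)) (.node (.leaf 65751) (.leaf 216)))) (.node (.node (.node (.leaf 65752) (.leaf 217)) (.node (.leaf 65753) (.leaf 218))) (.node (.node (.leaf 65754) (.leaf 219)) (.node (.leaf 220) (.leaf 65756))))) (.node (.node (.node (.node (.leaf 221) (.leaf 65757)) (.node (.leaf 222) (.leaf 65758))) (.node (.node (.leaf 223) (.leaf 65759)) (.node (.leaf 224) (.leaf 65760)))) (.node (.node (.node (.leaf 225) (.leaf 65761)) (.node (.leaf 226) (.leaf 65762))) (.node (.node (.leaf 227) (.leaf 65763)) (.node (.leaf 228) (.leaf 65764))))))) (.node (.node (.node (.node (.node (.node (.leaf 229) (.leaf 65765)) (.node (.leaf 230) (.leaf 65766))) (.node (.node (.leaf 231) (.leaf 65767)) (.node (.leaf 232) (.leaf 65768)))) (.node (.node (.node (.leaf 233) (.leaf 65769)) (.node (.leaf 234) (.leaf 65770)))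 (.node (.node (.leaf 235) (.leaf 65771)) (.node (.leaf 236) (.leaf 65772))))) (.node (.node (.node (.node (.leaf 237) (.leaf 65773)) (.node (.leaf 238) (.leaf 65774))) (.node (.node (.leaf 239) (.leaf 65775)) (.node (.leaf 240) (.leaf 65776)))) (.node (.node (.node (.leaf 241) (.leaf 65777)) (.node (.leaf 242) (.leaf 243))) (.node (.node (.leaf 65779) (.leaf 244)) (.node (.leaf 65780) (.leaf 245)))))) (.node (.node (.node (.node (.node (.leaf 65781) (.leaf 246)) (.node (.leaf 65782) (.leaf 247))) (.node (.node (.leaf 65783) (.leaf 248)) (.node (.leaf 65784) (.leaf 249)))) (.node (.node (.node (.leaf 65785) (.leaf 250)) (.node (.leaf 65786) (.leaf 251))) (.node (.node (.leaf 252) (.leaf 65788)) (.node (.leaf 253) (.leaf 65789))))) (.node (.node (.node (.node (.leaf 254) (.leaf 65790)) (.node (.leaf 255) (.leaf 65791))) (.node (.node (.leaf 256) (.leaf 65792)) (.node (.leaf 257) (.leaf 65793)))) (.node (.node (.node (.leaf 258) (.leaf 65794)) (.node (.leaf 259) (.leaf 65795))) (.node (.node (.leaf 260) (.leaf 65796)) (.node (.leaf 261) (.leaf 65797))))))))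

def k4Par_2 : H52.TCert.Tr := .node (.node (.node (.node (.node (.node (.node (.node (.leaf 262) (.leaf 65798)) (.node (.leaf 263) (.leaf 65799))) (.node (.node (.leaf 264) (.leaf 65800)) (.node (.leaf 265) (.leaf 65801)))) (.node (.node (.node (.leaf 266) (.leaf 65802)) (.node (.leaf 267) (.leaf 65803))) (.node (.node (.leaf 268) (.leaf 65804)) (.node (.leaf 269) (.leaf 65805))))) (.node (.node (.node (.node (.leaf 270) (.leaf 271)) (.node (.leaf 65807) (.leaf 65808))) (.node (.node (.leaf 273) (.leaf 65809)) (.node (.leaf 274) (.leaf 65810)))) (.node (.node (.node (.leaf 275) (.leaf 65811)) (.node (.leaf 276) (.leaf 65812))) (.node (.node (.leaf 277) (.leaf 65813)) (.node (.leaf 278) (.leaf 65814)))))) (.node (.node (.node (.node (.node (.leaf 279) (.leaf 65815)) (.node (.leaf 280) (.leaf 65816))) (.node (.node (.leaf 281) (.leaf 65817)) (.node (.leaf 282) (.leaf 65818)))) (.node (.node (.node (.leaf 283) (.leaf 65819)) (.node (.leaf 284) (.leaf 65820))) (.node (.node (.leaf 285) (.leaf 65821)) (.node (.leaf 286) (.leaf 65822))))) (.node (.node (.node (.node (.leaf 287)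 (.leaf 65823)) (.node (.leaf 288) (.leaf 65824))) (.node (.node (.leaf 289) (.leaf 65825)) (.node (.leaf 290) (.leaf 65826)))) (.node (.node (.node (.leaf 291) (.leaf 292)) (.node (.leaf 65828) (.leaf 293))) (.node (.node (.leaf 65829) (.leaf 294)) (.node (.leaf 65830) (.leaf 295))))))) (.node (.node (.node (.node (.node (.node (.leaf 65831) (.leaf 296)) (.node (.leaf 65832) (.leaf 297))) (.node (.node (.leaf 65833) (.leaf 298)) (.node (.leaf 65834) (.leaf 299)))) (.node (.node (.node (.leaf 65835) (.leaf 300)) (.node (.leaf 65836) (.leaf 301))) (.node (.node (.leaf 65837) (.leaf 302)) (.node (.leaf 65838) (.leaf 303))))) (.node (.node (.node (.node (.leaf 304) (.leaf 65840)) (.node (.leaf 305) (.leaf 306))) (.node (.node (.leaf 65842) (.leaf 307)) (.node (.leaf 65843) (.leaf 308)))) (.node (.node (.node (.leaf 65844) (.leaf 309)) (.node (.leaf 65845) (.leaf 310))) (.node (.node (.leaf 65846) (.leaf 311)) (.node (.leaf 65847) (.leaf 312)))))) (.node (.node (.node (.node (.node (.leaf 65848) (.leaf 65849)) (.node (.leaf 314) (.leaf 65850))) (.node (.node (.leaf 315) (.leaf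 65851)) (.node (.leaf 316) (.leaf 65852)))) (.node (.node (.node (.leaf 317) (.leaf 318)) (.node (.leaf 65854) (.leaf 319))) (.node (.node (.leaf 65855) (.leaf 65856)) (.node (.leaf 321) (.leaf 65857))))) (.node (.node (.node (.node (.leaf 322) (.leaf 65858)) (.node (.leaf 323) (.leaf 65859))) (.node (.node (.leaf 324) (.leaf 65860)) (.node (.leaf 325) (.leaf 65861)))) (.node (.node (.node (.leaf 326) (.leaf 65862)) (.node (.leaf 327) (.leaf 65863))) (.node (.node (.leaf 328) (.leaf 65864)) (.node (.leaf 329) (.leaf 65865)))))))) (.node (.node (.node (.node (.node (.node (.node (.leaf 330) (.leaf 65866)) (.node (.leaf 331) (.leaf 332))) (.node (.node (.leaf 65868) (.leaf 333)) (.node (.leaf 65869) (.leaf 334)))) (.node (.node (.node (.leaf 335) (.leaf 65871)) (.node (.leaf 336) (.leaf 65872))) (.node (.node (.leaf 337) (.leaf 65873)) (.node (.leaf 338) (.leaf 65874))))) (.node (.node (.node (.node (.leaf 339) (.leaf 65875)) (.node (.leaf 340) (.leaf 341))) (.node (.node (.leaf 65877) (.leaf 342)) (.node (.leaf 65878) (.leaf 343)))) (.node (.node (.node (.leaf 65879) (.leaf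 344)) (.node (.leaf 65880) (.leaf 345))) (.node (.node (.leaf 65881) (.leaf 346)) (.node (.leaf 65882) (.leaf 347)))))) (.node (.node (.node (.node (.node (.leaf 65883) (.leaf 348)) (.node (.leaf 65884) (.leaf 349))) (.node (.node (.leaf 65885) (.leaf 350)) (.node (.leaf 65886) (.leaf 351)))) (.node (.node (.node (.leaf 65887) (.leaf 352)) (.node (.leaf 65888) (.leaf 353))) (.node (.node (.leaf 65889) (.leaf 354)) (.node (.leaf 65890) (.leaf 355))))) (.node (.node (.node (.node (.leaf 65891) (.leaf 356)) (.node (.leaf 65892) (.leaf 357))) (.node (.node (.leaf 65893) (.leaf 358)) (.node (.leaf 65894) (.leaf 359)))) (.node (.node (.node (.leaf 65895) (.leaf 360)) (.node (.leaf 65896) (.leaf 361))) (.node (.node (.leaf 65897) (.leaf 362)) (.node (.leaf 65898) (.leaf 363))))))) (.node (.node (.node (.node (.node (.node (.leaf 364) (.leaf 65900)) (.node (.leaf 365) (.leaf 65901))) (.node (.node (.leaf 366) (.leaf 65902)) (.node (.leaf 367) (.leaf 65903)))) (.node (.node (.node (.leaf 368) (.leaf 65904)) (.node (.leaf 369) (.leaf 65905))) (.node (.node (.leaf 370) (.leaf 65906))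 (.node (.leaf 371) (.leaf 65907))))) (.node (.node (.node (.node (.leaf 372) (.leaf 373)) (.node (.leaf 65909) (.leaf 374))) (.node (.node (.leaf 65910) (.leaf 375)) (.node (.leaf 65911) (.leaf 376)))) (.node (.node (.node (.leaf 65912) (.leaf 377)) (.node (.leaf 65913) (.leaf 378))) (.node (.node (.leaf 65914) (.leaf 379)) (.node (.leaf 65915) (.leaf 380)))))) (.node (.node (.node (.node (.node (.leaf 381) (.leaf 65917)) (.node (.leaf 382) (.leaf 65918))) (.node (.node (.leaf 383) (.leaf 65919)) (.node (.leaf 384) (.leaf 65920)))) (.node (.node (.node (.leaf 385) (.leaf 65921)) (.node (.leaf 386) (.leaf 65922))) (.node (.node (.leaf 387) (.leaf 65923)) (.node (.leaf 388) (.leaf 65924))))) (.node (.node (.node (.node (.leaf 389) (.leaf 65925)) (.node (.leaf 390) (.leaf 65926))) (.node (.node (.leaf 391) (.leaf 392)) (.node (.leaf 393) (.leaf 65929)))) (.node (.node (.node (.leaf 394) (.leaf 65930)) (.node (.leaf 395) (.leaf 65931))) (.node (.node (.leaf 396) (.leaf 65932)) (.node (.leaf 397) (.leaf 65933))))))))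

def k4Par_3 : H52.TCert.Tr := .node (.node (.node (.node (.node (.node (.node (.node (.leaf 398) (.leaf 65934)) (.node (.leaf 399) (.leaf 65935))) (.node (.node (.leaf 400) (.leaf 65936)) (.node (.leaf 401) (.leaf 65937)))) (.node (.node (.node (.leaf 402) (.leaf 65938)) (.node (.leaf 403) (.leaf 65939))) (.node (.node (.leaf 404) (.leaf 65940)) (.node (.leaf 405) (.leaf 65941))))) (.node (.node (.node (.node (.leaf 406) (.leaf 65942)) (.node (.leaf 407) (.leaf 65943))) (.node (.node (.leaf 408) (.leaf 65944)) (.node (.leaf 409) (.leaf 65945)))) (.node (.node (.node (.leaf 410) (.leaf 65946)) (.node (.leaf 411) (.leaf 65947))) (.node (.node (.leaf 412) (.leaf 413)) (.node (.leaf 65949) (.leaf 65950)))))) (.node (.node (.node (.node (.node (.leaf 415) (.leaf 65951)) (.node (.leaf 416) (.leaf 65952))) (.node (.node (.leaf 417) (.leaf 65953)) (.node (.leaf 418) (.leaf 65954)))) (.node (.node (.node (.leaf 419) (.leaf 65955)) (.node (.leaf 420) (.leaf 65956))) (.node (.node (.leaf 421) (.leaf 65957)) (.node (.leaf 422) (.leaf 65958))))) (.node (.node (.node (.node (.leaf 423)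 (.leaf 424)) (.node (.leaf 65960) (.leaf 425))) (.node (.node (.leaf 65961) (.leaf 426)) (.node (.leaf 65962) (.leaf 427)))) (.node (.node (.node (.leaf 65963) (.leaf 428)) (.node (.leaf 65964) (.leaf 429))) (.node (.node (.leaf 65965) (.leaf 430)) (.node (.leaf 65966) (.leaf 431))))))) (.node (.node (.node (.node (.node (.node (.leaf 65967) (.leaf 65968)) (.node (.leaf 433) (.leaf 65969))) (.node (.node (.leaf 434) (.leaf 65970)) (.node (.leaf 435) (.leaf 65971)))) (.node (.node (.node (.leaf 436) (.leaf 437)) (.node (.leaf 438) (.leaf 65974))) (.node (.node (.leaf 439) (.leaf 65975)) (.node (.leaf 440) (.leaf 65976))))) (.node (.node (.node (.node (.leaf 441) (.leaf 65977)) (.node (.leaf 442) (.leaf 65978))) (.node (.node (.leaf 443) (.leaf 65979)) (.node (.leaf 444) (.leaf 65980)))) (.node (.node (.node (.leaf 445) (.leaf 65981)) (.node (.leaf 446) (.leaf 447))) (.node (.node (.leaf 65983) (.leaf 448)) (.node (.leaf 65984) (.leaf 449)))))) (.node (.node (.node (.node (.node (.leaf 65985) (.leaf 450)) (.node (.leaf 65986) (.leaf 451))) (.node (.node (.leaf 65987) (.leaf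 452)) (.node (.leaf 453) (.leaf 65989)))) (.node (.node (.node (.leaf 454) (.leaf 65990)) (.node (.leaf 455) (.leaf 65991))) (.node (.node (.leaf 456) (.leaf 457)) (.node (.leaf 65993) (.leaf 458))))) (.node (.node (.node (.node (.leaf 65994) (.leaf 459)) (.node (.leaf 460) (.leaf 461))) (.node (.node (.leaf 65997) (.leaf 462)) (.node (.leaf 65998) (.leaf 463)))) (.node (.node (.node (.leaf 65999) (.leaf 464)) (.node (.leaf 66000) (.leaf 465))) (.node (.node (.leaf 466) (.leaf 66003)) (.node (.leaf 468) (.leaf 66004)))))))) (.node (.node (.node (.node (.node (.node (.node (.leaf 469) (.leaf 66005)) (.node (.leaf 470) (.leaf 66006))) (.node (.node (.leaf 471) (.leaf 66007)) (.node (.leaf 472) (.leaf 66008)))) (.node (.node (.node (.leaf 473) (.leaf 66009)) (.node (.leaf 474) (.leaf 66010))) (.node (.node (.leaf 475) (.leaf 66011)) (.node (.leaf 476) (.leaf 66012))))) (.node (.node (.node (.node (.leaf 477) (.leaf 66013)) (.node (.leaf 478) (.leaf 66014))) (.node (.node (.leaf 479) (.leaf 66015)) (.node (.leaf 480) (.leaf 66016)))) (.node (.node (.node (.leaf 481) (.leaf 66017))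 (.node (.leaf 482) (.leaf 66018))) (.node (.node (.leaf 483) (.leaf 484)) (.node (.leaf 66020) (.leaf 485)))))) (.node (.node (.node (.node (.node (.leaf 66021) (.leaf 486)) (.node (.leaf 66022) (.leaf 487))) (.node (.node (.leaf 66023) (.leaf 488)) (.node (.leaf 66024) (.leaf 489)))) (.node (.node (.node (.leaf 66025) (.leaf 490)) (.node (.leaf 66026) (.leaf 491))) (.node (.node (.leaf 66027) (.leaf 492)) (.node (.leaf 66028) (.leaf 493))))) (.node (.node (.node (.node (.leaf 66030) (.leaf 495)) (.node (.leaf 66031) (.leaf 496))) (.node (.node (.leaf 66032) (.leaf 497)) (.node (.leaf 66033) (.leaf 498)))) (.node (.node (.node (.leaf 66034) (.leaf 499)) (.node (.leaf 66035) (.leaf 500))) (.node (.node (.leaf 66036) (.leaf 501)) (.node (.leaf 66037) (.leaf 502))))))) (.node (.node (.node (.node (.node (.node (.leaf 66038) (.leaf 503)) (.node (.leaf 66039) (.leaf 504))) (.node (.node (.leaf 66040) (.leaf 505)) (.node (.leaf 66041) (.leaf 506)))) (.node (.node (.node (.leaf 66042) (.leaf 507)) (.node (.leaf 66043) (.leaf 508))) (.node (.node (.leaf 509) (.leaf 66045)) (.node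 (.leaf 66046) (.leaf 66047))))) (.node (.node (.node (.node (.leaf 512) (.leaf 66048)) (.node (.leaf 513) (.leaf 66049))) (.node (.node (.leaf 514) (.leaf 66050)) (.node (.leaf 515) (.leaf 66051)))) (.node (.node (.node (.leaf 516) (.leaf 66052)) (.node (.leaf 517) (.leaf 518))) (.node (.node (.leaf 66054) (.leaf 519)) (.node (.leaf 520) (.leaf 66056)))))) (.node (.node (.node (.node (.node (.leaf 66057) (.leaf 522)) (.node (.leaf 66058) (.leaf 523))) (.node (.node (.leaf 66059) (.leaf 524)) (.node (.leaf 66060) (.leaf 66061)))) (.node (.node (.node (.leaf 526) (.leaf 66062)) (.node (.leaf 527) (.leaf 66063))) (.node (.node (.leaf 528) (.leaf 529)) (.node (.leaf 530) (.leaf 66066))))) (.node (.node (.node (.node (.leaf 531) (.leaf 66067)) (.node (.leaf 66068) (.leaf 533))) (.node (.node (.leaf 66069) (.leaf 534)) (.node (.leaf 66070) (.leaf 535)))) (.node (.node (.node (.leaf 66071) (.leaf 536)) (.node (.leaf 66072) (.leaf 537))) (.node (.node (.leaf 66073) (.leaf 538)) (.node (.leaf 66074) (.leaf 539))))))))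

def k4Par_4 : H52.TCert.Tr := .node (.node (.node (.node (.node (.node (.node (.node (.leaf 66075) (.leaf 540)) (.node (.leaf 541) (.leaf 542))) (.node (.node (.leaf 543) (.leaf 66079)) (.node (.leaf 66080) (.leaf 545)))) (.node (.node (.node (.leaf 66081) (.leaf 546)) (.node (.leaf 66082) (.leaf 547))) (.node (.node (.leaf 66083) (.leaf 548)) (.node (.leaf 66084) (.leaf 549))))) (.node (.node (.node (.node (.leaf 66085) (.leaf 66086)) (.node (.leaf 551) (.leaf 66087))) (.node (.node (.leaf 552) (.leaf 66088)) (.node (.leaf 553) (.leaf 66089)))) (.node (.node (.node (.leaf 555) (.leaf 66091)) (.node (.leaf 556) (.leaf 66092))) (.node (.node (.leaf 66093) (.leaf 558)) (.node (.leaf 66094) (.leaf 559)))))) (.node (.node (.node (.node (.node (.leaf 66095) (.leaf 560)) (.node (.leaf 66096) (.leaf 561))) (.node (.node (.leaf 66097) (.leaf 562)) (.node (.leaf 66098) (.leaf 563)))) (.node (.node (.node (.leaf 66099) (.leaf 564)) (.node (.leaf 66100) (.leaf 565))) (.node (.node (.leaf 66101) (.leaf 566)) (.node (.leaf 66102) (.leaf 567))))) (.node (.node (.node (.node (.leaf 66103)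 (.leaf 568)) (.node (.leaf 569) (.leaf 66105))) (.node (.node (.leaf 570) (.leaf 66106)) (.node (.leaf 571) (.leaf 572)))) (.node (.node (.node (.leaf 66108) (.leaf 573)) (.node (.leaf 66109) (.leaf 574))) (.node (.node (.leaf 66110) (.leaf 575)) (.node (.leaf 66111) (.leaf 576))))))) (.node (.node (.node (.node (.node (.node (.leaf 66112) (.leaf 577)) (.node (.leaf 578) (.leaf 66114))) (.node (.node (.leaf 579) (.leaf 66115)) (.node (.leaf 580) (.leaf 66116)))) (.node (.node (.node (.leaf 581) (.leaf 66117)) (.node (.leaf 66118) (.leaf 66119))) (.node (.node (.leaf 584) (.leaf 66120)) (.node (.leaf 585) (.leaf 66121))))) (.node (.node (.node (.node (.leaf 586) (.leaf 66122)) (.node (.leaf 587) (.leaf 66123))) (.node (.node (.leaf 588) (.leaf 66124)) (.node (.leaf 589) (.leaf 590)))) (.node (.node (.node (.leaf 66126) (.leaf 591)) (.node (.leaf 66127) (.leaf 592))) (.node (.node (.leaf 66128) (.leaf 593)) (.node (.leaf 66129) (.leaf 594)))))) (.node (.node (.node (.node (.node (.leaf 66130) (.leaf 595)) (.node (.leaf 66131) (.leaf 66132))) (.node (.node (.leaf 597) (.leaf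 66133)) (.node (.leaf 598) (.leaf 66134)))) (.node (.node (.node (.leaf 599) (.leaf 600)) (.node (.leaf 66136) (.leaf 601))) (.node (.node (.leaf 66137) (.leaf 602)) (.node (.leaf 66138) (.leaf 603))))) (.node (.node (.node (.node (.leaf 66139) (.leaf 604)) (.node (.leaf 66140) (.leaf 605))) (.node (.node (.leaf 66141) (.leaf 606)) (.node (.leaf 66142) (.leaf 607)))) (.node (.node (.node (.leaf 66143) (.leaf 608)) (.node (.leaf 609) (.leaf 66145))) (.node (.node (.leaf 610) (.leaf 66146)) (.node (.leaf 611) (.leaf 66147)))))))) (.node (.node (.node (.node (.node (.node (.node (.leaf 612) (.leaf 66148)) (.node (.leaf 613) (.leaf 66149))) (.node (.node (.leaf 614) (.leaf 66150)) (.node (.leaf 66151) (.leaf 616)))) (.node (.node (.node (.leaf 617) (.leaf 66153)) (.node (.leaf 618) (.leaf 66154))) (.node (.node (.leaf 619) (.leaf 66155)) (.node (.leaf 620) (.leaf 66156))))) (.node (.node (.node (.node (.leaf 621) (.leaf 66157)) (.node (.leaf 622) (.leaf 66158))) (.node (.node (.leaf 623) (.leaf 66159)) (.node (.leaf 624) (.leaf 66160)))) (.node (.node (.node (.leaf 625) (.leaf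 66161)) (.node (.leaf 626) (.leaf 627))) (.node (.node (.leaf 628) (.leaf 66164)) (.node (.leaf 629) (.leaf 630)))))) (.node (.node (.node (.node (.node (.leaf 66166) (.leaf 631)) (.node (.leaf 66167) (.leaf 632))) (.node (.node (.leaf 66168) (.leaf 633)) (.node (.leaf 66169) (.leaf 634)))) (.node (.node (.node (.leaf 66170) (.leaf 635)) (.node (.leaf 66171) (.leaf 636))) (.node (.node (.leaf 66172) (.leaf 637)) (.node (.leaf 66173) (.leaf 638))))) (.node (.node (.node (.node (.leaf 66174) (.leaf 639)) (.node (.leaf 66175) (.leaf 640))) (.node (.node (.leaf 66176) (.leaf 641)) (.node (.leaf 66177) (.leaf 642)))) (.node (.node (.node (.leaf 66178) (.leaf 66179)) (.node (.leaf 644) (.leaf 66180))) (.node (.node (.leaf 645) (.leaf 66181)) (.node (.leaf 646) (.leaf 66182))))))) (.node (.node (.node (.node (.node (.node (.leaf 647) (.leaf 66183)) (.node (.leaf 648) (.leaf 66184))) (.node (.node (.leaf 649) (.leaf 66185)) (.node (.leaf 650) (.leaf 66186)))) (.node (.node (.node (.leaf 651) (.leaf 66187)) (.node (.leaf 653) (.leaf 66189))) (.node (.node (.leaf 654) (.leaf 66190))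 (.node (.leaf 655) (.leaf 66191))))) (.node (.node (.node (.node (.leaf 656) (.leaf 657)) (.node (.leaf 66193) (.leaf 658))) (.node (.node (.leaf 66194) (.leaf 66195)) (.node (.leaf 660) (.leaf 66196)))) (.node (.node (.node (.leaf 66197) (.leaf 662)) (.node (.leaf 66198) (.leaf 663))) (.node (.node (.leaf 66199) (.leaf 664)) (.node (.leaf 66200) (.leaf 665)))))) (.node (.node (.node (.node (.node (.leaf 666) (.leaf 667)) (.node (.leaf 66203) (.leaf 668))) (.node (.node (.leaf 66204) (.leaf 669)) (.node (.leaf 66205) (.leaf 670)))) (.node (.node (.node (.leaf 66206) (.leaf 671)) (.node (.leaf 66207) (.leaf 66208))) (.node (.node (.leaf 673) (.leaf 66209)) (.node (.leaf 674) (.leaf 66210))))) (.node (.node (.node (.node (.leaf 675) (.leaf 676)) (.node (.leaf 66212) (.leaf 66213))) (.node (.node (.leaf 678) (.leaf 66214)) (.node (.leaf 679) (.leaf 66215)))) (.node (.node (.node (.leaf 680) (.leaf 66216)) (.node (.leaf 681) (.leaf 682))) (.node (.node (.leaf 66218) (.leaf 683)) (.node (.leaf 66219) (.leaf 684))))))))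

def k4Par_5 : H52.TCert.Tr := .node (.node (.node (.node (.node (.node (.node (.node (.leaf 66220) (.leaf 685)) (.node (.leaf 686) (.leaf 66222))) (.node (.node (.leaf 687) (.leaf 66223)) (.node (.leaf 688) (.leaf 689)))) (.node (.node (.node (.leaf 690) (.leaf 691)) (.node (.leaf 66227) (.leaf 692))) (.node (.node (.leaf 66228) (.leaf 693)) (.node (.leaf 66229) (.leaf 694))))) (.node (.node (.node (.node (.leaf 695) (.leaf 66232)) (.node (.leaf 697) (.leaf 66233))) (.node (.node (.leaf 66234) (.leaf 699)) (.node (.leaf 66235) (.leaf 700)))) (.node (.node (.node (.leaf 66236) (.leaf 701)) (.node (.leaf 66237) (.leaf 702))) (.node (.node (.leaf 66238) (.leaf 703)) (.node (.leaf 66239) (.leaf 704)))))) (.node (.node (.node (.node (.node (.leaf 66240) (.leaf 66241)) (.node (.leaf 706) (.leaf 66242))) (.node (.node (.leaf 707) (.leaf 66243)) (.node (.leaf 708) (.leaf 66244)))) (.node (.node (.node (.leaf 709) (.leaf 66245)) (.node (.leaf 710) (.leaf 66246))) (.node (.node (.leaf 711) (.leaf 66247)) (.node (.leaf 712) (.leaf 713))))) (.node (.node (.node (.node (.leaf 66249) (.leaf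 66250)) (.node (.leaf 715) (.leaf 66251))) (.node (.node (.leaf 716) (.leaf 66252)) (.node (.leaf 717) (.leaf 66253)))) (.node (.node (.node (.leaf 718) (.leaf 66254)) (.node (.leaf 719) (.leaf 66255))) (.node (.node (.leaf 720) (.leaf 66256)) (.node (.leaf 721) (.leaf 66257))))))) (.node (.node (.node (.node (.node (.node (.leaf 722) (.leaf 66258)) (.node (.leaf 723) (.leaf 66259))) (.node (.node (.leaf 724) (.leaf 66260)) (.node (.leaf 725) (.leaf 66261)))) (.node (.node (.node (.leaf 726) (.leaf 66262)) (.node (.leaf 727) (.leaf 66263))) (.node (.node (.leaf 728) (.leaf 66264)) (.node (.leaf 729) (.leaf 66265))))) (.node (.node (.node (.node (.leaf 730) (.leaf 66266)) (.node (.leaf 731) (.leaf 66267))) (.node (.node (.leaf 732) (.leaf 66268)) (.node (.leaf 733) (.leaf 66269)))) (.node (.node (.node (.leaf 66270) (.leaf 735)) (.node (.leaf 66271) (.leaf 736))) (.node (.node (.leaf 737) (.leaf 66273)) (.node (.leaf 66274) (.leaf 739)))))) (.node (.node (.node (.node (.node (.leaf 66275) (.leaf 740)) (.node (.leaf 66276) (.leaf 741))) (.node (.node (.leaf 66277) (.leaf 742))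 (.node (.leaf 66278) (.leaf 743)))) (.node (.node (.node (.leaf 66279) (.leaf 744)) (.node (.leaf 66280) (.leaf 745))) (.node (.node (.leaf 66281) (.leaf 746)) (.node (.leaf 66282) (.leaf 747))))) (.node (.node (.node (.node (.leaf 66283) (.leaf 748)) (.node (.leaf 66284) (.leaf 749))) (.node (.node (.leaf 66285) (.leaf 750)) (.node (.leaf 66286) (.leaf 751)))) (.node (.node (.node (.leaf 66287) (.leaf 752)) (.node (.leaf 66288) (.leaf 753))) (.node (.node (.leaf 66289) (.leaf 754)) (.node (.leaf 66290) (.leaf 66291)))))))) (.node (.node (.node (.node (.node (.node (.node (.leaf 756) (.leaf 66292)) (.node (.leaf 757) (.leaf 758))) (.node (.node (.leaf 66294) (.leaf 759)) (.node (.leaf 66295) (.leaf 760)))) (.node (.node (.node (.leaf 66296) (.leaf 761)) (.node (.leaf 66297) (.leaf 762))) (.node (.node (.leaf 66298) (.leaf 763)) (.node (.leaf 66299) (.leaf 66300))))) (.node (.node (.node (.node (.leaf 765) (.leaf 66301)) (.node (.leaf 766) (.leaf 767))) (.node (.node (.leaf 66303) (.leaf 769)) (.node (.leaf 66305) (.leaf 770)))) (.node (.node (.node (.leaf 771) (.leaf 66307))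 (.node (.leaf 66308) (.leaf 773))) (.node (.node (.leaf 66309) (.leaf 774)) (.node (.leaf 66310) (.leaf 775)))))) (.node (.node (.node (.node (.node (.leaf 66311) (.leaf 776)) (.node (.leaf 66312) (.leaf 777))) (.node (.node (.leaf 66313) (.leaf 66314)) (.node (.leaf 66315) (.leaf 780)))) (.node (.node (.node (.leaf 66316) (.leaf 781)) (.node (.leaf 66317) (.leaf 782))) (.node (.node (.leaf 783) (.leaf 66319)) (.node (.leaf 784) (.leaf 66320))))) (.node (.node (.node (.node (.leaf 66321) (.leaf 786)) (.node (.leaf 66322) (.leaf 787))) (.node (.node (.leaf 66323) (.leaf 788)) (.node (.leaf 66324) (.leaf 789)))) (.node (.node (.node (.leaf 66325) (.leaf 790)) (.node (.leaf 791) (.leaf 66327))) (.node (.node (.leaf 792) (.leaf 66328)) (.node (.leaf 793) (.leaf 66329))))))) (.node (.node (.node (.node (.node (.node (.leaf 794) (.leaf 66330)) (.node (.leaf 795) (.leaf 66331))) (.node (.node (.leaf 796) (.leaf 797)) (.node (.leaf 66333) (.leaf 66334)))) (.node (.node (.node (.leaf 799) (.leaf 66335)) (.node (.leaf 800) (.leaf 66336))) (.node (.node (.leaf 66337) (.leaf 66338)) (.node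 (.leaf 803) (.leaf 66339))))) (.node (.node (.node (.node (.leaf 804) (.leaf 805)) (.node (.leaf 66341) (.leaf 66342))) (.node (.node (.leaf 807) (.leaf 66343)) (.node (.leaf 808) (.leaf 66344)))) (.node (.node (.node (.leaf 809) (.leaf 66345)) (.node (.leaf 810) (.leaf 66346))) (.node (.node (.leaf 811) (.leaf 66347)) (.node (.leaf 812) (.leaf 66348)))))) (.node (.node (.node (.node (.node (.leaf 813) (.leaf 66349)) (.node (.leaf 814) (.leaf 66350))) (.node (.node (.leaf 815) (.leaf 66351)) (.node (.leaf 816) (.leaf 66352)))) (.node (.node (.node (.leaf 817) (.leaf 66353)) (.node (.leaf 818) (.leaf 66354))) (.node (.node (.leaf 819) (.leaf 66355)) (.node (.leaf 820) (.leaf 66356))))) (.node (.node (.node (.node (.leaf 821) (.leaf 66357)) (.node (.leaf 66358) (.leaf 66359))) (.node (.node (.leaf 824) (.leaf 66360)) (.node (.leaf 825) (.leaf 826)))) (.node (.node (.node (.leaf 66362) (.leaf 827)) (.node (.leaf 66363) (.leaf 828))) (.node (.node (.leaf 66364) (.leaf 829)) (.node (.leaf 66365) (.leaf 830))))))))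

def k4Par_6 : H52.TCert.Tr := .node (.node (.node (.node (.node (.node (.node (.node (.leaf 831) (.leaf 66367)) (.node (.leaf 832) (.leaf 833))) (.node (.node (.leaf 66369) (.leaf 834)) (.node (.leaf 66370) (.leaf 835)))) (.node (.node (.node (.leaf 66371) (.leaf 836)) (.node (.leaf 66372) (.leaf 837))) (.node (.node (.leaf 66373) (.leaf 838)) (.node (.leaf 66374) (.leaf 66375))))) (.node (.node (.node (.node (.leaf 840) (.leaf 841)) (.node (.leaf 66377) (.leaf 842))) (.node (.node (.leaf 66378) (.leaf 843)) (.node (.leaf 66379) (.leaf 844)))) (.node (.node (.node (.leaf 66380) (.leaf 845)) (.node (.leaf 66381) (.leaf 846))) (.node (.node (.leaf 66382) (.leaf 847)) (.node (.leaf 66383) (.leaf 66384)))))) (.node (.node (.node (.node (.node (.leaf 849) (.leaf 66385)) (.node (.leaf 850) (.leaf 851))) (.node (.node (.leaf 852) (.leaf 66388)) (.node (.leaf 853) (.leaf 66389)))) (.node (.node (.node (.leaf 854) (.leaf 66390)) (.node (.leaf 855) (.leaf 66391))) (.node (.node (.leaf 856) (.leaf 66392)) (.node (.leaf 857) (.leaf 66393))))) (.node (.node (.node (.node (.leaf 858) (.leaf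 859)) (.node (.leaf 66395) (.leaf 860))) (.node (.node (.leaf 66396) (.leaf 861)) (.node (.leaf 66397) (.leaf 862)))) (.node (.node (.node (.leaf 66398) (.leaf 863)) (.node (.leaf 66399) (.leaf 864))) (.node (.node (.leaf 66400) (.leaf 865)) (.node (.leaf 66401) (.leaf 866))))))) (.node (.node (.node (.node (.node (.node (.leaf 66402) (.leaf 867)) (.node (.leaf 66403) (.leaf 868))) (.node (.node (.leaf 66404) (.leaf 869)) (.node (.leaf 66405) (.leaf 870)))) (.node (.node (.node (.leaf 871) (.leaf 66407)) (.node (.leaf 66408) (.leaf 873))) (.node (.node (.leaf 66409) (.leaf 874)) (.node (.leaf 66410) (.leaf 875))))) (.node (.node (.node (.node (.leaf 66411) (.leaf 876)) (.node (.leaf 66412) (.leaf 66413))) (.node (.node (.leaf 66414) (.leaf 879)) (.node (.leaf 881) (.leaf 66417)))) (.node (.node (.node (.leaf 882) (.leaf 66418)) (.node (.leaf 883) (.leaf 66419))) (.node (.node (.leaf 884) (.leaf 66420)) (.node (.leaf 66421) (.leaf 886)))))) (.node (.node (.node (.node (.node (.leaf 66422) (.leaf 887)) (.node (.leaf 66423) (.leaf 888))) (.node (.node (.leaf 66424) (.leaf 889))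 (.node (.leaf 890) (.leaf 891)))) (.node (.node (.node (.leaf 66427) (.leaf 892)) (.node (.leaf 66428) (.leaf 893))) (.node (.node (.leaf 66429) (.leaf 894)) (.node (.leaf 66430) (.leaf 895))))) (.node (.node (.node (.node (.leaf 66431) (.leaf 896)) (.node (.leaf 897) (.leaf 66433))) (.node (.node (.leaf 898) (.leaf 66434)) (.node (.leaf 899) (.leaf 66435)))) (.node (.node (.node (.leaf 900) (.leaf 66436)) (.node (.leaf 901) (.leaf 66437))) (.node (.node (.leaf 902) (.leaf 903)) (.node (.leaf 66439) (.leaf 904)))))))) (.node (.node (.node (.node (.node (.node (.node (.leaf 66440) (.leaf 66441)) (.node (.leaf 906) (.leaf 907))) (.node (.node (.leaf 66443) (.leaf 908)) (.node (.leaf 66444) (.leaf 909)))) (.node (.node (.node (.leaf 910) (.leaf 66447)) (.node (.leaf 912) (.leaf 66448))) (.node (.node (.leaf 913) (.leaf 66449)) (.node (.leaf 914) (.leaf 66450))))) (.node (.node (.node (.node (.leaf 915) (.leaf 916)) (.node (.leaf 66453) (.leaf 918))) (.node (.node (.leaf 66454) (.leaf 919)) (.node (.leaf 66455) (.leaf 920)))) (.node (.node (.node (.leaf 921) (.leaf 66457)) (.node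 (.leaf 922) (.leaf 66458))) (.node (.node (.leaf 923) (.leaf 66459)) (.node (.leaf 924) (.leaf 66460)))))) (.node (.node (.node (.node (.node (.leaf 925) (.leaf 66461)) (.node (.leaf 926) (.leaf 66462))) (.node (.node (.leaf 927) (.leaf 66463)) (.node (.leaf 928) (.leaf 66464)))) (.node (.node (.node (.leaf 929) (.leaf 66465)) (.node (.leaf 930) (.leaf 66466))) (.node (.node (.leaf 931) (.leaf 66467)) (.node (.leaf 932) (.leaf 66468))))) (.node (.node (.node (.node (.leaf 933) (.leaf 934)) (.node (.leaf 66470) (.leaf 935))) (.node (.node (.leaf 66471) (.leaf 936)) (.node (.leaf 66472) (.leaf 937)))) (.node (.node (.node (.leaf 66473) (.leaf 938)) (.node (.leaf 66474) (.leaf 939))) (.node (.node (.leaf 66475) (.leaf 940)) (.node (.leaf 66476) (.leaf 941))))))) (.node (.node (.node (.node (.node (.node (.leaf 66477) (.leaf 942)) (.node (.leaf 66478) (.leaf 943))) (.node (.node (.leaf 66479) (.leaf 944)) (.node (.leaf 66480) (.leaf 945)))) (.node (.node (.node (.leaf 66481) (.leaf 946)) (.node (.leaf 66482) (.leaf 947))) (.node (.node (.leaf 66483) (.leaf 948)) (.node (.leaf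 66484) (.leaf 949))))) (.node (.node (.node (.node (.leaf 66485) (.leaf 950)) (.node (.leaf 66486) (.leaf 951))) (.node (.node (.leaf 952) (.leaf 66488)) (.node (.leaf 66489) (.leaf 66490)))) (.node (.node (.node (.leaf 955) (.leaf 66491)) (.node (.leaf 956) (.leaf 66492))) (.node (.node (.leaf 957) (.leaf 958)) (.node (.leaf 66494) (.leaf 959)))))) (.node (.node (.node (.node (.node (.leaf 66495) (.leaf 960)) (.node (.leaf 961) (.leaf 66497))) (.node (.node (.leaf 962) (.leaf 963)) (.node (.leaf 66499) (.leaf 66500)))) (.node (.node (.node (.leaf 965) (.leaf 66501)) (.node (.leaf 966) (.leaf 66502))) (.node (.node (.leaf 967) (.leaf 66503)) (.node (.leaf 66504) (.leaf 969))))) (.node (.node (.node (.node (.leaf 66505) (.leaf 970)) (.node (.leaf 66506) (.leaf 971))) (.node (.node (.leaf 972) (.leaf 66509)) (.node (.leaf 974) (.leaf 66510)))) (.node (.node (.node (.leaf 66511) (.leaf 976)) (.node (.leaf 66512) (.leaf 977))) (.node (.node (.leaf 66513) (.leaf 978)) (.node (.leaf 66514) (.leaf 979))))))))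

def k4Par_7 : H52.TCert.Tr := .node (.node (.node (.node (.node (.node (.node (.node (.leaf 66515) (.leaf 980)) (.node (.leaf 66516) (.leaf 981))) (.node (.node (.leaf 982) (.leaf 983)) (.node (.leaf 984) (.leaf 985)))) (.node (.node (.node (.leaf 66521) (.leaf 987)) (.node (.leaf 66523) (.leaf 988))) (.node (.node (.leaf 66524) (.leaf 989)) (.node (.leaf 66526) (.leaf 991))))) (.node (.node (.node (.node (.leaf 66527) (.leaf 992)) (.node (.leaf 994) (.leaf 66530))) (.node (.node (.leaf 995) (.leaf 66531)) (.node (.leaf 66532) (.leaf 997)))) (.node (.node (.node (.leaf 66533) (.leaf 998)) (.node (.leaf 66534) (.leaf 999))) (.node (.node (.leaf 66535) (.leaf 66536)) (.node (.leaf 1001) (.leaf 66537)))))) (.node (.node (.node (.node (.node (.leaf 1003) (.leaf 66539)) (.node (.leaf 1004) (.leaf 66540))) (.node (.node (.leaf 1005) (.leaf 1006)) (.node (.leaf 1007) (.leaf 66543)))) (.node (.node (.node (.leaf 1008) (.leaf 66544)) (.node (.leaf 1009) (.leaf 66545))) (.node (.node (.leaf 1010) (.leaf 66546)) (.node (.leaf 1011) (.leaf 1012))))) (.node (.node (.node (.node (.leaf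 66548) (.leaf 1013)) (.node (.leaf 66549) (.leaf 1014))) (.node (.node (.leaf 66550) (.leaf 1015)) (.node (.leaf 66551) (.leaf 66552)))) (.node (.node (.node (.leaf 66553) (.leaf 1018)) (.node (.leaf 66554) (.leaf 1019))) (.node (.node (.leaf 66555) (.leaf 1020)) (.node (.leaf 66556) (.leaf 1021))))))) (.node (.node (.node (.node (.node (.node (.leaf 66557) (.leaf 1022)) (.node (.leaf 66558) (.leaf 1023))) (.node (.node (.leaf 1024) (.leaf 66560)) (.node (.leaf 1025) (.leaf 66561)))) (.node (.node (.node (.leaf 66562) (.leaf 66563)) (.node (.leaf 1028) (.leaf 66564))) (.node (.node (.leaf 66565) (.leaf 66566)) (.node (.leaf 1031) (.leaf 1032))))) (.node (.node (.node (.node (.leaf 66568) (.leaf 1033)) (.node (.leaf 66569) (.leaf 1034))) (.node (.node (.leaf 66570) (.leaf 1035)) (.node (.leaf 66571) (.leaf 1036)))) (.node (.node (.node (.leaf 66572) (.leaf 1037)) (.node (.leaf 66573) (.leaf 1038))) (.node (.node (.leaf 66574) (.leaf 1039)) (.node (.leaf 66575) (.leaf 1040)))))) (.node (.node (.node (.node (.node (.leaf 1041) (.leaf 66577)) (.node (.leaf 1042) (.leaf 66578)))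 (.node (.node (.leaf 1043) (.leaf 66579)) (.node (.leaf 1044) (.leaf 66580)))) (.node (.node (.node (.leaf 1045) (.leaf 66581)) (.node (.leaf 1046) (.leaf 66582))) (.node (.node (.leaf 66583) (.leaf 1048)) (.node (.leaf 66584) (.leaf 1049))))) (.node (.node (.node (.node (.leaf 66585) (.leaf 66586)) (.node (.leaf 1051) (.leaf 66587))) (.node (.node (.leaf 1052) (.leaf 66588)) (.node (.leaf 1053) (.leaf 66589)))) (.node (.node (.node (.leaf 1054) (.leaf 66590)) (.node (.leaf 1055) (.leaf 66591))) (.node (.node (.leaf 1056) (.leaf 66592)) (.node (.leaf 1057) (.leaf 1058)))))))) (.node (.node (.node (.node (.node (.node (.node (.leaf 1059) (.leaf 66595)) (.node (.leaf 1060) (.leaf 1061))) (.node (.node (.leaf 66597) (.leaf 1062)) (.node (.leaf 66598) (.leaf 1063)))) (.node (.node (.node (.leaf 1064) (.leaf 66600)) (.node (.leaf 1065) (.leaf 66601))) (.node (.node (.leaf 1066) (.leaf 66602)) (.node (.leaf 66603) (.leaf 1068))))) (.node (.node (.node (.node (.leaf 66604) (.leaf 1069)) (.node (.leaf 66605) (.leaf 1070))) (.node (.node (.leaf 66606) (.leaf 1071)) (.node (.leaf 66607)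 (.leaf 1072)))) (.node (.node (.node (.leaf 66608) (.leaf 1073)) (.node (.leaf 66609) (.leaf 66610))) (.node (.node (.leaf 1075) (.leaf 66611)) (.node (.leaf 1076) (.leaf 66612)))))) (.node (.node (.node (.node (.node (.leaf 1077) (.leaf 66613)) (.node (.leaf 1078) (.leaf 66614))) (.node (.node (.leaf 1079) (.leaf 66615)) (.node (.leaf 1080) (.leaf 66616)))) (.node (.node (.node (.leaf 1081) (.leaf 66617)) (.node (.leaf 1082) (.leaf 66618))) (.node (.node (.leaf 1084) (.leaf 66620)) (.node (.leaf 1085) (.leaf 66621))))) (.node (.node (.node (.node (.leaf 1086) (.leaf 66622)) (.node (.leaf 1087) (.leaf 1088))) (.node (.node (.leaf 66624) (.leaf 1089)) (.node (.leaf 66625) (.leaf 66626)))) (.node (.node (.node (.leaf 1091) (.leaf 66627)) (.node (.leaf 66628) (.leaf 1093))) (.node (.node (.leaf 66629) (.leaf 1094)) (.node (.leaf 66630) (.leaf 1095))))))) (.node (.node (.node (.node (.node (.node (.leaf 66631) (.leaf 1096)) (.node (.leaf 66634) (.leaf 1099))) (.node (.node (.leaf 66635) (.leaf 1100)) (.node (.leaf 66636) (.leaf 66638)))) (.node (.node (.node (.leaf 1103) (.leaf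 66639)) (.node (.leaf 1104) (.leaf 1105))) (.node (.node (.leaf 66641) (.leaf 66642)) (.node (.leaf 1107) (.leaf 66643))))) (.node (.node (.node (.node (.leaf 1108) (.leaf 66644)) (.node (.leaf 1109) (.leaf 66645))) (.node (.node (.leaf 1110) (.leaf 1111)) (.node (.leaf 66647) (.leaf 1112)))) (.node (.node (.node (.leaf 66648) (.leaf 1113)) (.node (.leaf 1114) (.leaf 66650))) (.node (.node (.leaf 1115) (.leaf 66651)) (.node (.leaf 1117) (.leaf 1118)))))) (.node (.node (.node (.node (.node (.leaf 1119) (.leaf 66655)) (.node (.leaf 1120) (.leaf 66656))) (.node (.node (.leaf 1121) (.leaf 66658)) (.node (.leaf 66659) (.leaf 1124)))) (.node (.node (.node (.leaf 66660) (.leaf 66661)) (.node (.leaf 1126) (.leaf 66662))) (.node (.node (.leaf 1127) (.leaf 66663)) (.node (.leaf 1128) (.leaf 66664))))) (.node (.node (.node (.node (.leaf 1129) (.leaf 66666)) (.node (.leaf 1131) (.leaf 66667))) (.node (.node (.leaf 1132) (.leaf 66668)) (.node (.leaf 1133) (.leaf 66669)))) (.node (.node (.node (.leaf 1134) (.leaf 66670)) (.node (.leaf 1135) (.leaf 66671))) (.node (.node (.leaf 66672) (.leaf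 1137)) (.node (.leaf 1138) (.leaf 66674))))))))

def k4Par_8 : H52.TCert.Tr := .node (.node (.node (.node (.node (.node (.node (.node (.leaf 66675) (.leaf 1140)) (.node (.leaf 66676) (.leaf 1141))) (.node (.node (.leaf 66677) (.leaf 1142)) (.node (.leaf 66678) (.leaf 1143)))) (.node (.node (.node (.leaf 66679) (.leaf 1144)) (.node (.leaf 1145) (.leaf 66681))) (.node (.node (.leaf 1146) (.leaf 66682)) (.node (.leaf 1147) (.leaf 66683))))) (.node (.node (.node (.node (.leaf 1148) (.leaf 66684)) (.node (.leaf 1149) (.leaf 66685))) (.node (.node (.leaf 1150) (.leaf 66686)) (.node (.leaf 1151) (.leaf 66687)))) (.node (.node (.node (.leaf 1152) (.leaf 66688)) (.node (.leaf 1153) (.leaf 66689))) (.node (.node (.leaf 1154) (.leaf 66690)) (.node (.leaf 1155) (.leaf 66691)))))) (.node (.node (.node (.node (.node (.leaf 1156) (.leaf 1157)) (.node (.leaf 66693) (.leaf 66694))) (.node (.node (.leaf 1159) (.leaf 66695)) (.node (.leaf 1160) (.leaf 1161)))) (.node (.node (.node (.leaf 66697) (.leaf 66698)) (.node (.leaf 1163) (.leaf 66699))) (.node (.node (.leaf 66700) (.leaf 1165)) (.node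 (.leaf 66701) (.leaf 1166))))) (.node (.node (.node (.node (.leaf 66702) (.leaf 1167)) (.node (.leaf 66703) (.leaf 1168))) (.node (.node (.leaf 66704) (.leaf 1169)) (.node (.leaf 66705) (.leaf 1170)))) (.node (.node (.node (.leaf 66706) (.leaf 1171)) (.node (.leaf 66707) (.leaf 1172))) (.node (.node (.leaf 66708) (.leaf 1173)) (.node (.leaf 66709) (.leaf 1174))))))) (.node (.node (.node (.node (.node (.node (.leaf 66710) (.leaf 1175)) (.node (.leaf 66711) (.leaf 1176))) (.node (.node (.leaf 66712) (.leaf 66713)) (.node (.leaf 1178) (.leaf 66714)))) (.node (.node (.node (.leaf 1179) (.leaf 1180)) (.node (.leaf 66716) (.leaf 1181))) (.node (.node (.leaf 66717) (.leaf 1182)) (.node (.leaf 66718) (.leaf 1183))))) (.node (.node (.node (.node (.leaf 66719) (.leaf 1184)) (.node (.leaf 66720) (.leaf 66721))) (.node (.node (.leaf 1186) (.leaf 66722)) (.node (.leaf 1187) (.leaf 1188)))) (.node (.node (.node (.leaf 66724) (.leaf 1190)) (.node (.leaf 66726) (.leaf 1191))) (.node (.node (.leaf 66728) (.leaf 66729)) (.node (.leaf 1194) (.leaf 66730)))))) (.node (.node (.node (.node (.node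 (.leaf 1195) (.leaf 66731)) (.node (.leaf 1196) (.leaf 66732))) (.node (.node (.leaf 1197) (.leaf 66733)) (.node (.leaf 1198) (.leaf 66734)))) (.node (.node (.node (.leaf 66735) (.leaf 66736)) (.node (.leaf 1201) (.leaf 66737))) (.node (.node (.leaf 1202) (.leaf 66738)) (.node (.leaf 1203) (.leaf 1204))))) (.node (.node (.node (.node (.leaf 66740) (.leaf 1205)) (.node (.leaf 66741) (.leaf 66742))) (.node (.node (.leaf 1207) (.leaf 66743)) (.node (.leaf 66744) (.leaf 1209)))) (.node (.node (.node (.leaf 1210) (.leaf 66746)) (.node (.leaf 66747) (.leaf 66748))) (.node (.node (.leaf 1213) (.leaf 1214)) (.node (.leaf 1215) (.leaf 66751)))))))) (.node (.node (.node (.node (.node (.node (.node (.leaf 66752) (.leaf 1217)) (.node (.leaf 66753) (.leaf 1218))) (.node (.node (.leaf 66754) (.leaf 1219)) (.node (.leaf 66755) (.leaf 1220)))) (.node (.node (.node (.leaf 66756) (.leaf 1221)) (.node (.leaf 66757) (.leaf 1222))) (.node (.node (.leaf 66758) (.leaf 1223)) (.node (.leaf 66759) (.leaf 1224))))) (.node (.node (.node (.node (.leaf 66760) (.leaf 1225)) (.node (.leaf 1226) (.leaf 66762)))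 (.node (.node (.leaf 66763) (.leaf 66764)) (.node (.leaf 1229) (.leaf 66765)))) (.node (.node (.node (.leaf 1230) (.leaf 66766)) (.node (.leaf 66767) (.leaf 66768))) (.node (.node (.leaf 1233) (.leaf 66770)) (.node (.leaf 1235) (.leaf 66771)))))) (.node (.node (.node (.node (.node (.leaf 66772) (.leaf 1237)) (.node (.leaf 1238) (.leaf 66774))) (.node (.node (.leaf 1239) (.leaf 66776)) (.node (.leaf 1241) (.leaf 66777)))) (.node (.node (.node (.leaf 1242) (.leaf 66778)) (.node (.leaf 66779) (.leaf 66780))) (.node (.node (.leaf 1245) (.leaf 66781)) (.node (.leaf 66782) (.leaf 1247))))) (.node (.node (.node (.node (.leaf 1248) (.leaf 66784)) (.node (.leaf 1249) (.leaf 66785))) (.node (.node (.leaf 1250) (.leaf 66786)) (.node (.leaf 1251) (.leaf 66787)))) (.node (.node (.node (.leaf 1252) (.leaf 66788)) (.node (.leaf 66789) (.leaf 1254))) (.node (.node (.leaf 66790) (.leaf 66791)) (.node (.leaf 66792) (.leaf 1257))))))) (.node (.node (.node (.node (.node (.node (.leaf 1258) (.leaf 1259)) (.node (.leaf 66795) (.leaf 66796))) (.node (.node (.leaf 1261) (.leaf 66797)) (.node (.leaf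 1262) (.leaf 66798)))) (.node (.node (.node (.leaf 66799) (.leaf 1264)) (.node (.leaf 1265) (.leaf 66801))) (.node (.node (.leaf 1266) (.leaf 66802)) (.node (.leaf 1267) (.leaf 66803))))) (.node (.node (.node (.node (.leaf 1268) (.leaf 66804)) (.node (.leaf 1269) (.leaf 66805))) (.node (.node (.leaf 1270) (.leaf 66806)) (.node (.leaf 1271) (.leaf 66807)))) (.node (.node (.node (.leaf 66808) (.leaf 66809)) (.node (.leaf 1274) (.leaf 66810))) (.node (.node (.leaf 1275) (.leaf 1276)) (.node (.leaf 66812) (.leaf 66813)))))) (.node (.node (.node (.node (.node (.leaf 1278) (.leaf 66814)) (.node (.leaf 1279) (.leaf 66815))) (.node (.node (.leaf 1280) (.leaf 66816)) (.node (.leaf 1281) (.leaf 66817)))) (.node (.node (.node (.leaf 66818) (.leaf 66819)) (.node (.leaf 1284) (.leaf 1286))) (.node (.node (.leaf 1287) (.leaf 66823)) (.node (.leaf 1288) (.leaf 66824))))) (.node (.node (.node (.node (.leaf 66825) (.leaf 1290)) (.node (.leaf 66826) (.leaf 1291))) (.node (.node (.leaf 66827) (.leaf 1292)) (.node (.leaf 66828) (.leaf 1293)))) (.node (.node (.node (.leaf 1295) (.leaf 66831))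 (.node (.leaf 1296) (.leaf 66832))) (.node (.node (.leaf 1297) (.leaf 66833)) (.node (.leaf 1298) (.leaf 66834))))))))

def k4Par_9 : H52.TCert.Tr := .node (.node (.node (.node (.node (.node (.node (.node (.leaf 1299) (.leaf 66835)) (.node (.leaf 1300) (.leaf 66836))) (.node (.node (.leaf 1301) (.leaf 66837)) (.node (.leaf 1302) (.leaf 66838)))) (.node (.node (.node (.leaf 1303) (.leaf 66839)) (.node (.leaf 1304) (.leaf 66840))) (.node (.node (.leaf 1305) (.leaf 1306)) (.node (.leaf 66842) (.leaf 1307))))) (.node (.node (.node (.node (.leaf 66843) (.leaf 66844)) (.node (.leaf 1309) (.leaf 1310))) (.node (.node (.leaf 66846) (.leaf 1311)) (.node (.leaf 66847) (.leaf 1312)))) (.node (.node (.node (.leaf 66849) (.leaf 1314)) (.node (.leaf 66850) (.leaf 1315))) (.node (.node (.leaf 66851) (.leaf 1316)) (.node (.leaf 1317) (.leaf 1318)))))) (.node (.node (.node (.node (.node (.leaf 66855) (.leaf 1320)) (.node (.leaf 66856) (.leaf 1321))) (.node (.node (.leaf 66857) (.leaf 1322)) (.node (.leaf 66859) (.leaf 1324)))) (.node (.node (.node (.leaf 66860) (.leaf 1325)) (.node (.leaf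 66861) (.leaf 1326))) (.node (.node (.leaf 66862) (.leaf 1327)) (.node (.leaf 66863) (.leaf 1328))))) (.node (.node (.node (.node (.leaf 66864) (.leaf 1329)) (.node (.leaf 66865) (.leaf 1330))) (.node (.node (.leaf 66866) (.leaf 1331)) (.node (.leaf 66867) (.leaf 1332)))) (.node (.node (.node (.leaf 66868) (.leaf 1333)) (.node (.leaf 66869) (.leaf 1334))) (.node (.node (.leaf 1335) (.leaf 66871)) (.node (.leaf 1336) (.leaf 66872))))))) (.node (.node (.node (.node (.node (.node (.leaf 1337) (.leaf 66873)) (.node (.leaf 1338) (.leaf 66874))) (.node (.node (.leaf 1339) (.leaf 66875)) (.node (.leaf 1340) (.leaf 66876)))) (.node (.node (.node (.leaf 1341) (.leaf 66877)) (.node (.leaf 1342) (.leaf 1343))) (.node (.node (.leaf 66880) (.leaf 1345)) (.node (.leaf 66881) (.leaf 1346))))) (.node (.node (.node (.node (.leaf 66882) (.leaf 1347)) (.node (.leaf 1348) (.leaf 66884))) (.node (.node (.leaf 66885) (.leaf 1350)) (.node (.leaf 66886) (.leaf 1351)))) (.node (.node (.node (.leaf 66887) (.leaf 1352)) (.node (.leaf 66888) (.leaf 1353))) (.node (.node (.leaf 66889) (.leaf 1354)) (.node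 (.leaf 66890) (.leaf 1355)))))) (.node (.node (.node (.node (.node (.leaf 1356) (.leaf 66892)) (.node (.leaf 1357) (.leaf 66893))) (.node (.node (.leaf 1358) (.leaf 1359)) (.node (.leaf 66895) (.leaf 66896)))) (.node (.node (.node (.leaf 66897) (.leaf 1362)) (.node (.leaf 1363) (.leaf 66899))) (.node (.node (.leaf 1364) (.leaf 66900)) (.node (.leaf 1365) (.leaf 1367))))) (.node (.node (.node (.node (.leaf 1368) (.leaf 1369)) (.node (.leaf 66905) (.leaf 1371))) (.node (.node (.leaf 1372) (.leaf 1373)) (.node (.leaf 66909) (.leaf 1374)))) (.node (.node (.node (.leaf 66910) (.leaf 66911)) (.node (.leaf 1376) (.leaf 66912))) (.node (.node (.leaf 1377) (.leaf 66913)) (.node (.leaf 1378) (.leaf 66914)))))))) (.node (.node (.node (.node (.node (.node (.node (.leaf 1379) (.leaf 66915)) (.node (.leaf 1380) (.leaf 1381))) (.node (.node (.leaf 1382) (.leaf 66918)) (.node (.leaf 1383) (.leaf 1384)))) (.node (.node (.node (.leaf 1385) (.leaf 1386)) (.node (.leaf 66922) (.leaf 1389))) (.node (.node (.leaf 66925) (.leaf 1390)) (.node (.leaf 1391) (.leaf 66927))))) (.node (.node (.node (.node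 (.leaf 66928) (.leaf 66929)) (.node (.leaf 1394) (.leaf 66930))) (.node (.node (.leaf 1395) (.leaf 66931)) (.node (.leaf 66932) (.leaf 1398)))) (.node (.node (.node (.leaf 66934) (.leaf 1399)) (.node (.leaf 66935) (.leaf 1401))) (.node (.node (.leaf 66937) (.leaf 1402)) (.node (.leaf 66938) (.leaf 1403)))))) (.node (.node (.node (.node (.node (.leaf 66939) (.leaf 1405)) (.node (.leaf 66941) (.leaf 1406))) (.node (.node (.leaf 66942) (.leaf 1407)) (.node (.leaf 66943) (.leaf 1408)))) (.node (.node (.node (.leaf 66944) (.leaf 1409)) (.node (.leaf 66945) (.leaf 1410))) (.node (.node (.leaf 1411) (.leaf 1412)) (.node (.leaf 66948) (.leaf 1413))))) (.node (.node (.node (.node (.leaf 66949) (.leaf 1414)) (.node (.leaf 66950) (.leaf 1415))) (.node (.node (.leaf 66951) (.leaf 1416)) (.node (.leaf 66952) (.leaf 1417)))) (.node (.node (.node (.leaf 1418) (.leaf 1419)) (.node (.leaf 66955) (.leaf 1420))) (.node (.node (.leaf 66956) (.leaf 66957)) (.node (.leaf 66958) (.leaf 1423))))))) (.node (.node (.node (.node (.node (.node (.leaf 66959) (.leaf 1424)) (.node (.leaf 66960) (.leaf 1425)))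 (.node (.node (.leaf 66961) (.leaf 1426)) (.node (.leaf 66962) (.leaf 1427)))) (.node (.node (.node (.leaf 1428) (.leaf 66964)) (.node (.leaf 1429) (.leaf 66965))) (.node (.node (.leaf 66966) (.leaf 1431)) (.node (.leaf 66967) (.leaf 1432))))) (.node (.node (.node (.node (.leaf 66968) (.leaf 66969)) (.node (.leaf 1434) (.leaf 66970))) (.node (.node (.leaf 1435) (.leaf 66972)) (.node (.leaf 66973) (.leaf 1439)))) (.node (.node (.node (.leaf 66975) (.leaf 1440)) (.node (.leaf 66976) (.leaf 1441))) (.node (.node (.leaf 66977) (.leaf 1442)) (.node (.leaf 66978) (.leaf 1443)))))) (.node (.node (.node (.node (.node (.leaf 1444) (.leaf 1445)) (.node (.leaf 66981) (.leaf 1446))) (.node (.node (.leaf 66982) (.leaf 1447)) (.node (.leaf 66983) (.leaf 1448)))) (.node (.node (.node (.leaf 66984) (.leaf 1449)) (.node (.leaf 66985) (.leaf 66986))) (.node (.node (.leaf 1451) (.leaf 1452)) (.node (.leaf 66988) (.leaf 1453))))) (.node (.node (.node (.node (.leaf 66989) (.leaf 1454)) (.node (.leaf 66990) (.leaf 66991))) (.node (.node (.leaf 66992) (.leaf 66993)) (.node (.leaf 1458) (.leaf 66994))))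 (.node (.node (.node (.leaf 1459) (.leaf 66995)) (.node (.leaf 1460) (.leaf 66996))) (.node (.node (.leaf 1461) (.leaf 1462)) (.node (.leaf 1463) (.leaf 66999))))))))

def k4Par_10 : H52.TCert.Tr := .node (.node (.node (.node (.node (.node (.node (.node (.leaf 1464) (.leaf 1465)) (.node (.leaf 67001) (.leaf 1466))) (.node (.node (.leaf 67002) (.leaf 1467)) (.node (.leaf 67003) (.leaf 1469)))) (.node (.node (.node (.leaf 67005) (.leaf 1470)) (.node (.leaf 1471) (.leaf 1472))) (.node (.node (.leaf 67008) (.leaf 67009)) (.node (.leaf 1474) (.leaf 67010))))) (.node (.node (.node (.node (.leaf 1475) (.leaf 67011)) (.node (.leaf 1476) (.leaf 67012))) (.node (.node (.leaf 67013) (.leaf 1478)) (.node (.leaf 67014) (.leaf 1479)))) (.node (.node (.node (.leaf 67015) (.leaf 1480)) (.node (.leaf 67016) (.leaf 1481))) (.node (.node (.leaf 67017) (.leaf 1482)) (.node (.leaf 67018) (.leaf 1483)))))) (.node (.node (.node (.node (.node (.leaf 67019) (.leaf 1484)) (.node (.leaf 67020) (.leaf 1485))) (.node (.node (.leaf 67021) (.leaf 67023)) (.node (.leaf 1488) (.leaf 67024)))) (.node (.node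 (.node (.leaf 67025) (.leaf 67026)) (.node (.leaf 1491) (.leaf 67027))) (.node (.node (.leaf 67028) (.leaf 1493)) (.node (.leaf 67029) (.leaf 67030))))) (.node (.node (.node (.node (.leaf 67031) (.leaf 1496)) (.node (.leaf 67032) (.leaf 67033))) (.node (.node (.leaf 1498) (.leaf 67034)) (.node (.leaf 1499) (.leaf 67035)))) (.node (.node (.node (.leaf 1500) (.leaf 1501)) (.node (.leaf 67038) (.leaf 1503))) (.node (.node (.leaf 1504) (.leaf 67041)) (.node (.leaf 1506) (.leaf 1507))))))) (.node (.node (.node (.node (.node (.node (.leaf 67043) (.leaf 1508)) (.node (.leaf 67044) (.leaf 1509))) (.node (.node (.leaf 67045) (.leaf 1510)) (.node (.leaf 1511) (.leaf 67047)))) (.node (.node (.node (.leaf 67048) (.leaf 1513)) (.node (.leaf 1514) (.leaf 1515))) (.node (.node (.leaf 67052) (.leaf 67053)) (.node (.leaf 1518) (.leaf 1519))))) (.node (.node (.node (.node (.leaf 1520) (.leaf 67058)) (.node (.leaf 1523) (.leaf 67059))) (.node (.node (.leaf 1524) (.leaf 67060)) (.node (.leaf 67061) (.leaf 1526)))) (.node (.node (.node (.leaf 67062) (.leaf 1527)) (.node (.leaf 67063) (.leaf 67064)))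 (.node (.node (.leaf 67065) (.leaf 1530)) (.node (.leaf 67066) (.leaf 67067)))))) (.node (.node (.node (.node (.node (.leaf 1532) (.leaf 67068)) (.node (.leaf 67069) (.leaf 1534))) (.node (.node (.leaf 67070) (.leaf 1535)) (.node (.leaf 67071) (.leaf 1536)))) (.node (.node (.node (.leaf 67072) (.leaf 1537)) (.node (.leaf 1538) (.leaf 67074))) (.node (.node (.leaf 1539) (.leaf 1540)) (.node (.leaf 67076) (.leaf 1541))))) (.node (.node (.node (.node (.leaf 67077) (.leaf 1542)) (.node (.leaf 67078) (.leaf 1543))) (.node (.node (.leaf 67079) (.leaf 67080)) (.node (.leaf 1545) (.leaf 67081)))) (.node (.node (.node (.leaf 1546) (.leaf 1547)) (.node (.leaf 67083) (.leaf 1548))) (.node (.node (.leaf 67084) (.leaf 67085)) (.node (.leaf 1550) (.leaf 67086)))))))) (.node (.node (.node (.node (.node (.node (.node (.leaf 1552) (.leaf 67088)) (.node (.leaf 1553) (.leaf 1554))) (.node (.node (.leaf 67090) (.leaf 67091)) (.node (.leaf 1556) (.leaf 1557)))) (.node (.node (.node (.leaf 67093) (.leaf 1558)) (.node (.leaf 67095) (.leaf 1560))) (.node (.node (.leaf 67096) (.leaf 1561)) (.node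 (.leaf 67097) (.leaf 1562))))) (.node (.node (.node (.node (.leaf 67098) (.leaf 1563)) (.node (.leaf 67099) (.leaf 1564))) (.node (.node (.leaf 67100) (.leaf 1565)) (.node (.leaf 67101) (.leaf 1566)))) (.node (.node (.node (.leaf 67102) (.leaf 1567)) (.node (.leaf 67103) (.leaf 1568))) (.node (.node (.leaf 67104) (.leaf 67105)) (.node (.leaf 67106) (.leaf 1571)))))) (.node (.node (.node (.node (.node (.leaf 67108) (.leaf 1573)) (.node (.leaf 67109) (.leaf 1574))) (.node (.node (.leaf 67110) (.leaf 67111)) (.node (.leaf 1576) (.leaf 67112)))) (.node (.node (.node (.leaf 1577) (.leaf 67113)) (.node (.leaf 67114) (.leaf 1579))) (.node (.node (.leaf 67115) (.leaf 1580)) (.node (.leaf 1581) (.leaf 67117))))) (.node (.node (.node (.node (.leaf 1583) (.leaf 67119)) (.node (.leaf 1585) (.leaf 67121))) (.node (.node (.leaf 1586) (.leaf 67122)) (.node (.leaf 67123) (.leaf 1588)))) (.node (.node (.node (.leaf 67125) (.leaf 67126)) (.node (.leaf 67127) (.leaf 1592))) (.node (.node (.leaf 67128) (.leaf 1594)) (.node (.leaf 67131) (.leaf 67132))))))) (.node (.node (.node (.node (.node (.node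 (.leaf 1597) (.leaf 67134)) (.node (.leaf 1599) (.leaf 67135))) (.node (.node (.leaf 1600) (.leaf 67136)) (.node (.leaf 1601) (.leaf 1602)))) (.node (.node (.node (.leaf 67138) (.leaf 67139)) (.node (.leaf 67140) (.leaf 67141))) (.node (.node (.leaf 1606) (.leaf 67142)) (.node (.leaf 1607) (.leaf 1608))))) (.node (.node (.node (.node (.leaf 67144) (.leaf 67145)) (.node (.leaf 1610) (.leaf 67146))) (.node (.node (.leaf 1611) (.leaf 67147)) (.node (.leaf 67148) (.leaf 67149)))) (.node (.node (.node (.leaf 1614) (.leaf 67150)) (.node (.leaf 1615) (.leaf 1616))) (.node (.node (.leaf 67152) (.leaf 67153)) (.node (.leaf 1618) (.leaf 67154)))))) (.node (.node (.node (.node (.node (.leaf 1619) (.leaf 67155)) (.node (.leaf 1620) (.leaf 67156))) (.node (.node (.leaf 1621) (.leaf 67157)) (.node (.leaf 67158) (.leaf 1623)))) (.node (.node (.node (.leaf 67159) (.leaf 67160)) (.node (.leaf 1625) (.leaf 67161))) (.node (.node (.leaf 1626) (.leaf 67162)) (.node (.leaf 1627) (.leaf 1628))))) (.node (.node (.node (.node (.leaf 67164) (.leaf 1629)) (.node (.leaf 1630) (.leaf 67166))) (.node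 (.node (.leaf 1631) (.leaf 1632)) (.node (.leaf 1633) (.leaf 67169)))) (.node (.node (.node (.leaf 1634) (.leaf 67170)) (.node (.leaf 1635) (.leaf 67171))) (.node (.node (.leaf 67172) (.leaf 1637)) (.node (.leaf 1638) (.leaf 67174))))))))

def k4Par_11 : H52.TCert.Tr := .node (.node (.node (.node (.node (.node (.node (.node (.leaf 1639) (.leaf 1640)) (.node (.leaf 67176) (.leaf 1641))) (.node (.node (.leaf 67177) (.leaf 1642)) (.node (.leaf 67179) (.leaf 1644)))) (.node (.node (.node (.leaf 67180) (.leaf 1645)) (.node (.leaf 67181) (.leaf 1646))) (.node (.node (.leaf 67182) (.leaf 1647)) (.node (.leaf 67183) (.leaf 1648))))) (.node (.node (.node (.node (.leaf 67184) (.leaf 1649)) (.node (.leaf 1650) (.leaf 67186))) (.node (.node (.leaf 1651) (.leaf 67187)) (.node (.leaf 1652) (.leaf 1653)))) (.node (.node (.node (.leaf 1654) (.leaf 67190)) (.node (.leaf 1655) (.leaf 67191))) (.node (.node (.leaf 1656) (.leaf 67192)) (.node (.leaf 1657) (.leaf 67193)))))) (.node (.node (.node (.node (.node (.leaf 1658) (.leaf 67194)) (.node (.leaf 1659) (.leaf 67195))) (.node (.node (.leaf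 1660) (.leaf 67196)) (.node (.leaf 1661) (.leaf 1662)))) (.node (.node (.node (.leaf 67198) (.leaf 67199)) (.node (.leaf 1664) (.leaf 67200))) (.node (.node (.leaf 1665) (.leaf 67201)) (.node (.leaf 1666) (.leaf 67203))))) (.node (.node (.node (.node (.leaf 67204) (.leaf 1669)) (.node (.leaf 1671) (.leaf 67207))) (.node (.node (.leaf 67208) (.leaf 1673)) (.node (.leaf 67209) (.leaf 67210)))) (.node (.node (.node (.leaf 1675) (.leaf 1676)) (.node (.leaf 67212) (.leaf 1677))) (.node (.node (.leaf 67213) (.leaf 1678)) (.node (.leaf 1679) (.leaf 1680))))))) (.node (.node (.node (.node (.node (.node (.leaf 67216) (.leaf 1681)) (.node (.leaf 67217) (.leaf 1682))) (.node (.node (.leaf 67218) (.leaf 1683)) (.node (.leaf 67220) (.leaf 1685)))) (.node (.node (.node (.leaf 1686) (.leaf 67222)) (.node (.leaf 1687) (.leaf 67223))) (.node (.node (.leaf 1688) (.leaf 67224)) (.node (.leaf 1689) (.leaf 67225))))) (.node (.node (.node (.node (.leaf 1690) (.leaf 1691)) (.node (.leaf 1692) (.leaf 67228))) (.node (.node (.leaf 67229) (.leaf 1694)) (.node (.leaf 1695) (.leaf 67231)))) (.node (.node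 (.node (.leaf 1696) (.leaf 67232)) (.node (.leaf 1697) (.leaf 1698))) (.node (.node (.leaf 67235) (.leaf 1700)) (.node (.leaf 1701) (.leaf 1702)))))) (.node (.node (.node (.node (.node (.leaf 67238) (.leaf 1703)) (.node (.leaf 1704) (.leaf 67241))) (.node (.node (.leaf 1706) (.leaf 67242)) (.node (.leaf 1707) (.leaf 67243)))) (.node (.node (.node (.leaf 1709) (.leaf 67245)) (.node (.leaf 1710) (.leaf 67246))) (.node (.node (.leaf 1711) (.leaf 67247)) (.node (.leaf 1712) (.leaf 67248))))) (.node (.node (.node (.node (.leaf 1713) (.leaf 1714)) (.node (.leaf 67250) (.leaf 1715))) (.node (.node (.leaf 67251) (.leaf 1716)) (.node (.leaf 67252) (.leaf 1717)))) (.node (.node (.node (.leaf 1718) (.leaf 67254)) (.node (.leaf 1719) (.leaf 67255))) (.node (.node (.leaf 1720) (.leaf 1721)) (.node (.leaf 1722) (.leaf 67258)))))))) (.node (.node (.node (.node (.node (.node (.node (.leaf 67259) (.leaf 1724)) (.node (.leaf 67260) (.leaf 1725))) (.node (.node (.leaf 67261) (.leaf 67262)) (.node (.leaf 1727) (.leaf 67263)))) (.node (.node (.node (.leaf 67264) (.leaf 1729)) (.node (.leaf 67265)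 (.leaf 1730))) (.node (.node (.leaf 67266) (.leaf 1731)) (.node (.leaf 1732) (.leaf 67268))))) (.node (.node (.node (.node (.leaf 67270) (.leaf 67271)) (.node (.leaf 1736) (.leaf 1737))) (.node (.node (.leaf 67273) (.leaf 1738)) (.node (.leaf 1739) (.leaf 67275)))) (.node (.node (.node (.leaf 67276) (.leaf 67277)) (.node (.leaf 1742) (.leaf 67278))) (.node (.node (.leaf 1743) (.leaf 67279)) (.node (.leaf 1745) (.leaf 67281)))))) (.node (.node (.node (.node (.node (.leaf 1746) (.leaf 1747)) (.node (.leaf 1748) (.leaf 67285))) (.node (.node (.leaf 1750) (.leaf 67286)) (.node (.leaf 67287) (.leaf 1752)))) (.node (.node (.node (.leaf 67288) (.leaf 1753)) (.node (.leaf 67289) (.leaf 1754))) (.node (.node (.leaf 67290) (.leaf 1755)) (.node (.leaf 67291) (.leaf 1756))))) (.node (.node (.node (.node (.leaf 67292) (.leaf 1757)) (.node (.leaf 1759) (.leaf 1760))) (.node (.node (.leaf 67296) (.leaf 1762)) (.node (.leaf 67298) (.leaf 1763)))) (.node (.node (.node (.leaf 67299) (.leaf 1764)) (.node (.leaf 67301) (.leaf 1766))) (.node (.node (.leaf 67302) (.leaf 1767)) (.node (.leaf 1769)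 (.leaf 67305))))))) (.node (.node (.node (.node (.node (.node (.leaf 1770) (.leaf 67306)) (.node (.leaf 67307) (.leaf 1772))) (.node (.node (.leaf 67308) (.leaf 67309)) (.node (.leaf 1774) (.leaf 67310)))) (.node (.node (.node (.leaf 67311) (.leaf 67312)) (.node (.leaf 1778) (.leaf 1779))) (.node (.node (.leaf 67315) (.leaf 1780)) (.node (.leaf 1781) (.leaf 67317))))) (.node (.node (.node (.node (.leaf 1782) (.leaf 1783)) (.node (.leaf 67319) (.leaf 1784))) (.node (.node (.leaf 67320) (.leaf 1785)) (.node (.leaf 67321) (.leaf 1786)))) (.node (.node (.node (.leaf 67322) (.leaf 1787)) (.node (.leaf 67323) (.leaf 67324))) (.node (.node (.leaf 1790) (.leaf 67326)) (.node (.leaf 1791) (.leaf 67328)))))) (.node (.node (.node (.node (.node (.leaf 1793) (.leaf 67329)) (.node (.leaf 1794) (.leaf 67330))) (.node (.node (.leaf 1795) (.leaf 1796)) (.node (.leaf 67332) (.leaf 67333)))) (.node (.node (.node (.leaf 1799) (.leaf 67335)) (.node (.leaf 67336) (.leaf 1801))) (.node (.node (.leaf 67337) (.leaf 1802)) (.node (.leaf 67338) (.leaf 1803))))) (.node (.node (.node (.node (.leaf 67339)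 (.leaf 1804)) (.node (.leaf 67340) (.leaf 1805))) (.node (.node (.leaf 67341) (.leaf 1807)) (.node (.leaf 1808) (.leaf 67344)))) (.node (.node (.node (.leaf 1809) (.leaf 67345)) (.node (.leaf 1810) (.leaf 67346))) (.node (.node (.leaf 1811) (.leaf 1813)) (.node (.leaf 67349) (.leaf 1814))))))))

def k4Par_12 : H52.TCert.Tr := .node (.node (.node (.node (.node (.node (.node (.node (.leaf 67350) (.leaf 1815)) (.node (.leaf 67351) (.leaf 1816))) (.node (.node (.leaf 67352) (.leaf 1817)) (.node (.leaf 67353) (.leaf 67354)))) (.node (.node (.node (.leaf 1819) (.leaf 67355)) (.node (.leaf 1820) (.leaf 1821))) (.node (.node (.leaf 67357) (.leaf 1822)) (.node (.leaf 67359) (.leaf 67360))))) (.node (.node (.node (.node (.leaf 1825) (.leaf 67361)) (.node (.leaf 67362) (.leaf 1827))) (.node (.node (.leaf 67363) (.leaf 1828)) (.node (.leaf 67364) (.leaf 67365)))) (.node (.node (.node (.leaf 1830) (.leaf 67366)) (.node (.leaf 1831) (.leaf 67367))) (.node (.node (.leaf 1832) (.leaf 1833)) (.node (.leaf 67369) (.leaf 1835)))))) (.node (.node (.node (.node (.node (.leaf 67371) (.leaf 1836))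 (.node (.leaf 67373) (.leaf 1838))) (.node (.node (.leaf 67374) (.leaf 67375)) (.node (.leaf 1840) (.leaf 67376)))) (.node (.node (.node (.leaf 67377) (.leaf 1842)) (.node (.leaf 67378) (.leaf 1843))) (.node (.node (.leaf 67379) (.leaf 1844)) (.node (.leaf 67380) (.leaf 67383))))) (.node (.node (.node (.node (.leaf 1848) (.leaf 67384)) (.node (.leaf 67385) (.leaf 67387))) (.node (.node (.leaf 67388) (.leaf 1853)) (.node (.leaf 1854) (.leaf 67391)))) (.node (.node (.node (.leaf 1856) (.leaf 67392)) (.node (.leaf 1857) (.leaf 67393))) (.node (.node (.leaf 1858) (.leaf 67394)) (.node (.leaf 1859) (.leaf 1860))))))) (.node (.node (.node (.node (.node (.node (.leaf 67396) (.leaf 1861)) (.node (.leaf 67397) (.leaf 1863))) (.node (.node (.leaf 1865) (.leaf 67401)) (.node (.leaf 1866) (.leaf 67403)))) (.node (.node (.node (.leaf 1869) (.leaf 67405)) (.node (.leaf 1870) (.leaf 67406))) (.node (.node (.leaf 1871) (.leaf 67408)) (.node (.leaf 1873) (.leaf 67409))))) (.node (.node (.node (.node (.leaf 1874) (.leaf 67410)) (.node (.leaf 1875) (.leaf 67411))) (.node (.node (.leaf 1876)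 (.leaf 67412)) (.node (.leaf 1877) (.leaf 67413)))) (.node (.node (.node (.leaf 67414) (.leaf 1879)) (.node (.leaf 1880) (.leaf 67416))) (.node (.node (.leaf 67417) (.leaf 1882)) (.node (.leaf 67418) (.leaf 1883)))))) (.node (.node (.node (.node (.node (.leaf 67419) (.leaf 1884)) (.node (.leaf 67420) (.leaf 1885))) (.node (.node (.leaf 67421) (.leaf 1886)) (.node (.leaf 1887) (.leaf 67423)))) (.node (.node (.node (.leaf 67424) (.leaf 1889)) (.node (.leaf 67425) (.leaf 1890))) (.node (.node (.leaf 67426) (.leaf 67427)) (.node (.leaf 1892) (.leaf 67428))))) (.node (.node (.node (.node (.leaf 1893) (.leaf 67429)) (.node (.leaf 1894) (.leaf 67430))) (.node (.node (.leaf 1895) (.leaf 67431)) (.node (.leaf 67432) (.leaf 1897)))) (.node (.node (.node (.leaf 1898) (.leaf 1899)) (.node (.leaf 67435) (.leaf 67436))) (.node (.node (.leaf 1901) (.leaf 1902)) (.node (.leaf 67438) (.leaf 67439)))))))) (.node (.node (.node (.node (.node (.node (.node (.leaf 1904) (.leaf 67440)) (.node (.leaf 1905) (.leaf 67441))) (.node (.node (.leaf 1906) (.leaf 1907)) (.node (.leaf 67443) (.leaf 1908))))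 (.node (.node (.node (.leaf 67444) (.leaf 1909)) (.node (.leaf 67446) (.leaf 1911))) (.node (.node (.leaf 67447) (.leaf 1912)) (.node (.leaf 1913) (.leaf 67449))))) (.node (.node (.node (.node (.leaf 1914) (.leaf 1915)) (.node (.leaf 67451) (.leaf 1916))) (.node (.node (.leaf 67452) (.leaf 67453)) (.node (.leaf 1918) (.leaf 1919)))) (.node (.node (.node (.leaf 1920) (.leaf 67456)) (.node (.leaf 1921) (.leaf 67457))) (.node (.node (.leaf 1922) (.leaf 67458)) (.node (.leaf 1923) (.leaf 1924)))))) (.node (.node (.node (.node (.node (.leaf 67460) (.leaf 67461)) (.node (.leaf 1926) (.leaf 67462))) (.node (.node (.leaf 1927) (.leaf 1929)) (.node (.leaf 67465) (.leaf 1930)))) (.node (.node (.node (.leaf 67467) (.leaf 67468)) (.node (.leaf 1933) (.leaf 67469))) (.node (.node (.leaf 67470) (.leaf 1935)) (.node (.leaf 67471) (.leaf 1936))))) (.node (.node (.node (.node (.leaf 67472) (.leaf 67473)) (.node (.leaf 67474) (.leaf 1939))) (.node (.node (.leaf 1940) (.leaf 67476)) (.node (.leaf 1941) (.leaf 67478)))) (.node (.node (.node (.leaf 1943) (.leaf 67480)) (.node (.leaf 1945) (.leaf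 67481))) (.node (.node (.leaf 67482) (.leaf 1947)) (.node (.leaf 1948) (.leaf 67484))))))) (.node (.node (.node (.node (.node (.node (.leaf 67485) (.leaf 67486)) (.node (.leaf 1951) (.leaf 1952))) (.node (.node (.leaf 1953) (.leaf 67489)) (.node (.leaf 67490) (.leaf 1955)))) (.node (.node (.node (.leaf 67491) (.leaf 1956)) (.node (.leaf 67492) (.leaf 1957))) (.node (.node (.leaf 67493) (.leaf 1958)) (.node (.leaf 67494) (.leaf 1959))))) (.node (.node (.node (.node (.leaf 67495) (.leaf 1960)) (.node (.leaf 1961) (.leaf 67497))) (.node (.node (.leaf 1962) (.leaf 1963)) (.node (.leaf 1964) (.leaf 67500)))) (.node (.node (.node (.leaf 67501) (.leaf 67502)) (.node (.leaf 1967) (.leaf 67503))) (.node (.node (.leaf 1968) (.leaf 67504)) (.node (.leaf 67505) (.leaf 67506)))))) (.node (.node (.node (.node (.node (.leaf 1971) (.leaf 67508)) (.node (.leaf 1973) (.leaf 67509))) (.node (.node (.leaf 67510) (.leaf 1975)) (.node (.leaf 1976) (.leaf 67512)))) (.node (.node (.node (.leaf 1977) (.leaf 67514)) (.node (.leaf 1979) (.leaf 1980))) (.node (.node (.leaf 67516) (.leaf 67517)) (.node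 (.leaf 67518) (.leaf 1983))))) (.node (.node (.node (.node (.leaf 67519) (.leaf 67520)) (.node (.leaf 1985) (.leaf 1986))) (.node (.node (.leaf 67522) (.leaf 67523)) (.node (.leaf 67524) (.leaf 1990)))) (.node (.node (.node (.leaf 1991) (.leaf 67527)) (.node (.leaf 1992) (.leaf 67528))) (.node (.node (.leaf 67529) (.leaf 1994)) (.node (.leaf 67531) (.leaf 1996))))))))

def k4Par_13 : H52.TCert.Tr := .node (.node (.node (.node (.node (.node (.node (.node (.leaf 67532) (.leaf 1997)) (.node (.leaf 67533) (.leaf 1998))) (.node (.node (.leaf 67534) (.leaf 67535)) (.node (.leaf 2000) (.leaf 67536)))) (.node (.node (.node (.leaf 2001) (.leaf 67537)) (.node (.leaf 67538) (.leaf 67539))) (.node (.node (.leaf 2004) (.leaf 67541)) (.node (.leaf 67543) (.leaf 2008))))) (.node (.node (.node (.node (.leaf 67544) (.leaf 2009)) (.node (.leaf 67546) (.leaf 67547))) (.node (.node (.leaf 2012) (.leaf 2014)) (.node (.leaf 67550) (.leaf 67551)))) (.node (.node (.node (.leaf 67552) (.leaf 2017)) (.node (.leaf 67553) (.leaf 67554))) (.node (.node (.leaf 67555) (.leaf 2020)) (.node (.leaf 67556)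 (.leaf 2021)))))) (.node (.node (.node (.node (.node (.leaf 67557) (.leaf 67558)) (.node (.leaf 2023) (.leaf 67559))) (.node (.node (.leaf 67560) (.leaf 2025)) (.node (.leaf 67561) (.leaf 2026)))) (.node (.node (.node (.leaf 2027) (.leaf 67563)) (.node (.leaf 2028) (.leaf 2030))) (.node (.node (.leaf 2031) (.leaf 67567)) (.node (.leaf 2032) (.leaf 67568))))) (.node (.node (.node (.node (.leaf 67569) (.leaf 2035)) (.node (.leaf 67571) (.leaf 2036))) (.node (.node (.leaf 2037) (.leaf 67575)) (.node (.leaf 2040) (.leaf 67576)))) (.node (.node (.node (.leaf 67577) (.leaf 2042)) (.node (.leaf 67579) (.leaf 2044))) (.node (.node (.leaf 67580) (.leaf 67581)) (.node (.leaf 67582) (.leaf 2047))))))) (.node (.node (.node (.node (.node (.node (.leaf 67583) (.leaf 2048)) (.node (.leaf 2049) (.leaf 67585))) (.node (.node (.leaf 2050) (.leaf 67586)) (.node (.leaf 67587) (.leaf 2052)))) (.node (.node (.node (.leaf 67588) (.leaf 2053)) (.node (.leaf 2054) (.leaf 67590))) (.node (.node (.leaf 2055) (.leaf 67591)) (.node (.leaf 2056) (.leaf 2057))))) (.node (.node (.node (.node (.leaf 67593)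 (.leaf 2058)) (.node (.leaf 67594) (.leaf 2059))) (.node (.node (.leaf 67595) (.leaf 2060)) (.node (.leaf 2061) (.leaf 67598)))) (.node (.node (.node (.leaf 2063) (.leaf 67599)) (.node (.leaf 2064) (.leaf 67600))) (.node (.node (.leaf 2065) (.leaf 2066)) (.node (.leaf 2068) (.leaf 2069)))))) (.node (.node (.node (.node (.node (.leaf 2070) (.leaf 67606)) (.node (.leaf 2071) (.leaf 2072))) (.node (.node (.leaf 67608) (.leaf 2073)) (.node (.leaf 2074) (.leaf 67610)))) (.node (.node (.node (.leaf 2075) (.leaf 67611)) (.node (.leaf 2076) (.leaf 2077))) (.node (.node (.leaf 67613) (.leaf 67614)) (.node (.leaf 67615) (.leaf 2080))))) (.node (.node (.node (.node (.leaf 2081) (.leaf 67617)) (.node (.leaf 2083) (.leaf 2084))) (.node (.node (.leaf 67620) (.leaf 2086)) (.node (.leaf 2087) (.leaf 2088)))) (.node (.node (.node (.leaf 67624) (.leaf 2089)) (.node (.leaf 2091) (.leaf 67627))) (.node (.node (.leaf 2092) (.leaf 67628)) (.node (.leaf 2093) (.leaf 2094)))))))) (.node (.node (.node (.node (.node (.node (.node (.leaf 2096) (.leaf 67632)) (.node (.leaf 2098) (.leaf 2099))) (.node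 (.node (.leaf 67635) (.leaf 2100)) (.node (.leaf 2101) (.leaf 67637)))) (.node (.node (.node (.leaf 67638) (.leaf 67639)) (.node (.leaf 2104) (.leaf 67640))) (.node (.node (.leaf 2105) (.leaf 67642)) (.node (.leaf 2108) (.leaf 67644))))) (.node (.node (.node (.node (.leaf 2109) (.leaf 67645)) (.node (.leaf 2111) (.leaf 67647))) (.node (.node (.leaf 2112) (.leaf 67648)) (.node (.leaf 2113) (.leaf 2115)))) (.node (.node (.node (.leaf 67651) (.leaf 2116)) (.node (.leaf 2117) (.leaf 2118))) (.node (.node (.leaf 67654) (.leaf 2119)) (.node (.leaf 67655) (.leaf 2121)))))) (.node (.node (.node (.node (.node (.leaf 2122) (.leaf 2123)) (.node (.leaf 67659) (.leaf 2124))) (.node (.node (.leaf 67661) (.leaf 67662)) (.node (.leaf 2127) (.leaf 67663)))) (.node (.node (.node (.leaf 2128) (.leaf 67665)) (.node (.leaf 67666) (.leaf 2131))) (.node (.node (.leaf 67667) (.leaf 2132)) (.node (.leaf 67668) (.leaf 2133))))) (.node (.node (.node (.node (.leaf 67669) (.leaf 2134)) (.node (.leaf 67670) (.leaf 2136))) (.node (.node (.leaf 67672) (.leaf 2137)) (.node (.leaf 67673) (.leaf 67674)))) (.node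 (.node (.node (.leaf 2139) (.leaf 67675)) (.node (.leaf 67676) (.leaf 2141))) (.node (.node (.leaf 67677) (.leaf 2142)) (.node (.leaf 67679) (.leaf 67680))))))) (.node (.node (.node (.node (.node (.node (.leaf 2146) (.leaf 67682)) (.node (.leaf 2147) (.leaf 2148))) (.node (.node (.leaf 67684) (.leaf 2149)) (.node (.leaf 67685) (.leaf 2150)))) (.node (.node (.node (.leaf 2151) (.leaf 2152)) (.node (.leaf 67688) (.leaf 2153))) (.node (.node (.leaf 67689) (.leaf 67690)) (.node (.leaf 2155) (.leaf 67691))))) (.node (.node (.node (.node (.leaf 67692) (.leaf 67693)) (.node (.leaf 2158) (.leaf 2159))) (.node (.node (.leaf 67695) (.leaf 2160)) (.node (.leaf 67696) (.leaf 2161)))) (.node (.node (.node (.leaf 67697) (.leaf 67698)) (.node (.leaf 67699) (.leaf 2164))) (.node (.node (.leaf 67700) (.leaf 67701)) (.node (.leaf 2166) (.leaf 67702)))))) (.node (.node (.node (.node (.node (.leaf 2167) (.leaf 67703)) (.node (.leaf 2168) (.leaf 67704))) (.node (.node (.leaf 2169) (.leaf 67705)) (.node (.leaf 2170) (.leaf 67706)))) (.node (.node (.node (.leaf 67707) (.leaf 2173)) (.node (.leaf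 67709) (.leaf 67710))) (.node (.node (.leaf 67711) (.leaf 2176)) (.node (.leaf 67712) (.leaf 67713))))) (.node (.node (.node (.node (.leaf 2178) (.leaf 67714)) (.node (.leaf 67715) (.leaf 67716))) (.node (.node (.leaf 67717) (.leaf 2183)) (.node (.leaf 2184) (.leaf 67720)))) (.node (.node (.node (.leaf 2185) (.leaf 2186)) (.node (.leaf 2188) (.leaf 2189))) (.node (.node (.leaf 67726) (.leaf 2191)) (.node (.leaf 2192) (.leaf 67728))))))))

def k4Par_14 : H52.TCert.Tr := .node (.node (.node (.node (.node (.node (.node (.node (.leaf 2193) (.leaf 67729)) (.node (.leaf 67730) (.leaf 2195))) (.node (.node (.leaf 2196) (.leaf 67733)) (.node (.leaf 2198) (.leaf 2199)))) (.node (.node (.node (.leaf 2200) (.leaf 67738)) (.node (.leaf 2203) (.leaf 67739))) (.node (.node (.leaf 2204) (.leaf 67740)) (.node (.leaf 67741) (.leaf 67743))))) (.node (.node (.node (.node (.leaf 2208) (.leaf 67744)) (.node (.leaf 2209) (.leaf 67745))) (.node (.node (.leaf 2210) (.leaf 67746)) (.node (.leaf 2211) (.leaf 2212)))) (.node (.node (.node (.leaf 67748) (.leaf 2213)) (.node (.leaf 67749) (.leaf 2214)))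 (.node (.node (.leaf 67750) (.leaf 2215)) (.node (.leaf 2216) (.leaf 67752)))))) (.node (.node (.node (.node (.node (.leaf 67753) (.leaf 2219)) (.node (.leaf 67755) (.leaf 67756))) (.node (.node (.leaf 2223) (.leaf 67759)) (.node (.leaf 2225) (.leaf 67761)))) (.node (.node (.node (.leaf 2227) (.leaf 2228)) (.node (.leaf 2229) (.leaf 67766))) (.node (.node (.leaf 67767) (.leaf 2232)) (.node (.leaf 67768) (.leaf 2233))))) (.node (.node (.node (.node (.leaf 67769) (.leaf 2234)) (.node (.leaf 67770) (.leaf 2235))) (.node (.node (.leaf 67771) (.leaf 2236)) (.node (.leaf 67772) (.leaf 2237)))) (.node (.node (.node (.leaf 67774) (.leaf 67775)) (.node (.leaf 2240) (.leaf 2241))) (.node (.node (.leaf 67777) (.leaf 67778)) (.node (.leaf 2243) (.leaf 67779))))))) (.node (.node (.node (.node (.node (.node (.leaf 67780) (.leaf 2245)) (.node (.leaf 67781) (.leaf 2246))) (.node (.node (.leaf 2247) (.leaf 2248)) (.node (.leaf 67784) (.leaf 2250)))) (.node (.node (.node (.leaf 67786) (.leaf 2251)) (.node (.leaf 67788) (.leaf 2253))) (.node (.node (.leaf 67790) (.leaf 2255)) (.node (.leaf 67791)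 (.leaf 67794))))) (.node (.node (.node (.node (.leaf 67795) (.leaf 2260)) (.node (.leaf 67797) (.leaf 67798))) (.node (.node (.leaf 67799) (.leaf 2264)) (.node (.leaf 67800) (.leaf 67802)))) (.node (.node (.node (.leaf 67803) (.leaf 2269)) (.node (.leaf 67805) (.leaf 67806))) (.node (.node (.leaf 67807) (.leaf 2272)) (.node (.leaf 67808) (.leaf 67809)))))) (.node (.node (.node (.node (.node (.leaf 67810) (.leaf 67811)) (.node (.leaf 2276) (.leaf 2277))) (.node (.node (.leaf 67813) (.leaf 67814)) (.node (.leaf 2279) (.leaf 67815)))) (.node (.node (.node (.leaf 2280) (.leaf 67816)) (.node (.leaf 2281) (.leaf 67817))) (.node (.node (.leaf 2282) (.leaf 67818)) (.node (.leaf 67819) (.leaf 67820))))) (.node (.node (.node (.node (.leaf 2285) (.leaf 67821)) (.node (.leaf 2286) (.leaf 67822))) (.node (.node (.leaf 2287) (.leaf 2288)) (.node (.leaf 67824) (.leaf 2289)))) (.node (.node (.node (.leaf 2290) (.leaf 2291)) (.node (.leaf 67827) (.leaf 2292))) (.node (.node (.leaf 67828) (.leaf 2293)) (.node (.leaf 67829) (.leaf 67830)))))))) (.node (.node (.node (.node (.node (.node (.node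 (.leaf 2295) (.leaf 2296)) (.node (.leaf 2297) (.leaf 67833))) (.node (.node (.leaf 2298) (.leaf 67834)) (.node (.leaf 2299) (.leaf 67836)))) (.node (.node (.node (.leaf 2301) (.leaf 67837)) (.node (.leaf 2302) (.leaf 67838))) (.node (.node (.leaf 2303) (.leaf 67839)) (.node (.leaf 2304) (.leaf 67840))))) (.node (.node (.node (.node (.leaf 2305) (.leaf 67841)) (.node (.leaf 2306) (.leaf 67842))) (.node (.node (.leaf 2307) (.leaf 67843)) (.node (.leaf 2308) (.leaf 2309)))) (.node (.node (.node (.leaf 2310) (.leaf 67846)) (.node (.leaf 2311) (.leaf 67847))) (.node (.node (.leaf 2312) (.leaf 67848)) (.node (.leaf 2313) (.leaf 67849)))))) (.node (.node (.node (.node (.node (.leaf 2314) (.leaf 67850)) (.node (.leaf 2315) (.leaf 2316))) (.node (.node (.leaf 67852) (.leaf 2318)) (.node (.leaf 67854) (.leaf 67855)))) (.node (.node (.node (.leaf 2320) (.leaf 2321)) (.node (.leaf 2322) (.leaf 67859))) (.node (.node (.leaf 67860) (.leaf 2327)) (.node (.leaf 67863) (.leaf 2328))))) (.node (.node (.node (.node (.leaf 67864) (.leaf 67865)) (.node (.leaf 2330) (.leaf 2331))) (.node (.node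 (.leaf 67867) (.leaf 2332)) (.node (.leaf 2333) (.leaf 2334)))) (.node (.node (.node (.leaf 2335) (.leaf 67871)) (.node (.leaf 2336) (.leaf 67872))) (.node (.node (.leaf 2337) (.leaf 67874)) (.node (.leaf 2340) (.leaf 67876))))))) (.node (.node (.node (.node (.node (.node (.leaf 2341) (.leaf 67877)) (.node (.leaf 2342) (.leaf 67878))) (.node (.node (.leaf 2343) (.leaf 2344)) (.node (.leaf 2345) (.leaf 67882)))) (.node (.node (.node (.leaf 2347) (.leaf 2348)) (.node (.leaf 67884) (.leaf 2349))) (.node (.node (.leaf 67885) (.leaf 2350)) (.node (.leaf 2351) (.leaf 67888))))) (.node (.node (.node (.node (.leaf 2353) (.leaf 67889)) (.node (.leaf 2354) (.leaf 2355))) (.node (.node (.leaf 67892) (.leaf 2357)) (.node (.leaf 2358) (.leaf 67894)))) (.node (.node (.node (.leaf 67896) (.leaf 2361)) (.node (.leaf 67897) (.leaf 2362))) (.node (.node (.leaf 67898) (.leaf 2363)) (.node (.leaf 67899) (.leaf 2365)))))) (.node (.node (.node (.node (.node (.leaf 67901) (.leaf 2366)) (.node (.leaf 67902) (.leaf 2367))) (.node (.node (.leaf 67903) (.leaf 2368)) (.node (.leaf 2369) (.leaf 67905))))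 (.node (.node (.node (.leaf 2371) (.leaf 2373)) (.node (.leaf 67909) (.leaf 2375))) (.node (.node (.leaf 67911) (.leaf 2376)) (.node (.leaf 67912) (.leaf 67913))))) (.node (.node (.node (.node (.leaf 2378) (.leaf 2379)) (.node (.leaf 2380) (.leaf 67917))) (.node (.node (.leaf 2382) (.leaf 67918)) (.node (.leaf 2383) (.leaf 67920)))) (.node (.node (.node (.leaf 2385) (.leaf 67921)) (.node (.leaf 2386) (.leaf 2387))) (.node (.node (.leaf 67923) (.leaf 67924)) (.node (.leaf 2389) (.leaf 2390))))))))

def k4Par_15 : H52.TCert.Tr := .node (.node (.node (.node (.node (.node (.node (.node (.leaf 67926) (.leaf 2391)) (.node (.leaf 2392) (.leaf 67928))) (.node (.node (.leaf 67929) (.leaf 2394)) (.node (.leaf 2395) (.leaf 67931)))) (.node (.node (.node (.leaf 2397) (.leaf 67933)) (.node (.leaf 67934) (.leaf 2399))) (.node (.node (.leaf 67935) (.leaf 2400)) (.node (.leaf 2402) (.leaf 2403))))) (.node (.node (.node (.node (.leaf 2405) (.leaf 67942)) (.node (.leaf 2407) (.leaf 67943))) (.node (.node (.leaf 2409) (.leaf 2410)) (.node (.leaf 67946) (.leaf 2411)))) (.node (.node (.node (.leaf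 67947) (.leaf 67948)) (.node (.leaf 2413) (.leaf 67953))) (.node (.node (.leaf 67954) (.leaf 2419)) (.node (.leaf 2420) (.leaf 2422)))))) (.node (.node (.node (.node (.node (.leaf 67958) (.leaf 2423)) (.node (.leaf 67960) (.leaf 2425))) (.node (.node (.leaf 2426) (.leaf 2427)) (.node (.leaf 67963) (.leaf 2428)))) (.node (.node (.node (.leaf 2429) (.leaf 67965)) (.node (.leaf 2430) (.leaf 67966))) (.node (.node (.leaf 67967) (.leaf 67968)) (.node (.leaf 2433) (.leaf 2434))))) (.node (.node (.node (.node (.leaf 2435) (.leaf 67971)) (.node (.leaf 2436) (.leaf 2438))) (.node (.node (.leaf 67975) (.leaf 67976)) (.node (.leaf 67977) (.leaf 67978)))) (.node (.node (.node (.leaf 2443) (.leaf 67979)) (.node (.leaf 2444) (.leaf 67980))) (.node (.node (.leaf 67981) (.leaf 2446)) (.node (.leaf 67982) (.leaf 2447))))))) (.node (.node (.node (.node (.node (.node (.leaf 67983) (.leaf 2448)) (.node (.leaf 67985) (.leaf 2450))) (.node (.node (.leaf 67986) (.leaf 2451)) (.node (.leaf 67987) (.leaf 67988)))) (.node (.node (.node (.leaf 2453) (.leaf 67989)) (.node (.leaf 67990) (.leaf 67991)))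 (.node (.node (.leaf 2456) (.leaf 67993)) (.node (.leaf 2458) (.leaf 67994))))) (.node (.node (.node (.node (.leaf 2459) (.leaf 2460)) (.node (.leaf 67996) (.leaf 2461))) (.node (.node (.leaf 67997) (.leaf 2462)) (.node (.leaf 67998) (.leaf 2463)))) (.node (.node (.node (.leaf 2465) (.leaf 68001)) (.node (.leaf 2466) (.leaf 68002))) (.node (.node (.leaf 2467) (.leaf 68004)) (.node (.leaf 68005) (.leaf 2470)))))) (.node (.node (.node (.node (.node (.leaf 2471) (.leaf 68007)) (.node (.leaf 2472) (.leaf 68009))) (.node (.node (.leaf 68010) (.leaf 68011)) (.node (.leaf 2476) (.leaf 68012)))) (.node (.node (.node (.leaf 2477) (.leaf 68013)) (.node (.leaf 2478) (.leaf 68014))) (.node (.node (.leaf 2479) (.leaf 68015)) (.node (.leaf 2480) (.leaf 2482))))) (.node (.node (.node (.node (.leaf 2484) (.leaf 2485)) (.node (.leaf 2486) (.leaf 2487))) (.node (.node (.leaf 68023) (.leaf 68024)) (.node (.leaf 68025) (.leaf 68026)))) (.node (.node (.node (.leaf 2491) (.leaf 68027)) (.node (.leaf 2492) (.leaf 68028))) (.node (.node (.leaf 68031) (.leaf 2498)) (.node (.leaf 68034) (.leaf 2499))))))))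 (.node (.node (.node (.node (.node (.node (.node (.leaf 2500) (.leaf 68037)) (.node (.leaf 2502) (.leaf 68038))) (.node (.node (.leaf 2503) (.leaf 2504)) (.node (.leaf 68040) (.leaf 68041)))) (.node (.node (.node (.leaf 2506) (.leaf 68042)) (.node (.leaf 2509) (.leaf 68045))) (.node (.node (.leaf 68046) (.leaf 2511)) (.node (.leaf 68048) (.leaf 68049))))) (.node (.node (.node (.node (.leaf 2514) (.leaf 68050)) (.node (.leaf 2515) (.leaf 68051))) (.node (.node (.leaf 2516) (.leaf 68052)) (.node (.leaf 68053) (.leaf 2518)))) (.node (.node (.node (.leaf 68054) (.leaf 68055)) (.node (.leaf 68056) (.leaf 2521))) (.node (.node (.leaf 2522) (.leaf 68058)) (.node (.leaf 2525) (.leaf 68061)))))) (.node (.node (.node (.node (.node (.leaf 2526) (.leaf 68062)) (.node (.leaf 2527) (.leaf 68063))) (.node (.node (.leaf 2528) (.leaf 68064)) (.node (.leaf 2529) (.leaf 68065)))) (.node (.node (.node (.leaf 2531) (.leaf 68067)) (.node (.leaf 68069) (.leaf 2534))) (.node (.node (.leaf 68071) (.leaf 2536)) (.node (.leaf 68072) (.leaf 68074))))) (.node (.node (.node (.node (.leaf 68075) (.leaf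 2540)) (.node (.leaf 2541) (.leaf 2542))) (.node (.node (.leaf 68079) (.leaf 2544)) (.node (.leaf 68080) (.leaf 68082)))) (.node (.node (.node (.leaf 2547) (.leaf 2548)) (.node (.leaf 68084) (.leaf 2549))) (.node (.node (.leaf 68085) (.leaf 2550)) (.node (.leaf 68086) (.leaf 2551))))))) (.node (.node (.node (.node (.node (.node (.leaf 68087) (.leaf 2552)) (.node (.leaf 68088) (.leaf 68089))) (.node (.node (.leaf 2554) (.leaf 68090)) (.node (.leaf 68091) (.leaf 2556)))) (.node (.node (.node (.leaf 68092) (.leaf 2557)) (.node (.leaf 2558) (.leaf 68094))) (.node (.node (.leaf 2559) (.leaf 68095)) (.node (.leaf 2560) (.leaf 68096))))) (.node (.node (.node (.node (.leaf 2561) (.leaf 68097)) (.node (.leaf 2562) (.leaf 2563))) (.node (.node (.leaf 2566) (.leaf 68102)) (.node (.leaf 68103) (.leaf 68104)))) (.node (.node (.node (.leaf 2569) (.leaf 2570)) (.node (.leaf 68107) (.leaf 68108))) (.node (.node (.leaf 2573) (.leaf 68109)) (.node (.leaf 2574) (.leaf 68112)))))) (.node (.node (.node (.node (.node (.leaf 2578) (.leaf 2580)) (.node (.leaf 68117) (.leaf 68118))) (.node (.node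 (.leaf 2584) (.leaf 68121)) (.node (.leaf 2586) (.leaf 2588)))) (.node (.node (.node (.leaf 2590) (.leaf 68126)) (.node (.leaf 2592) (.leaf 2593))) (.node (.node (.leaf 68129) (.leaf 68130)) (.node (.leaf 2595) (.leaf 68131))))) (.node (.node (.node (.node (.leaf 68132) (.leaf 68133)) (.node (.leaf 2598) (.leaf 68134))) (.node (.node (.leaf 68135) (.leaf 2600)) (.node (.leaf 2601) (.leaf 68138)))) (.node (.node (.node (.leaf 2603) (.leaf 68139)) (.node (.leaf 68140) (.leaf 68141))) (.node (.node (.leaf 68142) (.leaf 2607)) (.node (.leaf 2609) (.leaf 2610))))))))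

def k4Par_16 : H52.TCert.Tr := .node (.node (.node (.node (.node (.node (.node (.node (.leaf 2611) (.leaf 68147)) (.node (.leaf 2613) (.leaf 2614))) (.node (.node (.leaf 68150) (.leaf 68151)) (.node (.leaf 2617) (.leaf 68153)))) (.node (.node (.node (.leaf 2618) (.leaf 68154)) (.node (.leaf 68155) (.leaf 68157))) (.node (.node (.leaf 2622) (.leaf 68158)) (.node (.leaf 2623) (.leaf 2624))))) (.node (.node (.node (.node (.leaf 68160) (.leaf 68161)) (.node (.leaf 2626) (.leaf 68162))) (.node (.node (.leaf 2627) (.leaf 68163)) (.node (.leaf 2628) (.leaf 68164)))) (.node (.node (.node (.leaf 2629) (.leaf 68165)) (.node (.leaf 68166) (.leaf 68167))) (.node (.node (.leaf 2633) (.leaf 2634)) (.node (.leaf 68170) (.leaf 2635)))))) (.node (.node (.node (.node (.node (.leaf 68172) (.leaf 68173)) (.node (.leaf 2639) (.leaf 68175))) (.node (.node (.leaf 68176) (.leaf 2641)) (.node (.leaf 68177) (.leaf 2642)))) (.node (.node (.node (.leaf 68178) (.leaf 2643)) (.node (.leaf 68179) (.leaf 2644))) (.node (.node (.leaf 68181) (.leaf 68182)) (.node (.leaf 2647) (.leaf 68184))))) (.node (.node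 (.node (.node (.leaf 68185) (.leaf 2652)) (.node (.leaf 68188) (.leaf 2654))) (.node (.node (.leaf 2656) (.leaf 2657)) (.node (.leaf 68193) (.leaf 2658)))) (.node (.node (.node (.leaf 68194) (.leaf 2660)) (.node (.leaf 68196) (.leaf 2661))) (.node (.node (.leaf 2662) (.leaf 68198)) (.node (.leaf 2663) (.leaf 68199))))))) (.node (.node (.node (.node (.node (.node (.leaf 2664) (.leaf 68200)) (.node (.leaf 2665) (.leaf 68201))) (.node (.node (.leaf 2666) (.leaf 68202)) (.node (.leaf 2667) (.leaf 68205)))) (.node (.node (.node (.leaf 2670) (.leaf 68206)) (.node (.leaf 2671) (.leaf 68207))) (.node (.node (.leaf 2672) (.leaf 2673)) (.node (.leaf 2675) (.leaf 68211))))) (.node (.node (.node (.node (.leaf 2676) (.leaf 68212)) (.node (.leaf 68213) (.leaf 2678))) (.node (.node (.leaf 68214) (.leaf 68216)) (.node (.leaf 2681) (.leaf 2685)))) (.node (.node (.node (.leaf 68221) (.leaf 68222)) (.node (.leaf 2688) (.leaf 2691))) (.node (.node (.leaf 2693) (.leaf 68229)) (.node (.leaf 2694) (.leaf 68230)))))) (.node (.node (.node (.node (.node (.leaf 2695) (.leaf 2696)) (.node (.leaf 2697)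 (.leaf 2698))) (.node (.node (.leaf 68234) (.leaf 2701)) (.node (.leaf 68237) (.leaf 2702)))) (.node (.node (.node (.leaf 2703) (.leaf 68239)) (.node (.leaf 68241) (.leaf 2707))) (.node (.node (.leaf 68244) (.leaf 68246)) (.node (.leaf 68249) (.leaf 68251))))) (.node (.node (.node (.node (.leaf 2716) (.leaf 68252)) (.node (.leaf 68253) (.leaf 2718))) (.node (.node (.leaf 2719) (.leaf 2720)) (.node (.leaf 68256) (.leaf 68257)))) (.node (.node (.node (.leaf 68259) (.leaf 2724)) (.node (.leaf 68260) (.leaf 2726))) (.node (.node (.leaf 68262) (.leaf 68263)) (.node (.leaf 68264) (.leaf 68265)))))))) (.node (.node (.node (.node (.node (.node (.node (.leaf 2730) (.leaf 68266)) (.node (.leaf 2731) (.leaf 68267))) (.node (.node (.leaf 2732) (.leaf 68268)) (.node (.leaf 2733) (.leaf 2734)))) (.node (.node (.node (.leaf 2736) (.leaf 2740)) (.node (.leaf 2741) (.leaf 68277))) (.node (.node (.leaf 2742) (.leaf 68278)) (.node (.leaf 2743) (.leaf 2744))))) (.node (.node (.node (.node (.leaf 68280) (.leaf 2745)) (.node (.leaf 68281) (.leaf 2746))) (.node (.node (.leaf 68282) (.leaf 2747))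 (.node (.leaf 68284) (.leaf 2749)))) (.node (.node (.node (.leaf 68285) (.leaf 68286)) (.node (.leaf 68287) (.leaf 68288))) (.node (.node (.leaf 68289) (.leaf 2754)) (.node (.leaf 2755) (.leaf 2756)))))) (.node (.node (.node (.node (.node (.leaf 68292) (.leaf 2758)) (.node (.leaf 68294) (.leaf 68296))) (.node (.node (.leaf 68297) (.leaf 2762)) (.node (.leaf 68299) (.leaf 2764)))) (.node (.node (.node (.leaf 68300) (.leaf 2765)) (.node (.leaf 68301) (.leaf 68303))) (.node (.node (.leaf 2768) (.leaf 68305)) (.node (.leaf 2770) (.leaf 68306))))) (.node (.node (.node (.node (.leaf 68308) (.leaf 2773)) (.node (.leaf 2774) (.leaf 68310))) (.node (.node (.leaf 2775) (.leaf 68311)) (.node (.leaf 68313) (.leaf 2778)))) (.node (.node (.node (.leaf 68314) (.leaf 68315)) (.node (.leaf 68316) (.leaf 2781))) (.node (.node (.leaf 68317) (.leaf 68318)) (.node (.leaf 68319) (.leaf 2784))))))) (.node (.node (.node (.node (.node (.node (.leaf 68320) (.leaf 68321)) (.node (.leaf 2786) (.leaf 68325))) (.node (.node (.leaf 2790) (.leaf 2791)) (.node (.leaf 68327) (.leaf 2793)))) (.node (.node (.node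 (.leaf 68330) (.leaf 2797)) (.node (.leaf 68333) (.leaf 68334))) (.node (.node (.leaf 68335) (.leaf 2800)) (.node (.leaf 2801) (.leaf 2802))))) (.node (.node (.node (.node (.leaf 2803) (.leaf 68339)) (.node (.leaf 2804) (.leaf 2805))) (.node (.node (.leaf 68342) (.leaf 2807)) (.node (.leaf 2808) (.leaf 68344)))) (.node (.node (.node (.leaf 2809) (.leaf 68345)) (.node (.leaf 68346) (.leaf 2811))) (.node (.node (.leaf 68347) (.leaf 2813)) (.node (.leaf 2814) (.leaf 2815)))))) (.node (.node (.node (.node (.node (.leaf 68351) (.leaf 68352)) (.node (.leaf 68353) (.leaf 2818))) (.node (.node (.leaf 2819) (.leaf 2820)) (.node (.leaf 68356) (.leaf 2821)))) (.node (.node (.node (.leaf 68357) (.leaf 2822)) (.node (.leaf 2823) (.leaf 2826))) (.node (.node (.leaf 68362) (.leaf 2828)) (.node (.leaf 2829) (.leaf 2830))))) (.node (.node (.node (.node (.leaf 2832) (.leaf 68370)) (.node (.leaf 2835) (.leaf 68372))) (.node (.node (.leaf 2837) (.leaf 68374)) (.node (.leaf 68375) (.leaf 2841)))) (.node (.node (.node (.leaf 2844) (.leaf 68381)) (.node (.leaf 2846) (.leaf 68382))) (.node (.node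 (.leaf 68383) (.leaf 2848)) (.node (.leaf 2849) (.leaf 68387))))))))

def k4Par_17 : H52.TCert.Tr := .node (.node (.node (.node (.node (.node (.node (.node (.leaf 68388) (.leaf 2854)) (.node (.leaf 2855) (.leaf 68391))) (.node (.node (.leaf 68392) (.leaf 2857)) (.node (.leaf 68393) (.leaf 2858)))) (.node (.node (.node (.leaf 68394) (.leaf 68395)) (.node (.leaf 2860) (.leaf 68397))) (.node (.node (.leaf 2863) (.leaf 68399)) (.node (.leaf 2864) (.leaf 68400))))) (.node (.node (.node (.node (.leaf 2865) (.leaf 68401)) (.node (.leaf 68402) (.leaf 2867))) (.node (.node (.leaf 68403) (.leaf 2868)) (.node (.leaf 68404) (.leaf 68405)))) (.node (.node (.node (.leaf 2870) (.leaf 2871)) (.node (.leaf 2872) (.leaf 2873))) (.node (.node (.leaf 68409) (.leaf 2874)) (.node (.leaf 68410) (.leaf 2875)))))) (.node (.node (.node (.node (.node (.leaf 68411) (.leaf 2878)) (.node (.leaf 2879) (.leaf 2880))) (.node (.node (.leaf 68416) (.leaf 2881)) (.node (.leaf 68417) (.leaf 2882)))) (.node (.node (.node (.leaf 68419) (.leaf 2884)) (.node (.leaf 68420) (.leaf 2885))) (.node (.node (.leaf 68421)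 (.leaf 2886)) (.node (.leaf 2887) (.leaf 68424))))) (.node (.node (.node (.node (.leaf 2889) (.leaf 68425)) (.node (.leaf 2890) (.leaf 2891))) (.node (.node (.leaf 2893) (.leaf 68429)) (.node (.leaf 2894) (.leaf 68430)))) (.node (.node (.node (.leaf 2895) (.leaf 68431)) (.node (.leaf 2896) (.leaf 68432))) (.node (.node (.leaf 2897) (.leaf 68434)) (.node (.leaf 2899) (.leaf 68435))))))) (.node (.node (.node (.node (.node (.node (.leaf 2900) (.leaf 68436)) (.node (.leaf 2901) (.leaf 68438))) (.node (.node (.leaf 68439) (.leaf 2906)) (.node (.leaf 68442) (.leaf 2908)))) (.node (.node (.node (.leaf 68444) (.leaf 68445)) (.node (.leaf 2910) (.leaf 68446))) (.node (.node (.leaf 2911) (.leaf 2912)) (.node (.leaf 2913) (.leaf 68449))))) (.node (.node (.node (.node (.leaf 2914) (.leaf 2915)) (.node (.leaf 68451) (.leaf 2916))) (.node (.node (.leaf 68453) (.leaf 2919)) (.node (.leaf 68456) (.leaf 2921)))) (.node (.node (.node (.leaf 68457) (.leaf 2922)) (.node (.leaf 2923) (.leaf 2924))) (.node (.node (.leaf 68460) (.leaf 68461)) (.node (.leaf 2926) (.leaf 68463)))))) (.node (.node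 (.node (.node (.node (.leaf 2928) (.leaf 2929)) (.node (.leaf 68466) (.leaf 2932))) (.node (.node (.leaf 2933) (.leaf 68469)) (.node (.leaf 2934) (.leaf 2936)))) (.node (.node (.node (.leaf 2937) (.leaf 2939)) (.node (.leaf 68475) (.leaf 68476))) (.node (.node (.leaf 2941) (.leaf 68477)) (.node (.leaf 2942) (.leaf 2943))))) (.node (.node (.node (.node (.leaf 68479) (.leaf 68480)) (.node (.leaf 2945) (.leaf 68482))) (.node (.node (.leaf 2947) (.leaf 68483)) (.node (.leaf 2948) (.leaf 2949)))) (.node (.node (.node (.leaf 68485) (.leaf 2950)) (.node (.leaf 68486) (.leaf 68487))) (.node (.node (.leaf 2952) (.leaf 68488)) (.node (.leaf 2953) (.leaf 68489)))))))) (.node (.node (.node (.node (.node (.node (.node (.leaf 2956) (.leaf 2957)) (.node (.leaf 2958) (.leaf 68495))) (.node (.node (.leaf 2963) (.leaf 68499)) (.node (.leaf 2964) (.leaf 2965)))) (.node (.node (.node (.leaf 68502) (.leaf 2967)) (.node (.leaf 2968) (.leaf 2969))) (.node (.node (.leaf 68505) (.leaf 2970)) (.node (.leaf 68506) (.leaf 2972))))) (.node (.node (.node (.node (.leaf 68508) (.leaf 68509)) (.node (.leaf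 68513) (.leaf 68515))) (.node (.node (.leaf 2980) (.leaf 2981)) (.node (.leaf 68517) (.leaf 2982)))) (.node (.node (.node (.leaf 2983) (.leaf 68519)) (.node (.leaf 2984) (.leaf 2985))) (.node (.node (.leaf 68521) (.leaf 2988)) (.node (.leaf 2989) (.leaf 2991)))))) (.node (.node (.node (.node (.node (.leaf 2993) (.leaf 68529)) (.node (.leaf 2995) (.leaf 68532))) (.node (.node (.leaf 2997) (.leaf 68533)) (.node (.leaf 2998) (.leaf 68534)))) (.node (.node (.node (.leaf 68535) (.leaf 3000)) (.node (.leaf 68537) (.leaf 3003))) (.node (.node (.leaf 3004) (.leaf 68542)) (.node (.leaf 3009) (.leaf 3011))))) (.node (.node (.node (.node (.leaf 68547) (.leaf 3012)) (.node (.leaf 68548) (.leaf 3014))) (.node (.node (.leaf 68550) (.leaf 3016)) (.node (.leaf 68552) (.leaf 68554)))) (.node (.node (.node (.leaf 68555) (.leaf 3021)) (.node (.leaf 3022) (.leaf 68558))) (.node (.node (.leaf 68559) (.leaf 3026)) (.node (.leaf 68562) (.leaf 3028))))))) (.node (.node (.node (.node (.node (.node (.leaf 68564) (.leaf 68565)) (.node (.leaf 3030) (.leaf 68566))) (.node (.node (.leaf 3032) (.leaf 68571))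 (.node (.leaf 3039) (.leaf 68576)))) (.node (.node (.node (.leaf 3041) (.leaf 68577)) (.node (.leaf 3042) (.leaf 68578))) (.node (.node (.leaf 3043) (.leaf 3046)) (.node (.leaf 3051) (.leaf 3052))))) (.node (.node (.node (.node (.leaf 68588) (.leaf 68589)) (.node (.leaf 3054) (.leaf 68590))) (.node (.node (.leaf 3055) (.leaf 68591)) (.node (.leaf 3057) (.leaf 3058)))) (.node (.node (.node (.leaf 68595) (.leaf 3060)) (.node (.leaf 3061) (.leaf 68597))) (.node (.node (.leaf 3062) (.leaf 68598)) (.node (.leaf 3063) (.leaf 68599)))))) (.node (.node (.node (.node (.node (.leaf 68601) (.leaf 3066)) (.node (.leaf 3067) (.leaf 68603))) (.node (.node (.leaf 68604) (.leaf 3069)) (.node (.leaf 3070) (.leaf 68606)))) (.node (.node (.node (.leaf 3071) (.leaf 68607)) (.node (.leaf 3072) (.leaf 68609))) (.node (.node (.leaf 68610) (.leaf 3075)) (.node (.leaf 3076) (.leaf 68612))))) (.node (.node (.node (.node (.leaf 3077) (.leaf 3078)) (.node (.leaf 68614) (.leaf 3080))) (.node (.node (.leaf 68616) (.leaf 3081)) (.node (.leaf 68618) (.leaf 68619)))) (.node (.node (.node (.leaf 3084) (.leaf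 68620)) (.node (.leaf 3085) (.leaf 68622))) (.node (.node (.leaf 68623) (.leaf 68624)) (.node (.leaf 68626) (.leaf 3091))))))))

def k4Par_18 : H52.TCert.Tr := .node (.node (.node (.node (.node (.node (.node (.node (.leaf 3092) (.leaf 3093)) (.node (.leaf 68632) (.leaf 3098))) (.node (.node (.leaf 3099) (.leaf 68635)) (.node (.leaf 3100) (.leaf 3101)))) (.node (.node (.node (.leaf 68639) (.leaf 68642)) (.node (.leaf 3107) (.leaf 68643))) (.node (.node (.leaf 68644) (.leaf 3109)) (.node (.leaf 3110) (.leaf 68646))))) (.node (.node (.node (.node (.leaf 3111) (.leaf 68648)) (.node (.leaf 3114) (.leaf 68650))) (.node (.node (.leaf 68651) (.leaf 68652)) (.node (.leaf 3117) (.leaf 68653)))) (.node (.node (.node (.leaf 68654) (.leaf 3119)) (.node (.leaf 68655) (.leaf 68656))) (.node (.node (.leaf 3122) (.leaf 68659)) (.node (.leaf 68660) (.leaf 3125)))))) (.node (.node (.node (.node (.node (.leaf 68662) (.leaf 3127)) (.node (.leaf 68663) (.leaf 68665))) (.node (.node (.leaf 68666) (.leaf 3131)) (.node (.leaf 68667) (.leaf 68668)))) (.node (.node (.node (.leaf 3134) (.leaf 3138))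 (.node (.leaf 68674) (.leaf 68675))) (.node (.node (.leaf 68676) (.leaf 3142)) (.node (.leaf 3143) (.leaf 68679))))) (.node (.node (.node (.node (.leaf 3144) (.leaf 3146)) (.node (.leaf 68683) (.leaf 3148))) (.node (.node (.leaf 68684) (.leaf 68685)) (.node (.leaf 3151) (.leaf 68687)))) (.node (.node (.node (.leaf 3152) (.leaf 68691)) (.node (.leaf 3156) (.leaf 68692))) (.node (.node (.leaf 68693) (.leaf 3158)) (.node (.leaf 68696) (.leaf 68697))))))) (.node (.node (.node (.node (.node (.node (.leaf 68698) (.leaf 3163)) (.node (.leaf 68699) (.leaf 3165))) (.node (.node (.leaf 68701) (.leaf 3166)) (.node (.leaf 68702) (.leaf 68703)))) (.node (.node (.node (.leaf 3168) (.leaf 68704)) (.node (.leaf 3169) (.leaf 3170))) (.node (.node (.leaf 68707) (.leaf 3173)) (.node (.leaf 3174) (.leaf 68710))))) (.node (.node (.node (.node (.leaf 3175) (.leaf 68711)) (.node (.leaf 3176) (.leaf 3178))) (.node (.node (.leaf 68715) (.leaf 3180)) (.node (.leaf 3184) (.leaf 68720)))) (.node (.node (.node (.leaf 3185) (.leaf 3186)) (.node (.leaf 68722) (.leaf 3187))) (.node (.node (.leaf 3188) (.leaf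 3189)) (.node (.leaf 68725) (.leaf 3190)))))) (.node (.node (.node (.node (.node (.leaf 68726) (.leaf 68727)) (.node (.leaf 3192) (.leaf 3193))) (.node (.node (.leaf 68729) (.leaf 3195)) (.node (.leaf 3196) (.leaf 3197)))) (.node (.node (.node (.leaf 3198) (.leaf 68734)) (.node (.leaf 3199) (.leaf 3201))) (.node (.node (.leaf 3202) (.leaf 3203)) (.node (.leaf 3206) (.leaf 68745))))) (.node (.node (.node (.node (.leaf 3210) (.leaf 68746)) (.node (.leaf 68750) (.leaf 3216))) (.node (.node (.leaf 68752) (.leaf 3217)) (.node (.leaf 68755) (.leaf 3220)))) (.node (.node (.node (.leaf 3221) (.leaf 3222)) (.node (.leaf 68758) (.leaf 3224))) (.node (.node (.leaf 3225) (.leaf 3226)) (.node (.leaf 3227) (.leaf 68764)))))))) (.node (.node (.node (.node (.node (.node (.node (.leaf 68765) (.leaf 3230)) (.node (.leaf 68766) (.leaf 68767))) (.node (.node (.leaf 68768) (.leaf 3233)) (.node (.leaf 68769) (.leaf 3234)))) (.node (.node (.node (.leaf 68770) (.leaf 3235)) (.node (.leaf 68771) (.leaf 3236))) (.node (.node (.leaf 68772) (.leaf 68773)) (.node (.leaf 68774) (.leaf 3239))))) (.node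 (.node (.node (.node (.leaf 68775) (.leaf 68776)) (.node (.leaf 3241) (.leaf 68777))) (.node (.node (.leaf 3242) (.leaf 3244)) (.node (.leaf 68782) (.leaf 3248)))) (.node (.node (.node (.leaf 68785) (.leaf 3250)) (.node (.leaf 68786) (.leaf 68787))) (.node (.node (.leaf 68788) (.leaf 68789)) (.node (.leaf 3254) (.leaf 68791)))))) (.node (.node (.node (.node (.node (.leaf 3256) (.leaf 68792)) (.node (.leaf 68793) (.leaf 3258))) (.node (.node (.leaf 68795) (.leaf 3261)) (.node (.leaf 68797) (.leaf 3262)))) (.node (.node (.node (.leaf 68798) (.leaf 3263)) (.node (.leaf 68799) (.leaf 3264))) (.node (.node (.leaf 68801) (.leaf 3267)) (.node (.leaf 68805) (.leaf 3270))))) (.node (.node (.node (.node (.leaf 68806) (.leaf 68807)) (.node (.leaf 3272) (.leaf 68808))) (.node (.node (.leaf 68809) (.leaf 68810)) (.node (.leaf 68811) (.leaf 68814)))) (.node (.node (.node (.leaf 3279) (.leaf 68819)) (.node (.leaf 3284) (.leaf 68821))) (.node (.node (.leaf 68822) (.leaf 3287)) (.node (.leaf 3288) (.leaf 68825))))))) (.node (.node (.node (.node (.node (.node (.leaf 3290) (.leaf 3291)) (.node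 (.leaf 3292) (.leaf 68830))) (.node (.node (.leaf 3295) (.leaf 68831)) (.node (.leaf 3296) (.leaf 68832)))) (.node (.node (.node (.leaf 68833) (.leaf 68835)) (.node (.leaf 68836) (.leaf 3301))) (.node (.node (.leaf 68837) (.leaf 3302)) (.node (.leaf 68838) (.leaf 3303))))) (.node (.node (.node (.node (.leaf 3304) (.leaf 68840)) (.node (.leaf 3305) (.leaf 68841))) (.node (.node (.leaf 3306) (.leaf 68843)) (.node (.leaf 68844) (.leaf 3310)))) (.node (.node (.node (.leaf 68846) (.leaf 68850)) (.node (.leaf 3315) (.leaf 68851))) (.node (.node (.leaf 3316) (.leaf 68852)) (.node (.leaf 3317) (.leaf 68854)))))) (.node (.node (.node (.node (.node (.leaf 68856) (.leaf 3321)) (.node (.leaf 3322) (.leaf 3324))) (.node (.node (.leaf 68860) (.leaf 3326)) (.node (.leaf 68863) (.leaf 3328)))) (.node (.node (.node (.leaf 68865) (.leaf 3330)) (.node (.leaf 68866) (.leaf 68869))) (.node (.node (.leaf 68872) (.leaf 68874)) (.node (.leaf 68878) (.leaf 3343))))) (.node (.node (.node (.node (.leaf 3344) (.leaf 68881)) (.node (.leaf 3346) (.leaf 3347))) (.node (.node (.leaf 68883) (.leaf 3348))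 (.node (.leaf 68885) (.leaf 3350)))) (.node (.node (.node (.leaf 68886) (.leaf 3352)) (.node (.leaf 68888) (.leaf 3353))) (.node (.node (.leaf 3354) (.leaf 68892)) (.node (.leaf 3358) (.leaf 68895))))))))

def k4Par_19 : H52.TCert.Tr := .node (.node (.node (.node (.node (.node (.node (.node (.leaf 3360) (.leaf 68897)) (.node (.leaf 3362) (.leaf 3363))) (.node (.node (.leaf 3364) (.leaf 3365)) (.node (.leaf 68901) (.leaf 68905)))) (.node (.node (.node (.leaf 68906) (.leaf 3376)) (.node (.leaf 68913) (.leaf 3378))) (.node (.node (.leaf 3379) (.leaf 3380)) (.node (.leaf 3381) (.leaf 68917))))) (.node (.node (.node (.node (.leaf 3382) (.leaf 3384)) (.node (.leaf 68920) (.leaf 3385))) (.node (.node (.leaf 68921) (.leaf 68922)) (.node (.leaf 3387) (.leaf 68924)))) (.node (.node (.node (.leaf 3389) (.leaf 68925)) (.node (.leaf 3390) (.leaf 3391))) (.node (.node (.leaf 68928) (.leaf 3393)) (.node (.leaf 68929) (.leaf 68931)))))) (.node (.node (.node (.node (.node (.leaf 3396) (.leaf 3397)) (.node (.leaf 68933) (.leaf 68934))) (.node (.node (.leaf 68935) (.leaf 3400)) (.node (.leaf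 3401) (.leaf 68937)))) (.node (.node (.node (.leaf 3403) (.leaf 3404)) (.node (.leaf 68940) (.leaf 3405))) (.node (.node (.leaf 68941) (.leaf 3406)) (.node (.leaf 3408) (.leaf 3410))))) (.node (.node (.node (.node (.leaf 68946) (.leaf 3411)) (.node (.leaf 68947) (.leaf 68948))) (.node (.node (.leaf 3413) (.leaf 3414)) (.node (.leaf 68953) (.leaf 3418)))) (.node (.node (.node (.leaf 68955) (.leaf 3420)) (.node (.leaf 68956) (.leaf 3421))) (.node (.node (.leaf 3422) (.leaf 3423)) (.node (.leaf 68960) (.leaf 3425))))))) (.node (.node (.node (.node (.node (.node (.leaf 3426) (.leaf 3427)) (.node (.leaf 68963) (.leaf 68964))) (.node (.node (.leaf 3429) (.leaf 68965)) (.node (.leaf 3432) (.leaf 3433)))) (.node (.node (.node (.leaf 3435) (.leaf 68972)) (.node (.leaf 3437) (.leaf 3439))) (.node (.node (.leaf 68976) (.leaf 68979)) (.node (.leaf 68980) (.leaf 3445))))) (.node (.node (.node (.node (.leaf 3448) (.leaf 68984)) (.node (.leaf 3449) (.leaf 3450))) (.node (.node (.leaf 3451) (.leaf 68987)) (.node (.leaf 3452) (.leaf 68988)))) (.node (.node (.node (.leaf 68989) (.leaf 3455))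 (.node (.leaf 68994) (.leaf 3460))) (.node (.node (.leaf 68997) (.leaf 3462)) (.node (.leaf 68998) (.leaf 3463)))))) (.node (.node (.node (.node (.node (.leaf 68999) (.leaf 3464)) (.node (.leaf 69001) (.leaf 3466))) (.node (.node (.leaf 69002) (.leaf 3467)) (.node (.leaf 69003) (.leaf 69004)))) (.node (.node (.node (.leaf 69005) (.leaf 69006)) (.node (.leaf 3471) (.leaf 69008))) (.node (.node (.leaf 3473) (.leaf 69009)) (.node (.leaf 3474) (.leaf 3475))))) (.node (.node (.node (.node (.leaf 69011) (.leaf 3477)) (.node (.leaf 69013) (.leaf 3478))) (.node (.node (.leaf 3479) (.leaf 3480)) (.node (.leaf 69016) (.leaf 3481)))) (.node (.node (.node (.leaf 69018) (.leaf 3483)) (.node (.leaf 3484) (.leaf 69021))) (.node (.node (.leaf 69022) (.leaf 3487)) (.node (.leaf 69023) (.leaf 3488)))))))) (.node (.node (.node (.node (.node (.node (.node (.leaf 69024) (.leaf 3490)) (.node (.leaf 3492) (.leaf 3493))) (.node (.node (.leaf 69030) (.leaf 69035)) (.node (.leaf 3502) (.leaf 69038)))) (.node (.node (.node (.leaf 3503) (.leaf 69041)) (.node (.leaf 3506) (.leaf 69042))) (.node (.node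 (.leaf 3507) (.leaf 69043)) (.node (.leaf 69044) (.leaf 3509))))) (.node (.node (.node (.node (.leaf 69045) (.leaf 3512)) (.node (.leaf 69048) (.leaf 69050))) (.node (.node (.leaf 3515) (.leaf 69051)) (.node (.leaf 3516) (.leaf 3517)))) (.node (.node (.node (.leaf 69054) (.leaf 3519)) (.node (.leaf 69055) (.leaf 69056))) (.node (.node (.leaf 3522) (.leaf 3525)) (.node (.leaf 3526) (.leaf 3527)))))) (.node (.node (.node (.node (.node (.leaf 69063) (.leaf 69064)) (.node (.leaf 69067) (.leaf 69070))) (.node (.node (.leaf 3535) (.leaf 69071)) (.node (.leaf 69072) (.leaf 69073)))) (.node (.node (.node (.leaf 3539) (.leaf 3540)) (.node (.leaf 69077) (.leaf 3542))) (.node (.node (.leaf 3546) (.leaf 69082)) (.node (.leaf 69084) (.leaf 3549))))) (.node (.node (.node (.node (.leaf 69085) (.leaf 69086)) (.node (.leaf 3553) (.leaf 3555))) (.node (.node (.leaf 3557) (.leaf 3558)) (.node (.leaf 69094) (.leaf 69095)))) (.node (.node (.node (.leaf 3561) (.leaf 69098)) (.node (.leaf 3564) (.leaf 69101))) (.node (.node (.leaf 69102) (.leaf 69103)) (.node (.leaf 69104) (.leaf 69105))))))) (.node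 (.node (.node (.node (.node (.node (.leaf 3570) (.leaf 3572)) (.node (.leaf 3574) (.leaf 69110))) (.node (.node (.leaf 69111) (.leaf 3577)) (.node (.leaf 69114) (.leaf 69116)))) (.node (.node (.node (.leaf 3581) (.leaf 69117)) (.node (.leaf 3582) (.leaf 3583))) (.node (.node (.leaf 69120) (.leaf 3585)) (.node (.leaf 69121) (.leaf 3588))))) (.node (.node (.node (.node (.leaf 3591) (.leaf 69127)) (.node (.leaf 69128) (.leaf 3593))) (.node (.node (.leaf 3594) (.leaf 69130)) (.node (.leaf 3595) (.leaf 69131)))) (.node (.node (.node (.leaf 69133) (.leaf 3600)) (.node (.leaf 69137) (.leaf 3603))) (.node (.node (.leaf 69139) (.leaf 3604)) (.node (.leaf 69140) (.leaf 3605)))))) (.node (.node (.node (.node (.node (.leaf 69141) (.leaf 3607)) (.node (.leaf 69143) (.leaf 3608))) (.node (.node (.leaf 69145) (.leaf 3610)) (.node (.leaf 69147) (.leaf 3612)))) (.node (.node (.node (.leaf 3613) (.leaf 69150)) (.node (.leaf 3615) (.leaf 69151))) (.node (.node (.leaf 69152) (.leaf 69155)) (.node (.leaf 3620) (.leaf 3622))))) (.node (.node (.node (.node (.leaf 3624) (.leaf 3625)) (.node (.leaf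 3626) (.leaf 3627))) (.node (.node (.leaf 69163) (.leaf 3629)) (.node (.leaf 69165) (.leaf 3630)))) (.node (.node (.node (.leaf 3631) (.leaf 69170)) (.node (.leaf 69172) (.leaf 69175))) (.node (.node (.leaf 69176) (.leaf 3641)) (.node (.leaf 3642) (.leaf 69179))))))))

def k4Par_20 : H52.TCert.Tr := .node (.node (.node (.node (.node (.node (.node (.node (.leaf 69180) (.leaf 69182)) (.node (.leaf 69183) (.leaf 3648))) (.node (.node (.leaf 69184) (.leaf 3649)) (.node (.leaf 3650) (.leaf 3653)))) (.node (.node (.node (.leaf 69194) (.leaf 3659)) (.node (.leaf 3660) (.leaf 3661))) (.node (.node (.leaf 69199) (.leaf 69200)) (.node (.leaf 69201) (.leaf 69202))))) (.node (.node (.node (.node (.leaf 69207) (.leaf 69209)) (.node (.leaf 3674) (.leaf 69211))) (.node (.node (.leaf 69213) (.leaf 3678)) (.node (.leaf 3679) (.leaf 69215)))) (.node (.node (.node (.leaf 3680) (.leaf 69216)) (.node (.leaf 69217) (.leaf 3685))) (.node (.node (.leaf 69222) (.leaf 3688)) (.node (.leaf 69224) (.leaf 69225)))))) (.node (.node (.node (.node (.node (.leaf 69229) (.leaf 3694)) (.node (.leaf 3695) (.leaf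 69232))) (.node (.node (.leaf 3699) (.leaf 69236)) (.node (.leaf 3701) (.leaf 3702)))) (.node (.node (.node (.leaf 3703) (.leaf 3704)) (.node (.leaf 69241) (.leaf 3706))) (.node (.node (.leaf 69243) (.leaf 3708)) (.node (.leaf 69244) (.leaf 3710))))) (.node (.node (.node (.node (.leaf 69246) (.leaf 3712)) (.node (.leaf 69249) (.leaf 3715))) (.node (.node (.leaf 3716) (.leaf 69253)) (.node (.leaf 3718) (.leaf 69254)))) (.node (.node (.node (.leaf 3719) (.leaf 3723)) (.node (.leaf 3725) (.leaf 3727))) (.node (.node (.leaf 69266) (.leaf 3731)) (.node (.leaf 69268) (.leaf 3733))))))) (.node (.node (.node (.node (.node (.node (.leaf 69270) (.leaf 69271)) (.node (.leaf 3737) (.leaf 3740))) (.node (.node (.leaf 69277) (.leaf 3742)) (.node (.leaf 69278) (.leaf 69279)))) (.node (.node (.node (.leaf 3744) (.leaf 3749)) (.node (.leaf 69287) (.leaf 3752))) (.node (.node (.leaf 69288) (.leaf 3753)) (.node (.leaf 3755) (.leaf 3756))))) (.node (.node (.node (.node (.leaf 69293) (.leaf 69294)) (.node (.leaf 69295) (.leaf 3760))) (.node (.node (.leaf 3762) (.leaf 3764)) (.node (.leaf 69300)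 (.leaf 69301)))) (.node (.node (.node (.leaf 3767) (.leaf 3768)) (.node (.leaf 69304) (.leaf 3771))) (.node (.node (.leaf 69307) (.leaf 69308)) (.node (.leaf 3773) (.leaf 69311)))))) (.node (.node (.node (.node (.node (.leaf 3776) (.leaf 3777)) (.node (.leaf 3779) (.leaf 69315))) (.node (.node (.leaf 3780) (.leaf 3781)) (.node (.leaf 3783) (.leaf 69319)))) (.node (.node (.node (.leaf 3784) (.leaf 69321)) (.node (.leaf 69322) (.leaf 69325))) (.node (.node (.leaf 3791) (.leaf 69327)) (.node (.leaf 3794) (.leaf 3797))))) (.node (.node (.node (.node (.leaf 3800) (.leaf 69336)) (.node (.leaf 3801) (.leaf 3802))) (.node (.node (.leaf 3803) (.leaf 69340)) (.node (.leaf 3805) (.leaf 69342)))) (.node (.node (.node (.leaf 69347) (.leaf 3814)) (.node (.leaf 3817) (.leaf 3818))) (.node (.node (.leaf 69354) (.leaf 3819)) (.node (.leaf 69356) (.leaf 3821)))))))) (.node (.node (.node (.node (.node (.node (.node (.leaf 3822) (.leaf 3823)) (.node (.leaf 69359) (.leaf 3827))) (.node (.node (.leaf 3828) (.leaf 3830)) (.node (.leaf 69366) (.leaf 3832)))) (.node (.node (.node (.leaf 69368) (.leaf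 69373)) (.node (.leaf 69374) (.leaf 69375))) (.node (.node (.leaf 3840) (.leaf 3846)) (.node (.leaf 69385) (.leaf 3850))))) (.node (.node (.node (.node (.leaf 3852) (.leaf 3853)) (.node (.leaf 3856) (.leaf 69393))) (.node (.node (.leaf 3858) (.leaf 3860)) (.node (.leaf 3863) (.leaf 69400)))) (.node (.node (.node (.leaf 3865) (.leaf 3868)) (.node (.leaf 69404) (.leaf 3870))) (.node (.node (.leaf 69406) (.leaf 69407)) (.node (.leaf 69408) (.leaf 3873)))))) (.node (.node (.node (.node (.node (.leaf 3874) (.leaf 69410)) (.node (.leaf 3876) (.leaf 69413))) (.node (.node (.leaf 3878) (.leaf 69415)) (.node (.leaf 69421) (.leaf 69422)))) (.node (.node (.node (.leaf 69424) (.leaf 3889)) (.node (.leaf 3893) (.leaf 69430))) (.node (.node (.leaf 69432) (.leaf 3897)) (.node (.leaf 69433) (.leaf 69434))))) (.node (.node (.node (.node (.leaf 3899) (.leaf 69437)) (.node (.leaf 3902) (.leaf 69439))) (.node (.node (.leaf 3905) (.leaf 69442)) (.node (.leaf 69443) (.leaf 69444)))) (.node (.node (.node (.leaf 3909) (.leaf 3910)) (.node (.leaf 69446) (.leaf 69447))) (.node (.node (.leaf 69451)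 (.leaf 69452)) (.node (.leaf 69456) (.leaf 3921))))))) (.node (.node (.node (.node (.node (.node (.leaf 3924) (.leaf 69460)) (.node (.leaf 3928) (.leaf 69465))) (.node (.node (.leaf 3931) (.leaf 69467)) (.node (.leaf 3932) (.leaf 3933)))) (.node (.node (.node (.leaf 69469) (.leaf 69470)) (.node (.leaf 69473) (.leaf 69475))) (.node (.node (.leaf 69478) (.leaf 69479)) (.node (.leaf 3944) (.leaf 3945))))) (.node (.node (.node (.node (.leaf 69482) (.leaf 69483)) (.node (.leaf 3948) (.leaf 69485))) (.node (.node (.leaf 3950) (.leaf 3951)) (.node (.leaf 69487) (.leaf 3954)))) (.node (.node (.node (.leaf 69492) (.leaf 3959)) (.node (.leaf 69496) (.leaf 69497))) (.node (.node (.leaf 3964) (.leaf 3965)) (.node (.leaf 69501) (.leaf 69502)))))) (.node (.node (.node (.node (.node (.leaf 3967) (.leaf 3969)) (.node (.leaf 69505) (.leaf 3970))) (.node (.node (.leaf 69506) (.leaf 69514)) (.node (.leaf 3979) (.leaf 69516)))) (.node (.node (.node (.leaf 3981) (.leaf 3985)) (.node (.leaf 69521) (.leaf 3989))) (.node (.node (.leaf 69525) (.leaf 69526)) (.node (.leaf 3992) (.leaf 69529))))) (.node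 (.node (.node (.node (.leaf 69530) (.leaf 69531)) (.node (.leaf 69533) (.leaf 69534))) (.node (.node (.leaf 3999) (.leaf 69535)) (.node (.leaf 69537) (.leaf 4004)))) (.node (.node (.node (.leaf 4006) (.leaf 4008)) (.node (.leaf 4009) (.leaf 4010))) (.node (.node (.leaf 4011) (.leaf 69547)) (.node (.leaf 4012) (.leaf 69548))))))))

def k4Par_21 : H52.TCert.Tr := .node (.node (.node (.node (.node (.node (.node (.node (.leaf 4022) (.leaf 69558)) (.node (.leaf 4025) (.leaf 69561))) (.node (.node (.leaf 69562) (.leaf 4027)) (.node (.leaf 69567) (.leaf 4033)))) (.node (.node (.node (.leaf 69569) (.leaf 69572)) (.node (.leaf 4038) (.leaf 4039))) (.node (.node (.leaf 69575) (.leaf 69576)) (.node (.leaf 4044) (.leaf 69580))))) (.node (.node (.node (.node (.leaf 4045) (.leaf 69583)) (.node (.leaf 4048) (.leaf 69584))) (.node (.node (.leaf 4049) (.leaf 69588)) (.node (.leaf 69590) (.leaf 69592)))) (.node (.node (.node (.leaf 4057) (.leaf 69593)) (.node (.leaf 4058) (.leaf 69594))) (.node (.node (.leaf 69596) (.leaf 69597)) (.node (.leaf 69599) (.leaf 69600)))))) (.node (.node (.node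 (.node (.node (.leaf 4065) (.leaf 69601)) (.node (.leaf 69602) (.leaf 4067))) (.node (.node (.leaf 69605) (.leaf 69606)) (.node (.leaf 4072) (.leaf 69610)))) (.node (.node (.node (.leaf 69611) (.leaf 4076)) (.node (.leaf 4077) (.leaf 4078))) (.node (.node (.leaf 69616) (.leaf 69619)) (.node (.leaf 4085) (.leaf 4093))))) (.node (.node (.node (.node (.leaf 69630) (.leaf 4095)) (.node (.leaf 69632) (.leaf 4100))) (.node (.node (.leaf 4101) (.leaf 69637)) (.node (.leaf 4102) (.leaf 4103)))) (.node (.node (.node (.leaf 69640) (.leaf 69641)) (.node (.leaf 69644) (.leaf 69645))) (.node (.node (.leaf 69647) (.leaf 69648)) (.node (.leaf 69649) (.leaf 4119))))))) (.node (.node (.node (.node (.node (.node (.leaf 69655) (.leaf 69657)) (.node (.leaf 4122) (.leaf 4126))) (.node (.node (.leaf 69662) (.leaf 4127)) (.node (.leaf 4128) (.leaf 4130)))) (.node (.node (.node (.leaf 4135) (.leaf 4138)) (.node (.leaf 4139) (.leaf 69675))) (.node (.node (.leaf 69679) (.leaf 69681)) (.node (.leaf 4152) (.leaf 69690))))) (.node (.node (.node (.node (.leaf 69692) (.leaf 4158)) (.node (.leaf 69697) (.leaf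 4166))) (.node (.node (.leaf 69702) (.leaf 4167)) (.node (.leaf 69704) (.leaf 69705)))) (.node (.node (.node (.leaf 4170) (.leaf 69708)) (.node (.leaf 4174) (.leaf 69713))) (.node (.node (.leaf 69716) (.leaf 4185)) (.node (.leaf 69722) (.leaf 69725)))))) (.node (.node (.node (.node (.node (.leaf 69726) (.leaf 4191)) (.node (.leaf 4198) (.leaf 69736))) (.node (.node (.leaf 4201) (.leaf 69738)) (.node (.leaf 69739) (.leaf 69740)))) (.node (.node (.node (.leaf 4207) (.leaf 69743)) (.node (.leaf 4208) (.leaf 69745))) (.node (.node (.leaf 4210) (.leaf 69747)) (.node (.leaf 69748) (.leaf 4213))))) (.node (.node (.node (.node (.leaf 4214) (.leaf 69750)) (.node (.leaf 4215) (.leaf 4217))) (.node (.node (.leaf 4218) (.leaf 69755)) (.node (.leaf 69757) (.leaf 4227)))) (.node (.node (.node (.leaf 69763) (.leaf 4228)) (.node (.leaf 4231) (.leaf 69768))) (.node (.node (.leaf 4235) (.leaf 4237)) (.node (.leaf 4238) (.leaf 4239)))))))) (.node (.node (.node (.node (.node (.node (.node (.leaf 69777) (.leaf 4244)) (.node (.leaf 69782) (.leaf 4247))) (.node (.node (.leaf 4250) (.leaf 69786))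 (.node (.leaf 4251) (.leaf 4253)))) (.node (.node (.node (.leaf 69789) (.leaf 69792)) (.node (.leaf 69793) (.leaf 4258))) (.node (.node (.leaf 4259) (.leaf 4262)) (.node (.leaf 4267) (.leaf 4269))))) (.node (.node (.node (.node (.leaf 69806) (.leaf 69810)) (.node (.leaf 69812) (.leaf 69814))) (.node (.node (.leaf 4279) (.leaf 69815)) (.node (.leaf 69816) (.leaf 4284)))) (.node (.node (.node (.leaf 69820) (.leaf 69821)) (.node (.leaf 69822) (.leaf 4287))) (.node (.node (.leaf 69827) (.leaf 69828)) (.node (.leaf 4299) (.leaf 69835)))))) (.node (.node (.node (.node (.node (.leaf 69836) (.leaf 4302)) (.node (.leaf 69841) (.leaf 4306))) (.node (.node (.leaf 4307) (.leaf 69843)) (.node (.leaf 69845) (.leaf 4310)))) (.node (.node (.node (.leaf 69850) (.leaf 4321)) (.node (.leaf 4322) (.leaf 4325))) (.node (.node (.leaf 69868) (.leaf 4333)) (.node (.leaf 4336) (.leaf 4339))))) (.node (.node (.node (.node (.leaf 69875) (.leaf 4341)) (.node (.leaf 69878) (.leaf 4343))) (.node (.node (.leaf 69879) (.leaf 69881)) (.node (.leaf 69888) (.leaf 69890)))) (.node (.node (.node (.leaf 69892)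 (.leaf 69893)) (.node (.leaf 4360) (.leaf 4362))) (.node (.node (.leaf 69898) (.leaf 69899)) (.node (.leaf 4364) (.leaf 69900))))))) (.node (.node (.node (.node (.node (.node (.leaf 4366) (.leaf 69905)) (.node (.leaf 69907) (.leaf 4378))) (.node (.node (.leaf 69915) (.leaf 4380)) (.node (.leaf 4381) (.leaf 69917)))) (.node (.node (.node (.leaf 4382) (.leaf 4384)) (.node (.leaf 69920) (.leaf 69922))) (.node (.node (.leaf 4388) (.leaf 4390)) (.node (.leaf 4391) (.leaf 69927))))) (.node (.node (.node (.node (.leaf 4392) (.leaf 4393)) (.node (.leaf 4401) (.leaf 69938))) (.node (.node (.leaf 69939) (.leaf 4404)) (.node (.leaf 69940) (.leaf 69945)))) (.node (.node (.node (.leaf 69946) (.leaf 4412)) (.node (.leaf 4413) (.leaf 69949))) (.node (.node (.leaf 4414) (.leaf 69953)) (.node (.leaf 69955) (.leaf 4420)))))) (.node (.node (.node (.node (.node (.leaf 69958) (.leaf 69959)) (.node (.leaf 4424) (.leaf 4426))) (.node (.node (.leaf 4427) (.leaf 4429)) (.node (.leaf 69967) (.leaf 4432)))) (.node (.node (.node (.leaf 69969) (.leaf 69970)) (.node (.leaf 4435) (.leaf 69971))) (.node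 (.node (.leaf 4436) (.leaf 69973)) (.node (.leaf 4438) (.leaf 69974))))) (.node (.node (.node (.node (.leaf 4439) (.leaf 4440)) (.node (.leaf 69977) (.leaf 4442))) (.node (.node (.leaf 4446) (.leaf 69983)) (.node (.leaf 4450) (.leaf 69986)))) (.node (.node (.node (.leaf 4451) (.leaf 4452)) (.node (.leaf 69990) (.leaf 69993))) (.node (.node (.leaf 4458) (.leaf 69994)) (.node (.leaf 69997) (.leaf 4463))))))))

def k4Par_22 : H52.TCert.Tr := .node (.node (.node (.node (.node (.node (.node (.node (.leaf 70000) (.leaf 70005)) (.node (.leaf 70006) (.leaf 4471))) (.node (.node (.leaf 4475) (.leaf 70012)) (.node (.leaf 4478) (.leaf 70014)))) (.node (.node (.node (.leaf 70019) (.leaf 70021)) (.node (.leaf 70022) (.leaf 70023))) (.node (.node (.leaf 70027) (.leaf 4495)) (.node (.leaf 4496) (.leaf 70035))))) (.node (.node (.node (.node (.leaf 4505) (.leaf 70041)) (.node (.leaf 4513) (.leaf 4516))) (.node (.node (.leaf 4517) (.leaf 70053)) (.node (.leaf 4519) (.leaf 70055)))) (.node (.node (.node (.leaf 4521) (.leaf 4522)) (.node (.leaf 4525) (.leaf 4526))) (.node (.node (.leaf 70063)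 (.leaf 4530)) (.node (.leaf 70066) (.leaf 4531)))))) (.node (.node (.node (.node (.node (.leaf 70067) (.leaf 4532)) (.node (.leaf 70069) (.leaf 70070))) (.node (.node (.leaf 70072) (.leaf 70074)) (.node (.leaf 70076) (.leaf 70077)))) (.node (.node (.node (.leaf 4544) (.leaf 4547)) (.node (.leaf 4548) (.leaf 70085))) (.node (.node (.leaf 70087) (.leaf 70091)) (.node (.leaf 70092) (.leaf 70093))))) (.node (.node (.node (.node (.leaf 4559) (.leaf 70097)) (.node (.leaf 4562) (.leaf 70099))) (.node (.node (.leaf 70105) (.leaf 70106)) (.node (.leaf 4571) (.leaf 70110)))) (.node (.node (.node (.leaf 4575) (.leaf 4577)) (.node (.leaf 4578) (.leaf 4579))) (.node (.node (.leaf 70115) (.leaf 4580)) (.node (.leaf 4587) (.leaf 70123))))))) (.node (.node (.node (.node (.node (.node (.leaf 4593) (.leaf 4596)) (.node (.leaf 70134) (.leaf 4599))) (.node (.node (.leaf 70135) (.leaf 4601)) (.node (.leaf 70139) (.leaf 4604)))) (.node (.node (.node (.leaf 70141) (.leaf 70142)) (.node (.leaf 70143) (.leaf 70144))) (.node (.node (.leaf 4609) (.leaf 4611)) (.node (.leaf 70155) (.leaf 70156))))) (.node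 (.node (.node (.node (.leaf 70157) (.leaf 70158)) (.node (.leaf 4623) (.leaf 4624))) (.node (.node (.leaf 4625) (.leaf 70161)) (.node (.leaf 70163) (.leaf 4635)))) (.node (.node (.node (.leaf 4640) (.leaf 4642)) (.node (.leaf 70178) (.leaf 70179))) (.node (.node (.leaf 70181) (.leaf 4649)) (.node (.leaf 4650) (.leaf 4651)))))) (.node (.node (.node (.node (.node (.leaf 70192) (.leaf 4663)) (.node (.leaf 4664) (.leaf 4665))) (.node (.node (.leaf 70201) (.leaf 70204)) (.node (.leaf 4669) (.leaf 70205)))) (.node (.node (.node (.leaf 4671) (.leaf 4672)) (.node (.leaf 70212) (.leaf 4678))) (.node (.node (.leaf 70214) (.leaf 4681)) (.node (.leaf 4682) (.leaf 70218))))) (.node (.node (.node (.node (.leaf 4684) (.leaf 4688)) (.node (.leaf 70224) (.leaf 70225))) (.node (.node (.leaf 70228) (.leaf 4693)) (.node (.leaf 70229) (.leaf 4695)))) (.node (.node (.node (.leaf 4696) (.leaf 70233)) (.node (.leaf 70234) (.leaf 4699))) (.node (.node (.leaf 4702) (.leaf 4703)) (.node (.leaf 4706) (.leaf 70243)))))))) (.node (.node (.node (.node (.node (.node (.node (.leaf 4710) (.leaf 4713)) (.node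 (.leaf 70249) (.leaf 4714))) (.node (.node (.leaf 4717) (.leaf 4720)) (.node (.leaf 70256) (.leaf 70257)))) (.node (.node (.node (.leaf 4722) (.leaf 70260)) (.node (.leaf 70262) (.leaf 4727))) (.node (.node (.leaf 70264) (.leaf 4730)) (.node (.leaf 4731) (.leaf 70267))))) (.node (.node (.node (.node (.leaf 4735) (.leaf 4736)) (.node (.leaf 70273) (.leaf 4744))) (.node (.node (.leaf 4745) (.leaf 4748)) (.node (.leaf 70284) (.leaf 4751)))) (.node (.node (.node (.leaf 70290) (.leaf 4756)) (.node (.leaf 70297) (.leaf 70300))) (.node (.node (.leaf 4772) (.leaf 4774)) (.node (.leaf 4776) (.leaf 4779)))))) (.node (.node (.node (.node (.node (.leaf 70315) (.leaf 4781)) (.node (.leaf 70327) (.leaf 70329))) (.node (.node (.leaf 4794) (.leaf 4798)) (.node (.leaf 4801) (.leaf 70337)))) (.node (.node (.node (.leaf 4804) (.leaf 70340)) (.node (.leaf 70341) (.leaf 70343))) (.node (.node (.leaf 70346) (.leaf 4812)) (.node (.leaf 4813) (.leaf 4814))))) (.node (.node (.node (.node (.leaf 70350) (.leaf 70352)) (.node (.leaf 4817) (.leaf 70354))) (.node (.node (.leaf 4819) (.leaf 70356)) (.node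 (.leaf 70357) (.leaf 70358)))) (.node (.node (.node (.leaf 70367) (.leaf 70368)) (.node (.leaf 70374) (.leaf 4839))) (.node (.node (.leaf 4840) (.leaf 70379)) (.node (.leaf 4849) (.leaf 4850))))))) (.node (.node (.node (.node (.node (.node (.leaf 4854) (.leaf 4857)) (.node (.leaf 4859) (.leaf 4862))) (.node (.node (.leaf 4865) (.leaf 70403)) (.node (.leaf 70408) (.leaf 70410)))) (.node (.node (.node (.leaf 70411) (.leaf 4877)) (.node (.leaf 70415) (.leaf 70416))) (.node (.node (.leaf 70418) (.leaf 4883)) (.node (.leaf 4884) (.leaf 4885))))) (.node (.node (.node (.node (.leaf 70421) (.leaf 70424)) (.node (.leaf 4896) (.leaf 4900))) (.node (.node (.leaf 4902) (.leaf 70439)) (.node (.leaf 70443) (.leaf 70448)))) (.node (.node (.node (.leaf 4914) (.leaf 4915)) (.node (.leaf 4919) (.leaf 70455))) (.node (.node (.leaf 4921) (.leaf 70466)) (.node (.leaf 4931) (.leaf 4940)))))) (.node (.node (.node (.node (.node (.leaf 70478) (.leaf 4947)) (.node (.leaf 70493) (.leaf 4958))) (.node (.node (.leaf 70498) (.leaf 70499)) (.node (.leaf 4965) (.leaf 4966)))) (.node (.node (.node (.leaf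 70503) (.leaf 70505)) (.node (.leaf 70506) (.leaf 4982))) (.node (.node (.leaf 70525) (.leaf 4992)) (.node (.leaf 4993) (.leaf 4995))))) (.node (.node (.node (.node (.leaf 4998) (.leaf 70535)) (.node (.leaf 5001) (.leaf 5002))) (.node (.node (.leaf 5013) (.leaf 70549)) (.node (.leaf 70552) (.leaf 70555)))) (.node (.node (.node (.leaf 70556) (.leaf 5026)) (.node (.leaf 70563) (.leaf 70572))) (.node (.node (.leaf 70573) (.leaf 70575)) (.node (.leaf 70577) (.leaf 5043))))))))

def k4Par_23 : H52.TCert.Tr := .node (.node (.node (.node (.node (.node (.node (.node (.leaf 70580) (.leaf 70581)) (.node (.leaf 5046) (.leaf 5047))) (.node (.node (.leaf 5059) (.leaf 5060)) (.node (.leaf 70596) (.leaf 70600)))) (.node (.node (.node (.leaf 70603) (.leaf 70604)) (.node (.leaf 5071) (.leaf 5072))) (.node (.node (.leaf 70616) (.leaf 5085)) (.node (.leaf 70627) (.leaf 5092))))) (.node (.node (.node (.node (.leaf 70631) (.leaf 70635)) (.node (.leaf 70638) (.leaf 70640))) (.node (.node (.leaf 70653) (.leaf 5120)) (.node (.leaf 5126) (.leaf 5128)))) (.node (.node (.node (.leaf 5133) (.leaf 70680))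 (.node (.leaf 70684) (.leaf 70689))) (.node (.node (.leaf 5160) (.leaf 5161)) (.node (.leaf 70699) (.leaf 5170)))))) (.node (.node (.node (.node (.node (.leaf 5178) (.leaf 5182)) (.node (.leaf 70718) (.leaf 5184))) (.node (.node (.leaf 70721) (.leaf 70722)) (.node (.leaf 5197) (.leaf 70734)))) (.node (.node (.node (.leaf 5199) (.leaf 70744)) (.node (.leaf 5215) (.leaf 70755))) (.node (.node (.leaf 70756) (.leaf 5221)) (.node (.leaf 70759) (.leaf 70761))))) (.node (.node (.node (.node (.leaf 5226) (.leaf 70763)) (.node (.leaf 5229) (.leaf 70767))) (.node (.node (.leaf 5233) (.leaf 70770)) (.node (.leaf 70784) (.leaf 5249)))) (.node (.node (.node (.leaf 5252) (.leaf 5255)) (.node (.leaf 5260) (.leaf 5262))) (.node (.node (.leaf 5265) (.leaf 70809)) (.node (.leaf 70810) (.leaf 5275))))))) (.node (.node (.node (.node (.node (.node (.leaf 70818) (.leaf 5283)) (.node (.leaf 70826) (.leaf 5292))) (.node (.node (.leaf 5299) (.leaf 70835)) (.node (.leaf 70836) (.leaf 5301)))) (.node (.node (.node (.leaf 70841) (.leaf 70844)) (.node (.leaf 5312) (.leaf 70850))) (.node (.node (.leaf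 5316) (.leaf 5317)) (.node (.leaf 70859) (.leaf 70860))))) (.node (.node (.node (.node (.leaf 70863) (.leaf 5334)) (.node (.leaf 70879) (.leaf 5346))) (.node (.node (.leaf 70882) (.leaf 5350)) (.node (.leaf 70899) (.leaf 5365)))) (.node (.node (.node (.leaf 5366) (.leaf 5368)) (.node (.leaf 5371) (.leaf 5385))) (.node (.node (.leaf 5393) (.leaf 70930)) (.node (.leaf 5399) (.leaf 70940)))))) (.node (.node (.node (.node (.node (.leaf 70943) (.leaf 70947)) (.node (.leaf 5415) (.leaf 70951))) (.node (.node (.leaf 70962) (.leaf 70983)) (.node (.leaf 5459) (.leaf 5468)))) (.node (.node (.node (.leaf 71008) (.leaf 71009)) (.node (.leaf 71013) (.leaf 5483))) (.node (.node (.leaf 5487) (.leaf 71024)) (.node (.leaf 5490) (.leaf 5492))))) (.node (.node (.node (.node (.leaf 71032) (.leaf 5508)) (.node (.leaf 71045) (.leaf 71047))) (.node (.node (.leaf 71054) (.leaf 5539)) (.node (.leaf 5540) (.leaf 71086)))) (.node (.node (.node (.leaf 5566) (.leaf 5579)) (.node (.leaf 5581) (.leaf 71128))) (.node (.node (.leaf 71139) (.leaf 5604)) (.node (.leaf 5614) (.leaf 5619)))))))) (.node (.node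 (.node (.node (.node (.node (.node (.leaf 5633) (.leaf 71169)) (.node (.leaf 5641) (.leaf 71186))) (.node (.node (.leaf 71191) (.leaf 5664)) (.node (.leaf 5666) (.leaf 71204)))) (.node (.node (.node (.leaf 5676) (.leaf 71212)) (.node (.leaf 5687) (.leaf 5701))) (.node (.node (.leaf 71251) (.leaf 71252)) (.node (.leaf 71254) (.leaf 5742))))) (.node (.node (.node (.node (.leaf 5754) (.leaf 5759)) (.node (.leaf 71301) (.leaf 71320))) (.node (.node (.leaf 71327) (.leaf 5794)) (.node (.leaf 71339) (.leaf 5818)))) (.node (.node (.node (.leaf 5821) (.leaf 5836)) (.node (.leaf 71378) (.leaf 5867))) (.node (.node (.leaf 71405) (.leaf 71424)) (.node (.leaf 71435) (.leaf 5916)))))) (.leaf 0)) (.leaf 0))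

def k4Par : H52.TCert.Tr := .node (.node (.node (.node (.node (k4Par_0) (k4Par_1)) (.node (k4Par_2) (k4Par_3))) (.node (.node (k4Par_4) (k4Par_5)) (.node (k4Par_6) (k4Par_7)))) (.node (.node (.node (k4Par_8) (k4Par_9)) (.node (k4Par_10) (k4Par_11))) (.node (.node (k4Par_12) (k4Par_13)) (.node (k4Par_14) (k4Par_15))))) (.node (.node (.node (.node (k4Par_16) (k4Par_17)) (.node (k4Par_18) (k4Par_19))) (.node (.node (k4Par_20) (k4Par_21)) (.node (k4Par_22) (k4Par_23)))) (.node (.node (.node (.leaf 0) (.leaf 0)) (.node (.leaf 0) (.leaf 0))) (.node (.node (.leaf 0) (.leaf 0)) (.node (.leaf 0) (.leaf 0)))))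

def k4Code_0 : H52.TCert.Tr := .node (.node (.node (.node (.node (.node (.node (.node (.leaf 224826519373754728448) (.leaf 18618529484016031534842)) (.node (.leaf 18617446071635271322521) (.leaf 1940838346253474607823))) (.node (.node (.leaf 3354015345838757806314) (.leaf 9250184372943295121677)) (.node (.leaf 8400195899307022385152) (.leaf 17821729204183935607)))) (.node (.node (.node (.leaf 17336563031779458582947) (.leaf 17340009455338992480974)) (.node (.leaf 21553867565677694520840) (.leaf 3642475651521895172857))) (.node (.node (.leaf 20417163915301201577815) (.leaf 18919946555969270124282)) (.node (.leaf 16491407756944313224089) (.leaf 20568269009827544402336))))) (.node (.node (.node (.node (.leaf 8965599436737021482395) (.leaf 21233578532996464214459)) (.node (.leaf 3746253646169520228776) (.leaf 13105545550462936915891))) (.node (.node (.leaf 15655631990069075063496) (.leaf 120006401400126227306)) (.node (.leaf 17325045122050595852678) (.leaf 21348159999365238427743)))) (.node (.node (.node (.leaf 14491121630946375705516) (.leaf 13132949526563283349999)) (.node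 (.leaf 258507690780443314445) (.leaf 177659867981656404687))) (.node (.node (.leaf 76545395888677912810) (.leaf 83674418474865428749)) (.node (.leaf 13105361305616692346880) (.leaf 19679458210726045861090)))))) (.node (.node (.node (.node (.node (.leaf 224829702980739802029) (.leaf 11955805627625114978748)) (.node (.leaf 676276079268838617584) (.leaf 169592262774643274224))) (.node (.node (.leaf 16293614309089044074591) (.leaf 142458758339272906641)) (.node (.leaf 15752736236433254713760) (.leaf 8362693666336899336964)))) (.node (.node (.node (.leaf 20322719991554023491672) (.leaf 21315419769690837633522)) (.node (.leaf 17031036686580883082002) (.leaf 12923320372680423972666))) (.node (.node (.leaf 21017826702917421666693) (.leaf 15519496933169026534297)) (.node (.leaf 21163027279690540449898) (.leaf 1481581752672218448764))))) (.node (.node (.node (.node (.leaf 15641043868156392538556) (.leaf 13114559101263270839165)) (.node (.leaf 785596491308598985105) (.leaf 3745924343631838461823))) (.node (.node (.leaf 2112741464610950843140) (.leaf 1854319956946641750777)) (.node (.leaf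 19502169139827232540503) (.leaf 19502830280591353490039)))) (.node (.node (.node (.leaf 29175200132708829603) (.leaf 273682985110110155470)) (.node (.leaf 7078421974319824342536) (.leaf 20019852605252697230073))) (.node (.node (.leaf 9893591541255050725207) (.leaf 8362362882777247125242)) (.node (.leaf 20322615025810760797081) (.leaf 9251665022210449178730))))))) (.node (.node (.node (.node (.node (.node (.leaf 21019339598531480487766) (.leaf 18619202711613245489667)) (.node (.leaf 18617939637749272988565) (.leaf 15579635327462920233901))) (.node (.node (.leaf 22170995055241514386839) (.leaf 8403015521532550580055)) (.node (.leaf 11606832898641028710505) (.leaf 8365702707266761852759)))) (.node (.node (.node (.leaf 20140576261501558718569) (.leaf 925316619438581515132)) (.node (.leaf 20018858556066555003324) (.leaf 76273139712602160656))) (.node (.node (.leaf 12734339517312623364521) (.leaf 11970950659179876107490)) (.node (.leaf 21413213259786862044077) (.leaf 20738762196785041770764))))) (.node (.node (.node (.node (.leaf 16790077797581028836202) (.leaf 5470626737934477806354))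 (.node (.leaf 220228680247455779084) (.leaf 29290181150708403814))) (.node (.node (.leaf 6018990537532146107) (.leaf 229684636531425023387)) (.node (.leaf 1259084049696075759120) (.leaf 2125304902594309162838)))) (.node (.node (.node (.leaf 19993357000589653904998) (.leaf 19730327263778576681664)) (.node (.leaf 173466873395695635004) (.leaf 5191704552620628150541))) (.node (.node (.leaf 8703571845822282432512) (.leaf 75193190486035726336)) (.node (.leaf 8581260735803403141635) (.leaf 143634130699828775829)))))) (.node (.node (.node (.node (.node (.leaf 11990735855459020374908) (.leaf 6877554375505790042217)) (.node (.leaf 12818508382740635200119) (.leaf 4320017538751638718889))) (.node (.node (.leaf 8402745194788766227929) (.leaf 8580296276050696700138)) (.node (.leaf 228571845796952984256) (.leaf 142032538418744925657)))) (.node (.node (.node (.leaf 15752778189913928663275) (.leaf 5543255092859313359116)) (.node (.leaf 8399045235618463630186) (.leaf 1155237315541550403679))) (.node (.node (.leaf 21552724651572512727980) (.leaf 19756472835801495089647)) (.node (.leaf 9235484010041346317)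 (.leaf 8403646974466805664160))))) (.node (.node (.node (.node (.leaf 9951181429920288478619) (.leaf 21019446902432974275003)) (.node (.leaf 177654166387596970408) (.leaf 8822399588577289117619))) (.node (.node (.leaf 14223761402079932429000) (.leaf 15690471762584899044202)) (.node (.leaf 38718431459592573318) (.leaf 8670158353383002280031)))) (.node (.node (.node (.leaf 21765438200717173531564) (.leaf 2078214708747008422383)) (.node (.leaf 27827742401818331405) (.leaf 20739222581227820921551))) (.node (.node (.leaf 16790541073991224754410) (.leaf 5470994086046843767053)) (.node (.leaf 220736652875557240832) (.leaf 1479365667027007209987)))))))) (.node (.node (.node (.node (.node (.node (.node (.leaf 785149829998723968321) (.leaf 13579785091983071428097)) (.node (.leaf 1940868804062629004695) (.leaf 3353901341085690561749))) (.node (.node (.leaf 9249972414547518984582) (.leaf 8400192892407097499450)) (.node (.leaf 19992905593325441450499) (.leaf 187931431081877031829)))) (.node (.node (.node (.leaf 8400270684675976005720) (.leaf 17553242765251987376217)) (.node (.leaf 20322735998047276216815)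 (.leaf 16456234674707964496141))) (.node (.node (.leaf 5614224959164237484421) (.leaf 502831411147256809970)) (.node (.leaf 2112203442106486338031) (.leaf 21235156410398966712589))))) (.node (.node (.node (.node (.leaf 21110651869292509499781) (.leaf 71579481972691421682)) (.node (.leaf 16456139152744486128533) (.leaf 15660142686410950148988))) (.node (.node (.leaf 176406985066194239593) (.leaf 10905673151415566740087)) (.node (.leaf 273325538870967351942) (.leaf 7078275624627675937132)))) (.node (.node (.node (.leaf 20986152213660423860936) (.leaf 238167418218979445792)) (.node (.leaf 21553937566352890200170) (.leaf 1065299507888157099862))) (.node (.node (.leaf 1374282469045103034883) (.leaf 21844420181909566573461)) (.node (.leaf 15660808134866103830617) (.leaf 8669979896339413252742)))))) (.node (.node (.node (.node (.node (.leaf 2990678614492085657402) (.leaf 17706991962965416972677)) (.node (.leaf 8526491364002017875355) (.leaf 1155329734589266181648))) (.node (.node (.leaf 728728770089770846297) (.leaf 20568708922025591224966)) (.node (.leaf 21018963146770927471648)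 (.leaf 503925045563620241904)))) (.node (.node (.node (.leaf 14144680848336826568799) (.leaf 21473585208313341036988)) (.node (.leaf 4235182558318227698160) (.leaf 9706967834199218174598))) (.node (.node (.leaf 21314162312874428774764) (.leaf 1631664080435258404161)) (.node (.leaf 3687053053897845128705) (.leaf 4234689149678870875168))))) (.node (.node (.node (.node (.leaf 222000523451095986895) (.leaf 2062642511813558043861)) (.node (.leaf 19503042340759011494239) (.leaf 7459987433646797655560))) (.node (.node (.leaf 11989732749590351938968) (.leaf 16790493871493145430777)) (.node (.leaf 728804000259170174807) (.leaf 237854010627847655162)))) (.node (.node (.node (.leaf 17341162371177408859033) (.leaf 14402476582894833402)) (.node (.leaf 2101836364010062089113) (.leaf 16293166937728642778519))) (.node (.node (.leaf 924643124826589529301) (.leaf 15897037916174561251718)) (.node (.leaf 13114593106848010444602) (.leaf 8966381415836881308565))))))) (.node (.node (.node (.node (.node (.node (.leaf 9474711036224190088060) (.leaf 3985664400083969413509)) (.node (.leaf 259894475320104864242)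 (.leaf 23073456333752502688))) (.node (.node (.leaf 11971348277056790566299) (.leaf 1159921403251138736840)) (.node (.leaf 7682505272585202355232) (.leaf 20322969559292191279523)))) (.node (.node (.node (.leaf 16456150506700812813181) (.leaf 22054627889699680793294)) (.node (.leaf 39871177034821275144) (.leaf 136484225842466456789))) (.node (.node (.leaf 2063195232001975159135) (.leaf 76205620466721786275)) (.node (.leaf 12734545610579618104189) (.leaf 11971433380790081094076))))) (.node (.node (.node (.node (.leaf 21413580841767031550447) (.leaf 17845087840787949783129)) (.node (.leaf 8746078938871928699526) (.leaf 20767636286152248663866))) (.node (.node (.leaf 8362772851032724246917) (.leaf 1935277898427115864956)) (.node (.leaf 13036093409831346864572) (.leaf 13542222784006151570301)))) (.node (.node (.node (.leaf 92383080527998747025) (.leaf 2102441043855178055551)) (.node (.leaf 20139347069488066530052) (.leaf 11990657823418740345593))) (.node (.node (.leaf 7458880752913863870295) (.leaf 17747422698974868456674)) (.node (.leaf 75614452894083851181) (.leaf 8581431727098178718140))))))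 (.node (.node (.node (.node (.node (.leaf 3985659794304540324336) (.leaf 785241948066610721264)) (.node (.leaf 13579119725179501056095) (.leaf 19502871406692251834257))) (.node (.node (.leaf 29471171381664188832) (.leaf 20417098995836983577348)) (.node (.leaf 14025839022695818692696) (.leaf 1956520580179903367666)))) (.node (.node (.node (.leaf 262236761712117992210) (.leaf 21305505077577101975354)) (.node (.leaf 21017931660699134692249) (.leaf 1939437160418769207402))) (.node (.node (.leaf 14224049543788711347068) (.leaf 8966775190984630272444)) (.node (.leaf 17031178623038429922173) (.leaf 21348157356540917285265))))) (.node (.node (.node (.node (.leaf 261718439337878732671) (.leaf 1934721354493187164932)) (.node (.leaf 21413229351185734470393) (.leaf 16066592233898665641815))) (.node (.node (.leaf 15660412953643697941111) (.leaf 8669979797940362381731)) (.node (.leaf 2990686842168909017806) (.leaf 17707208049569560792584)))) (.node (.node (.node (.leaf 8525920481090000227065) (.leaf 1155449514792303920983)) (.node (.leaf 729231703489677102842) (.leaf 20568621669993962867609)))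 (.node (.node (.leaf 8026035512314021348759) (.leaf 2125344330768796026069)) (.node (.leaf 8580311502295415373313) (.leaf 228288802507348395234))))))))

def k4Code_1 : H52.TCert.Tr := .node (.node (.node (.node (.node (.node (.node (.node (.leaf 10905986524832840567356) (.leaf 5613766439839807414195)) (.node (.leaf 17310254062202947672) (.leaf 17337113810890950051929))) (.node (.node (.leaf 17340217175033308133740) (.leaf 21554145320108399823076)) (.node (.leaf 3642642179500532960153) (.leaf 20417107493346085240938)))) (.node (.node (.node (.leaf 18919460472756700841814) (.leaf 16492062783159741288038)) (.node (.leaf 4235202376629562017175) (.leaf 221463395757906166997))) (.node (.node (.leaf 13267139803148311794054) (.leaf 5498956773290633436986)) (.node (.leaf 18920075033439680645906) (.leaf 16491471852523630102796))))) (.node (.node (.node (.node (.leaf 12734023226171131888017) (.leaf 21688076998274141424377)) (.node (.leaf 5471069490155705024383) (.leaf 220712659197607840516))) (.node (.node (.leaf 783055856054568946425) (.leaf 12923759931699902908247)) (.node (.leaf 21764857409296980298432)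 (.leaf 20767694137476346890812)))) (.node (.node (.node (.leaf 1939232216032964709990) (.leaf 20324331363163079705019)) (.node (.leaf 5543323587944594620287) (.leaf 8399490120799426874116))) (.node (.node (.leaf 9893726844569322982137) (.leaf 142311337477534549847)) (.node (.leaf 1763980044788807355072) (.leaf 20569612984649773599292)))))) (.node (.node (.node (.node (.node (.leaf 17341370142506760310374) (.leaf 17340317042902963585467)) (.node (.leaf 783496469946830098822) (.leaf 93908374286247840661))) (.node (.node (.leaf 18618951567160128865148) (.leaf 87142436180858671493)) (.node (.leaf 9251605326949054990834) (.leaf 10268375866922818963872)))) (.node (.node (.node (.leaf 7514094095474245080475) (.leaf 8822642489359773632863)) (.node (.leaf 14223779580565711891777) (.leaf 15690771537391326462187))) (.node (.node (.leaf 38269621785166911377) (.leaf 16066043572127641520626)) (.node (.leaf 187027701948458814226) (.leaf 9475198306828293383084))))) (.node (.node (.node (.node (.leaf 2078767449584023220942) (.leaf 120190624600958271488)) (.node (.leaf 17325062321439926321667)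 (.leaf 221463494042034023745))) (.node (.node (.leaf 17845012716556576603649) (.leaf 10846788086152459355543)) (.node (.leaf 1510420851106263172309) (.leaf 5325397115982381388166)))) (.node (.node (.node (.leaf 21952860775827701702458) (.leaf 93756372667419591057)) (.node (.leaf 18618618237315717204729) (.leaf 14224267951739054131551))) (.node (.node (.leaf 8966280711623175580993) (.leaf 16254208866871547135830)) (.node (.leaf 1087873568688867216998) (.leaf 15576341641715903679168))))))) (.node (.node (.node (.node (.node (.node (.leaf 12759767979330095676) (.leaf 92596732936162560444)) (.node (.leaf 1936427228307739718128) (.leaf 1935000714084591712902))) (.node (.node (.leaf 13036166295877424429420) (.leaf 3891333272338376458641)) (.node (.leaf 20985888895290154519289) (.leaf 19679225642133807073631)))) (.node (.node (.node (.leaf 224831775894242372929) (.leaf 785684741680523158444)) (.node (.leaf 13579123665370929017550) (.leaf 1087482776778732406615))) (.node (.node (.leaf 12837972570336195314556) (.leaf 23077007442755092924)) (.node (.leaf 6577427158275937346477) (.leaf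 22374757669295832237463))))) (.node (.node (.node (.node (.leaf 6666202064077854672727) (.leaf 178714936640209485929)) (.node (.leaf 21858483058100953319775) (.leaf 782850173763471093057))) (.node (.node (.leaf 1479601618849948467435) (.leaf 169562639156212078481)) (.node (.leaf 15752985171710911364609) (.leaf 1571933920997723194594)))) (.node (.node (.node (.leaf 22049102495027326503484) (.leaf 715018378210457395123)) (.node (.leaf 6666544335410281980844) (.leaf 179256816260790203086))) (.node (.node (.leaf 6120638497977707127) (.leaf 1163577956737497205155)) (.node (.leaf 71497606928340597100) (.leaf 3855647257143515547876)))))) (.node (.node (.node (.node (.node (.leaf 8404319402154364994968) (.leaf 9951530933372681210300)) (.node (.leaf 12818270132201478407018) (.leaf 1259056273546722838756))) (.node (.node (.leaf 781687617175041458047) (.leaf 2990761048226542293087)) (.node (.leaf 17706578580864492151724) (.leaf 3891120298737128419823)))) (.node (.node (.node (.leaf 20985564104300222777613) (.leaf 9475243875283324383951)) (.node (.leaf 2078821743358665883882) (.leaf 1510613973556270762253)))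 (.node (.node (.leaf 15896592571787043897344) (.leaf 13036506946098006045391)) (.node (.leaf 15576249791334492111082) (.leaf 173475816261523048717))))) (.node (.node (.node (.node (.leaf 5470912416069964267520) (.leaf 924896305367882532952)) (.node (.leaf 20018269854196304742489) (.leaf 16455954496001775941996))) (.node (.node (.leaf 15660251810147528509668) (.leaf 19994640082557411524714)) (.node (.leaf 4320187381268804667222) (.leaf 8402580817704710344294)))) (.node (.node (.node (.leaf 24418341558835057030) (.leaf 7407600906012289212218)) (.node (.leaf 7458751209036404706197) (.leaf 21234029908611386737532))) (.node (.node (.leaf 22374797604570715343552) (.leaf 1509684266783560928870)) (.node (.leaf 21315858564192777109947) (.leaf 19501677291149975373026)))))))) (.node (.node (.node (.node (.node (.node (.node (.leaf 1509737377882200286125) (.leaf 21554207949400655743420)) (.node (.leaf 1065964616129816211952) (.leaf 13805305279112148732402))) (.node (.node (.leaf 15519888042189656443666) (.leaf 21844412233067205108652)) (.node (.leaf 21681853884443267183310) (.leaf 5470622498905465618875))))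 (.node (.node (.node (.leaf 220218050512439560616) (.leaf 782843625970817681833)) (.node (.leaf 12923109262507173289433) (.leaf 15655539673656005304243))) (.node (.node (.leaf 11956263161792152154824) (.leaf 3687599172604684387178)) (.node (.leaf 1158797093238223999366) (.leaf 781201799357907417452))))) (.node (.node (.node (.node (.leaf 8580107779115405641956) (.leaf 71483286985206859160)) (.node (.leaf 3855452657227733551548) (.leaf 273346647887396372923))) (.node (.node (.leaf 7077975605473570507176) (.leaf 20986150811339264805289)) (.node (.leaf 238184306920885099993) (.leaf 21554047850139371307113)))) (.node (.node (.node (.leaf 1065620952379768744567) (.leaf 1374449111674376830847)) (.node (.leaf 21844405899535954316036) (.leaf 17336493437013760999825))) (.node (.node (.leaf 21163634819957187381599) (.leaf 19730251568433496239425)) (.node (.leaf 14144122169599712757590) (.leaf 2077942188294152457830)))))) (.node (.node (.node (.node (.node (.leaf 20738909665260831951552) (.leaf 16790265545189258611260)) (.node (.leaf 8962160872246830386069) (.leaf 21857761509968768041065)))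 (.node (.node (.leaf 9706456125048628488823) (.leaf 2989544059403656415657)) (.node (.leaf 83683918261777374681) (.leaf 16381949204125286634)))) (.node (.node (.node (.leaf 15579438297037595069120) (.leaf 173175168776511593945)) (.node (.leaf 5471243581055007588587) (.leaf 17707050298644497598732))) (.node (.node (.leaf 4320007101665721238378) (.leaf 8966634171878953979999)) (.node (.leaf 3797733253116355555823) (.leaf 5949089725345409206541))))) (.node (.node (.node (.node (.leaf 22171312070043385135210) (.leaf 14478653117571139414)) (.node (.leaf 14248617664857735683) (.leaf 2101784363068398357397))) (.node (.node (.leaf 16293732479418633298861) (.leaf 925199255193863783831)) (.node (.leaf 22375380833349870225239) (.leaf 22048992583289771556969)))) (.node (.node (.node (.leaf 8580440265424630646615) (.leaf 228361284423724171369)) (.node (.leaf 10905566421727106696060) (.leaf 5614096485246045225404))) (.node (.node (.leaf 8403721844741971262992) (.leaf 9951322453465193597353)) (.node (.leaf 21019419352046749861090) (.leaf 178051890008194425773))))))) (.node (.node (.node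 (.node (.node (.node (.leaf 13132990092963689892108) (.leaf 258887597468135900010)) (.node (.leaf 8401678193393085434642) (.leaf 8366248594757869504780))) (.node (.node (.leaf 21572327134520557047398) (.leaf 21857292883809478574523)) (.node (.leaf 11489051418948792194459) (.leaf 18819723758053382897168)))) (.node (.node (.node (.leaf 228580696936797407062) (.leaf 1159848892069439573606)) (.node (.leaf 19729959890177250527501) (.leaf 172958879124676083712))) (.node (.node (.leaf 17553342711258382336000) (.leaf 261087850008891294211)) (.node (.leaf 1956762213960753105813) (.leaf 262006548842384950140))))) (.node (.node (.node (.node (.leaf 24321302762743332969) (.leaf 7407973245801275763319)) (.node (.leaf 230105937540146186665) (.leaf 1259655700227095567833))) (.node (.node (.leaf 1481937343917707722986) (.leaf 15640896773080470407872)) (.node (.leaf 11488862936157985152473) (.leaf 18819147993742519763179)))) (.node (.node (.node (.leaf 8961952225463947233548) (.leaf 12838220451012552901482)) (.node (.leaf 1374393420321681641567) (.leaf 8024761499462042661359))) (.node (.node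 (.leaf 229938773551016970509) (.leaf 94005289003500734880)) (.node (.leaf 18619031283354721424795) (.leaf 14224224241334149185979)))))) (.node (.node (.node (.node (.node (.leaf 8966477568041702836648) (.leaf 16254239587738385358771)) (.node (.leaf 1087758963594635817672) (.leaf 15576325573821146153834))) (.node (.node (.leaf 12962287405687312774) (.leaf 92250186863142604895)) (.node (.leaf 1936032956776579113900) (.leaf 1935276839825710100975)))) (.node (.node (.node (.leaf 13036748880052781320461) (.leaf 3891198933904899781327)) (.node (.leaf 20985949261997183140074) (.leaf 19679283135370268313869))) (.node (.node (.leaf 187112480102153685080) (.leaf 8962309005186742421593)) (.node (.leaf 1632027542101403973996) (.leaf 3687136614533195729124))))) (.node (.node (.node (.node (.leaf 22054312418398491134524) (.leaf 39390980734688272307)) (.node (.leaf 136371811858467782762) (.leaf 2062646137562599196502))) (.node (.node (.leaf 10267984896575225728520) (.leaf 7513596278032001074584)) (.node (.leaf 21764945900638380067588) (.leaf 20767877306050780629080)))) (.node (.node (.node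 (.leaf 20568172321371535756050) (.leaf 8965200042170577881356)) (.node (.leaf 21233676870842558972305) (.leaf 3746022307383671196409))) (.node (.node (.leaf 13105941216631109746923) (.leaf 15655601312160979457937)) (.node (.leaf 119915955489605601704) (.leaf 17325050477094223089402))))))))

def k4Code_2 : H52.TCert.Tr := .node (.node (.node (.node (.node (.node (.node (.node (.leaf 21347872229939293948173) (.leaf 14491083832126729748480)) (.node (.leaf 13133027868106749476864) (.leaf 258421837719782490627))) (.node (.node (.leaf 178159340530235321665) (.leaf 76766743418356383233)) (.node (.leaf 83500855675260587040) (.leaf 13105268636454695678671)))) (.node (.node (.node (.leaf 6666436389997938247768) (.leaf 178719314366764714073)) (.node (.leaf 6167926439345240428) (.leaf 1163380991225157290212))) (.node (.node (.leaf 11989820014826210331545) (.leaf 20984985264606470144106)) (.node (.leaf 13579659111652317955926) (.leaf 783996244871959776870))))) (.node (.node (.node (.node (.leaf 177871426502683301275) (.leaf 83641430096002811993)) (.node (.leaf 13105343331802676378246)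 (.leaf 238175929848720018112))) (.node (.node (.leaf 781960927906434551903) (.leaf 15027188959278993089452)) (.node (.leaf 8526108964603021172185) (.leaf 1155520719721241477355)))) (.node (.node (.node (.leaf 728756362577647339788) (.leaf 20568572229512517206890)) (.node (.leaf 2079392044774586519647) (.leaf 8404310269121993745324))) (.node (.node (.leaf 2125267540200281027055) (.leaf 19993175449104741009677)) (.node (.leaf 17030956607200001950933) (.leaf 21347504855485512452447)))))) (.node (.node (.node (.node (.node (.leaf 14144334406214729502216) (.leaf 2078004059408308929944)) (.node (.leaf 17553340894633264565280) (.leaf 260568754794458559183))) (.node (.node (.leaf 82285236466192626160) (.leaf 16648295054776832095)) (.node (.leaf 17844939708272486718937) (.leaf 8746315804237549240555)))) (.node (.node (.node (.leaf 20767829487908768680204) (.leaf 8362433059465539535722)) (.node (.leaf 2077683615224687104095) (.leaf 28219734048018932652))) (.node (.node (.leaf 76724345722937684463) (.leaf 12734661631526333384973)) (.node (.leaf 9856557228844680405) (.leaf 13133450573155225143647)))))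 (.node (.node (.node (.node (.leaf 15477039165632246713864) (.leaf 16254319242816236979608)) (.node (.leaf 1510339277413204610080) (.leaf 15896580721572863849167))) (.node (.node (.leaf 13105273504643962712560) (.leaf 15656008248500410323039)) (.node (.leaf 2079150678717281438617) (.leaf 8404008490448825188458)))) (.node (.node (.node (.leaf 3354016080245065421190) (.leaf 1940376857983608376213)) (.node (.leaf 3353858684750158758780) (.leaf 8399535075940096723648))) (.node (.node (.leaf 17746973411821692308028) (.leaf 224902880610476822118)) (.node (.leaf 1479205083363072672187) (.leaf 12029837400748310840546))))))) (.node (.node (.node (.node (.node (.node (.leaf 21305129851383418856365) (.leaf 16969961579918243973564)) (.node (.leaf 1481956727859732656624) (.leaf 20417596943384054367640))) (.node (.node (.leaf 14025935879954775984572) (.leaf 1957173376454237371905)) (.node (.leaf 261809976775498745058) (.leaf 21305269673931543970236)))) (.node (.node (.node (.leaf 21110356390702343631343) (.leaf 21018229602660512611856)) (.node (.leaf 1939759166981854087593) (.leaf 8024765528173774343782)))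 (.node (.node (.leaf 229512514582021276091) (.leaf 25756684405412304283)) (.node (.leaf 8584172447939265248784) (.leaf 7458889055974529139581))))) (.node (.node (.node (.node (.leaf 9950935085991475617715) (.leaf 8822399609974955127496)) (.node (.leaf 12923651143625210236666) (.leaf 15519683377118705517975))) (.node (.node (.leaf 21163107374332689482965) (.leaf 5987819830673423873)) (.node (.leaf 1163365470004758824162) (.leaf 17336501212814979385916)))) (.node (.node (.node (.leaf 20019329163482231971763) (.leaf 7682139205949325445208)) (.node (.leaf 2536494984617669462105) (.leaf 38066957625345751404))) (.node (.node (.leaf 15039861168783706065124) (.leaf 27947864066509736857)) (.node (.leaf 3798001217100764479594) (.leaf 8703836291571760564054)))))) (.node (.node (.node (.node (.node (.leaf 6577498321595226492518) (.leaf 2990680531209305508544)) (.node (.leaf 1940534264377332338783) (.leaf 3354262216548708656044))) (.node (.node (.leaf 1956877519851237770648) (.leaf 261802023953644341692)) (.node (.leaf 24886680937736617473) (.leaf 7407530843859100091618)))) (.node (.node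 (.node (.leaf 15577797426040501939521) (.leaf 19813258293282220362784)) (.node (.leaf 5191615397947114468047) (.leaf 21069137719369426633941))) (.node (.node (.leaf 136202363835541424479) (.leaf 1764322117879472850328)) (.node (.leaf 16809477858863883181) (.leaf 15580087414406816957847))))) (.node (.node (.node (.node (.leaf 15040033662392051763031) (.leaf 21557549470740972535913)) (.node (.leaf 8961668744240366586207) (.leaf 12838367027337533238593))) (.node (.node (.leaf 21857693531493330059499) (.leaf 9706838813884715079569)) (.node (.leaf 8778457142676989640938) (.leaf 781055458089707719360)))) (.node (.node (.node (.leaf 16066610569738697740383) (.leaf 187143001194251789228)) (.node (.leaf 9251210952664625874328) (.leaf 21018928349535104584124))) (.node (.node (.leaf 18618590600266269015553) (.leaf 18618009637707161126114)) (.node (.leaf 8580050284055676453757) (.leaf 228918039736210129297)))))))) (.node (.node (.node (.node (.node (.node (.node (.leaf 10906121349522821619635) (.leaf 5613677195104611283656)) (.node (.leaf 19812968173016270582255) (.leaf 20018269823384755424149)))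 (.node (.node (.leaf 19679519398752634864508) (.leaf 19502276688268055674985)) (.node (.leaf 1509848174625151298167) (.leaf 11607136410113977647619)))) (.node (.node (.node (.leaf 14087554671780816488536) (.leaf 21858388172652560353369)) (.node (.leaf 2537092443234378592751) (.leaf 8778458547409856006413))) (.node (.node (.leaf 21557600459100186382725) (.leaf 13542847521038243056114)) (.node (.leaf 17783928437623084582296) (.leaf 1374297459354144131516))))) (.node (.node (.node (.node (.leaf 2078797658305186446849) (.leaf 8404230147861688075490)) (.node (.leaf 8025801107128858116540) (.leaf 8366161582821092441616))) (.node (.node (.leaf 20140406319380761725353) (.leaf 11970786128947942083132)) (.node (.leaf 21413294262485661786035) (.leaf 19429049627126121169002)))) (.node (.node (.node (.leaf 19757096061697382319958) (.leaf 5497557385227585326600)) (.node (.leaf 2989820608073609184664) (.leaf 21952872140838490180356))) (.node (.node (.leaf 8401344218168146266200) (.leaf 2536538176094738809725)) (.node (.leaf 8778346449262719992209) (.leaf 21557336478173809713075)))))) (.node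 (.node (.node (.node (.node (.leaf 13542297917894398030536) (.leaf 504337442088203520416)) (.node (.leaf 14144648652938455586203) (.leaf 21235126933983938838971))) (.node (.node (.leaf 143464177487034010024) (.leaf 17341172554984133787883)) (.node (.leaf 17340524734366994405265) (.leaf 1065981962070383675816)))) (.node (.node (.node (.leaf 3891190280418964901626) (.leaf 17747334283840780798180)) (.node (.leaf 74948351647364431743) (.leaf 8581272391492002128813))) (.node (.node (.leaf 3986160389127608534423) (.leaf 23225805332129259322)) (.node (.leaf 11971197545256251953541) (.leaf 9706526373156761192872))))) (.node (.node (.node (.node (.leaf 21314059935846311038714) (.leaf 18819137830336995237337)) (.node (.leaf 5325414024532516864235) (.leaf 16254518441384056030076))) (.node (.node (.leaf 1087289562281992880572) (.leaf 15575971640823049978749)) (.node (.leaf 12998057336087773585) (.leaf 8778930377366989029247)))) (.node (.node (.node (.leaf 780579072178581998340) (.leaf 16066028845952009997049)) (.node (.leaf 187382729229591840599) (.leaf 7458351620396324137591))) (.node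 (.node (.leaf 21233365609586656840099) (.leaf 9950916739517189960398)) (.node (.leaf 8822803496213553384968) (.leaf 38600387884136008441))))))) (.node (.node (.node (.node (.node (.node (.leaf 18617583463937192005370) (.leaf 19994044954822597905305)) (.node (.leaf 21857458012238886578807) (.leaf 9706523784180117637539))) (.node (.node (.leaf 21068497443583039419086) (.leaf 136652407127138373128)) (.node (.leaf 7459495779300651666169) (.leaf 11989593738890985539415)))) (.node (.node (.node (.leaf 8526502677161949794042) (.leaf 1155655160714723396505)) (.node (.leaf 16456070829171852495634) (.leaf 15660634667391239424268))) (.node (.node (.leaf 176918669198031225233) (.leaf 10905586979715324447481)) (.node (.leaf 783197375775750947051) (.leaf 12923371313288863225745))))) (.node (.node (.node (.node (.leaf 93489104612702374312) (.leaf 258624134718800134144)) (.node (.leaf 10268007766324479754755) (.leaf 1160498142779665460545))) (.node (.node (.leaf 7682014325885221420545) (.leaf 20322634234777178721312)) (.node (.leaf 16456051964788597895887) (.leaf 20140852924072150698905))))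 (.node (.node (.node (.leaf 11489117191615658197098) (.leaf 19994218007223349839702)) (.node (.leaf 8525948300151531441766) (.leaf 3798354967700780487046))) (.node (.node (.leaf 5949718575563159248698) (.leaf 169893032991175592853)) (.node (.leaf 16293095147664650371964) (.leaf 14087617424704853279957)))))) (.node (.node (.node (.node (.node (.leaf 17326747979250613799968) (.leaf 503920338446972728015)) (.node (.leaf 28823286764682359280) (.leaf 5858338850750468191))) (.node (.node (.leaf 19756469693839201960042) (.leaf 9372740561598449494)) (.node (.leaf 17326482022983136084483) (.leaf 503840152330965765013)))) (.node (.node (.node (.leaf 120124724533002740653) (.leaf 17325383316966623970711)) (.node (.leaf 221597877420487804759) (.leaf 17845550083404875923561))) (.node (.node (.leaf 7513702246989478465126) (.leaf 19429560788315589083579)) (.node (.leaf 5192254933650206168475) (.leaf 8703774170525565402640))))) (.node (.node (.node (.node (.leaf 5325513212072836334461) (.leaf 21952794774360181670289)) (.node (.leaf 7077846356187405131699) (.leaf 8024966870590485770952)))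 (.node (.node (.leaf 8526530157383688073712) (.leaf 728653193018737956753)) (.node (.leaf 2079382598806839931592) (.leaf 8403759063280503114784)))) (.node (.node (.node (.leaf 2125108497382360910243) (.leaf 19993443344635320632189)) (.node (.leaf 21315876862326506851076) (.leaf 17031059044902714706008))) (.node (.node (.leaf 15579479489572189194738) (.leaf 22170790499456265866002)) (.node (.leaf 22048540451651104743226) (.leaf 715486661853054144901))))))))

def k4Code_3 : H52.TCert.Tr := .node (.node (.node (.node (.node (.node (.node (.node (.leaf 21687796913931619371929) (.leaf 86557988961330987114)) (.node (.leaf 21682141705090147451115) (.leaf 3642140262867614078865))) (.node (.node (.leaf 22054251930772318177704) (.leaf 39477076749066571514)) (.node (.leaf 17341092386344251984100) (.leaf 17339955877140617674623)))) (.node (.node (.node (.leaf 1065786598278593913773) (.leaf 3891297063780308944279)) (.node (.leaf 8822206584827884253680) (.leaf 14224240736511546789983))) (.node (.node (.leaf 15690767866644880365457) (.leaf 38144752486959909280)) (.node (.leaf 16066451687591698707144)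 (.leaf 186783190262492711968))))) (.node (.node (.node (.node (.leaf 9474718937532720581027) (.leaf 2078906099179240162173)) (.node (.leaf 119986985627099894149) (.leaf 17325441963535810415090))) (.node (.node (.leaf 222035919057883498912) (.leaf 17845584633547633989019)) (.node (.leaf 10846755535873070308825) (.leaf 1510327206226858279147)))) (.node (.node (.node (.leaf 5325344467500655282444) (.leaf 21952794815290036437866)) (.node (.leaf 21233368200869278286058) (.leaf 3746048958444525701824))) (.node (.node (.leaf 75504205066223715736) (.leaf 2062940238041884933633)) (.node (.leaf 19503094336286154147042) (.leaf 23529865996835372545)))))) (.node (.node (.node (.node (.node (.leaf 262105851447169666080) (.leaf 1934615059196243915471)) (.node (.leaf 15660151040562974557397) (.leaf 8670600801711573764447))) (.node (.node (.leaf 2990755347945429798408) (.leaf 17706760117320332445080)) (.node (.leaf 7407586652053263454598) (.leaf 21473169856834014912314)))) (.node (.node (.node (.leaf 5326999381177778737541) (.leaf 6666383773368308124146)) (.node (.leaf 21858914428775453100448)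 (.leaf 782843659063048672667))) (.node (.node (.leaf 260016778328960578248) (.leaf 5543920518324145540128)) (.node (.leaf 20019819531934611999139) (.leaf 9893229318150222644093))))) (.node (.node (.node (.node (.leaf 676234880450009150158) (.leaf 19993485146072119018709)) (.node (.leaf 188489368679304759647) (.leaf 7460076232641195248035))) (.node (.node (.leaf 11989905436791980065661) (.leaf 8526012117828709155260)) (.node (.leaf 1155608904167907242479) (.leaf 15575979153128035158105)))) (.node (.node (.node (.leaf 13346227217087871622) (.leaf 1160425079851858370362)) (.node (.leaf 7681967194862723993989) (.leaf 24308143805436265340))) (.node (.node (.leaf 7407757599162447921596) (.leaf 715315983912755347327)) (.node (.leaf 19812974601347460139780) (.leaf 20323750254829789514489))))))) (.node (.node (.node (.node (.node (.node (.leaf 14088179500141978257239) (.leaf 17553244667776895451651)) (.node (.leaf 13036495128287108541761) (.leaf 15576361950523936423425))) (.node (.node (.leaf 13036714484309712078231) (.leaf 15576536958531313435861)) (.node (.leaf 173290428710157816198)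 (.leaf 5471166517801022791482)))) (.node (.node (.node (.leaf 924643293615582511619) (.leaf 16455718237706238462040)) (.node (.leaf 14087705494411618529775) (.leaf 21858508475642267601165))) (.node (.node (.leaf 5497297160481053282693) (.leaf 2989525692192775719410)) (.node (.leaf 22054245369042572095983) (.leaf 39785397553326754061))))) (.node (.node (.node (.node (.leaf 136652371656395035013) (.leaf 2062969242258159913458)) (.node (.leaf 10267919150569909242773) (.leaf 7514012927750314328956))) (.node (.node (.leaf 21765096416392732409961) (.leaf 20767591546752455715447)) (.node (.leaf 17746941375201932294790) (.leaf 75193158265752631660)))) (.node (.node (.node (.leaf 8581449179984912495304) (.leaf 3985943028246786853920)) (.node (.leaf 785258621436639936618) (.leaf 19503451712144572154371))) (.node (.node (.leaf 29466633276241267605) (.leaf 3745923103942703056985)) (.node (.leaf 2112529841170566888070) (.leaf 1854055423280577912634)))))) (.node (.node (.node (.node (.node (.leaf 19501936917839586431365) (.leaf 5498943594465607292315)) (.node (.leaf 15476931093195793219088)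 (.leaf 2112157455884901943385))) (.node (.node (.leaf 21234627339151145122438) (.leaf 16491394415031282158624)) (.node (.leaf 5326964497823786185200) (.leaf 6666446522654659022943)))) (.node (.node (.node (.leaf 15027635850004460751292) (.leaf 273747053771144835568)) (.node (.leaf 26739352216905890438) (.leaf 26027041577427941740))) (.node (.node (.leaf 136716759483728047425) (.leaf 13805645260664514923552)) (.node (.leaf 15519974389216309981903) (.leaf 2063213426062279609081))))) (.node (.node (.node (.node (.leaf 19502922559079267927895) (.leaf 7459484501988302982906)) (.node (.leaf 12734122288936366018298) (.leaf 784660192816369370519))) (.node (.node (.leaf 10847367996248314381525) (.leaf 21572706691729428451718)) (.node (.leaf 21857757732783209553722) (.leaf 11489302290733639715733)))) (.node (.node (.node (.leaf 18819756370143516328828) (.leaf 20140395876278873428357)) (.node (.leaf 11489214958873933662706) (.leaf 19994405320606395599264))) (.node (.node (.leaf 21473576586118029062856) (.leaf 21314570595454900896637)) (.node (.leaf 143045095851167429326) (.leaf 11990393963743088250376))))))))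 (.node (.node (.node (.node (.node (.node (.node (.leaf 6877273576829166716117) (.leaf 12818418231940021913951)) (.node (.leaf 15027432185789026961827) (.leaf 273308367291637531517))) (.node (.node (.leaf 26786847636874920380) (.leaf 25374619430757478895)) (.node (.leaf 7407960158432846579801) (.leaf 21473781680468290681478)))) (.node (.node (.node (.leaf 20018850026460162694970) (.leaf 19679283108746324119941)) (.node (.leaf 10846876005545252389756) (.leaf 1510416046967175872956))) (.node (.node (.leaf 502767452127811747711) (.leaf 1631389177338128075524)) (.node (.leaf 21473282107835908000505) (.leaf 4235230301801844344663))))) (.node (.node (.node (.node (.leaf 3353850813129524593890) (.leaf 2990761525744449266605)) (.node (.leaf 1940383331534900545980) (.leaf 3354481820225358475760))) (.node (.node (.leaf 1956935443955645166064) (.leaf 262008321115065749599)) (.node (.leaf 24305120425009158033) (.leaf 7407525885910533999008)))) (.node (.node (.node (.leaf 15577233327919593523972) (.leaf 1956509915477505214552)) (.node (.leaf 19812966239312665987570) (.leaf 5191687461100490803986)))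 (.node (.node (.leaf 21068998316639681716026) (.leaf 39817978275324562329)) (.node (.leaf 1764471807422342103146) (.leaf 16221086251708318588)))))) (.node (.node (.node (.node (.node (.leaf 15580013585905990173116) (.leaf 15040543515613419438973)) (.node (.leaf 21557406493886889886097) (.leaf 8962072420648156970879))) (.node (.node (.leaf 12837789398362223577860) (.leaf 21857163516381595568889)) (.node (.leaf 9706956889477930518359) (.leaf 8778511708636439685751)))) (.node (.node (.node (.leaf 780941435050981788067) (.leaf 16066550443036513153742)) (.node (.leaf 187434230653519498760) (.leaf 9251122390519494871801))) (.node (.node (.leaf 21018912021483237443415) (.leaf 26025211739573340946)) (.node (.leaf 8583613408002688911628) (.leaf 7407525909883966390673))))) (.node (.node (.node (.node (.leaf 1571824423689034176401) (.leaf 22048484297070088014248)) (.node (.leaf 714888281285486317306) (.leaf 15656195806876565540360))) (.node (.node (.leaf 11955866003034280232344) (.leaf 3687053301052175190788)) (.node (.leaf 1158972903432744732760) (.leaf 780542882504631287808)))) (.node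 (.node (.node (.leaf 8580606138603972100611) (.leaf 72120729058018241857)) (.node (.leaf 3855622811463686176257) (.leaf 12029663199751028589418))) (.node (.node (.leaf 21304836562750811148678) (.leaf 16969851732252140013796)) (.node (.leaf 1481573731449702104959) (.leaf 17031065962355536693516))))))) (.node (.node (.node (.node (.node (.node (.leaf 21347833771616457671530) (.leaf 14144713060622605929234)) (.node (.leaf 2077928237283609446668) (.leaf 19679494908067908785563))) (.node (.node (.leaf 225097490341610274320) (.leaf 11956227871072952617049)) (.node (.leaf 675693138469488409222) (.leaf 169598475035989278954)))) (.node (.node (.node (.leaf 16293086952348684700352) (.leaf 141892485946678055007)) (.node (.leaf 15752857027883037238188) (.leaf 8362149665281577189820))) (.node (.node (.leaf 21315301660349662117392) (.leaf 17031200681281549584809)) (.node (.leaf 21018390563259056392608) (.leaf 21163184749801606185194))))) (.node (.node (.node (.node (.leaf 1481896811448333077241) (.leaf 15640545919534535968599)) (.node (.leaf 13114552102937420205818) (.leaf 785788952191127423897)))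 (.node (.node (.leaf 3746339987346330914554) (.leaf 2112309793560761306009)) (.node (.leaf 1854249947241143764375) (.leaf 19501737272476377777365)))) (.node (.node (.node (.leaf 19502830534019064053249) (.leaf 28835846289435051234)) (.node (.leaf 273542275060345653820) (.leaf 20019991774513301365676))) (.node (.node (.leaf 9893442649164034323150) (.leaf 8362661407369015274103)) (.node (.leaf 2536541520132145367826) (.leaf 8778359379079470352652)))))) (.node (.node (.node (.node (.node (.leaf 13542801304849815669497) (.leaf 504141210921315631339)) (.node (.leaf 14144474225691504252817) (.leaf 21235071408112904456616))) (.node (.node (.leaf 142982834543161741050) (.leaf 1258998777433633655053)) (.node (.leaf 781692848664790859776) (.leaf 13805350136465537827331)))) (.node (.node (.node (.leaf 10906154141349060848961) (.leaf 5614102712618965024257)) (.node (.leaf 21314266883369436826656) (.leaf 16970166150488315966159))) (.node (.node (.leaf 19502939168605828204988) (.leaf 20019756828337653154193)) (.node (.leaf 8362772836001232783711) (.leaf 20322630012748792868161))))) (.node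 (.node (.node (.node (.leaf 9475258553114619905237) (.leaf 2078727080615774488927)) (.node (.leaf 5325846334854395855292) (.leaf 1163929430533676303229))) (.node (.node (.leaf 21068694615000083366289) (.leaf 92626131830806350243)) (.node (.leaf 1936427055453851714429) (.leaf 1935041773278284874172)))) (.node (.node (.node (.leaf 13036702118662712275439) (.leaf 3891120192936611416153)) (.node (.leaf 20985829390620702521990) (.leaf 19679657744224982867770))) (.node (.node (.leaf 225456530597938041221) (.leaf 9951279065910152856444)) (.node (.leaf 8822163797708130419132) (.leaf 17746998339660244124541))))))))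

def k4Code_4 : H52.TCert.Tr := .node (.node (.node (.node (.node (.node (.node (.node (.leaf 75450634452900577681) (.leaf 1631466763419430109055)) (.node (.leaf 4234777498336643615481) (.leaf 229684673847674976620))) (.node (.node (.leaf 1481773807038128653720) (.leaf 15640543477837795019196)) (.node (.leaf 23677077207391670662) (.leaf 262387103317986216164)))) (.node (.node (.node (.leaf 1934668230632498937727) (.leaf 12734208510207280063404)) (.node (.leaf 21687695315656454681294) (.leaf 784155421838267656823))) (.node (.node (.leaf 10846701930899498600867) (.leaf 20139326503897971001175)) (.node (.leaf 81862669302822797417) (.leaf 675731065619060982652))))) (.node (.node (.node (.node (.leaf 5497679349355641536956) (.leaf 20019918277199024653181)) (.node (.leaf 21163449316156442345916) (.leaf 19730447589085673894383))) (.node (.node (.leaf 14144433450390936914009) (.leaf 2078236417476700420742)) (.node (.leaf 20739191517669018705722) (.leaf 16790614530047947575685)))) (.node (.node (.node (.leaf 21413880737374090199933) (.leaf 16066489083366549160337)) (.node (.leaf 273252222038546825087)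 (.leaf 7077799859332913433348))) (.node (.node (.leaf 237894243962170312535) (.leaf 11990541293605629278572)) (.node (.leaf 7458518883303347357924) (.leaf 3746009395033148720536)))))) (.node (.node (.node (.node (.node (.leaf 2112152423467524770236) (.leaf 1158698935162825360234)) (.node (.leaf 176506496855219704198) (.leaf 15577132701207528409316))) (.node (.node (.leaf 1956863831335193493375) (.leaf 38320574042618307500)) (.node (.leaf 15040492563994397913806) (.leaf 18617874476565973772919)))) (.node (.node (.node (.leaf 19994122344284605843875) (.leaf 8362189640569480218455)) (.node (.leaf 20323178992119936548969) (.leaf 21315722778276594254716))) (.node (.node (.leaf 17031602240025180766652) (.leaf 9950948335382457714957)) (.node (.leaf 8822165662279058259968) (.leaf 17747017512924681601024))))) (.node (.node (.node (.node (.leaf 75176829667215606275) (.leaf 17340291610223331117977)) (.node (.leaf 17969433182838919558) (.leaf 17336490640495553060666))) (.node (.node (.leaf 17339946240169177631637) (.leaf 21554016889770329965436)) (.node (.leaf 20767591514183965213909)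 (.leaf 22170958288246968290824)))) (.node (.node (.node (.leaf 14112838974048404888) (.leaf 18619092523612093762592)) (.node (.leaf 18617397008875527123663) (.leaf 8025505191420195353072))) (.node (.node (.leaf 2125507913358285934687) (.leaf 14025682529548075892842)) (.node (.leaf 17784486054457131304790) (.leaf 228717946210196619779))))))) (.node (.node (.node (.node (.node (.node (.leaf 1160457697634402651029) (.leaf 14491080492030526301101)) (.node (.leaf 143402847989789853527) (.leaf 11991020499451441512553))) (.node (.node (.leaf 13133572451815790315748) (.leaf 258348048402855116671)) (.node (.leaf 8401339253072974422957) (.leaf 8365692176047816017303)))) (.node (.node (.node (.leaf 21572803660497097902652) (.leaf 21857135865417817956275)) (.node (.leaf 18819534322749644867414) (.leaf 1159849358575939857015))) (.node (.node (.leaf 1764066709842991660927) (.leaf 20569509513795950676740)) (.node (.leaf 19730225860119086709382) (.leaf 172948295777759279468))))) (.node (.node (.node (.node (.leaf 17553238367999207715528) (.leaf 261199844070890654752)) (.node (.leaf 502684026969734630432)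 (.leaf 1631739962218740363983))) (.node (.node (.leaf 21473749103776029585904) (.leaf 4235152126908925120607)) (.node (.leaf 260578811539602459068) (.leaf 21553270805061214059142)))) (.node (.node (.node (.leaf 93497613641859447148) (.leaf 3797915065829240129961)) (.node (.leaf 5949093560827779915225) (.leaf 8581834353524964133636))) (.node (.node (.leaf 3985902944817690151000) (.leaf 20417201147915119315442)) (.node (.leaf 14025305143906805336850) (.leaf 2124844516591306879695)))))) (.node (.node (.node (.node (.node (.leaf 19992893722212955488490) (.leaf 5192072685917293021272)) (.node (.leaf 8703658830240759711833) (.leaf 8581288538952479181028))) (.node (.node (.leaf 504297255370621995580) (.leaf 14144586218960640221107)) (.node (.leaf 21234889820778168418410) (.leaf 143490924982417000278)))) (.node (.node (.node (.leaf 21233454361035683794440) (.leaf 8670223017289638251268)) (.node (.leaf 21764918154506445555800) (.leaf 21844874306532689758994))) (.node (.node (.leaf 21682387004712856750348) (.leaf 8965499178679824056721)) (.node (.leaf 18919970545600853805817) (.leaf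 21017858053207162847467))))) (.node (.node (.node (.node (.leaf 1939381378557577205649) (.leaf 20984577599169200081320)) (.node (.leaf 8025552583541796703994) (.leaf 21413893595587237382413))) (.node (.node (.leaf 16066041354461684924416) (.leaf 714823436344668913664)) (.node (.leaf 19813055075133095051779) (.leaf 237512086485744135489)))) (.node (.node (.node (.leaf 17341448383015650115073) (.leaf 11607046855028100549664)) (.node (.leaf 16253887407634212619477) (.leaf 1087221418422350678367))) (.node (.node (.leaf 17842733959140836220) (.leaf 17336990662748058812860)) (.node (.leaf 17340570475866389382013) (.leaf 21554434952699989393809)))))))) (.node (.node (.node (.node (.node (.node (.node (.leaf 21572480960849023240420) (.leaf 21857088043639464116095)) (.node (.leaf 11489030167941560050605) (.leaf 18819551288331931190679))) (.node (.node (.leaf 20140755483806015965756) (.leaf 11488951651809070522291)) (.node (.leaf 8525864697298231199574) (.leaf 17325033871824539663873)))) (.node (.node (.node (.leaf 3856041533322824328108) (.leaf 120267504497326535374)) (.node (.leaf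 16790559053052851202679) (.leaf 729144410628478568867))) (.node (.node (.leaf 5949080225251225778540) (.leaf 17326223448197158111460)) (.node (.leaf 780546104671829689752) (.leaf 8580672921368622647740))))) (.node (.node (.node (.node (.leaf 9334253972218087652) (.leaf 13132930981394819170175)) (.node (.leaf 675914235764391772675) (.leaf 5497139596337158146965))) (.node (.node (.leaf 19992821957931893524568) (.leaf 188266633486094927961)) (.node (.leaf 20984338500629968433647) (.leaf 8025507258150627084557)))) (.node (.node (.node (.leaf 15640645939405784125829) (.leaf 21572841864423138904562)) (.node (.leaf 7408042400487388480920) (.leaf 20018628664552832155137))) (.node (.node (.leaf 5327024941257010151868) (.leaf 6666861789224819339759)) (.node (.leaf 21858519061468120628752) (.leaf 1935859460067115938510)))))) (.node (.node (.node (.node (.node (.leaf 15690299259354693635592) (.leaf 21682515405854447371477)) (.node (.leaf 3642761524630600223071) (.leaf 8024513994107783545724))) (.node (.node (.leaf 229752859025619714492) (.leaf 25530941473009927037)) (.node (.leaf 8583502748546111308177)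 (.leaf 224832481304355473636)))) (.node (.node (.node (.leaf 1479721880407534157695) (.leaf 785747220739854246829)) (.node (.leaf 13579415341070825194903) (.leaf 1940448044052997229116))) (.node (.node (.leaf 3354226291199957082035) (.leaf 9250046857755857780842)) (.node (.leaf 8400455746340312811350) (.leaf 22054587676447988894121))))) (.node (.node (.node (.node (.leaf 39753311676889505241) (.leaf 136400768269204259050)) (.node (.leaf 2062856719353503861440) (.leaf 10268281935079689751300))) (.node (.node (.leaf 7514261468592581740632) (.leaf 21765250593862864390642)) (.node (.leaf 20767657905093758929682) (.leaf 3855643679388506275711)))) (.node (.node (.node (.leaf 120535363142782257924) (.leaf 10905823704738959335226)) (.node (.leaf 9251714190392775953301) (.leaf 21019275619284566016892))) (.node (.node (.leaf 19756473258247099683205) (.leaf 9236187515290044914)) (.node (.leaf 17326404250761801271712) (.leaf 503887918323855365531))))))) (.node (.node (.node (.node (.node (.node (.leaf 5614076827908163143063) (.leaf 502865392467660866773)) (.node (.leaf 178721413420328798994)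 (.leaf 9250562812158263986444))) (.node (.node (.leaf 17784055276473352880529) (.leaf 1374292438908675951353)) (.node (.leaf 8965354564268555288447) (.leaf 18920072937627908279044)))) (.node (.node (.node (.leaf 1936237036947247958777) (.leaf 15690118962789227497303)) (.node (.leaf 2989535281012549127782) (.leaf 83025090586820510139))) (.node (.node (.leaf 188408020349396945124) (.leaf 7459412351719993196415)) (.node (.leaf 10846695548735938700205) (.leaf 1510890303651457172887))))) (.node (.node (.node (.node (.leaf 9950954383830476573244) (.leaf 17747009577859253534826)) (.node (.leaf 75411936603755644758) (.leaf 186857867282831048809))) (.node (.node (.leaf 8961671714790130494071) (.leaf 21234521720828551215468)) (.node (.leaf 21110091775491100390088) (.leaf 71648542373173611552)))) (.node (.node (.node (.leaf 1065315920681604941208) (.leaf 1374769571474411260676)) (.node (.leaf 21844590737380267755608) (.leaf 12734807947615830016))) (.node (.node (.leaf 15577204856859565851139) (.leaf 2102097423447356157249)) (.node (.leaf 20139413180263608827393) (.leaf 1571442293839487550314))))))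 (.node (.node (.node (.node (.node (.leaf 259803937087970871524) (.leaf 8703926117394799855884)) (.node (.leaf 6577519641304089477994) (.leaf 5498754692448990907154))) (.node (.node (.leaf 15477492391328390088972) (.leaf 8965324623871479794089)) (.node (.leaf 18919522116053038767577) (.leaf 1936257190678053060842)))) (.node (.node (.node (.leaf 15690783311275997809344) (.leaf 15641208470685843000068)) (.node (.leaf 21572324460823233759320) (.leaf 83433830291961465618))) (.node (.node (.leaf 1087582579874172323042) (.leaf 6877503854751454340013)) (.node (.leaf 12838308553438312450492) (.leaf 23728061184604189168))))) (.node (.node (.node (.node (.leaf 9893221579291923067376) (.leaf 15896498139481862608785)) (.node (.leaf 13115115266902695283104) (.leaf 15896725925354112266735))) (.node (.node (.leaf 13105347583719244054032) (.leaf 15655993165210548095401)) (.node (.leaf 221370936563147806609) (.leaf 17845107673331549800864)))) (.node (.node (.node (.leaf 8778433214339316462287) (.leaf 780772073552736420074)) (.node (.leaf 22171311568164988471720) (.leaf 14187256201199656409)))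 (.node (.node (.leaf 2102329881228741476587) (.leaf 16293758554445485179395)) (.node (.leaf 924995260143783037845) (.leaf 22375125258427219216472))))))))

def k4Code_5 : H52.TCert.Tr := .node (.node (.node (.node (.node (.node (.node (.node (.leaf 22048797932834646755417) (.leaf 19502216163377144923990)) (.node (.leaf 21554498580453268114112) (.leaf 1065866891626758031932))) (.node (.node (.leaf 21858492065488792229777) (.leaf 782927482949299407264)) (.node (.leaf 1479504168756066792143) (.leaf 26988632144906586531)))) (.node (.node (.node (.leaf 27965242624726598076) (.leaf 15577550272708597730197)) (.node (.leaf 1957015187775204688764) (.leaf 19813589200011578212457))) (.node (.node (.leaf 5191688203890886486647) (.leaf 21068989569880985094569)) (.node (.leaf 136719294907074780633) (.leaf 39436297967081980138))))) (.node (.node (.node (.node (.leaf 1935977367101657226713) (.leaf 3642093231613046473578)) (.node (.leaf 8024715211402571157599) (.leaf 229960027468434908076))) (.node (.node (.leaf 8583513429519006107917) (.leaf 3798121880778025306528)) (.node (.leaf 5949157788076361487771)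 (.leaf 169561370702521926075)))) (.node (.node (.node (.leaf 16293608395234580646312) (.leaf 8581271742506769948595)) (.node (.leaf 3986106583517598134984) (.leaf 20417594320925351461738))) (.node (.node (.leaf 14025792085759111926150) (.leaf 21017769203584283873375)) (.node (.leaf 1939295889565122601900) (.leaf 9250356381149002478287)))))) (.node (.node (.node (.node (.node (.leaf 8400440485802226024682) (.leaf 10268012686812914614272)) (.node (.leaf 5327147488370090346912) (.leaf 6666349765992101025179))) (.node (.node (.leaf 21858910667559456735675) (.leaf 783185905372995963304)) (.node (.leaf 5949638145266811379635) (.leaf 17326602386944686338760)))) (.node (.node (.node (.leaf 781092151896325833578) (.leaf 8580278813628964213126)) (.node (.leaf 12818194728714712223839) (.leaf 13266744704270622303148))) (.node (.node (.leaf 1259658856970747490799) (.leaf 782339908287994530061)) (.node (.leaf 92741127249038750415) (.leaf 1934695948390316706061))))) (.node (.node (.node (.node (.leaf 13036088695219975946240) (.leaf 12923107192202731699728)) (.node (.leaf 93396583301273749593)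 (.leaf 18618541484444585376390))) (.node (.node (.leaf 86713362820980736234) (.leaf 9251058628892715141824)) (.node (.leaf 10268322254811242991711) (.leaf 7513672624560219595692)))) (.node (.node (.node (.leaf 2079033393652548043196) (.leaf 8404043277930935661039)) (.node (.leaf 2125197963926347759120) (.leaf 19993301205685165377961))) (.node (.node (.leaf 3354251978219053422481) (.leaf 2990761568029820127648)) (.node (.leaf 1854064468326647140090) (.leaf 19501669413858403290009))))))) (.node (.node (.node (.node (.node (.node (.leaf 12029750365071000700311) (.leaf 21305250056140181046485)) (.node (.leaf 13805092249559566794241) (.leaf 15519816785798433359074))) (.node (.node (.leaf 21844681536770362755644) (.leaf 21682219433590577897395)) (.node (.leaf 5470680199317307892652) (.leaf 220817438237370626766)))) (.node (.node (.node (.leaf 783148235133637175927) (.leaf 12923530355241717533091)) (.node (.leaf 21110043945151083874573) (.leaf 71591084655634448384))) (.node (.node (.leaf 15027277233887857836032) (.leaf 273882224706457829891)) (.node (.leaf 258676604701648006465)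 (.leaf 10268420810210075065857))))) (.node (.node (.node (.node (.leaf 92755418761205074976) (.leaf 1935857680100628411087)) (.node (.leaf 714821169868033756057) (.leaf 19812970819510728687722))) (.node (.node (.leaf 20324111945172851394390) (.leaf 14087940287736865066598)) (.node (.leaf 8366229469433848598918) (.leaf 20140953202611916709690)))) (.node (.node (.node (.leaf 20018730063990021456764) (.leaf 179342416866161932652)) (.node (.leaf 9250142543573508753636) (.leaf 8583912262585546843052))) (.node (.node (.leaf 1087218438547142126199) (.leaf 6877253742842492193187)) (.node (.leaf 177568137218491580521) (.leaf 503936191283434062716)))))) (.node (.node (.node (.node (.node (.leaf 14144380196177303437756) (.leaf 2101794482746430226432)) (.node (.leaf 20139906428012443599363) (.leaf 11990624711631428988225))) (.node (.node (.leaf 7458259224206891695617) (.leaf 8583893273202631673239)) (.node (.leaf 22054248240907755750613) (.leaf 1087274976671010132358)))) (.node (.node (.node (.leaf 6877826175449733996346) (.leaf 12923109972515818734083)) (.node (.leaf 21017868525879330950037)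 (.leaf 15519486613727944869976))) (.node (.node (.leaf 21163383172580493166681) (.leaf 6438707031946670575)) (.node (.leaf 1163972514277112678669) (.leaf 17336638261389588828549))))) (.node (.node (.node (.node (.leaf 20019710548036905912818) (.leaf 16969955885969398942752)) (.node (.leaf 1481694640883118125775) (.leaf 13355721367929565680))) (.node (.node (.leaf 15577804924817812688991) (.leaf 16790176193021236169148)) (.node (.leaf 728967889795486691824) (.leaf 237668513883867921030)))) (.node (.node (.node (.leaf 17341094516745742858604) (.leaf 27682891379646286249)) (.node (.leaf 3798247025167447301593) (.leaf 8704012128076025659626))) (.node (.node (.leaf 6577723052627064539840) (.leaf 15690189891672298130180)) (.node (.leaf 38424043908707944536) (.leaf 1631653583915291560722)))))))) (.node (.node (.node (.node (.node (.node (.node (.leaf 92735747963848623959) (.leaf 1935946823711893880937)) (.node (.leaf 3891128655846810074640) (.leaf 9951102440337119627762))) (.node (.node (.leaf 8822786402948281715474) (.leaf 17747402548088410252204)) (.node (.leaf 74950116583448097486)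 (.leaf 1631747571479907893691)))) (.node (.node (.node (.leaf 3687532371667418106280) (.leaf 4234690516272876210601)) (.node (.leaf 221375690016234347993) (.leaf 29346616559463008524))) (.node (.node (.leaf 6136717811668534122) (.leaf 229654591931084229394)) (.node (.leaf 1259057953656145676556) (.leaf 187940384857814401467))))) (.node (.node (.node (.node (.leaf 8400196180773409199515) (.leaf 17553582088285335666192)) (.node (.leaf 5497424876398952548182) (.leaf 21953148101006819281600))) (.node (.node (.leaf 8401427865181541354044) (.leaf 8399120031434482057216)) (.node (.leaf 17747324053230916895235) (.leaf 7078433248413322510780)))) (.node (.node (.node (.leaf 21347575726565638127120) (.leaf 14491448027618899282345)) (.node (.leaf 11956381297929550334368) (.leaf 3687725457404004315855))) (.node (.node (.leaf 1158766317886089887978) (.leaf 1510429735348516637096)) (.node (.leaf 15896575385640819560186) (.leaf 13105311424222514159065)))))) (.node (.node (.node (.node (.node (.leaf 15655603532696636653803) (.leaf 221870926750120903171)) (.node (.leaf 17845564828587157834645)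 (.leaf 8779009924599674570840))) (.node (.node (.leaf 780624668710987434073) (.leaf 14025747045047418683497)) (.node (.leaf 262215156986648363452) (.leaf 21304846625205212167696)))) (.node (.node (.node (.leaf 21110333166628811131305) (.leaf 21018036822779571487970)) (.node (.leaf 1939591571906077631405) (.leaf 8024996459721598061042))) (.node (.node (.leaf 25885986978777670572) (.leaf 8583922781939518255822)) (.node (.leaf 7458922551565269860795) (.leaf 21233918512929240435112))))) (.node (.node (.node (.node (.leaf 8822660014804249976281) (.leaf 12923584293597335177920)) (.node (.leaf 21017946001183345003068) (.leaf 15520139141899327934054))) (.node (.node (.leaf 21163250351241764012475) (.leaf 5847009634955445474)) (.node (.leaf 1163552227208187061165) (.leaf 17336970062090226420156)))) (.node (.node (.node (.leaf 20019378982189321105904) (.leaf 7682202776139626056099)) (.node (.leaf 38148972098831581628) (.leaf 15039954688951173788143))) (.node (.node (.leaf 27772693421771524185) (.leaf 3797817102679703370374)) (.node (.leaf 8703457129508283064122) (.leaf 6577499592393892467077)))))))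 (.node (.node (.node (.node (.node (.node (.leaf 169484670812799775438) (.leaf 16293557264745353481736)) (.node (.leaf 142276497956815537365) (.leaf 15752620902576341158239))) (.node (.node (.leaf 14175469223919487204) (.leaf 71797056276548045372)) (.node (.leaf 3855767957217901223859) (.leaf 9951354901009557129046)))) (.node (.node (.node (.leaf 19502195159190941485628) (.leaf 1509256634007736491955)) (.node (.leaf 11489143046529097966508) (.leaf 18819147654910645482190))) (.node (.node (.leaf 12837987944085859207587) (.leaf 18618537857697939327204)) (.node (.leaf 14224020425247877596568) (.leaf 8966777943337162197436))))) (.node (.node (.node (.node (.leaf 16254562087902403609450) (.leaf 15575979842577506568420)) (.node (.leaf 12968933966252818303) (.leaf 8525854600291821486186))) (.node (.node (.leaf 6577417292336287450966) (.leaf 22374817254119173983846)) (.node (.leaf 8746128504945183705792) (.leaf 24218177814885911100)))) (.node (.node (.node (.leaf 2536521053865676770918) (.leaf 8778646581808695706043)) (.node (.leaf 17784316238439376438498) (.leaf 1374474064898490672045)))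 (.node (.node (.leaf 2079393093867521034684) (.leaf 8403654821163116474864)) (.node (.leaf 1509184598822473845234) (.leaf 21315225584348384545554)))))) (.node (.node (.node (.node (.node (.leaf 17845218929816469906348) (.leaf 8746123767376214340302)) (.node (.leaf 8670632493943644422587) (.leaf 21765075376336285780392))) (.node (.node (.leaf 2078086285780642548137) (.leaf 28092293702012313049)) (.node (.leaf 8402498771941604302771) (.leaf 11606628179247224500936)))) (.node (.node (.node (.leaf 4235182611329402878316) (.leaf 221413604700149680356)) (.node (.leaf 13266750949869752649112) (.leaf 5498289456802126842300))) (.node (.node (.leaf 12818730904820514914747) (.leaf 13266677378120402356648)) (.node (.leaf 1259000361324988811689) (.leaf 782121378538688912857))))) (.node (.node (.node (.node (.leaf 92243924142470332521) (.leaf 1935842093634881038967)) (.node (.leaf 13036305627013029366532) (.leaf 136359250947871345401))) (.node (.node (.leaf 39722910102689417567) (.leaf 1764342017724620811585)) (.node (.leaf 13805304250590926833494) (.leaf 21844948932489037433536)))) (.node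 (.node (.node (.leaf 21681856006016487508540) (.leaf 20140640150117738498965)) (.node (.leaf 11489259394507997348732) (.leaf 19994638831884419367017))) (.node (.node (.leaf 8526529224602089794167) (.leaf 21952888328858470325721)) (.node (.leaf 8401791589126025019627) (.leaf 3856033594423780477196))))))))

def k4Code_6 : H52.TCert.Tr := .node (.node (.node (.node (.node (.node (.node (.node (.leaf 81926989962355413087) (.leaf 16385150983590454188)) (.node (.leaf 179130466609735905775) (.leaf 12734067994003128485271))) (.node (.node (.leaf 21688238060363570513109) (.leaf 21857735298393270107649)) (.node (.leaf 9706815885102647297250) (.leaf 21068506125901973441084)))) (.node (.node (.node (.leaf 136511880754918399923) (.leaf 21857243484950559328344)) (.node (.leaf 9706827707019695327321) (.leaf 21068911065644031850860))) (.node (.node (.leaf 136324983435976214756) (.leaf 7459513004248118627225)) (.node (.leaf 11989232837927414956138) (.leaf 1155309274696014499430))))) (.node (.node (.node (.node (.leaf 16455648708135914997143) (.leaf 783128840117176290066)) (.node (.leaf 12923106982081167132940)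 (.leaf 178721067672090099583))) (.node (.node (.leaf 9250520311771240401668) (.leaf 17783891177218432797433)) (.node (.leaf 1374474098877151774551) (.leaf 1571784171459144698560)))) (.node (.node (.node (.leaf 17363839919685388860) (.leaf 259728830707702304358)) (.node (.leaf 5543915179564006670779) (.leaf 15656042836209125113727))) (.node (.node (.leaf 11956218182765363858180) (.leaf 3687495568920637770489)) (.node (.leaf 1158927160573989586775) (.leaf 8580711486657267878460)))))) (.node (.node (.node (.node (.node (.leaf 71761388165804396134) (.leaf 3855379435766903669179)) (.node (.leaf 12029904469754032624006) (.leaf 16970223748387043363733))) (.node (.node (.leaf 17031070681335100281221) (.leaf 21347509615590380653042)) (.node (.leaf 14144121203959803251104) (.leaf 2078149843699562255771)))) (.node (.node (.node (.leaf 22170762916842824567135) (.leaf 14424326352188976449)) (.node (.leaf 14257235644144976107) (.leaf 2102277783529149011857))) (.node (.node (.leaf 16293479122883082177010) (.leaf 925314903803492092690)) (.node (.leaf 22375187133744441500588) (.leaf 22049089501483244368590)))))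 (.node (.node (.node (.node (.leaf 8580335204882505891840) (.leaf 8403654670973080798615)) (.node (.leaf 9950880249016113136853) (.leaf 21019323619949176459654))) (.node (.node (.leaf 177942325549844406074) (.leaf 142395413652256555409)) (.node (.leaf 15752837968765910911737) (.leaf 5543639267329008732511)))) (.node (.node (.node (.leaf 8399045951531681754433) (.leaf 1155245586932587726678)) (.node (.leaf 21553345681375014719078) (.leaf 19756539867275141302976))) (.node (.node (.leaf 9415023825447733820) (.leaf 13579638146716248885692)) (.node (.leaf 784254660809783456240) (.leaf 1158790364987115879046))))))) (.node (.node (.node (.node (.node (.node (.leaf 176587481751381227884) (.leaf 5543246737011070108049)) (.node (.leaf 8399043455506963794681) (.leaf 9893512804139561552223))) (.node (.node (.leaf 142248835771244621121) (.leaf 83482384728706229164)) (.node (.leaf 13105932849474344039118) (.leaf 8746113730335667357527)))) (.node (.node (.node (.leaf 2536525650457199903612) (.leaf 8778984164439274488252)) (.node (.leaf 21068780951029727167895) (.leaf 8822265321731164374871)))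 (.node (.node (.leaf 14224045180757544632425) (.leaf 20569947133176746838367)) (.node (.leaf 27182601762328718657) (.leaf 260993450336321896683))))) (.node (.node (.node (.node (.leaf 5326860998954851735441) (.leaf 780700492583035584001)) (.node (.leaf 8580265014881115391202) (.leaf 19429039992031887373006))) (.node (.node (.leaf 8703414557019249609123) (.leaf 71844141977375871071)) (.node (.leaf 12818404481289388569295) (.leaf 13267079431231186665706)))) (.node (.node (.node (.leaf 20985528468355255907023) (.leaf 238149976752310550762)) (.node (.leaf 21314550376317768992856) (.leaf 16969861533702754633817))) (.node (.node (.leaf 7681925984788855404908) (.leaf 2536615933863072631012)) (.node (.leaf 20739219183092617838698) (.leaf 5327053561758431020886)))))) (.node (.node (.node (.node (.node (.leaf 6666303114273138249318) (.leaf 15027852823607015412102)) (.node (.leaf 273308340472349433658) (.leaf 26519343979580574613))) (.node (.node (.leaf 25447413775822848892) (.leaf 21109994876524138089152)) (.node (.leaf 15027713836375876898406) (.leaf 258498643862205056226)))) (.node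 (.node (.node (.leaf 10268087701810839036845) (.leaf 6578048235807469619698)) (.node (.leaf 22375315061228182752018) (.leaf 1479575892273365338537))) (.node (.node (.leaf 169806540913951481305) (.leaf 15897089340058361274291)) (.node (.leaf 13114874773125708460744) (.leaf 8966330991521749779306))))) (.node (.node (.node (.node (.leaf 9475383917954605912454) (.leaf 3985904031668096711020)) (.node (.leaf 23732527778947106200) (.leaf 11971458695737622940092))) (.node (.node (.leaf 1163865224246218719675) (.leaf 21068548024798754195880)) (.node (.leaf 8822235582954577906089) (.leaf 14223592676334810930649)))) (.node (.node (.node (.leaf 20569349526299604156521) (.leaf 26708848967348660855)) (.node (.leaf 260887342970880212863) (.leaf 5326566911086827309828))) (.node (.node (.leaf 19994638660060832858513) (.leaf 6577419350199227648351)) (.node (.leaf 22374830784018747993409) (.leaf 176696871876562028374)))))))) (.node (.node (.node (.node (.node (.node (.node (.leaf 10905545739694583287398) (.leaf 21019189708079752301116)) (.node (.leaf 7682575096485951916949) (.leaf 38133279869936664681)))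 (.node (.node (.leaf 15040264348177796344439) (.leaf 1939234520435284745689)) (.node (.leaf 20323700424155293221099) (.leaf 15752366661041291888908)))) (.node (.node (.node (.leaf 6577710566397299593311) (.leaf 179230739837090859277)) (.node (.leaf 17339939464929839087722) (.leaf 21553883976947685033814))) (.node (.node (.leaf 16254374519097587958275) (.leaf 1087391956328014465941)) (.node (.leaf 17346494074931094445) (.leaf 17336563082897805378967))))) (.node (.node (.node (.node (.leaf 17340260959396680042327) (.leaf 21572324562019952101207)) (.node (.leaf 18819214703263685116348) (.leaf 20140907460547338649104))) (.node (.node (.leaf 11488965264686404127145) (.leaf 19994436778411335664866)) (.node (.leaf 8526528624342744441773) (.leaf 17325158441915709327628)))) (.node (.node (.node (.leaf 21572816251089746512658) (.leaf 21857760446349337200908)) (.node (.leaf 3856044848792928554598) (.leaf 119914005069737034171))) (.node (.node (.leaf 16789996082953446954395) (.leaf 729069889532525985296)) (.node (.leaf 5949452573199924365142) (.leaf 17326431447291745242726)))))) (.node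 (.node (.node (.node (.node (.leaf 3687045138597469522189) (.leaf 1158769253104998416384)) (.node (.leaf 9239803345852891136) (.leaf 13133562006310809272835))) (.node (.node (.leaf 675700891811184036757) (.leaf 5497373953778886607740)) (.node (.leaf 19992900660933424447593) (.leaf 188398239086996925047)))) (.node (.node (.node (.leaf 20984334308061772990889) (.leaf 8025675236828124323289)) (.node (.leaf 15640622026861597786346) (.leaf 21572558490282664512192))) (.node (.node (.leaf 7408151701161283919321) (.leaf 21473730447520473219307)) (.node (.leaf 20018528290035394611468) (.leaf 19679771142195652412266))))) (.node (.node (.node (.node (.leaf 5327169198881990316127) (.leaf 21858616407383365104111)) (.node (.leaf 783160784774473812237) (.leaf 1936304119231813683616))) (.node (.node (.leaf 15690618756182716814747) (.leaf 21682472857161868968379)) (.node (.leaf 3642646456925131950504) (.leaf 8024342172325276131251)))) (.node (.node (.node (.leaf 229443450103914345160) (.leaf 25892918661512086378)) (.node (.leaf 8583768639366072242566) (.leaf 225072962033340420191))) (.node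 (.node (.leaf 1479292057172653613996) (.leaf 785445405405937906159)) (.node (.leaf 13579228479914716760333) (.leaf 261088905235017635227))))))) (.node (.node (.node (.node (.node (.node (.leaf 5326765387954113461776) (.leaf 21552818875166953080921)) (.node (.leaf 93577145627651652230) (.leaf 19993964881858593358058))) (.node (.node (.leaf 8525864800720114830016) (.leaf 19429051746274798845456)) (.node (.leaf 19756930054328807999913) (.leaf 5497199732867012859793)))) (.node (.node (.node (.leaf 2990174860028376287648) (.leaf 21953453065305664697039)) (.node (.leaf 8401409006342290702570) (.leaf 21315222857088176341866))) (.node (.node (.leaf 17031397059957949895046) (.leaf 15579619958248323188964)) (.node (.leaf 22170901428309297151871) (.leaf 22048531308083315181836))))) (.node (.node (.node (.node (.leaf 715486329108204274538) (.leaf 21688160415801759812370)) (.node (.leaf 86641727686610356492) (.leaf 21681851857587744182010))) (.node (.node (.leaf 22054575878974071178647) (.leaf 39864456833694303445)) (.node (.leaf 17340219570613099480290) (.leaf 3891170544325970829235))))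 (.node (.node (.node (.leaf 14025543362497898192698) (.leaf 17783907995511510733189)) (.node (.leaf 228584332565043743641) (.leaf 1159958032449207599210))) (.node (.node (.leaf 14491541834985440496040) (.leaf 143257398790790618585)) (.node (.leaf 11990393483359700943083) (.leaf 229618364036606756953)))))) (.node (.node (.node (.node (.node (.leaf 1259613157676086180486) (.leaf 1482165092075582136122)) (.node (.leaf 12837953570841418995099) (.leaf 23281612329016409616))) (.node (.node (.leaf 262029116957744793689) (.leaf 9251724642775580035516)) (.node (.leaf 21018992145006027780592) (.leaf 18617475465527450777964)))) (.node (.node (.node (.leaf 15579438530906040631697) (.leaf 22171036583573180287737)) (.node (.leaf 8403078000137042626911) (.leaf 11606932230756547079489))) (.node (.node (.leaf 8365700909253534986958) (.leaf 20140385871054846922248)) (.node (.leaf 20018194322096854436191) (.leaf 76579946938849526652))))) (.node (.node (.node (.node (.leaf 12734204990259802014140) (.leaf 11971446767101417784189)) (.node (.leaf 21413434330283832705425) (.leaf 20739425358007776936041)))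 (.node (.node (.leaf 28909911315250756230) (.leaf 1259539212281775115296)) (.node (.leaf 19729955525235303138530) (.leaf 172952985163714241453)))) (.node (.node (.node (.leaf 8581281645409263980040) (.leaf 143242525410794967135)) (.node (.leaf 11990393586310148891564) (.leaf 6877189621833951621615))) (.node (.node (.leaf 12818388292584341211405) (.leaf 4320188529898706973391)) (.node (.leaf 8402712813221588500714) (.leaf 8580222159772878244109))))))))

def k4Code_7 : H52.TCert.Tr := .node (.node (.node (.node (.node (.node (.node (.node (.leaf 228599937911861444608) (.leaf 141892006207364084431)) (.node (.leaf 15752376624364693913834) (.leaf 5543256800479148738829))) (.node (.node (.leaf 1155762291177803253848) (.leaf 19756749691150163097964)) (.node (.leaf 8403971927781946608188) (.leaf 21019180001671684653162)))) (.node (.node (.node (.leaf 178223235470931691350) (.leaf 8670402907080147305341)) (.node (.leaf 21765215812315346141585) (.leaf 2078035127921787576243))) (.node (.node (.leaf 28215300403285963464) (.leaf 20738919444731722271136)) (.node (.leaf 18919452101520472227344)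 (.leaf 1935765246831202142297))))) (.node (.node (.node (.node (.leaf 15690671891076463704710) (.leaf 2989614301992995098719)) (.node (.leaf 12837863789333901032976) (.leaf 23068739523541911977))) (.node (.node (.leaf 9893597071637940901777) (.leaf 141822798675929303456)) (.node (.leaf 13114649541403228569834) (.leaf 9706614946944631048953)))) (.node (.node (.node (.leaf 21314076258396552333143) (.leaf 18819198956427013951226)) (.node (.leaf 5325977620623291485081) (.leaf 7513605855384955225495))) (.node (.node (.leaf 19429568154228948763861) (.leaf 7514127031029544994018)) (.node (.leaf 21765001529994478897724) (.leaf 20768056896547153977267)))))) (.node (.node (.node (.node (.node (.leaf 14491154995037707741815) (.leaf 1853910641818030082467)) (.node (.leaf 8403747310783140864941) (.leaf 9950865613879632364951))) (.node (.node (.leaf 8670063395083279433962) (.leaf 20739073554594793620888)) (.node (.leaf 5471243614021036195329) (.leaf 220292602714083804386)))) (.node (.node (.node (.leaf 7458918842584298830188) (.leaf 21233883267528876624100)) (.node (.leaf 9951072548992969082264)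 (.leaf 8822469880741016652220))) (.node (.node (.leaf 27686547214477459561) (.leaf 3798356579506923809399)) (.node (.leaf 21234935917573571594665) (.leaf 5949168750349407813866))))) (.node (.node (.node (.node (.leaf 17326109585330605935296) (.leaf 16159443232882295227)) (.node (.leaf 15579895434974419470760) (.leaf 15040417231103499159977))) (.node (.node (.leaf 21557437278061098474969) (.leaf 8962332780158868619369)) (.node (.leaf 12837846889569913121399) (.leaf 9706529303440872803076)))) (.node (.node (.node (.leaf 780843799705664391929) (.leaf 16066496115703316908383)) (.node (.leaf 186877537753692974401) (.leaf 9251286374009086576470))) (.node (.node (.leaf 21019080732368833580646) (.leaf 18618892390382508133056)) (.node (.leaf 18618048498484315802172) (.leaf 8581825807687582239637))))))) (.node (.node (.node (.node (.node (.node (.leaf 3986217060422104253308) (.leaf 20417439121214220173417)) (.node (.leaf 14025844102036789471863) (.leaf 22171352398433441761705))) (.node (.node (.leaf 14212656800964280554) (.leaf 2102102986462720936640)) (.node (.leaf 15752974158290489089497)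 (.leaf 1571824681551303147755)))) (.node (.node (.node (.leaf 179099434317318759340) (.leaf 4234741139913150764945)) (.node (.leaf 143039215100104804580) (.leaf 11990575310631663386495))) (.node (.node (.leaf 12818250854463550490007) (.leaf 1509257405399750770794)) (.node (.leaf 11489162689133838879144) (.leaf 8961675328336136576473))))) (.node (.node (.node (.node (.leaf 12838058712410186416363) (.leaf 20986136344649275442045)) (.node (.leaf 237600183681294827921) (.leaf 781767670773740249011))) (.node (.node (.leaf 15027582225613759984328) (.leaf 21314072627893452540320)) (.node (.leaf 16970375205399242970523) (.leaf 7682523667048914256315)))) (.node (.node (.node (.leaf 2536733179857671506344) (.leaf 17706589018447337632239)) (.node (.leaf 4319997023608209901837) (.leaf 20139232990939777929605))) (.node (.node (.leaf 81867702677158250994) (.leaf 8402785300599657548693)) (.node (.leaf 11606900276882540921724) (.leaf 1572101647977987932265)))))) (.node (.node (.node (.node (.node (.leaf 8669978199783032080809) (.leaf 21764864251216347209177)) (.node (.leaf 74949857476421025897)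 (.leaf 8581204802255236016759))) (.node (.node (.leaf 2062586509321406988159) (.leaf 19502832293897384397572)) (.node (.leaf 12837799512734625661329) (.leaf 23525573293514197753)))) (.node (.node (.node (.leaf 262269376406857517407) (.leaf 1934713269685865098561)) (.node (.leaf 15660806718849628899158) (.leaf 8670035652808225033830))) (.node (.node (.leaf 17706651615203076950588) (.leaf 1374784309080704829865)) (.node (.leaf 21844941348815867223513) (.leaf 8024483049893607669994))))) (.node (.node (.node (.node (.leaf 229913197650927635136) (.leaf 14223611146848668385515)) (.node (.leaf 15690158733404179892492) (.leaf 38678040065669514090))) (.node (.node (.leaf 9474727472131203838447) (.leaf 2079184628335494793485)) (.node (.leaf 8966288766839707861227) (.leaf 9475339994617545922449)))) (.node (.node (.node (.leaf 3797800386520784095656) (.leaf 5949266633656109141754)) (.node (.leaf 142161510257690380516) (.leaf 15752436542573009026943))) (.node (.node (.leaf 5543568078866986181549) (.leaf 8399701734505774974359)) (.node (.leaf 21687874462814992342842) (.leaf 86656082902943697817))))))))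 (.node (.node (.node (.node (.node (.node (.node (.leaf 17325033372390757583272) (.leaf 12030104677188114091770)) (.node (.leaf 21572825028052899634649) (.leaf 21018122662469499814781))) (.node (.node (.leaf 1939703369706313580945) (.leaf 20984334142096217579443)) (.node (.leaf 8025501337384002826952) (.leaf 9249971896324317809056)))) (.node (.node (.node (.leaf 258264620806933512635) (.leaf 10268005803688720255400)) (.node (.leaf 20738821587232285962735) (.leaf 16790240130724360325389))) (.node (.node (.leaf 5471040188816759918981) (.leaf 220503154459715684850)) (.node (.leaf 5858233140386202492) (.leaf 229431625709515112553))))) (.node (.node (.node (.node (.leaf 1259084014754562615927) (.leaf 8581802403642402704121)) (.node (.leaf 3986042301155128346455) (.leaf 20417147381644688166650))) (.node (.node (.leaf 14025965100939839146905) (.leaf 22170934937218468712186)) (.node (.leaf 14231656601793039257) (.leaf 14509155647384585623)))) (.node (.node (.node (.leaf 2102450602976054641877) (.leaf 13105793701028667820301)) (.node (.leaf 15655625362652596404224) (.leaf 8965309249111448354922)))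 (.node (.node (.leaf 21234030977878183806806) (.leaf 3745851932877214551654)) (.node (.leaf 13105277327445691142534) (.leaf 15656194699933479182138)))))) (.node (.node (.node (.node (.node (.leaf 120144899316712033173) (.leaf 17324961442400151733116)) (.node (.leaf 14144093692036883921260) (.leaf 2077646960865198082276))) (.node (.node (.leaf 8400868574339808084842) (.leaf 17553310103921677570438)) (.node (.leaf 13036095573200013953252) (.leaf 15576068551259805663103)))) (.node (.node (.node (.leaf 1940744526279478158252) (.leaf 3353862100965466845902)) (.node (.leaf 9249988240840351459959) (.leaf 8400353509067135486371))) (.node (.node (.leaf 1631874437733938168700) (.leaf 3687052858605681967548)) (.node (.leaf 8401357546527316738048) (.leaf 8366065600601800999427))))) (.node (.node (.node (.node (.leaf 188482417689632976193) (.leaf 7459513107878775078401)) (.node (.leaf 136718659213933118871) (.leaf 13805084253934091833734))) (.node (.node (.leaf 15519559514594651152186) (.leaf 13114484228616278966787)) (.node (.leaf 785455477422794918805) (.leaf 13114650906956600543501))))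 (.node (.node (.node (.leaf 8966633556477944140165) (.leaf 9475380966536225638898)) (.node (.leaf 2112544624928534466298) (.leaf 1853911233782659227097))) (.node (.node (.leaf 19501744214047822807275) (.leaf 5498282728489868132867)) (.node (.leaf 15476836515655720291221) (.leaf 2112261690574317783128))))))) (.node (.node (.node (.node (.node (.node (.leaf 21234847465947898742873) (.leaf 16492029040799951916552)) (.node (.leaf 25415504198625082881) (.leaf 13805142550367554963872))) (.node (.node (.leaf 15520151351009585960347) (.leaf 9477766570480573913)) (.node (.leaf 13133325467200852164843) (.leaf 19503322096432490491201)))) (.node (.node (.node (.leaf 7460033783662520434923) (.leaf 11989437764302341117841)) (.node (.leaf 12734370218505772517874) (.leaf 784342660604811125676))) (.node (.node (.leaf 10846965665874680263374) (.leaf 20324221975114678907598)) (.node (.leaf 15752877270974092552823) (.leaf 1572039645512769178019))))) (.node (.node (.node (.node (.leaf 6577869776471224485719) (.leaf 22374988690551889723497)) (.node (.leaf 6666720048092848718716) (.leaf 178785199830209298876)))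 (.node (.node (.leaf 784650704070083158957) (.leaf 13542285593613465061727)) (.node (.leaf 92909051919302962497) (.leaf 3354039150243115270379)))) (.node (.node (.node (.leaf 2990767259174980458385) (.leaf 714905083664470553288)) (.node (.leaf 20324309711726020495779) (.leaf 14088221789114596230013))) (.node (.node (.leaf 16293442736293159340300) (.leaf 924923184979924534122)) (.node (.leaf 13133410682317709577830) (.leaf 8401349031873838388635)))))) (.node (.node (.node (.node (.node (.leaf 1632059258358032018039) (.leaf 3687053159338813229475)) (.node (.leaf 4234680906003550188238) (.leaf 221784416464571764232))) (.node (.node (.leaf 16790047076826912606994) (.leaf 17341732197478259198713)) (.node (.leaf 924745523021538365178) (.leaf 1087485128458702654984)))) (.node (.node (.node (.leaf 6877186853843302614424) (.leaf 23698011999237212248)) (.node (.leaf 9893285369125924503552) (.leaf 142031499584034767363))) (.node (.node (.leaf 15897067000076739456321) (.leaf 13114984125838641118721)) (.node (.leaf 169977463255855612778) (.leaf 16293244305431595979142))))) (.node (.node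 (.node (.node (.leaf 14224160040873774844172) (.leaf 21347494653302670199052)) (.node (.leaf 5325624575513124115867) (.leaf 21952788444052615872016))) (.node (.node (.leaf 7077793581602793293913) (.leaf 8024973274169796737670)) (.node (.leaf 11955861944134508708074) (.leaf 675834156392538131136)))) (.node (.node (.node (.leaf 178135207370873540703) (.leaf 76594829933066429356)) (.node (.leaf 19730443711294967316924) (.leaf 173095830305186984431))) (.node (.node (.leaf 260630280072146241961) (.leaf 220775427871932716945)) (.node (.leaf 186853517165428781775) (.leaf 8961658934684319547626))))))))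

def k4Code_8 : H52.TCert.Tr := .node (.node (.node (.node (.node (.node (.node (.node (.leaf 21844592386689175095127) (.leaf 8024422567110145773306)) (.node (.leaf 229675596665771035545) (.leaf 21953052541165371461370))) (.node (.node (.leaf 8401970548950646000537) (.leaf 3855867518240105366935)) (.node (.leaf 120061427590938264789) (.leaf 9474790840857005080065)))) (.node (.node (.node (.leaf 2079239171717350048994) (.leaf 1510837924017845422652)) (.node (.leaf 5614027394152816812972) (.leaf 502914840274850067150))) (.node (.node (.leaf 15577225013635378493804) (.leaf 1956601471978341566692)) (.node (.leaf 19813008748501620688280) (.leaf 5191687939491363932604))))) (.node (.node (.node (.node (.leaf 20568458822663654132629) (.leaf 8965767759508720616316)) (.node (.leaf 21233998944486217056361) (.leaf 3745935596597083351671))) (.node (.node (.leaf 13105416349232507275689) (.leaf 15655902670095104613849)) (.node (.leaf 120327335893742813418) (.leaf 17325231696205005146816)))) (.node (.node (.node (.leaf 16491459234281653881256) (.leaf 20738752075371417865978)) (.node (.leaf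 5326497389326306614745) (.leaf 6666208570898542952683))) (.node (.node (.leaf 15027727820320129450499) (.leaf 273752408452927376277)) (.node (.leaf 27148238302898391128) (.leaf 25931691860354828377)))))) (.node (.node (.node (.node (.node (.leaf 21110159420434533060104) (.leaf 15027346265815019522820)) (.node (.leaf 273655968107299113048) (.leaf 1935765381971392118273))) (.node (.node (.leaf 15519908233726458251836) (.leaf 21163108292982964559795)) (.node (.leaf 1065472086922309632893) (.leaf 12923413086205769719731)))) (.node (.node (.node (.leaf 21018157458948174361288) (.leaf 17706575258636420584859)) (.node (.leaf 3891192726447383970235) (.leaf 20985487335157120453032))) (.node (.node (.leaf 14087558143735945795473) (.leaf 8583793969406412507560)) (.node (.leaf 22054674970234740608762) (.leaf 21681952802463114234084))))) (.node (.node (.node (.node (.leaf 3642087514094459404159) (.leaf 22054663270943550809005)) (.node (.leaf 39706725194033890711) (.leaf 11990590643328800016808))) (.node (.node (.leaf 7458329451554896842490) (.leaf 3746343963745367793113)) (.node (.leaf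 2112826756032323256555) (.leaf 8403163947146259629463)))) (.node (.node (.node (.leaf 11606824462188744115413) (.leaf 1571995188164562784646)) (.node (.leaf 17791825353629114170) (.leaf 4235313871834268879634))) (.node (.node (.leaf 221882647905184712972) (.leaf 13266888652077197328785)) (.node (.leaf 5498714528962141883129) (.leaf 220844850271537971071))))))) (.node (.node (.node (.node (.node (.node (.leaf 13805184500569749916420) (.leaf 186855670202583714553)) (.node (.leaf 8962248127983749891927) (.leaf 6877281040634674170560))) (.node (.node (.leaf 12818371793047046605372) (.leaf 20739434512266362094011)) (.node (.leaf 19994132151000091756772) (.leaf 8525854746223004729215)))) (.node (.node (.node (.leaf 176837583615969315388) (.leaf 8746736111796204765289)) (.node (.leaf 24893823178408569463) (.leaf 2536929195339292622719))) (.node (.node (.leaf 8778881923945760164612) (.leaf 17783824080491772164742)) (.node (.leaf 1374890104345673283948) (.leaf 15039912270908038062003))))) (.node (.node (.node (.node (.leaf 21557974430163309671112) (.leaf 21305495612698785203050)) (.node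 (.leaf 21110091096483420967302) (.leaf 8024343566636439734500))) (.node (.node (.leaf 21347504586596798956952) (.leaf 14491259016347190774204)) (.node (.leaf 502756925431933881237) (.leaf 21473838003426885238889)))) (.node (.node (.node (.leaf 4235346272046458382967) (.leaf 21552714643912168374506)) (.node (.leaf 93403075489774848704) (.leaf 18618542225948164311464))) (.node (.node (.leaf 2125420368702786765035) (.leaf 228515441296402369429)) (.node (.leaf 10905848189389982795864) (.leaf 5613848978691429271641)))))) (.node (.node (.node (.node (.node (.leaf 17879888912737111560) (.leaf 17336952119693809386904)) (.node (.leaf 17340332106314558802692) (.leaf 21553880303677266692184))) (.node (.node (.leaf 3642097258622196580352) (.leaf 20417718001622009020931)) (.node (.leaf 18919518855145715313985) (.leaf 16491580854353216749057)))) (.node (.node (.node (.leaf 11955798129320035208224) (.leaf 1158768023870327423869)) (.node (.leaf 781038610283363513038) (.leaf 8580649491976248331784))) (.node (.node (.leaf 72099787331955950805) (.leaf 3855871416782413957471)) (.node (.leaf 12030251559286346909964)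 (.leaf 16970024257475283045138))))) (.node (.node (.node (.node (.leaf 1481727308324985735436) (.leaf 17030966364504579083878)) (.node (.leaf 21348080661519600484795) (.leaf 2077957209285420826128))) (.node (.node (.leaf 1065663120583206903257) (.leaf 3891599462290067456235)) (.node (.leaf 21017773781982941299562) (.leaf 10268579858761514878806)))) (.node (.node (.node (.leaf 224992315382296351110) (.leaf 1479421465385655705402)) (.node (.leaf 13579507911627930108796) (.leaf 20139302414135082371644))) (.node (.node (.leaf 11990651693555141807718) (.leaf 8584148745425139778786)) (.node (.leaf 1087286128393686796732) (.leaf 6877554413932321550832)))))))) (.node (.node (.node (.node (.node (.node (.node (.leaf 20767581893061689477209) (.leaf 1939307722419438467436)) (.node (.leaf 20324002527714053490916) (.leaf 21557935722058100282779))) (.node (.node (.leaf 13542889916923293711888) (.leaf 3642569558787584395353)) (.node (.leaf 20417096832005982960262) (.leaf 188549089675054088426)))) (.node (.node (.node (.leaf 7459829780984332470976) (.leaf 10847358841528236183647)) (.node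 (.leaf 1510890332255188558764) (.leaf 11956470100462226415065))) (.node (.node (.leaf 676286697524806320363) (.leaf 177707502815079401740)) (.node (.leaf 76474359004463678314) (.leaf 15039870640383837114463))))) (.node (.node (.node (.node (.leaf 21557990363480526496684) (.leaf 21305422526840293700079)) (.node (.leaf 259912000294318754848) (.leaf 5543265138852736742095))) (.node (.node (.leaf 9893851065965462753375) (.leaf 5498946731627339321082)) (.node (.leaf 12818767326573491822041) (.leaf 13266718951923669139691)))) (.node (.node (.node (.leaf 7681922776093841621507) (.leaf 2536576676546894023573)) (.node (.leaf 15039874471368551598169) (.leaf 3986052969034633217432))) (.node (.node (.leaf 22170847905958007668736) (.leaf 2102436841958503628289)) (.node (.leaf 25997416084343525765) (.leaf 8583583254446290323954)))))) (.node (.node (.node (.node (.node (.leaf 21473633579505119925659) (.leaf 9893289431627147542763)) (.node (.leaf 1764467914574610745842) (.leaf 20569430163045701438226))) (.node (.node (.leaf 17341444527577966551980) (.leaf 17845001458333731766143)) (.node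 (.leaf 10847195532984923195660) (.leaf 1510972948443325121386)))) (.node (.node (.node (.leaf 5326010012706046233362) (.leaf 21952875165060138502412)) (.node (.leaf 1764247697026744617881) (.leaf 12029664121993032664277))) (.node (.node (.leaf 173057233182573182465) (.leaf 5470612801050777830626)) (.node (.leaf 4320487403319279853491) (.leaf 19429302869170846408506))))) (.node (.node (.node (.node (.leaf 1509839675698417256872) (.leaf 21315264021539146272506)) (.node (.leaf 237746099295170529369) (.leaf 17341108820202752752262))) (.node (.node (.leaf 11606864107848633261882) (.leaf 1940450086092585767301)) (.node (.leaf 13579698752304839955867) (.leaf 784647567375589162512)))) (.node (.node (.node (.leaf 1159235747762016585817) (.leaf 176406616366165310086)) (.node (.leaf 675866387223566994464) (.leaf 177803170957068470691))) (.node (.node (.leaf 76186585656744706941) (.leaf 21557969888022750662152)) (.node (.leaf 21110001194166531885407) (.leaf 6877546512532436355340))))))) (.node (.node (.node (.node (.node (.node (.leaf 16492064530894284704530) (.leaf 20019701116323045021083))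 (.node (.leaf 9893297050104462589456) (.leaf 5192092665011876661078))) (.node (.node (.leaf 3985664665467358740995) (.leaf 259971634248613677973)) (.node (.leaf 20018849654566933242797) (.leaf 19679899650620962080151)))) (.node (.node (.node (.leaf 1509711839281406247017) (.leaf 2077564588934042519383)) (.node (.leaf 18617429130738434752016) (.leaf 19994047145042248845737))) (.node (.node (.leaf 4320318413062710969570) (.leaf 8402672256580350419885)) (.node (.leaf 18617388541382777880447) (.leaf 19994513659845394467588))))) (.node (.node (.node (.node (.leaf 8362307053201152227974) (.leaf 20322960919130352466284)) (.node (.leaf 21315802060355869258440) (.leaf 17031617410329867897888))) (.node (.node (.leaf 6437931353190645264) (.leaf 1163860978530317093289)) (.node (.leaf 17336937612689978508514) (.leaf 20019833663919355339693)))) (.node (.node (.node (.leaf 15690512075279472396707) (.leaf 3642627964997912923656)) (.node (.leaf 8400343689288752928657) (.leaf 17553611450097072245152))) (.node (.node (.leaf 13036194337868671191459) (.leaf 172948394133476966844)) (.node (.leaf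 5470694462938197799407) (.leaf 20018287071399179781333)))))) (.node (.node (.node (.node (.node (.leaf 16455759507990174929286) (.leaf 15660134928363440217914)) (.node (.leaf 14087562607203015019282) (.leaf 21858725937106324818188))) (.node (.node (.leaf 5497144758248528740753) (.leaf 2990089767664110177017)) (.node (.leaf 19756802082639782227265) (.leaf 9873522809278479873)))) (.node (.node (.node (.leaf 17325332999447002122591) (.leaf 17845199303352117134744)) (.node (.leaf 17784236400707867590160) (.leaf 8025850261753455618679))) (.node (.node (.leaf 20569800478762087219643) (.leaf 26599564604839905704)) (.node (.leaf 21413607706435133898857) (.leaf 16066038152961152002679))))) (.node (.node (.node (.node (.leaf 12029588221949603323706) (.leaf 21572433339635404950421)) (.node (.leaf 21857635504522467017596) (.leaf 3855691044796316422533))) (.node (.node (.leaf 120084176952755931634) (.leaf 16790626953456962701728)) (.node (.leaf 728730974443750692251) (.leaf 5949706501122169942728)))) (.node (.node (.node (.leaf 3687688761017618838222) (.leaf 1159242327270168858120)) (.node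 (.leaf 15040535582768995469731) (.leaf 21557991703325500670845))) (.node (.node (.leaf 21348131421244481445690) (.leaf 14491172789570106495365)) (.node (.leaf 502739711524029596540) (.leaf 1631606083700628095420))))))))

def k4Code_9 : H52.TCert.Tr := .node (.node (.node (.node (.node (.node (.node (.node (.leaf 21473748318674152293245) (.leaf 4235182707393029996945)) (.node (.leaf 21552982652949921270521) (.leaf 94059967913266186071))) (.node (.node (.leaf 714821240100278715618) (.leaf 19813542138865398391725)) (.node (.leaf 20324307923633608247740) (.leaf 14087940531982257140208)))) (.node (.node (.node (.leaf 8365598667809566142960) (.leaf 20140809249397872300127)) (.node (.leaf 924887304058580342673) (.leaf 20018192555925603191200))) (.node (.node (.leaf 16293107374215062522628) (.leaf 22375002060164857776626)) (.node (.leaf 22048764239994605849362) (.leaf 13133047923394722406202))))) (.node (.node (.node (.node (.leaf 258804040585040761221) (.leaf 8366242050268325412970)) (.node (.leaf 19730621040036983702396) (.leaf 17553230121326755545981))) (.node (.node (.leaf 260983739535787295121)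 (.leaf 3642130246900230040183)) (.node (.leaf 20417196896552041089443) (.leaf 18919540244138699240142)))) (.node (.node (.node (.leaf 21304938943646037412761) (.leaf 8746067781569727251682)) (.node (.leaf 24330416012510798765) (.leaf 2536445537508162521532))) (.node (.node (.leaf 8778975422297480835568) (.leaf 17784370420976350147056)) (.node (.leaf 2078828339263560685457) (.leaf 20323783474381092653828)))))) (.node (.node (.node (.node (.node (.leaf 22054245574242992343826) (.leaf 21682182227297900633914)) (.node (.leaf 3642744158582281179525) (.leaf 22054881238171354467225))) (.node (.node (.leaf 39755526102531440746) (.leaf 23128411809296155516)) (.node (.leaf 20984394292771357491601) (.leaf 9706748382649125224319)))) (.node (.node (.node (.leaf 21314069709805669354244) (.leaf 18819147862608591850233)) (.node (.leaf 5325684844081958848343) (.leaf 16259965293619882615))) (.node (.node (.leaf 15579977927447343466915) (.leaf 8961679418903245753081)) (.node (.leaf 12837781097661466445655) (.leaf 21857086039479421406970))))) (.node (.node (.node (.node (.leaf 9706456441693715401625)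 (.leaf 2124841134439430568582)) (.node (.leaf 19992961177596138404204) (.leaf 3354513793349105811857))) (.node (.node (.leaf 2990792611930999196409) (.leaf 1940641061040159754591)) (.node (.leaf 3354480183723973651777) (.leaf 8399147384852248048334)))) (.node (.node (.node (.leaf 17746935764726348516872) (.leaf 224899885814007071957)) (.node (.leaf 1479783582749630630239) (.leaf 12029897495295036523388))) (.node (.node (.leaf 16970414753747074384765) (.leaf 1481524700872609661329)) (.node (.leaf 9951102481374311088233) (.leaf 8822165505623719914103))))))) (.node (.node (.node (.node (.node (.node (.leaf 17746930622419934134143) (.leaf 75525968695080323844)) (.node (.leaf 1631480722751061179014) (.leaf 3687279922570607868268))) (.node (.node (.leaf 4235320529791644578504) (.leaf 221682463384564780064)) (.node (.leaf 17340253945731168681488) (.leaf 21554300728965037181353)))) (.node (.node (.node (.leaf 16254450518331248362722) (.leaf 1087225537616244515757)) (.node (.leaf 1155297379833943470799) (.leaf 19756462940665629870349))) (.node (.node (.leaf 17784324214987510155353)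 (.leaf 228909492981564324204)) (.node (.leaf 1160406465815267248356) (.leaf 7514222630713961630268))))) (.node (.node (.node (.node (.leaf 19429554928761850798003) (.leaf 5191826437436680994922)) (.node (.leaf 5325356544300259773960) (.leaf 21952877392976713647512))) (.node (.node (.leaf 8024820800145462888536) (.leaf 8526236068034270135165)) (.node (.leaf 1155756012624966549905) (.leaf 728656755707572232115)))) (.node (.node (.node (.leaf 20568132451433730585288) (.leaf 2078802065260715739552)) (.node (.leaf 8403657689675768862107) (.leaf 2124917157311557599675))) (.node (.node (.leaf 19992822130796866226600) (.leaf 1764515101079827614457)) (.node (.leaf 20569286743619778971479) (.leaf 17341102449273324867322)))))) (.node (.node (.node (.node (.node (.leaf 1163575598025193590522) (.leaf 21068865176448174689177)) (.node (.leaf 8822346967406689224087) (.leaf 14223611189324867667157))) (.node (.node (.leaf 1853907743326182620673) (.leaf 12029592908291724921404)) (.node (.leaf 21304848606311639719859) (.leaf 15579444760899377705678)))) (.node (.node (.node (.leaf 21557409489604459727267)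 (.leaf 21953283035440809085197)) (.node (.leaf 3855419473520759963648) (.leaf 120535479772403466755))) (.node (.node (.leaf 82506825094362213697) (.leaf 16510621097660825089)) (.node (.leaf 178721377390500564000) (.leaf 21110416244432214460246))))) (.node (.node (.node (.node (.leaf 176407175126640970645) (.leaf 21557682329649224122603)) (.node (.leaf 13542496137823551952785) (.leaf 21553364014029345358717))) (.node (.node (.leaf 19813026038684566260128) (.leaf 3986324349507845489083)) (.node (.leaf 259477332228652419496) (.leaf 19502931151168873337221)))) (.node (.node (.node (.leaf 28831519062512519666) (.leaf 6877799645932317082492)) (.node (.leaf 12838441900456362999913) (.leaf 23171231505339624055))) (.node (.node (.leaf 173547654206451060474) (.leaf 5471286473746230447001)) (.node (.leaf 17707058980537526879639) (.leaf 4320006765072924411093)))))))) (.node (.node (.node (.node (.node (.node (.node (.leaf 8966893421790215978497) (.leaf 9475136565698944156898)) (.node (.leaf 3798396775604828391996) (.leaf 21552994864089484855384))) (.node (.node (.leaf 15655533972360643066220)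 (.leaf 11956003005484707580132)) (.node (.leaf 19813147710501871455129) (.leaf 3985829968144053700438)))) (.node (.node (.node (.leaf 2125102383515940193687) (.leaf 19730132684902515020166)) (.node (.leaf 173561096695534296890) (.leaf 504376321596584148863))) (.node (.node (.leaf 14144050624149954005764) (.leaf 21234518345862218386169)) (.node (.leaf 21233365573926654233280) (.leaf 3745928841683886099004))))) (.node (.node (.node (.node (.leaf 21765074330401750942139) (.leaf 1854545925660951687886)) (.node (.leaf 143621375713740696183) (.leaf 11990481988681562360227))) (.node (.node (.leaf 39689839010769569623) (.leaf 1763979789165197852777)) (.node (.leaf 12029771605137736761788) (.leaf 3891785068093140043607)))) (.node (.node (.node (.leaf 20986142818627455385705) (.leaf 9474778961400495638879)) (.node (.leaf 2078717510847746551105) (.leaf 21413223953064908272328))) (.node (.node (.leaf 16066168175366101486624) (.leaf 714999976445260859811)) (.node (.leaf 19813542091012884988797) (.leaf 238066122176381530830)))))) (.node (.node (.node (.node (.node (.leaf 17341329324348566375944)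 (.leaf 21305422559697885366540)) (.node (.leaf 21110464186876100526954) (.leaf 21018151694755665234706))) (.node (.node (.leaf 1939226763224224467212) (.leaf 15752443468141161977243)) (.node (.leaf 1571623671578834386448) (.leaf 16206873886179996143)))) (.node (.node (.node (.leaf 15579435138129993959693) (.leaf 15039954764577425625477)) (.node (.leaf 21557628529607578470898) (.leaf 8778953766110451776134))) (.node (.node (.leaf 8581868862984833568358) (.leaf 20417244516144017511835)) (.node (.leaf 14025671643242011082256) (.leaf 22170690139227116929917))))) (.node (.node (.node (.node (.leaf 14499128200162935185) (.leaf 14421089260052029363)) (.node (.leaf 2101827096529064768200) (.leaf 15752463310216984834544))) (.node (.node (.leaf 1571668956597288702047) (.leaf 22049110698881547769745)) (.node (.leaf 715132851035578108320) (.leaf 6666696809652487303880)))) (.node (.node (.node (.leaf 5814569397262944675) (.leaf 21019100594204703295577)) (.node (.leaf 178135946096673897094) (.leaf 504476842707858988858))) (.node (.node (.leaf 14144198663776969888133) (.leaf 4235225870614742187536))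 (.node (.leaf 21314588520971841059462) (.leaf 13267304611194015494640))))))) (.node (.node (.node (.node (.node (.node (.leaf 5498385059179387228255) (.leaf 18919444007978685909436)) (.node (.leaf 16491705131971535876592) (.leaf 12734552977554215811718))) (.node (.node (.leaf 21687710685810164480364) (.leaf 1571828616475660954945)) (.node (.leaf 17370806478356954625) (.leaf 8703571124630901851349)))) (.node (.node (.node (.leaf 5498450044301607570952) (.leaf 15477231835245389317528)) (.node (.leaf 20767642736435989122810) (.leaf 8362749121994382773145))) (.node (.node (.leaf 14268248351532680405) (.leaf 15690616158253651198057)) (.node (.leaf 38548385404860541559) (.leaf 1482090219812525193862))))) (.node (.node (.node (.node (.leaf 15641004568462044871020) (.leaf 785152324293693656096)) (.node (.leaf 15579517144600785962210) (.leaf 22171152569664563454893))) (.node (.node (.leaf 22048480864446416136823) (.leaf 86713327865551392264)) (.node (.leaf 15039928698668321540512) (.leaf 8362417438516976781731)))) (.node (.node (.node (.leaf 20322825145765341627261) (.leaf 21315644630314398056892))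 (.node (.leaf 17031037604848177426927) (.leaf 6408200216300455319))) (.node (.node (.leaf 1163391438123240424661) (.leaf 17336480925320370524550)) (.node (.leaf 20019422744924157648698) (.leaf 1936244599611017415442)))))) (.node (.node (.node (.node (.node (.leaf 21682096205426514264465) (.leaf 8401593433908817465733)) (.node (.leaf 8365891820855222094322) (.leaf 11489494325431970693225))) (.node (.node (.leaf 18819781314245482293879) (.leaf 228911656699689187974)) (.node (.leaf 1160360749951433161068) (.leaf 1764190789906158662344)))) (.node (.node (.node (.leaf 20569704419695890254880) (.leaf 19729957812073430188138)) (.node (.leaf 173037245379721332566) (.leaf 261047402060396710805))) (.node (.node (.leaf 503106978561146261094) (.leaf 260727667285695890301)) (.node (.leaf 5326497562946064286097) (.leaf 21552724567639188152243))))) (.node (.node (.node (.node (.leaf 93396679770334016200) (.leaf 3798225360768856240624)) (.node (.leaf 5949127644588803690591) (.leaf 16293093501141692385696))) (.node (.node (.leaf 14025742681684150158205) (.leaf 19993457591109474617695)) (.node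 (.leaf 19730611293816378461704) (.leaf 173035025351540573592)))) (.node (.node (.node (.leaf 5192038733600771886112) (.leaf 8703768088035240194767)) (.node (.leaf 75410468789535814128) (.leaf 8581739945443573141599))) (.node (.node (.leaf 504258552995887710314) (.leaf 21234900698737500160515)) (.node (.leaf 21233995191962337649581) (.leaf 3746163490616567039383))))))))

def k4Code_10 : H52.TCert.Tr := .node (.node (.node (.node (.node (.node (.node (.node (.leaf 8670039290258091968343) (.leaf 21844957738033274094011)) (.node (.leaf 21682014432704280512936) (.leaf 21017982247973628412009))) (.node (.node (.leaf 1939281633927968172663) (.leaf 20984344856409148079999)) (.node (.leaf 8025486734564522429188) (.leaf 714831900841604057439)))) (.node (.node (.node (.leaf 19812956200360019766593) (.leaf 237779588602795788118)) (.node (.leaf 11606892654220743264960) (.leaf 8366070491553878941619))) (.node (.node (.leaf 20141059863497930879688) (.leaf 20018186155971178500486)) (.node (.leaf 76144013024534444396) (.leaf 12734127986766673807588))))) (.node (.node (.node (.node (.leaf 11970882342171956675992)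 (.leaf 21413850940599326820796)) (.node (.leaf 13036304360581059889576) (.leaf 15576401390970273992442))) (.node (.node (.leaf 17339949574948991534488) (.leaf 1065309357324056431364)) (.node (.leaf 3891696144502713124952) (.leaf 8581834586898240023873)))) (.node (.node (.node (.leaf 3985971156587571887617) (.leaf 19756612263315122982408)) (.node (.leaf 9705194281336079768) (.leaf 17326327548415537974020))) (.node (.node (.leaf 504238369072558508120) (.leaf 15027188745251104097149)) (.node (.leaf 273850066274144453009) (.leaf 27182322503976099763)))))) (.node (.node (.node (.node (.node (.leaf 25478481887783629512) (.leaf 20018643230418655805883)) (.node (.leaf 19679471550253619726760) (.leaf 1940535673555098651048))) (.node (.node (.leaf 3353865072141812010746) (.leaf 7408070298500927030679)) (.node (.leaf 15577132526789382938426) (.leaf 1956948388431346176389)))) (.node (.node (.node (.leaf 136719714696704790266) (.leaf 1764142516969859809515)) (.node (.leaf 92539578423287283712) (.leaf 1935874210528533807619))) (.node (.node (.leaf 1940533572147762150913) (.leaf 14087842997151762631712))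 (.node (.leaf 21858248622848523416271) (.leaf 19729945779271579076959))))) (.node (.node (.node (.node (.leaf 11488932407371090036120) (.leaf 8965227133407280483360)) (.node (.leaf 18919781079228420731599) (.leaf 15690472436121064116319))) (.node (.node (.leaf 187992180758409969770) (.leaf 7459408972218610222934)) (.node (.leaf 10846779259432379515395) (.leaf 1510629413344182651797)))) (.node (.node (.node (.leaf 9951367520266641417133) (.leaf 17747596331036955445079)) (.node (.leaf 503896257017886147003) (.leaf 29091072162825082267))) (.node (.node (.leaf 17337128812843297637245) (.leaf 19730323359519339393736)) (.node (.leaf 14224025797410681598448) (.leaf 17031427026952811354001))))))) (.node (.node (.node (.node (.node (.node (.leaf 21348039773767272860064) (.leaf 261880600071653241544)) (.node (.leaf 1934602498547995757600) (.leaf 21413221082850269399459))) (.node (.node (.leaf 16065971194552773182333) (.leaf 20322547469772711758596)) (.node (.leaf 5614123732254863673842) (.leaf 503183775007338908434)))) (.node (.node (.node (.leaf 179335979623586109329) (.leaf 6042353512712292776))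 (.node (.leaf 11989793869256041924836) (.leaf 13579128061991893738413))) (.node (.node (.leaf 11971311896106131984479) (.leaf 20984638827458466744736)) (.node (.leaf 9707077796773938148040) (.leaf 18819381934431790893475))))) (.node (.node (.node (.node (.leaf 16726932173610127749) (.leaf 9707111573387993400170)) (.node (.leaf 780612457770813657183) (.leaf 8580054692463800787884))) (.node (.node (.leaf 3687231615699819693464) (.leaf 1159272160217943165372)) (.node (.leaf 13133086500364234900706) (.leaf 7514264020602865036609)))) (.node (.node (.node (.leaf 19429698605965491617281) (.leaf 5325352874438497535189)) (.node (.leaf 21953417953083417659743) (.leaf 8024436078701435454872))) (.node (.node (.leaf 72120963157484052282) (.leaf 15027844298517711768469)) (.node (.leaf 273293625041879827324) (.leaf 10267928533839828339186)))))) (.node (.node (.node (.node (.node (.leaf 92243796278227798432) (.leaf 1936195787418247337371)) (.node (.leaf 6577769346609600627581) (.leaf 5498723234546775392700))) (.node (.node (.leaf 15477455117999185474031) (.leaf 1065823049210839369817)) (.node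 (.leaf 3891482198832515594886) (.leaf 20139872427115309761404)))) (.node (.node (.node (.leaf 82110719124994064828) (.leaf 675726210173565207421)) (.node (.leaf 21557336581841857724287) (.leaf 13542891609131351083780))) (.node (.node (.leaf 20985546799802849658968) (.leaf 782108429990266747244)) (.node (.leaf 15027474030609237444836) (.leaf 5326677691746405304892))))) (.node (.node (.node (.node (.leaf 6666513640072515329971) (.leaf 21858405489528187715690)) (.node (.leaf 782835864280916559702) (.leaf 5949739033910835416584))) (.node (.node (.leaf 17326206952221484615064) (.leaf 8580151791932904278104)) (.node (.leaf 5326507575350647048978) (.leaf 6666279030163697043724)))) (.node (.node (.node (.leaf 21858304750578033557905) (.leaf 5949447093531385626859)) (.node (.leaf 17326181992766920529809) (.leaf 780537730746141133224))) (.node (.node (.leaf 8580649517323241656058) (.leaf 13266747974190740865024)) (.node (.leaf 1259492258773299003392) (.leaf 782355352090769228291)))))))) (.node (.node (.node (.node (.node (.node (.node (.leaf 783139566185392605272) (.leaf 12923216151247526987865))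 (.node (.leaf 2079114071614197175707) (.leaf 2125338999413003880537))) (.node (.node (.leaf 19992830356938453662342) (.leaf 13542224491425528578283)) (.node (.leaf 3642506860400153135372) (.leaf 188600916085951369311)))) (.node (.node (.node (.leaf 7459472132928118924204) (.leaf 10846695828920322568687)) (.node (.leaf 19756567154803292014943) (.leaf 20568406431527773801992))) (.node (.node (.leaf 8965228505055153587608) (.leaf 1509849246342609816608)) (.node (.leaf 21315878371221514957519) (.leaf 17845221282627255251440))))) (.node (.node (.node (.node (.leaf 8746072399827818549343) (.leaf 21315380189500105629145)) (.node (.leaf 17030956677224076476651) (.leaf 15579438254037416544524))) (.node (.node (.leaf 22170690573756846556010) (.leaf 22048911444092113457247)) (.node (.leaf 715448172702257849260) (.leaf 21688229312707909857775)))) (.node (.node (.node (.leaf 86896744014619674893) (.leaf 22054737340731914423816)) (.node (.leaf 39736913478448022936) (.leaf 17341102222256540765216))) (.node (.node (.leaf 17340547103388180558543) (.leaf 3891224297268308414559)) (.node (.leaf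 17784479811442014093418) (.leaf 14491720528532807618950)))))) (.node (.node (.node (.node (.node (.leaf 1259000502599718390332) (.leaf 1481514180783932313190)) (.node (.leaf 15641096268654669136315) (.leaf 12837869834671879636194))) (.node (.node (.leaf 23302645319224239021) (.leaf 1935074337589661381104)) (.node (.leaf 8400409257295366817176) (.leaf 17553641584311530736060)))) (.node (.node (.node (.leaf 13036091951458021850625) (.leaf 15575981598603247011042)) (.node (.leaf 15575979564425938743791) (.leaf 172948164009418636816))) (.node (.node (.leaf 5470624645965198051753) (.leaf 924661589228208361062)) (.node (.leaf 16456204830257465365915) (.leaf 15660243783450894450192))))) (.node (.node (.node (.node (.leaf 5497131898810481090483) (.leaf 2989608622683346350792)) (.node (.leaf 17747425373347983788120) (.leaf 74958440422585141337))) (.node (.node (.leaf 8581244723044770396524) (.leaf 3986281289135558756580)) (.node (.leaf 13579479211861868281962) (.leaf 19502838731279259338582)))) (.node (.node (.node (.leaf 12734259079439517534912) (.leaf 21413293472180662805420)) (.node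 (.leaf 8746072465922243512764) (.leaf 20767587920879813606913))) (.node (.node (.leaf 8362346683010083210466) (.leaf 13542643818901149174816)) (.node (.leaf 20139302838892455758175) (.leaf 7458536013681375872408))))))) (.node (.node (.node (.node (.node (.node (.leaf 10906069820084275749805) (.leaf 16970386571566229684329)) (.node (.leaf 21687657668242936924511) (.leaf 87117244596727229761))) (.node (.node (.leaf 87128221996019646699) (.leaf 9251140504032654235537)) (.node (.leaf 17845172349606005735658) (.leaf 20767844726794305998943)))) (.node (.node (.node (.leaf 8362150019830057411500) (.leaf 28288765926217140668)) (.node (.leaf 12734083966204840461538) (.leaf 9893880379811952853393))) (.node (.node (.leaf 8362689308498388688819) (.leaf 20322556978136906248904)) (.node (.leaf 21163572332717686698479) (.leaf 8965395409775129709461))))) (.node (.node (.node (.node (.leaf 18919819492911467692924) (.leaf 15690127333802378308215)) (.node (.leaf 5949514470643151112280) (.leaf 17326723033363066718297))) (.node (.node (.leaf 20417097035921262129647) (.leaf 14025642272475481606413))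 (.node (.leaf 262350027832592845298) (.leaf 16253895836462485883324)))) (.node (.node (.node (.leaf 20569350198299832761857) (.leaf 27027932513834124514)) (.node (.leaf 784069447351786340796) (.leaf 8746159337680120954384))) (.node (.node (.leaf 24448283568901278121) (.leaf 3642099706788070858675)) (.node (.leaf 22054348274880709329002) (.leaf 39726923344070149974)))))) (.node (.node (.node (.node (.node (.leaf 12700734014124105651) (.leaf 15577796021363885126344)) (.node (.leaf 237503941316278878651) (.leaf 17341408277024960661928))) (.node (.node (.leaf 17341760936213009040252) (.leaf 17340598538519091904956)) (.node (.leaf 11971311572383688526243) (.leaf 11989880133513965187790)))) (.node (.node (.node (.leaf 20984694024599514123784) (.leaf 187230223346657331619)) (.node (.leaf 9475216322322655195854) (.leaf 2079219465016281435656))) (.node (.node (.leaf 1479861077700461382418) (.leaf 169702690474810444044)) (.node (.leaf 14491592117893710512529) (.leaf 21845077090822081347819))))) (.node (.node (.node (.node (.leaf 21682404993669839427473) (.leaf 8965574578586584926632))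 (.node (.leaf 15660183990638989246464) (.leaf 8670079666175634506243))) (.node (.node (.leaf 8746132136089788853569) (.leaf 2536617810634407037984)) (.node (.leaf 1163597684193079430041) (.leaf 21068548808152063770730)))) (.node (.node (.node (.leaf 8822171830635252778838) (.leaf 14223870362703236664934)) (.node (.leaf 20569272611183503610246) (.leaf 26533628246298140474))) (.node (.node (.leaf 5326684326123612996476) (.leaf 1764471882043707065557)) (.node (.leaf 1163400193423758216224) (.leaf 21068497817221720748751))))))))

def k4Code_11 : H52.TCert.Tr := .node (.node (.node (.node (.node (.node (.node (.node (.leaf 1853909867954126749802) (.leaf 12029595751625196503555)) (.node (.leaf 21305360070000215640981) (.leaf 11606618392615013355110))) (.node (.node (.leaf 1940748433109206925755) (.leaf 14087971351656787350939)) (.node (.leaf 2125321480401832102944) (.leaf 8365613481268574194083)))) (.node (.node (.node (.leaf 20140950053937988862845) (.leaf 18617904065485590301444)) (.node (.leaf 19994634364986692569176) (.leaf 4320277123799640492530))) (.node (.node (.leaf 8402501865551102987026)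 (.leaf 24748936799786475322)) (.node (.leaf 7407820549316164424069) (.leaf 7458331635656994851737))))) (.node (.node (.node (.node (.leaf 21233609789366330228842) (.leaf 22374845999932631449835)) (.node (.leaf 19502216881422816282852) (.leaf 1509183867748210982783))) (.node (.node (.leaf 21553877605167022744493) (.leaf 1065740056320831718807)) (.node (.leaf 21234931763835229876720) (.leaf 5949612561713288419217)))) (.node (.node (.node (.leaf 20417340193291583894216) (.leaf 14025383878260968475680)) (.node (.leaf 1956813654191708342691) (.leaf 261832175095380673405))) (.node (.node (.leaf 15477492989472517362053) (.leaf 16253957356177525295602)) (.node (.leaf 20569282874848743492000) (.leaf 26803982423999387035)))))) (.node (.node (.node (.node (.node (.leaf 784001658963357212121) (.leaf 10847249804650684907755)) (.node (.leaf 8746702130864623356172) (.leaf 24464644457599779690))) (.node (.node (.leaf 258554313747529203946) (.leaf 10267980143789920438976)) (.node (.leaf 11606460838194485790104) (.leaf 14088034995604740423169)))) (.node (.node (.node (.leaf 21858425781407850480866)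 (.leaf 9251469960376041651713)) (.node (.leaf 10268000058633188592672) (.leaf 7513967095489649717967))) (.node (.node (.leaf 785822016204758617608) (.leaf 13579189684329349055896)) (.node (.leaf 21844413888613892329862) (.leaf 1939823404344183474674))))) (.node (.node (.node (.node (.leaf 8025919783857000224155) (.leaf 17553328918911006935459)) (.node (.leaf 11971037277969656907865) (.leaf 21413277086111891536518))) (.node (.node (.leaf 1940985539276069929404) (.leaf 21557475671416775150329)) (.node (.leaf 13542697808207908112215) (.leaf 15655614789040264839683)))) (.node (.node (.node (.leaf 119956517873193790785) (.leaf 15577632457082298893719)) (.node (.leaf 1957153575832512464085) (.leaf 19813621656751891059078))) (.node (.node (.leaf 5191702329297572699962) (.leaf 20568397406164354564611)) (.node (.leaf 21233787206452459997272) (.leaf 13105377736914027688431))))))) (.node (.node (.node (.node (.node (.node (.leaf 15655521376669048801549) (.leaf 16491658858558077481455)) (.node (.leaf 20738762385846527133965) (.leaf 26537847836670754921))) (.node (.node (.leaf 25617530525540592247)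 (.leaf 21110237013073950161542)) (.node (.leaf 273325574961532324896) (.leaf 258843693448074035306)))) (.node (.node (.node (.leaf 92783335837235642883) (.leaf 1935764817885744450453)) (.node (.leaf 15519943534964904233049) (.leaf 21163281533556885207686))) (.node (.node (.leaf 16492020733954270467483) (.leaf 20739395629505436433936)) (.node (.leaf 5326910928965007018073) (.leaf 6666200604476531063430))))) (.node (.node (.node (.node (.leaf 1065669206518683520032) (.leaf 12923772493251938824688)) (.node (.leaf 2990999873306114574780) (.leaf 17707237058096696734192))) (.node (.node (.leaf 20985554852127898614124) (.leaf 20323715041786784951617)) (.node (.leaf 8583515634277496245280) (.leaf 22054799751967856308943)))) (.node (.node (.node (.leaf 22048470904605869378297) (.leaf 714827769805766133591)) (.node (.leaf 21688093571409527836410) (.leaf 11990436319483180420858))) (.node (.node (.leaf 2112332516651646944469) (.leaf 8402578811899849478534)) (.node (.leaf 1571444081155733212053) (.leaf 4234848070582817296773)))))) (.node (.node (.node (.node (.node (.leaf 221774488343632660978)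 (.leaf 13267257036775520471456)) (.node (.leaf 220881350879081214664) (.leaf 8962163508391885800317))) (.node (.node (.leaf 6877263657757468439246) (.leaf 12818584618651635813896)) (.node (.leaf 16491401270546135483605) (.leaf 20739300938605687376223)))) (.node (.node (.node (.leaf 6577840663199179669948) (.leaf 22375027892181421044207)) (.node (.leaf 176507856620348016729) (.leaf 10905486640359167179398))) (.node (.node (.leaf 9251052340767851585338) (.leaf 21018993867435524821381)) (.node (.leaf 8746618730950151668604) (.leaf 24322323108466852284))))) (.node (.node (.node (.node (.leaf 17783828954154344628095) (.leaf 2078732517042048076537)) (.node (.leaf 8404209145137625302871) (.leaf 15040200213419493475554))) (.node (.node (.leaf 21557976438443480196013) (.leaf 21305480089343658412476)) (.node (.leaf 21110086377441701442032) (.leaf 7077942711215952048624)))) (.node (.node (.node (.leaf 21347918060940453648273) (.leaf 14491350649896798357920)) (.node (.leaf 502842555746593573636) (.leaf 1631400330692418046040))) (.node (.node (.leaf 21473224246822253611506) (.leaf 261145560438060031802))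 (.node (.leaf 21552731018235587660697) (.leaf 93921589876260470890)))))))) (.node (.node (.node (.node (.node (.node (.node (.leaf 18617878326664610480572) (.leaf 8026008274389139293053)) (.node (.leaf 2124936809700107780497) (.leaf 8580405518151829471103))) (.node (.node (.leaf 228552619349147454212) (.leaf 5613574913620601243479)) (.node (.leaf 784571929549475498428) (.leaf 10847187531049072472560)))) (.node (.node (.node (.leaf 24746295089601034604) (.leaf 13542267231908844044689)) (.node (.leaf 92881871528033487609) (.leaf 3354507785384732854623))) (.node (.node (.leaf 2990776726127381425473) (.leaf 258507711674896888526)) (.node (.leaf 92503383377989141717) (.leaf 1935765552563078465887))))) (.node (.node (.node (.node (.leaf 20139342796657259039776) (.leaf 17514710467272067497)) (.node (.leaf 259587661465641272546) (.leaf 8703414519606160632439))) (.node (.node (.leaf 6577857783055816591779) (.leaf 5498474319714094658254)) (.node (.leaf 29454670001281933114) (.leaf 5971632575741890949)))) (.node (.node (.node (.leaf 1259159062771757219946) (.leaf 188213013366381874938))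 (.node (.leaf 8400198909384596856281) (.leaf 17553339418379237163243))) (.node (.node (.leaf 5497667336558888454233) (.leaf 2989825358438961265286)) (.node (.leaf 781690948700107838875) (.leaf 15027260820529729224208)))))) (.node (.node (.node (.node (.node (.leaf 8399047358247538919513) (.leaf 7077791925348305711823)) (.node (.leaf 15655742017424232450136) (.leaf 1159317150161564043492))) (.node (.node (.leaf 13105877389988635443306) (.leaf 15656023026871751903062)) (.node (.leaf 780827735589690935384) (.leaf 8401761197756640495446)))) (.node (.node (.node (.leaf 8366100316462882262630) (.leaf 188447886450781702848)) (.node (.leaf 7459504599462277827132) (.leaf 136408403524169304333))) (.node (.node (.leaf 2062850730868655587328) (.leaf 13805184553486631370752)) (.node (.leaf 15519476479696172024323) (.leaf 13115010021722629642129))))) (.node (.node (.node (.node (.leaf 785221927577498356128) (.leaf 15896878324073371765155)) (.node (.leaf 21473828621633256161681) (.leaf 9706452993365432076639))) (.node (.node (.leaf 21314227230678676909377) (.leaf 20018190276970012297660))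 (.node (.leaf 19679237817836794917360) (.leaf 19501780063497218898566)))) (.node (.node (.node (.leaf 1509701859693386676588) (.leaf 11489099779679403016593)) (.node (.leaf 1479386921061607605655) (.leaf 785228431459954657111))) (.node (.node (.leaf 13579353704352710590569) (.leaf 9250387233562954596587)) (.node (.leaf 8400696828723177787487) (.leaf 17553837547248152945580))))))) (.node (.node (.node (.node (.node (.node (.leaf 20322999959111053051288) (.leaf 16455889685833795389884)) (.node (.leaf 502756145645775602914) (.leaf 2112555534423606140851))) (.node (.node (.leaf 21234591457516999619272) (.leaf 71647809110659928454)) (.node (.leaf 176507982021589403032) (.leaf 10905492993073449388476)))) (.node (.node (.node (.leaf 7078430895833187386236) (.leaf 237598622456806615671)) (.node (.leaf 1374753008924758540522) (.leaf 15660634722741934035333))) (.node (.node (.leaf 8670022405960756218354) (.leaf 21018979624739242281311)) (.node (.leaf 9706785327343181800364) (.leaf 21314710006900086977230))))) (.node (.node (.node (.node (.leaf 2063081221496542068842) (.leaf 7459452107003367719427))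 (.node (.leaf 11989862376552378059669) (.leaf 16293154365509351228266))) (.node (.node (.leaf 925252486282062991750) (.leaf 15896491557446188630908)) (.node (.leaf 13115089784562860687804) (.leaf 8966935669554935038845)))) (.node (.node (.node (.leaf 9474823144408876745105) (.leaf 3985654856069150785407)) (.node (.leaf 259877894633841330948) (.leaf 11971038385609283536727))) (.node (.node (.leaf 20322560183221993091790) (.leaf 16455758149591498919432)) (.node (.leaf 22054318621617849797369) (.leaf 2063242168868872293273)))))) (.node (.node (.node (.node (.node (.leaf 76723886515402877559) (.leaf 12734102622231715711395)) (.node (.leaf 11970786105498686075598) (.leaf 21413527027889705881096))) (.node (.node (.leaf 17845505095127243721465) (.leaf 1934704673121946782482)) (.node (.leaf 13036093710565196794124) (.leaf 20139405463319003895697)))) (.node (.node (.node (.leaf 785155940812354715648) (.leaf 13579644443971653894659)) (.node (.leaf 28875711745389477377) (.leaf 14223675429059332524457))) (.node (.node (.leaf 8966280857801654869465) (.leaf 17031053260971771134186)) (.node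 (.leaf 21347731525267966347968) (.leaf 261993319821377800964))))) (.node (.node (.node (.node (.leaf 1934612353217039960152) (.leaf 21413219552025019271666)) (.node (.leaf 16066600755665106127634) (.leaf 15660484976712768308450))) (.node (.node (.leaf 8670039748860672877485) (.leaf 15039867818493665018257)) (.node (.leaf 21305214129599200004447) (.leaf 21110006192131465882945)))) (.node (.node (.node (.leaf 259574710596719707004) (.leaf 5543660151815713554876)) (.node (.leaf 20018783730577958845062) (.leaf 19679609820117156215148))) (.node (.node (.leaf 19501727699312220025544) (.leaf 76162801332823573730)) (.node (.leaf 12734667427203522339757) (.leaf 4320349042951692333774))))))))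

def k4Code_12 : H52.TCert.Tr := .node (.node (.node (.node (.node (.node (.node (.node (.leaf 8402561954118973427208) (.leaf 21858251590988191535199)) (.node (.leaf 783357291366468658092) (.leaf 1479805974061212676591))) (.node (.node (.leaf 169785335561958590733) (.leaf 26598334877457920719)) (.node (.leaf 25741906973424550122) (.leaf 3797993089508666933248)))) (.node (.node (.node (.leaf 16970459303363181447256) (.leaf 1481810000119838607449)) (.node (.leaf 12784526429502552428) (.leaf 16969945266626493874282))) (.node (.node (.leaf 1481867130898401036118) (.leaf 17031197525282864205320)) (.node (.leaf 2078228621590668150872) (.leaf 785222193027947566491))))) (.node (.node (.node (.node (.leaf 1155232555212367856059) (.leaf 21553185173301225310632)) (.node (.leaf 75023090293319453589) (.leaf 8581666205834067544152))) (.node (.node (.leaf 3985816325929621162073) (.leaf 14223613162570805981902)) (.node (.leaf 8966270694040387292680) (.leaf 8669969970746481557375)))) (.node (.node (.node (.leaf 8526282336349008972348) (.leaf 1155734760972569649075)) (.node (.leaf 729279553994099261546)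 (.leaf 20568202291839561336662))) (.node (.node (.leaf 3798225308558100365547) (.leaf 169628834423219669416)) (.node (.leaf 16293568536439439625978) (.leaf 20417171524423916790701)))))) (.node (.node (.node (.node (.node (.leaf 14025302948351754700183) (.leaf 21413263785402037866885)) (.node (.leaf 19813136376834396394907) (.leaf 9893229720431927374536))) (.node (.node (.leaf 142484975086971604000) (.leaf 14087650332779867180552)) (.node (.leaf 8583972649694748443861) (.leaf 22054909575647337613663)))) (.node (.node (.node (.leaf 5497232298423394144351) (.leaf 19992863012878492604305)) (.node (.leaf 188036156729404033440) (.leaf 20984393913449358439112))) (.node (.node (.leaf 8026161941285759568928) (.leaf 15640723640253432170915)) (.node (.leaf 21572403150435194700669) (.leaf 783020688154358137706))))) (.node (.node (.node (.node (.leaf 21682078793665829834847) (.leaf 3642089168863394636716)) (.node (.leaf 229441621070376913340) (.leaf 1479747209563306245633))) (.node (.node (.leaf 13579633062762578883279) (.leaf 1941035484964498834645)) (.node (.leaf 9250061858611583749640)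 (.leaf 925024586436192345914)))) (.node (.node (.node (.leaf 22375171122029293915029) (.leaf 22048751102734519534460)) (.node (.leaf 13133039743531944186245) (.leaf 258256548660813482482))) (.node (.node (.leaf 8401349187323289176480) (.leaf 8365680346947227030939)) (.node (.leaf 8400742290175720829640) (.leaf 13036098210160939381454))))))) (.node (.node (.node (.node (.node (.node (.leaf 15576456675456062754312) (.leaf 172953256649666626773)) (.node (.leaf 5471176826628347267423) (.leaf 19429313439470732018108))) (.node (.node (.leaf 6666729722049269382672) (.leaf 179002712959351802281)) (.node (.leaf 15897156420314247481768) (.leaf 9474995717827309568235)))) (.node (.node (.node (.leaf 17326591501385490857984) (.leaf 504013667574898983427)) (.node (.leaf 15027827027174315267985) (.leaf 273670211601811704224))) (.node (.node (.leaf 7407600852674291992995) (.leaf 19679297358183764963823)) (.node (.leaf 16065971313207690086825) (.leaf 187113711426364022233))))) (.node (.node (.node (.node (.leaf 9474986726043490549994) (.leaf 2079095073499649788608)) (.node (.leaf 18819205394561329335044)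 (.leaf 5325953874693700454488))) (.node (.node (.leaf 1163612315808477661682) (.leaf 21068920779878504909586)) (.node (.leaf 1479211148107082384610) (.leaf 169686451404574237613)))) (.node (.node (.node (.leaf 1854483829585156944368) (.leaf 21844968054563603591664)) (.node (.leaf 8965481286059174958993) (.leaf 18919716061481750170016))) (.node (.node (.leaf 12849548602486393604) (.leaf 1160092336676809870073)) (.node (.leaf 7681981958029836519255) (.leaf 17706821777363096586944)))))) (.node (.node (.node (.node (.node (.leaf 4320062850304540527164) (.leaf 20139502497948267810406)) (.node (.leaf 81867771034628227515) (.leaf 20322986867013332177286))) (.node (.node (.leaf 16456267283913266405178) (.leaf 5614248729841943759765)) (.node (.leaf 19429535067866940445061) (.leaf 19757000490813158640114)))) (.node (.node (.node (.leaf 8966286940198862375968) (.leaf 17031017687068448328099)) (.node (.leaf 21348127762368656147325) (.leaf 14510668374596555141))) (.node (.node (.leaf 2101785872999383648754) (.leaf 924792404856829121947)) (.node (.leaf 72146270179202604505) (.leaf 3855483729859152838891)))))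 (.node (.node (.node (.node (.leaf 8403919019807529994508) (.leaf 9951497050992020472682)) (.node (.leaf 20018840174763065835754) (.leaf 19679319740689571138240))) (.node (.node (.leaf 19501718450004346605663) (.leaf 1509284210291324953516)) (.node (.leaf 18819813054853703649724) (.leaf 8961849350952737390081)))) (.node (.node (.node (.leaf 93686536161240689985) (.leaf 14223609070685737045024)) (.node (.leaf 8966548305359239131855) (.leaf 12869126611164235160))) (.node (.node (.leaf 10846695457646571303624) (.leaf 5325438055601715317155)) (.node (.leaf 21953141371493872894845) (.leaf 1631393929560134290952)))))))) (.node (.node (.node (.node (.node (.node (.node (.leaf 21473172631817602860245) (.leaf 4235344762073332025695)) (.node (.leaf 1957171863787173315004) (.leaf 261815751719784264175))) (.node (.node (.leaf 21304906046489549604953) (.leaf 21018186680107483668282)) (.node (.leaf 1939509100391769477509) (.leaf 7458913299892154449791)))) (.node (.node (.node (.leaf 21233457928353437747972) (.leaf 9950916718781214067449)) (.node (.leaf 7407529147089014895087) (.leaf 7458677023424018333200)))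 (.node (.node (.leaf 21233862754525067659689) (.leaf 715486037382535255953)) (.node (.leaf 20323710603513586561743) (.leaf 14087834655319793303786))))) (.node (.node (.node (.node (.leaf 76627763053829015976) (.leaf 11971070772498613804505)) (.node (.leaf 21413321976868654022891) (.leaf 17845594036046167802371))) (.node (.node (.leaf 8746728118851176811413) (.leaf 8362149544941126912089)) (.node (.leaf 781697186788424746838) (.leaf 8399698764445734209805)))) (.node (.node (.node (.leaf 15519476592071841945489) (.leaf 21163450622816857065888)) (.node (.leaf 14025534364531568423631) (.leaf 17783830695355682980074))) (.node (.node (.leaf 16491766800785945332131) (.leaf 20739079103899142849405)) (.node (.leaf 19730042509022172760489) (.leaf 17553869741293899448554)))))) (.node (.node (.node (.node (.node (.leaf 260881775400847100608) (.leaf 13805100653912919083096)) (.node (.leaf 186823247904044730866) (.leaf 8962290499101812640530))) (.node (.node (.leaf 3642710120386714256610) (.leaf 12029650646068212209553)) (.node (.leaf 21305445917289725036960) (.leaf 15660772381932328370047))))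 (.node (.node (.node (.leaf 17706583502577592600407) (.leaf 1155902958319941929532)) (.node (.leaf 729042998305835421286) (.leaf 20568196627460613439931))) (.node (.node (.leaf 14144117971825153180540) (.leaf 21473163103005325988229)) (.node (.leaf 4234698915557242063346) (.leaf 9706555644438135081376))))) (.node (.node (.node (.node (.leaf 21314399033272493512091) (.leaf 925312678846244922284)) (.node (.leaf 22048480779477631863053) (.leaf 13133466461596424614607))) (.node (.node (.leaf 8401421415093216807181) (.leaf 8365852855922504400896)) (.node (.leaf 8400284438205662769871) (.leaf 15576020755988139442176)))) (.node (.node (.node (.leaf 13036633068233578023000) (.leaf 5471053118371731343588)) (.node (.leaf 8362242079662883310329) (.leaf 20322557607169546946391))) (.node (.node (.leaf 17031604610254462946201) (.leaf 11955889736462469693440)) (.node (.leaf 169981482187218562369) (.leaf 16293278337492379450881))))))) (.node (.node (.node (.node (.node (.node (.leaf 15752376491594789237455) (.leaf 20323221303758143815786)) (.node (.leaf 21315703287312588179286) (.leaf 12923720014370536952198)))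 (.node (.node (.leaf 15520149714725697145749) (.leaf 21163590301185475150716)) (.node (.leaf 23336213186386237329) (.leaf 262145046504769440168)))) (.node (.node (.node (.leaf 1934683440395469098746) (.leaf 18919451888227812155194)) (.node (.leaf 16491577832126380937605) (.leaf 12734106903748053339033))) (.node (.node (.leaf 21687850650045374300266) (.leaf 21857360043502708804008)) (.node (.leaf 9707077671786930212602) (.leaf 21068985577310729215449))))) (.node (.node (.node (.node (.leaf 136202328654358085867) (.leaf 17686480165914084221)) (.node (.leaf 17340009419955924901811) (.leaf 21554516939993129398984))) (.node (.node (.leaf 3642577036042753083808) (.leaf 18919794064034245050811)) (.node (.leaf 15753029291777379814293) (.leaf 1571655222884287775612)))) (.node (.node (.node (.leaf 715233530722961140343) (.leaf 15476920849885385722777)) (.node (.leaf 2112203405680088483223) (.leaf 21234618234367685199061))) (.node (.node (.leaf 13266737354978958228993) (.leaf 5498958004534445982946)) (.node (.leaf 13266756629668094910387) (.leaf 8580103078647715104857)))))) (.node (.node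 (.node (.node (.node (.leaf 7513589492690157636505) (.leaf 8703591427848793198182)) (.node (.leaf 4320498855263259919767) (.leaf 8403166498954821371093))) (.node (.node (.leaf 228288604231229284154) (.leaf 4320009668947035687673)) (.node (.leaf 24879925294103808704) (.leaf 7408179776309710342716)))) (.node (.node (.node (.leaf 7458421843964755742310) (.leaf 8399500304176337846506)) (.node (.leaf 1155297337096840186275) (.leaf 19757137601817553437116))) (.node (.node (.leaf 9293367564790510063) (.leaf 784105635277543670997)) (.node (.leaf 176405482858437091130) (.leaf 5543433565771923704594))))) (.node (.node (.node (.node (.leaf 8399656049323056957708) (.leaf 141922166004781255417)) (.node (.leaf 83201965376565658474) (.leaf 260637245512278788668))) (.node (.node (.leaf 5326954309322597146547) (.leaf 19429333072496726877101)) (.node (.leaf 8703658874333390254576) (.leaf 3746507375771082588604)))) (.node (.node (.node (.leaf 8403661289259239980545) (.leaf 9951498669546348594402)) (.node (.leaf 12818608919285604549052) (.leaf 13266962885132366328303))) (.node (.node (.leaf 781686008028524104105)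 (.leaf 20985588100167115935334)) (.node (.leaf 16970459276514939699601) (.leaf 7682534651828548116403))))))))

def k4Code_13 : H52.TCert.Tr := .node (.node (.node (.node (.node (.node (.node (.node (.leaf 2536929226486416290504) (.leaf 82101679266006900659)) (.node (.leaf 16157367665453347528) (.leaf 11971161592538626886048))) (.node (.node (.leaf 21413538179396118091163) (.leaf 19757132537021773990312)) (.node (.leaf 11606901370142518653423) (.leaf 1941003744092524251405)))) (.node (.node (.node (.leaf 14088170740541236973957) (.leaf 21858666449262570818034)) (.node (.leaf 8778826154251904648060) (.leaf 13542627653123960121975))) (.node (.node (.leaf 21314583443948994855427) (.leaf 83020167772856502716)) (.node (.leaf 21553965884923654549999) (.leaf 16253974260706873982480))))) (.node (.node (.node (.node (.leaf 1087608306636146067881) (.leaf 21952887875548185905650)) (.node (.leaf 16153708732627208616) (.leaf 9249950462619651644889))) (.node (.node (.leaf 925153801583946467417) (.leaf 3745851592680997669920)) (.node (.leaf 2112816281595967845071) (.leaf 15476967652407928861168))))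 (.node (.node (.node (.leaf 1571520853833364149659) (.leaf 22049146192751236481467)) (.node (.leaf 714821506643198101928) (.leaf 179371409099949519560))) (.node (.node (.leaf 1163375417894653497734) (.leaf 2991223565361546794395)) (.node (.leaf 17706582661310269701648) (.leaf 1510518785191263965279)))))) (.node (.node (.node (.node (.node (.leaf 15896500285405542196140) (.leaf 15660215993439275253994)) (.node (.leaf 19813574705495916266346) (.leaf 5192107447092701237638))) (.node (.node (.leaf 259614378702597341055) (.leaf 19502023289266345134866)) (.node (.leaf 1509454408049359358220) (.leaf 2077581036910268550906)))) (.node (.node (.node (.leaf 76767374244673095063) (.leaf 12734683439588355114197)) (.node (.leaf 18617465315474417335809) (.leaf 8365681103403134787386))) (.node (.node (.leaf 924653262145558121369) (.leaf 20018262955093140111466)) (.node (.leaf 1956931288553581283417) (.leaf 261993433249262189190))))) (.node (.node (.node (.node (.leaf 15640652138455384537734) (.leaf 8704036088431484615302)) (.node (.leaf 6577624210191355066732) (.leaf 15690460968532267008401)))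 (.node (.node (.leaf 503029806976902367583) (.leaf 11607126214288712862047)) (.node (.leaf 19502909015596111037308) (.leaf 29295071154343936444)))) (.node (.node (.node (.leaf 7077791943105817805201) (.leaf 2062659220139853676649)) (.node (.leaf 11989317616056457136900) (.leaf 784273417761810035400))) (.node (.node (.leaf 10846796383362935770144) (.leaf 20568399893440259312041)) (.node (.leaf 8583594388768199379363) (.leaf 7407826536948800172750))))))) (.node (.node (.node (.node (.node (.node (.leaf 21473282019198584753672) (.leaf 5325801372853333897711)) (.node (.leaf 502760656035312349903) (.leaf 1631787252979505529066))) (.node (.node (.leaf 21473175110800974219533) (.leaf 4235229600391187234816)) (.node (.leaf 6577906582854639288554) (.leaf 5498292484530875992333)))) (.node (.node (.node (.leaf 15476833020351917752320) (.leaf 1065382138054605604952)) (.node (.leaf 12923107367929206716780) (.leaf 21017845915119036467428))) (.node (.node (.leaf 7458249444993724205628) (.leaf 21233778849753930440627)) (.node (.leaf 9951109769393223893098) (.leaf 38424008591219101192)))))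 (.node (.node (.node (.node (.leaf 15040188121038307886488) (.leaf 21765292744688008823677)) (.node (.leaf 20768211906397574594961) (.leaf 1939836857550136385459))) (.node (.node (.leaf 20324127929388641170120) (.leaf 17325174662096492888299)) (.node (.leaf 21572334823083638868392) (.leaf 120181622853375180671)))) (.node (.node (.node (.leaf 16790427727284805313453) (.leaf 728727533526461154711)) (.node (.leaf 19679878107375964819846) (.leaf 224932496560693419834))) (.node (.node (.leaf 11955801245871699086229) (.leaf 169891126807385051525)) (.node (.leaf 8362149896022704141000) (.leaf 21315278712692452395427)))))) (.node (.node (.node (.node (.node (.leaf 12923469269992147563214) (.leaf 21017836647232369102344)) (.node (.leaf 15519486232900106061013) (.leaf 83297139782164453265))) (.node (.node (.leaf 13105369625596001323424) (.leaf 15660235378792284173007)) (.node (.leaf 8746165097019829946787) (.leaf 24305012399539979133)))) (.node (.node (.node (.leaf 2536479981144382702012) (.leaf 8778426738189648933359)) (.node (.leaf 1163636989307354285463) (.leaf 8822798961896451248518)))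 (.node (.node (.leaf 14223686230463065071418) (.leaf 26898734239993923852)) (.node (.leaf 5326777601124741122809) (.leaf 1764039921600219562858))))) (.node (.node (.node (.node (.leaf 1163846714645057112332) (.leaf 21068997585279818613610)) (.node (.leaf 15040536356802674772540) (.leaf 5191615794469222223368))) (.node (.node (.leaf 8703760489528940529048) (.leaf 221375114035630557609)) (.node (.leaf 2125071300043637000964) (.leaf 19729955600994678196722)))) (.node (.node (.node (.leaf 173524298517882620690) (.leaf 15575988121773299386812)) (.node (.leaf 16065963284499689379729) (.leaf 187089217402775243168))) (.node (.node (.leaf 178972502993764531728) (.leaf 9249899591230020503977)) (.node (.leaf 21553154103341912725393) (.leaf 15656195047839957463759)))))))) (.node (.node (.node (.node (.node (.node (.node (.leaf 21347663367209975651801) (.leaf 14491086795798604054763)) (.node (.leaf 3687162036215402170456) (.leaf 8966737698180363818897))) (.node (.node (.leaf 9474963323269991729568) (.leaf 3797976700064877556431)) (.node (.leaf 142440869521307306403) (.leaf 15753010113611236803453))))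 (.node (.node (.node (.leaf 8399041624569053655535) (.leaf 16455871830311941802073)) (.node (.leaf 5613890733639530232172) (.leaf 503072204147363121380))) (.node (.node (.leaf 19429116374614792768409) (.leaf 8965127737517065506406)) (.node (.leaf 5932015155761940569) (.leaf 1163298025232898144902))))) (.node (.node (.node (.node (.leaf 11989243553921431732458) (.leaf 20984433819229815229120)) (.node (.leaf 729009402023493934553) (.leaf 20568791679094327214315))) (.node (.node (.leaf 7513987880132360177932) (.leaf 19429116039873062552426)) (.node (.leaf 25587447733966344287) (.leaf 3985700878420794016981)))) (.node (.node (.node (.leaf 260055470161989699935) (.leaf 23717539192542367240)) (.node (.leaf 15660142807298281550320) (.leaf 258606592998870108584))) (.node (.node (.leaf 10267988955473154641658) (.leaf 92555218856455085529)) (.node (.leaf 1936423794990784315627) (.leaf 21163517646243436302725)))))) (.node (.node (.node (.node (.node (.leaf 20140395766320342534560) (.leaf 8965127543829037882841)) (.node (.leaf 18919453994230663512299) (.leaf 1935848834709479196940)))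 (.node (.node (.leaf 7459900149995849821505) (.leaf 1510564151725677811601)) (.node (.leaf 20984401304319808899844) (.leaf 8025943552716318083160)))) (.node (.node (.node (.leaf 15641040545638590892530) (.leaf 1160179453532098433413)) (.node (.leaf 20569650179009898643562) (.leaf 503195501853933488552))) (.node (.node (.leaf 1631806126802809032442) (.leaf 1482177476274712217828)) (.node (.leaf 15641096302368530448255) (.leaf 13114939056466044625837))))) (.node (.node (.node (.node (.leaf 785644201540494591383) (.leaf 1939701115286955037062)) (.node (.leaf 20323887258230560005946) (.leaf 6666681519695293614496))) (.node (.node (.leaf 178752795026729833883) (.leaf 13542318564032803779278)) (.node (.leaf 92327389644548214280) (.leaf 2990760787225642436959)))) (.node (.node (.node (.leaf 1940372113485077944209) (.leaf 3354319228094686136736)) (.node (.leaf 3687705759008812282351) (.leaf 136690511766793490822))) (.node (.node (.leaf 2063132785814600818490) (.leaf 10268234842518337276690)) (.node (.leaf 20768064457234673928953) (.leaf 8965358684862700261766))))))) (.node (.node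 (.node (.node (.node (.node (.leaf 13105538997467910146316) (.leaf 15655531053558278439786)) (.node (.leaf 119916690933983431442) (.leaf 21347605566129040592634))) (.node (.node (.leaf 14491078891423067540377) (.leaf 13133356672989041427863)) (.node (.leaf 258761811171069756629) (.leaf 178224610353815010817)))) (.node (.node (.node (.leaf 83020658916527655484) (.leaf 15579930270823078142892)) (.node (.leaf 22171355105144297730766) (.leaf 21687606653524286556585))) (.node (.node (.leaf 86892594529493917145) (.leaf 3642406126617229898440)) (.node (.leaf 22054763063904645038954) (.leaf 39868960383947706758))))) (.node (.node (.node (.node (.leaf 17340022586931990202596) (.leaf 3891743236745661368764)) (.node (.leaf 14025592357884337031257) (.leaf 14491084570963111941531))) (.node (.node (.leaf 1853918452152967904784) (.leaf 143075087103184668761)) (.node (.leaf 11990911240695482858118) (.leaf 229953095298347027488)))) (.node (.node (.node (.leaf 1259412467091215528655) (.leaf 15640774194950383243359)) (.node (.leaf 1934612227271510899052) (.leaf 221457721252373367203))) (.node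 (.node (.leaf 17845155983500235309949) (.leaf 780849392669785600495)) (.node (.leaf 19729995673528856485690) (.leaf 173569855603428987269)))))) (.node (.node (.node (.node (.node (.leaf 12030111644557020638529) (.leaf 21305104521662432230913)) (.node (.leaf 18618543560683291904921) (.leaf 18617397110076269330538))) (.node (.node (.leaf 8025599397112241293142) (.leaf 2125361940511849156198)) (.node (.leaf 10905494416070405376917) (.leaf 5614160872644026631036)))) (.node (.node (.node (.leaf 4320250187942394955160) (.leaf 21553222010548937293930)) (.node (.leaf 93888630530244740950) (.leaf 5192076973159887570327))) (.node (.node (.leaf 259420110464683278441) (.leaf 14144041124626113397137)) (.node (.leaf 2077634165248196381433) (.leaf 260899440775261886353))))) (.node (.node (.node (.node (.leaf 82529451717729274280) (.leaf 16504566798852820730)) (.node (.leaf 21572327099628239794672) (.leaf 83071571275384633708))) (.node (.node (.leaf 14491293601360877751033) (.leaf 13266674582913199780558)) (.node (.leaf 12818191581328568616149) (.leaf 13267343383464782399839)))) (.node (.node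 (.node (.leaf 7682417890890832708476) (.leaf 38129585511941243773)) (.node (.leaf 8402501988512350732732) (.leaf 19502830395695807727705))) (.node (.node (.leaf 7078007290180021129605) (.leaf 20984531333680202318716)) (.node (.leaf 15641056712584907555709) (.leaf 21572686400479780045201))))))))

def k4Code_14 : H52.TCert.Tr := .node (.node (.node (.node (.node (.node (.node (.node (.leaf 228500621635941613439) (.leaf 1160501814871717546756)) (.node (.leaf 21315665366969507853006) (.leaf 17845583135328870148727))) (.node (.node (.leaf 2077992184297151038332) (.leaf 784358733210787610858)) (.node (.leaf 23280584586281585059) (.leaf 11989775908641886798268)))) (.node (.node (.node (.leaf 21844422326979088418199) (.leaf 8026136010532992813817)) (.node (.leaf 22375062172786622367972) (.leaf 22048904057146731937663))) (.node (.node (.leaf 8400735014564414492410) (.leaf 17553739905423265401753)) (.node (.leaf 5470880591889344536499) (.leaf 93471225408599949755))))) (.node (.node (.node (.node (.leaf 6577697323888336062908) (.leaf 22374757722453660119536)) (.node (.leaf 2077756200641808400828)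 (.leaf 27891006136237666799))) (.node (.node (.leaf 9306031483401375334) (.leaf 13132938959260060320187)) (.node (.leaf 15476828481610869740955) (.leaf 1510862117085927539581)))) (.node (.node (.node (.leaf 15896585967891841614225) (.leaf 17336912520105018629593)) (.node (.leaf 20019410147004558770411) (.leaf 7682559593862949505113))) (.node (.node (.leaf 2536520943928999885446) (.leaf 38046659124278959930)) (.node (.leaf 28159495546257151387) (.leaf 3797773398296899075600)))))) (.node (.node (.node (.node (.node (.leaf 6577813795436476807814) (.leaf 14025876172629882911084)) (.node (.leaf 17784285663488283052260) (.leaf 11989230840912583827379))) (.node (.node (.leaf 12759090040817715030) (.leaf 15577314104829033614950)) (.node (.leaf 28900026130726662863) (.leaf 6221546969794609386)))) (.node (.node (.node (.leaf 1510407368378159958367) (.leaf 5613889325843735742294)) (.node (.leaf 17856948703357422272) (.leaf 5613586893949795381744))) (.node (.node (.leaf 16970119663856446355820) (.leaf 21688276067098086965649)) (.node (.leaf 86997019466294659833) (.leaf 86676137995887282527)))))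 (.node (.node (.node (.node (.leaf 9251356671824340364609) (.leaf 8402590272705466409900)) (.node (.leaf 11607100627246561604302) (.leaf 19503242357962690199995))) (.node (.node (.leaf 29324910882129562024) (.leaf 273764078407313672617)) (.node (.leaf 7077887576531259334105) (.leaf 15640944789280371426154)))) (.node (.node (.node (.leaf 20569826544759507798460) (.leaf 259409492963367533190)) (.node (.leaf 83380065717904774555) (.leaf 8670619853606725667260))) (.node (.node (.leaf 21765009809773128069616) (.leaf 28022313811400309100)) (.node (.leaf 16790505874912180841793) (.leaf 729292171618078080513))))))) (.node (.node (.node (.node (.node (.node (.leaf 22049034000575442715861) (.leaf 1509514675236955394438)) (.node (.leaf 21315877907809136910138) (.leaf 176887495842526888451))) (.node (.node (.leaf 9251052155715468920920) (.leaf 17326198014162622255493)) (.node (.leaf 504189696524868635122) (.leaf 9250166982599986952838)))) (.node (.node (.node (.leaf 8400463882191586212204) (.leaf 258686290185569284808)) (.node (.leaf 7681916238297239127894) (.leaf 20322630512017627316739)))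 (.node (.node (.leaf 8400819280366229389547) (.leaf 258593614019794569484)) (.node (.leaf 10268569059713884472170) (.leaf 5776675971025685266))))) (.node (.node (.node (.node (.leaf 1259258326801169101518) (.leaf 504328604188685548166)) (.node (.leaf 142969062658264910880) (.leaf 3746135338209182484310))) (.node (.node (.leaf 21765304743568188165013) (.leaf 21305150999754040082875)) (.node (.leaf 21110425944449512229288) (.leaf 16491476072613751212457)))) (.node (.node (.node (.leaf 21687828579823683281837) (.leaf 7460077478049732001897)) (.node (.leaf 11989240915262459390583) (.leaf 1155650827025654057732))) (.node (.node (.leaf 10905573401612163778788) (.leaf 783040711875227945881)) (.node (.leaf 12923177385813174714474) (.leaf 18619203943775257857638)))))) (.node (.node (.node (.node (.node (.leaf 9250520861622059613712) (.leaf 1374928220869245778566)) (.node (.leaf 1571442041711767224554) (.leaf 259747760392723304543))) (.node (.node (.leaf 5543911735004125143980) (.leaf 20139345651298732033250)) (.node (.leaf 11990388898146935982652) (.leaf 7458368286169701818291))))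 (.node (.node (.node (.leaf 15519542315767067936152) (.leaf 21163249305867854465468)) (.node (.leaf 17336490516847241365732) (.leaf 20019936690149803212671))) (.node (.node (.leaf 187936177992386132614) (.leaf 7459412182059806734700)) (.node (.leaf 8962057285614611469723) (.leaf 16254369192006495539295))))) (.node (.node (.node (.node (.leaf 20569495744480182245265) (.leaf 26928854207583783328)) (.node (.leaf 1374947847148729504133) (.leaf 21844454978296978852338))) (.node (.node (.leaf 8024354325917354658208) (.leaf 14025290246415455094614)) (.node (.leaf 17783824502215425330790) (.leaf 16491682584389161128326)))) (.node (.node (.node (.leaf 5327166991000478698389) (.leaf 1065418464119213148864)) (.node (.leaf 3891110324729614256700) (.leaf 12923180294961484664422))) (.node (.node (.leaf 21018249536182898753979) (.leaf 2991106209956702668002)) (.node (.leaf 17707075868394165937069) (.leaf 20985559887828136178160)))))))) (.node (.node (.node (.node (.node (.node (.node (.leaf 20323710102508014029298) (.leaf 22048471119664593346483)) (.node (.leaf 21687676030468414489450) (.leaf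 87144441941323354502))) (.node (.node (.leaf 20984737870638996357563) (.leaf 8025495058365781133736)) (.node (.leaf 15640610753927184861609) (.leaf 15641205155654607605350)))) (.node (.node (.node (.leaf 13114880544744974797504) (.leaf 785222375429142858300)) (.node (.leaf 1939230446369460865941) (.leaf 20323978032274443764604))) (.node (.node (.leaf 15753041075611856699497) (.leaf 1572097417883425811063)) (.node (.leaf 6577506030027453024681) (.leaf 22375219692450003721689))))) (.node (.node (.node (.node (.leaf 6666258130505100198122) (.leaf 178709662424917658304)) (.node (.leaf 13542232394115987804255) (.leaf 92768663627822343084))) (.node (.node (.leaf 3354350567077009928687) (.leaf 2990731066576385378573)) (.node (.leaf 21953300098404694720618) (.leaf 3855822092541542040067)))) (.node (.node (.node (.leaf 82385019348670391213) (.leaf 16810530193241965975)) (.node (.leaf 178983079319654303575) (.leaf 9249899153845578498153))) (.node (.node (.leaf 2112473689098367698775) (.leaf 21235176854294123675753)) (.node (.leaf 21110364862132731708284) (.leaf 71558750169366659516))))))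 (.node (.node (.node (.node (.node (.leaf 16455762844094149869072) (.leaf 15660147837553659759017)) (.node (.leaf 176477175778834433250) (.leaf 924725420089504663820))) (.node (.node (.leaf 20018765372578749924202) (.leaf 5497569222272893425051)) (.node (.leaf 2990144108651046190608) (.leaf 2112591702293572980326)))) (.node (.node (.node (.leaf 1854567429205219855040) (.leaf 2112563855961929547776)) (.node (.leaf 2062946305043950947221) (.leaf 21688274999120554401241))) (.node (.node (.leaf 10846763146426309528256) (.leaf 177827694855176429491)) (.node (.leaf 76470418300257514184) (.leaf 228681788529047013645))))) (.node (.node (.node (.node (.leaf 1159922212017695064064) (.leaf 19729955998152218281814)) (.node (.leaf 20140679149816292082179) (.leaf 8965228593808906625965))) (.node (.node (.leaf 18919450381556547945879) (.leaf 1936183017826114209623)) (.node (.leaf 187995802650263422807) (.leaf 9951072514467340041744)))) (.node (.node (.node (.leaf 82420553005196052748) (.leaf 16161449107381273450)) (.node (.leaf 15655523222411835807131) (.leaf 11956111943515850587664))) (.node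 (.node (.leaf 7078006020190032004950) (.leaf 14491701443688968342076)) (.node (.leaf 3687112566579602587648) (.leaf 1159361455328420200963))))))) (.node (.node (.node (.node (.node (.node (.leaf 19501858902830150503317) (.leaf 1509395139877093737340)) (.node (.leaf 220399676966979600618) (.leaf 13805302986604278303424))) (.node (.node (.leaf 21858910835824831995353) (.leaf 1479761464649943025932)) (.node (.leaf 27150376197518069855) (.leaf 3798155304127051696397)))) (.node (.node (.node (.leaf 675905377223814580640) (.leaf 19993481455677315154363)) (.node (.leaf 188454117417833777576) (.leaf 7407619683376204386399))) (.node (.node (.leaf 21473330431047717594028) (.leaf 20018429389092251480559)) (.node (.leaf 5326750661561579352783) (.leaf 782844046126575812608))))) (.node (.node (.node (.node (.leaf 1631402521953799702879) (.leaf 3687716559895827295553)) (.node (.leaf 4234921753433974341867) (.leaf 17340176381252334551274))) (.node (.node (.leaf 1087215189123216810924) (.leaf 17657453356384486808)) (.node (.leaf 17339949264270315273729) (.leaf 21553882282860397380834)))) (.node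 (.node (.node (.leaf 14398184188706918790) (.leaf 18618618273327331948908)) (.node (.leaf 18617620688092251490532) (.leaf 8025575453431093462424))) (.node (.node (.leaf 2125306382447828715964) (.leaf 14025374698932477578133)) (.node (.leaf 17783827053384015676284) (.leaf 143061290879373770986)))))) (.node (.node (.node (.node (.node (.leaf 11990551070473308490432) (.leaf 8581840543851543007621)) (.node (.leaf 3986205850914737277426) (.leaf 20417720103342444153248))) (.node (.node (.leaf 14025811817861584524699) (.leaf 22171202249981253033433)) (.node (.leaf 14287634945288669452) (.leaf 2102016953682586813290)))) (.node (.node (.node (.leaf 22049144964536978768107) (.leaf 5883601077560681388)) (.node (.leaf 1163298047299845501646) (.leaf 119986680661701178056))) (.node (.node (.leaf 17324961762190900579360) (.leaf 15577500087877093949546)) (.node (.leaf 1956521240559102035798) (.leaf 5191772954646709848981))))) (.node (.node (.node (.node (.leaf 1934889073048984660599) (.leaf 2101878482528731269881)) (.node (.leaf 188569811197313155473) (.leaf 2062958121820105185169))) (.node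 (.node (.leaf 13805505588710301747624) (.leaf 15519756636471754100474)) (.node (.leaf 16970009272867487354376) (.leaf 15577122671493237180504)))) (.node (.node (.node (.leaf 16790008678994085052416) (.leaf 728755904943481455107)) (.node (.leaf 27944275692380210026) (.leaf 8703902457405671114980))) (.node (.node (.leaf 6577574784397106495359) (.leaf 1632029722259850397964)) (.node (.leaf 92299661730906327465) (.leaf 1935187582263534649578))))))))

def k4Code_15 : H52.TCert.Tr := .node (.node (.node (.node (.node (.node (.node (.node (.leaf 13036585473021977512640) (.leaf 3891437152278291974916)) (.node (.leaf 19679485202529537739250) (.leaf 225493023468317625106))) (.node (.node (.leaf 8822238012440165032877) (.leaf 17746925944886681094588)) (.node (.leaf 1631991582447742661104) (.leaf 3687435645246895624287)))) (.node (.node (.node (.leaf 9231827810649411679) (.leaf 13133568440902980019116)) (.node (.leaf 16253989763578971588877) (.leaf 1510329300695607915215))) (.node (.node (.leaf 15896797646562838085866) (.leaf 21234520388328719954639)) (.node (.leaf 20417180671569593600088)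 (.leaf 1957117229058463218028))))) (.node (.node (.node (.node (.leaf 14025955249484421107208) (.leaf 1160470569572789127256)) (.node (.leaf 19992891999912810782643) (.leaf 188511507631857447624))) (.node (.node (.leaf 8703514409875872025337) (.leaf 1065369049036202348282)) (.node (.leaf 3891354334277651925913) (.leaf 12923524783449864603031)))) (.node (.node (.node (.leaf 21018054160646889604309) (.leaf 82178907997649028322)) (.node (.leaf 675778672135332547132) (.leaf 21572921915557311820271))) (.node (.node (.leaf 83512256741365500329) (.leaf 13542396326431091640745)) (.node (.leaf 3855561176080745776354) (.leaf 1509365899371551823761)))))) (.node (.node (.node (.node (.node (.leaf 21315433678915437169056) (.leaf 8403835352586061859520)) (.node (.leaf 177566307628995969467) (.leaf 3985656469642376072085))) (.node (.node (.leaf 20018704732028213367173) (.leaf 19501771511700861847968)) (.node (.leaf 1509364739843644036507) (.leaf 7459412488823036228303)))) (.node (.node (.node (.leaf 8526154414326953314573) (.leaf 1155288570792177074176)) (.node (.leaf 15576632298741474887768)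 (.leaf 12905346666253944921))) (.node (.node (.leaf 7682338180337853434084) (.leaf 7407688054022974742451)) (.node (.leaf 7458259487596832948330) (.leaf 715313258480334933512))))) (.node (.node (.node (.node (.leaf 13542225852189289237266) (.leaf 92841394810205931788)) (.node (.leaf 21315217984666764116203) (.leaf 3855379827782579161357))) (.node (.node (.leaf 22048961375533426425345) (.leaf 3687577932810571417689)) (.node (.leaf 19502916980775033700458) (.leaf 11989398114598188617318)))) (.node (.node (.node (.leaf 1087874619917674716633) (.leaf 6877704683648610140395)) (.node (.leaf 12837987994043888109836) (.leaf 23372943760156083050))) (.node (.node (.leaf 142016369978088760236) (.leaf 170065492387959801045)) (.node (.leaf 16293137906754143652191) (.leaf 141877013091556167176))))))) (.node (.node (.node (.node (.node (.node (.leaf 15752975957476062463384) (.leaf 17031631030432452653552)) (.node (.leaf 21553216592369457771208) (.leaf 15896491854019202156960))) (.node (.node (.leaf 13114822524268712007067) (.leaf 8966548323469825900987)) (.node (.leaf 9475086542816506333608)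 (.leaf 1158909324368027912461)))) (.node (.node (.node (.leaf 9745085970717282693) (.leaf 13133351045898448587250)) (.node (.leaf 17784318876607876442743) (.leaf 780782297431589718285))) (.node (.node (.leaf 16066450558231635267973) (.leaf 21233466228276352797116)) (.node (.leaf 9950968069117073571329) (.leaf 8822249016398648100066))))) (.node (.node (.node (.node (.leaf 1374287661090508360178) (.leaf 8024800815180722021292)) (.node (.leaf 229685767535223386830) (.leaf 21953235324792314528187))) (.node (.node (.leaf 8401843661699283536296) (.leaf 3855591668712504117673)) (.node (.leaf 120566610309993176537) (.leaf 9475049334092138225587)))) (.node (.node (.node (.leaf 228731034949422090329) (.leaf 1160080098988342065798)) (.node (.leaf 1764497827886202691386) (.leaf 20569354938035692016005))) (.node (.node (.leaf 19730225952361030882715) (.leaf 260767251309592558214)) (.node (.leaf 21413281101166692708848) (.leaf 19429043516638592318086)))))) (.node (.node (.node (.node (.node (.leaf 675692231074565963647) (.leaf 5497129804633765022468)) (.node (.leaf 19992811928223336139513)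 (.leaf 8025825773916493498940))) (.node (.node (.leaf 21572677950677366342075) (.leaf 15690121570760147119425)) (.node (.leaf 16293636321622862416928) (.leaf 924652668129533440719)))) (.node (.node (.node (.leaf 13132939067595508500924) (.leaf 258341287747043832304)) (.node (.leaf 8401404941451742100102) (.leaf 8365820610876160227692))) (.node (.node (.leaf 8400393128029218785705) (.leaf 17553544421045658918361)) (.node (.leaf 13036607031437909754090) (.leaf 173483415903607507442))))) (.node (.node (.node (.node (.leaf 19429707294581762458492) (.leaf 5497321350179861052944)) (.node (.leaf 21952897368578897134818) (.leaf 2536537270449683286514))) (.node (.node (.leaf 8778796914523618724626) (.leaf 14144285268929617054120)) (.node (.leaf 13579614149966474906361) (.leaf 29485805944099089729)))) (.node (.node (.node (.leaf 1087210232413288400726) (.leaf 6877295853830255283814)) (.node (.leaf 12837799179601708468928) (.leaf 23689497440009538108))) (.node (.node (.leaf 20984996328463613526121) (.leaf 83247317659603011415)) (.node (.leaf 13105268876357109383273) (.leaf 20985579619133277866335))))))))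 (.node (.node (.node (.node (.node (.node (.node (.leaf 781732028409911476459) (.leaf 19756514131847406994658)) (.node (.leaf 20568140297860068362812) (.leaf 8965370894795445870515))) (.node (.node (.leaf 237571847108684986732) (.leaf 13579658413083898069866)) (.node (.leaf 784496636716950425990) (.leaf 176964418171724676991)))) (.node (.node (.node (.leaf 14144422575830780359375) (.leaf 2078093216662721396970)) (.node (.leaf 21304955549893971186053) (.leaf 21110542370276678289906))) (.node (.node (.leaf 1939857565405756528027) (.leaf 143414845518162168159)) (.node (.leaf 12818263668778671740817) (.leaf 228485462889317642958))))) (.node (.node (.node (.node (.leaf 19992979193043938541674) (.leaf 188339775580978775894)) (.node (.leaf 8400775367614624956931) (.leaf 17553890846696084130709))) (.node (.node (.leaf 5497803057552988604832) (.leaf 2990088622873561535899)) (.node (.leaf 17747469641400935059846) (.leaf 20984705856663323886818)))) (.node (.node (.node (.leaf 8026015239149005546413) (.leaf 16790076064953852774824)) (.node (.leaf 220307022016756194777) (.leaf 28833276271744712809)))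 (.node (.node (.leaf 230017454455716102015) (.leaf 1259461731845014588164)) (.node (.leaf 21233355422275344337817) (.leaf 3745860197327833202794)))))) (.node (.node (.node (.node (.node (.leaf 8670079211410540463958) (.leaf 21765191360841361100390)) (.node (.leaf 15040500863167014180251) (.leaf 21557647816884444413456))) (.node (.node (.leaf 7077883477687598743786) (.leaf 8024973520177201203904)) (.node (.leaf 5498675068784195095232) (.leaf 15477490130207407753788)))) (.node (.node (.node (.leaf 15027188724802270957957) (.leaf 273257140688815049202)) (.node (.leaf 2062846230526280543553) (.leaf 13805249506117617713387))) (.node (.node (.leaf 13133038372015631813394) (.leaf 15476828531692339930028)) (.node (.leaf 16254243407417818165966) (.leaf 11989388335752714239489))))) (.node (.node (.node (.node (.leaf 10847331291820777512762) (.leaf 1939296814578913954848)) (.node (.leaf 784338792847503149481) (.leaf 8746384016941917733098))) (.node (.node (.leaf 92243696554685302872) (.leaf 3353855467655474694642)) (.node (.leaf 2990827744052674743058) (.leaf 14087825645416224752060))))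 (.node (.node (.node (.leaf 924661627529013019874) (.leaf 8401779585127029229993)) (.node (.leaf 8366235288506988142041) (.leaf 4234680946656281560472))) (.node (.node (.leaf 221454675452890073532) (.leaf 2063065953824260932458)) (.node (.leaf 19502870146046106407302) (.leaf 7459656518184796129508))))))) (.node (.node (.node (.node (.node (.node (.leaf 11989627341400725962623) (.leaf 16790078706698841334700)) (.node (.leaf 728656714867383907022) (.leaf 17341329282803611699619))) (.node (.node (.leaf 14115198548689389399) (.leaf 2101785965936865804393)) (.node (.leaf 925282630861853557180) (.leaf 1087215217502977163264)))) (.node (.node (.node (.leaf 6877532818564598759939) (.leaf 9893237984718896989591)) (.node (.leaf 169671088713043771907) (.leaf 16293105299887256193941))) (.node (.node (.leaf 141928357621618477144) (.leaf 15752366776784219277401)) (.node (.leaf 14224232188408594608623) (.leaf 8966523848326491277581))))) (.node (.node (.node (.node (.leaf 5325354607661180727792) (.leaf 21952860291657105772639)) (.node (.leaf 7077799313268656248721) (.leaf 19730416275228061438341)))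 (.node (.node (.leaf 187026581192300824844) (.leaf 8961724826507306615658)) (.node (.leaf 8401506412837363534268) (.leaf 119969819280277685474)))) (.node (.node (.node (.leaf 9475391398652105895233) (.leaf 5613585053132254643413)) (.node (.leaf 21235169223723998775384) (.leaf 71490745360393718546))) (.node (.node (.leaf 177028636958977854361) (.leaf 10905691542189848494186)) (.node (.leaf 273787578743362093291) (.leaf 1065677077487121284991)))))) (.node (.node (.node (.node (.node (.leaf 21857098708421816457105) (.leaf 13105891940644447848676)) (.node (.leaf 17845341226085890212714) (.leaf 780768926075301955852))) (.node (.node (.leaf 22374866641818409880124) (.leaf 20139242847142386176390)) (.node (.leaf 11990393253613082937572) (.leaf 1087854394782970465042)))) (.node (.node (.node (.leaf 8822719640370072453354) (.leaf 14223829583441068083904)) (.node (.leaf 261042076677688052210) (.leaf 176448198664483025392))) (.node (.node (.leaf 10905594468048234909791) (.leaf 21019551780430722140576)) (.node (.leaf 17306596972781115281) (.leaf 17337004254938683148704))))) (.node (.node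 (.node (.node (.leaf 21554173394600744091882) (.leaf 8526382433199472412761)) (.node (.leaf 17325583079877718738774) (.leaf 12029790004282664226406))) (.node (.node (.leaf 21857254674847404837436) (.leaf 780610274824150889167)) (.node (.leaf 9237551497721479612) (.leaf 15579702458021075487641)))) (.node (.node (.node (.leaf 15039963500813260752279) (.leaf 21557326401873438737621)) (.node (.leaf 17336480714823492149171) (.leaf 9249966224090544714446))) (.node (.node (.leaf 1374300996221906717091) (.leaf 2062882449754574914968)) (.node (.leaf 11955982978029212705708) (.leaf 178210855225862433399))))))))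

def k4Code_16 : H52.TCert.Tr := .node (.node (.node (.node (.node (.node (.node (.node (.leaf 21305152405669647942524) (.leaf 21110391180536345625020)) (.node (.leaf 12818181395784235494721) (.leaf 7682025490317851821463))) (.node (.node (.leaf 2536766489850680902869) (.leaf 15040224711811251117882)) (.node (.leaf 22171182564820200468975) (.leaf 14026672456481769741)))) (.node (.node (.node (.leaf 1087844563490599186928) (.leaf 6877430070132853346399)) (.node (.leaf 178084857761528656368) (.leaf 19502832952408845699858))) (.node (.node (.leaf 1956590619466467706711) (.leaf 261723490567852195945)) (.node (.leaf 229711534139376483856) (.leaf 1481512596926681531618))))) (.node (.node (.node (.node (.leaf 15641172730328978367405) (.leaf 18819207736663707699986)) (.node (.leaf 8961980340025208316844) (.leaf 12838449539856456725198))) (.node (.node (.leaf 1374958055087259517371) (.leaf 21844413707674921355688)) (.node (.leaf 8024340483256890870185) (.leaf 229580737386834894297)))) (.node (.node (.node (.leaf 5471083987940798892300) (.leaf 220374678226796036970)) (.node (.leaf 20768225209122889761211)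 (.leaf 20323793916278035037712))) (.node (.node (.leaf 504509172165749184401) (.leaf 1259367919020507908520)) (.node (.leaf 781694241163589357306) (.leaf 10906093946902095593987)))))) (.node (.node (.node (.node (.node (.leaf 1065781285506599190972) (.leaf 13805094940807550542765)) (.node (.leaf 26529262847732515259) (.leaf 25913185046934243752))) (.node (.node (.leaf 5497792522538473081404) (.leaf 21858316427375332073274)) (.node (.leaf 783344449617476096389) (.leaf 21682474963521582760828)))) (.node (.node (.node (.leaf 3642161681149511172540) (.leaf 22054240669215316345725)) (.node (.leaf 39669887255228187025) (.leaf 22048927808859093534948))) (.node (.node (.leaf 87131881070020691351) (.leaf 2112783277149431957334)) (.node (.leaf 16970265190648326012417) (.leaf 15577633185400128479155))))) (.node (.node (.node (.node (.leaf 3798277433931588339940) (.leaf 17341283976526121535318)) (.node (.leaf 17339958022769019063910) (.leaf 8822232344388199435157))) (.node (.node (.leaf 16772531224935777506) (.leaf 15040105260208325675452)) (.node (.leaf 21557495086959386178032) (.leaf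 11606995732783102052777)))) (.node (.node (.node (.leaf 1940471151000690957785) (.leaf 1159049124494702329727)) (.node (.leaf 177069016521316731652) (.leaf 221549554803003949457))) (.node (.node (.leaf 8778994488490919496031) (.leaf 780685503149807512897)) (.node (.leaf 17706924510721868090261) (.leaf 4320277018271382700924))))))) (.node (.node (.node (.node (.node (.node (.leaf 20139800275228385083497) (.leaf 81917878664979655287)) (.node (.leaf 8402973749700677224873) (.leaf 11606470993976429944281))) (.node (.node (.leaf 15640802800088659041753) (.leaf 21572324636611793420523)) (.node (.leaf 2990027492378936281356) (.leaf 5326020045199909754769)))) (.node (.node (.node (.leaf 1163694396704237078952) (.leaf 21068564579210252816122)) (.node (.leaf 8746145689588428574216) (.leaf 24701857230167508376))) (.node (.node (.leaf 2537102287434531441412) (.leaf 17783884225763871621120)) (.node (.leaf 20324223879036896887658) (.leaf 14087919989908629033350))))) (.node (.node (.node (.node (.leaf 8583723828675740174564) (.leaf 22054303128403554090879)) (.node (.leaf 39551491848288012556)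 (.leaf 8746648567363758757275))) (.node (.node (.leaf 24262552622889352720) (.leaf 1374560190022857247424)) (.node (.leaf 20324350420196946084284) (.leaf 11989484001401695244026)))) (.node (.node (.node (.leaf 20984418073263133723545) (.leaf 21314703452759258467225)) (.node (.leaf 2079081141919034690322) (.leaf 1631493882305329562001))) (.node (.node (.leaf 2989694240943967895996) (.leaf 83026746786593026543)) (.node (.leaf 21347588249250576107609) (.leaf 14491075635743575980678)))))) (.node (.node (.node (.node (.node (.leaf 13266677816544204620668) (.leaf 12818372940351311905661)) (.node (.leaf 7681976439302875529087) (.leaf 2101827151610443924888))) (.node (.node (.leaf 20139880976920663902652) (.leaf 17326186778534059320236)) (.node (.leaf 504081125518886318798) (.leaf 29312422133065230967)))) (.node (.node (.node (.leaf 17337152706545980639063) (.leaf 20019692674793397289065)) (.node (.leaf 5834624424565572477) (.leaf 19993487438452198344793))) (.node (.node (.leaf 17553379282615574303109) (.leaf 8402011038197811085713)) (.node (.leaf 11955808117295236256134) (.leaf 15896979708755694170830)))))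 (.node (.node (.node (.node (.leaf 13105823030382032497271) (.leaf 15655758097061653547427)) (.node (.leaf 780538062151166788028) (.leaf 188415584991609356288))) (.node (.node (.leaf 13114487373296346991513) (.leaf 9707032198742610513416)) (.node (.leaf 21314111069756135867800) (.leaf 11990533015382110483151)))) (.node (.node (.node (.leaf 19679620496570320193366) (.leaf 19501679337209465569795)) (.node (.leaf 1509723170253970951061) (.leaf 18919554702443490412772))) (.node (.node (.leaf 16491916808462115061631) (.leaf 21687976149091008546199)) (.node (.leaf 9706462563710991933363) (.leaf 136677918031402141526)))))))) (.node (.node (.node (.node (.node (.node (.node (.leaf 21068494373000992374655) (.leaf 136194095512404724484)) (.node (.leaf 7460067263301197838982) (.leaf 11989344935191466457452))) (.node (.node (.leaf 8526128684758799987400) (.leaf 1155858891690123381792)) (.node (.leaf 16456312713459210636320) (.leaf 782903297840800582076)))) (.node (.node (.node (.leaf 1571432046279185107716) (.leaf 16293156265320412250347)) (.node (.leaf 22375175273474984855976) (.leaf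 22048765995019762208506))) (.node (.node (.leaf 10905651182974339416064) (.leaf 5613576952492041863683)) (.node (.leaf 8404308928443075964225) (.leaf 20986100107149053101269))))) (.node (.node (.node (.node (.leaf 237929463176085440863) (.leaf 1374505610410611639165)) (.node (.leaf 21844815422801282564497) (.leaf 21163692264391950115757))) (.node (.node (.leaf 19730059934030047511959) (.leaf 14144046246359601662524)) (.node (.leaf 16790250271005816489814) (.leaf 2989619122452966417324)))) (.node (.node (.node (.leaf 83015595911408136910) (.leaf 4320217785515653220796)) (.node (.leaf 5949247589584283123583) (.leaf 7514061496943114144661))) (.node (.node (.leaf 1853908034193399466482) (.leaf 781757763787747853720)) (.node (.leaf 8399540574325507046913) (.leaf 8399043294224466706876)))))) (.node (.node (.node (.node (.node (.leaf 17747261138854342537711) (.leaf 17337048095245083325134)) (.node (.leaf 20019389455094082080264) (.leaf 16790065443714266268049))) (.node (.node (.leaf 16066044318891503486359) (.leaf 20985493702738628444266)) (.node (.leaf 27938154099596282560) (.leaf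 20739421659105618266884)))) (.node (.node (.node (.leaf 16790523784719328479320) (.leaf 5470819573846491843058)) (.node (.leaf 220522532641064405778) (.leaf 675711018889887457082))) (.node (.node (.leaf 177564657088323931029) (.leaf 21110666671314724722075)) (.node (.leaf 20324374204738214316818) (.leaf 14087613802841616124172))))) (.node (.node (.node (.node (.leaf 258570339877635853060) (.leaf 8401873947564002544377)) (.node (.leaf 11489225810353731636838) (.leaf 18819809754260325466555))) (.node (.node (.leaf 15577474660286103626669) (.leaf 1957061782612864075159)) (.node (.leaf 26844268961882507094) (.leaf 21314667490339794649193)))) (.node (.node (.node (.leaf 16970244304456438426231) (.leaf 19730342306969527400812)) (.node (.leaf 11489537508744963869728) (.leaf 21347576951183601896196))) (.node (.node (.leaf 14491659666077970073688) (.leaf 11955986508849149870595)) (.node (.leaf 1159368595378843467265) (.leaf 39808759975194364676))))))) (.node (.node (.node (.node (.node (.node (.leaf 1764643833899924850776) (.leaf 12029592877400033348370)) (.node (.leaf 9475210920844227621360)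 (.leaf 15655861526173420628599))) (.node (.node (.leaf 21554541106424449892795) (.leaf 1259170622717651165107)) (.node (.leaf 782002272787460993736) (.leaf 25618691300221026747)))) (.node (.node (.node (.leaf 21233904978832917476040) (.leaf 8366069005782706915417)) (.node (.leaf 20140930957798024002182) (.leaf 785139773059752020672))) (.node (.node (.leaf 21952831043084945666543) (.leaf 7077868294761162423824)) (.node (.leaf 11956050425778001254289) (.leaf 93931844017258893050))))) (.node (.node (.node (.node (.leaf 14223602708616076133783) (.leaf 8966622720980434289877)) (.node (.leaf 21163322268562342788609) (.leaf 8965776738263360709548))) (.node (.node (.leaf 143390073660729065472) (.leaf 5949156099235089186816)) (.node (.leaf 20417167113220512394561) (.leaf 14025875402802831539713)))) (.node (.node (.node (.leaf 1957190284109726927904) (.leaf 261793376541636571855)) (.node (.leaf 16253981045966276198506) (.leaf 20569325251881066792790))) (.node (.node (.leaf 26599597032900693606) (.leaf 9854903687724513644)) (.node (.leaf 21234906716584508695468) (.leaf 5949156879306434980471))))))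 (.node (.node (.node (.node (.node (.leaf 17326626052365343132067) (.leaf 21553347800667101856259)) (.node (.leaf 17784021216204797510869) (.leaf 228467094215320310150))) (.node (.node (.leaf 5613585028924886141984) (.leaf 17359760205341045232)) (.node (.leaf 17336702826352882487391) (.leaf 179074946134411463100)))) (.node (.node (.node (.leaf 9249966867711666926064) (.leaf 1631893941976549598124)) (.node (.leaf 2112162224295029080507) (.leaf 258756299074466269970))) (.node (.node (.leaf 10268456504577622640908) (.leaf 20323212487333633365403)) (.node (.leaf 20140479391154511382358) (.leaf 19994612884325099686592))))) (.node (.node (.node (.node (.leaf 169871872784063299584) (.leaf 9751278362140348154)) (.node (.leaf 17326311396380968918489) (.leaf 17325158494007425944469))) (.node (.node (.leaf 221605162619915896920) (.leaf 141886962097489018985)) (.node (.leaf 14087910862460756773289) (.leaf 8401860693852619514796)))) (.node (.node (.node (.leaf 1158696179418374720192) (.leaf 1956728693368625037755)) (.node (.leaf 15476878733346252899554) (.leaf 16254562352325457552301)))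 (.node (.node (.leaf 26689811994263761392) (.leaf 21314069903519432870307)) (.node (.leaf 7682256394625725923772) (.leaf 11488923243288443916677))))))))

def k4Code_17 : H52.TCert.Tr := .node (.node (.node (.node (.node (.node (.node (.node (.leaf 19502095058729830190600) (.leaf 5613677386237127231716)) (.node (.leaf 179212832251043957308) (.leaf 9250535025206085787571))) (.node (.node (.leaf 1374379228700091451222) (.leaf 224913356710795135548)) (.node (.leaf 1479203550865109131187) (.leaf 12030169048335607997356)))) (.node (.node (.node (.leaf 21305307924844804059854) (.leaf 1481516926174241786275)) (.node (.leaf 8580051845567332598634) (.leaf 5613819028013616676735))) (.node (.node (.leaf 17553240253981831499366) (.leaf 260573067153662575035)) (.node (.leaf 186856123159154608572) (.leaf 8961669164895964606960))))) (.node (.node (.node (.node (.leaf 12734516025714467078587) (.leaf 21687764016823629105576)) (.node (.leaf 1065359936017039854329) (.leaf 1374362674030049266015))) (.node (.node (.leaf 21844403821597092490561) (.leaf 17295968819021807721)) (.node (.leaf 17336563807568708020855)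 (.leaf 21572324270907990320044)))) (.node (.node (.node (.leaf 2989535087397363724783) (.leaf 21315233336369406346647)) (.node (.leaf 12923374897312753073665) (.leaf 17325595057847782082648))) (.node (.node (.leaf 12029676623225782863961) (.leaf 21572314537868923517292)) (.node (.leaf 21857179630820831758564) (.leaf 3855858903760566324121)))))) (.node (.node (.node (.node (.node (.leaf 119953806839887003754) (.leaf 169489711988537150226)) (.node (.leaf 8362242131412419985279) (.leaf 21315212857351991233273))) (.node (.node (.leaf 17030974697060169942871) (.leaf 83087305506803335039)) (.node (.leaf 13105450405553475554052) (.leaf 15660459891433796143865)))) (.node (.node (.node (.leaf 27106464483168340466) (.leaf 260982445551595096480)) (.node (.leaf 5326999221482794980763) (.leaf 1764084123966012131679))) (.node (.node (.leaf 20569287606852577832257) (.leaf 8822718485938061943724)) (.node (.leaf 1853906259142132137984) (.leaf 15579956212431944778965))))) (.node (.node (.node (.node (.leaf 15040068066698365505926) (.leaf 21557640814004564270906)) (.node (.leaf 5191656744606993383825)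 (.leaf 75038246671934523743))) (.node (.node (.leaf 15660544474534867909254) (.leaf 8670362127509348694380)) (.node (.leaf 8746693582433934475665) (.leaf 24778770258790746873)))) (.node (.node (.node (.leaf 2536779506006823111007) (.leaf 8778898327461034896705)) (.node (.leaf 221527597321203491756) (.leaf 17844921197089210905294))) (.node (.node (.leaf 2125204063423213209431) (.leaf 1087870561675589158295)) (.node (.leaf 15576271761305683920727) (.leaf 12691990674532270185))))))) (.node (.node (.node (.node (.node (.node (.leaf 16066633031161081626859) (.leaf 187125494627956135825)) (.node (.leaf 81907391760609263105) (.leaf 93949773016523715278))) (.node (.node (.leaf 11956461130591699175843) (.leaf 782190792917264642767)) (.node (.leaf 15027824670859178475754) (.leaf 5543329755369540532588)))) (.node (.node (.node (.leaf 8399523683578638534884) (.leaf 16456258078466341011562)) (.node (.leaf 19429094425194103705990) (.leaf 19757096084286447263546))) (.node (.node (.leaf 6666741071332599843520) (.leaf 6395639866890161766)) (.node (.leaf 11989239209195748607202) (.leaf 20984336387400499962797)))))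 (.node (.node (.node (.node (.leaf 729148312112557378034) (.leaf 7407630627215157905833)) (.node (.leaf 21473615613293380967897) (.leaf 3985717320792068267955))) (.node (.node (.leaf 11971217186578697687430) (.leaf 15660471995012415522200)) (.node (.leaf 1940444529577187846775) (.leaf 14087557733321752985471)))) (.node (.node (.node (.leaf 21858846480399797390084) (.leaf 86676102812587164049)) (.node (.leaf 10268420905853834692959) (.leaf 225495033101763643222))) (.node (.node (.leaf 1479208467243867147878) (.leaf 13579532962206901619260)) (.node (.leaf 21163096740980430392213) (.leaf 11488951672762829646455)))))) (.node (.node (.node (.node (.node (.leaf 187976172765758856665) (.leaf 9950875539075519320159)) (.node (.leaf 75605035329037142285) (.leaf 15640538374337294664195))) (.node (.node (.leaf 228690115378394669997) (.leaf 1160231455802184730007)) (.node (.leaf 1763983360364317312855) (.leaf 1481876258205561863696)))) (.node (.node (.node (.leaf 13114491986753166197986) (.leaf 15752974200678402247442)) (.node (.leaf 1571737883926964209932) (.leaf 22375125286079250071995)))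 (.node (.node (.leaf 784075474769786046294) (.leaf 10847157563812441886310)) (.node (.leaf 13542823664925089237261) (.leaf 3353951043735483809792))))) (.node (.node (.node (.node (.leaf 2990688624253507928579) (.leaf 8400198192306368522871)) (.node (.leaf 187017539506484693417) (.leaf 3687126157399720348352))) (.node (.node (.leaf 22054551384623824838105) (.leaf 39597759294337122539)) (.node (.leaf 136408368340841105676) (.leaf 21765323608122342486511)))) (.node (.node (.node (.leaf 20767741734237084911885) (.leaf 21314148712317225575341)) (.node (.leaf 16970323662357761426839) (.leaf 2536434135904322781289))) (.node (.node (.leaf 20140488165901019513067) (.leaf 11488873032625931425681)) (.node (.leaf 2989602465022254612714) (.leaf 83467291214482098880)))))))) (.node (.node (.node (.node (.node (.node (.node (.leaf 16254165152975752084993) (.leaf 1854465218367165538227)) (.node (.leaf 16217849745343396204) (.leaf 21557395860372638321084))) (.node (.node (.leaf 238133460112535751072) (.leaf 17341299376027858113947)) (.node (.leaf 11606705010755351347643) (.leaf 13579119810506696728499))))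 (.node (.node (.node (.leaf 177845038849645448806) (.leaf 503920464432371223232)) (.node (.leaf 9706458919276537610240) (.leaf 13267221738680343114447))) (.node (.node (.leaf 5498455289257363472618) (.leaf 18919709925152812108195)) (.node (.leaf 16492062528085828404093) (.leaf 1571525653166266843537))))) (.node (.node (.node (.node (.leaf 17656820029577956089) (.leaf 5543674414375939943745)) (.node (.leaf 38719979639735552419) (.leaf 86850652335597424378))) (.node (.node (.leaf 8362141819224585207808) (.leaf 21315229224598663310657)) (.node (.leaf 17031589612010187701761) (.leaf 21682489965552936864530)))) (.node (.node (.node (.leaf 5498292615504582159681) (.leaf 15476828316466261474817)) (.node (.leaf 2112162138212318235680) (.leaf 13266912016601581913301))) (.node (.node (.leaf 5498299124232240531807) (.leaf 71844763777843859194)) (.node (.leaf 7513992783415357345530) (.leaf 4320146253966026391056)))))) (.node (.node (.node (.node (.node (.leaf 18618041878171004699067) (.leaf 19994015962862999587240)) (.node (.leaf 21858238926329017402776) (.leaf 169989470753972339938)))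 (.node (.node (.leaf 177033827652326302637) (.leaf 10905586909464741053847)) (.node (.leaf 9251124537466000475991) (.leaf 21019501232738488418409)))) (.node (.node (.node (.leaf 9413874483841379649) (.leaf 17326777957825204846827)) (.node (.leaf 273798591713328941760) (.leaf 8580128717140020507119))) (.node (.node (.leaf 10905496591413406634373) (.leaf 16491716275826798428604)) (.node (.leaf 783456573279415837613) (.leaf 5543561113099889019652))))) (.node (.node (.node (.node (.leaf 8399466351617563035736) (.leaf 9893782560538181913074)) (.node (.leaf 141829892747647732498) (.leaf 86659603404684265700))) (.node (.node (.leaf 9251131044275964690303) (.leaf 15690109004622120831893)) (.node (.leaf 38140140820349420412) (.leaf 1510337245740836883976)))) (.node (.node (.node (.leaf 18619162528436126960188) (.leaf 785521084261347853720)) (.node (.leaf 21858899749378785706877) (.leaf 782946515345812291985))) (.node (.node (.leaf 169598545262690611912) (.leaf 1259417921120238244230)) (.node (.leaf 781975925894186508090) (.leaf 16455658999862319385497))))))) (.node (.node (.node (.node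 (.node (.node (.leaf 15660145624300733366378) (.leaf 19994462735980355945340)) (.node (.leaf 4320561173088018989161) (.leaf 8402728911593353095799))) (.node (.node (.leaf 7458731048496802005226) (.leaf 1065939309419215096077)) (.node (.leaf 71970521266253760781) (.leaf 7078292510927010796955)))) (.node (.node (.node (.leaf 20986110384949884617147) (.leaf 237584483887137573288)) (.node (.leaf 21554369524368781254579) (.leaf 1065974026602180424392))) (.node (.node (.leaf 1374519400867721954154) (.leaf 21857167798365193767001)) (.node (.leaf 1957115430075303113416) (.leaf 24271798716684470691))))) (.node (.node (.node (.node (.leaf 7408195660845095617405) (.leaf 1259386893894213045768)) (.node (.leaf 1482178248787827754197) (.leaf 15641207847186091149663))) (.node (.node (.leaf 11489481460769895614732) (.leaf 18819639641951832621930)) (.node (.leaf 1374634631707124371046) (.leaf 8024689703093225887131)))) (.node (.node (.node (.leaf 18618633640834527758166) (.leaf 14223879403075367764483)) (.node (.leaf 20984342890926861254890) (.leaf 8026160163503366752960))) (.node (.node (.leaf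 228671135811868853656) (.leaf 1159851807125152516540)) (.node (.leaf 1764039884395291557377) (.leaf 20569921969375807259874)))))) (.node (.node (.node (.node (.node (.leaf 8746629952575569832567) (.leaf 176924588417071876447)) (.node (.leaf 9251322396880949936363) (.leaf 21018921878797212391313))) (.node (.node (.leaf 9523255181171772178) (.leaf 273434048366266876010)) (.node (.leaf 20985657562347266605571) (.leaf 237823328100412246933)))) (.node (.node (.node (.leaf 1160373977139403628467) (.leaf 7682020239141202735816)) (.node (.leaf 20322834151534598505322) (.leaf 1374489423467026284988))) (.node (.node (.leaf 8404230885211422917009) (.leaf 8026050889076956938111)) (.node (.leaf 8365962103355128711929) (.leaf 20140659940123087701847))))) (.node (.node (.node (.node (.leaf 20569858640523772635767) (.leaf 260952927444930704078)) (.node (.leaf 5326510143614436249096) (.leaf 14491634690339059321618))) (.node (.node (.leaf 1854134766657156450572) (.leaf 143325945653712847249)) (.node (.leaf 1764052736807487870865) (.leaf 1853974747895711629827)))) (.node (.node (.node (.leaf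 143630857894265597249) (.leaf 11991042758316439420417)) (.node (.leaf 230054251310335771498) (.leaf 1934974413925542037772))) (.node (.node (.leaf 228363056340841738736) (.leaf 13036757565896355156063)) (.node (.leaf 2101796470090400603962) (.leaf 16293614611435537615634))))))))

def k4Code_18 : H52.TCert.Tr := .node (.node (.node (.node (.node (.node (.node (.node (.leaf 22374817674667344560529) (.leaf 1956606821959543267251)) (.node (.leaf 1935760460229777491352) (.leaf 3891431595208945041408))) (.node (.node (.leaf 19679848231382013750593) (.leaf 224904290573642153473)) (.node (.leaf 714821254855617741244) (.leaf 8365839497083864422289)))) (.node (.node (.node (.leaf 258337079826421074837) (.leaf 120394342311138931184)) (.node (.leaf 2077834223970388396530) (.leaf 27680463173791238930))) (.node (.node (.leaf 12734209635333620216526) (.leaf 179106154625797931882)) (.node (.leaf 21553303883533315586412) (.leaf 94047580609938295012))))) (.node (.node (.node (.node (.leaf 15656070726390884631960) (.leaf 17361482118791332284)) (.node (.leaf 13266677861407287952610) (.leaf 5498634817973585126317)))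 (.node (.node (.leaf 13805091914614996454162) (.leaf 8961747698385949143758)) (.node (.leaf 6877835892973704577467) (.leaf 12818279630407808338344)))) (.node (.node (.node (.leaf 20739155351801887858137) (.leaf 2079383076008424251194)) (.node (.leaf 8403741655397909434757) (.leaf 8024889866683139752380))) (.node (.node (.leaf 21473244940997944746925) (.leaf 2125484489344507420595)) (.node (.leaf 5614160839959583099299) (.leaf 17596056625168333164)))))) (.node (.node (.node (.node (.node (.leaf 20417107595625342701958) (.leaf 16455714572902498928470)) (.node (.leaf 15660354971018487107174) (.leaf 2990133132872986461052))) (.node (.node (.leaf 2112232417199176305212) (.leaf 1854399763996509605478)) (.node (.leaf 19502341807075226321339) (.leaf 15476828452938005423021)))) (.node (.node (.node (.leaf 18919511488144807578098) (.leaf 8526194954690808251800)) (.node (.leaf 1155892488907710450108) (.leaf 15577730133953875880567))) (.node (.node (.leaf 8778707353792022460780) (.leaf 18617386532172073342865)) (.node (.leaf 7458803191630006518204) (.leaf 21233527980852153627119)))))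 (.node (.node (.node (.node (.leaf 8584010618530649411322) (.leaf 1163805192534557474320)) (.node (.leaf 14223597850654788133805) (.leaf 19994053616795624112571))) (.node (.node (.leaf 8526098761842866571688) (.leaf 21019156183757830654724)) (.node (.leaf 25585160654865500579) (.leaf 8583932457318697796477)))) (.node (.node (.node (.leaf 7458261325877352772302) (.leaf 3797736254364670986508)) (.node (.leaf 21234592862436230794854) (.leaf 142975109172006584763))) (.node (.node (.leaf 17326114700518784515600) (.leaf 8025491804210774311018)) (.node (.leaf 21553377384144084631657) (.leaf 21953443504399824388201))))))) (.node (.node (.node (.node (.node (.node (.leaf 676010432659658000809) (.leaf 177913543757498893538)) (.node (.leaf 76582202091219428269) (.leaf 13805649530856736231519))) (.node (.node (.leaf 15519536823445635572652) (.leaf 21844483976906934202863)) (.node (.leaf 21681841889388471224589) (.leaf 12742591854745258335)))) (.node (.node (.node (.leaf 1159919270408711474696) (.leaf 7681916064715681432984)) (.node (.leaf 17706645423703060007968) (.leaf 20139559925729963028976)))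 (.node (.node (.leaf 220273951445920186474) (.leaf 21765152048100171354502)) (.node (.leaf 12692079133719710400) (.leaf 15577134554303225088572))))) (.node (.node (.node (.node (.leaf 2101869528827389513318) (.leaf 20139595848391335379387)) (.node (.leaf 24819028650629342124) (.leaf 1481661776158543301033))) (.node (.node (.leaf 15576161161732244097596) (.leaf 173613847360397151846)) (.node (.leaf 17747284371454924261465) (.leaf 75429298058219502214)))) (.node (.node (.node (.leaf 8581204590544434962234) (.leaf 176920584161787851470)) (.node (.leaf 10905856638401296698888) (.leaf 9251265367180483331285))) (.node (.node (.leaf 19757008087650595013500) (.leaf 17326114471727765062525)) (.node (.leaf 504178858285403636113) (.leaf 26886914850010112941)))))) (.node (.node (.node (.node (.node (.leaf 25453113800064599447) (.leaf 21473261380373961777075)) (.node (.leaf 3354496794999435017729) (.leaf 1956587990145499079596))) (.node (.node (.leaf 262298489708641235662) (.leaf 39864916292116515044)) (.node (.leaf 7682581125500592867826) (.leaf 27683556543924175291)))) (.node (.node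 (.node (.leaf 8704073028467177998761) (.leaf 6578076308188893322713)) (.node (.leaf 15753039841272420811626) (.leaf 6666715738392861312408))) (.node (.node (.leaf 21572837853853403676777) (.leaf 11489086015947612143487)) (.node (.leaf 17553626512693279574720) (.leaf 3985663832371788096428))))) (.node (.node (.node (.node (.leaf 19994133515711680692095) (.leaf 8525870922743799253764)) (.node (.leaf 16815878124201413027) (.leaf 273344786501795551121))) (.node (.node (.leaf 7077795355692513495456) (.leaf 21554421527153616456099)) (.node (.leaf 20019583427369362752725) (.leaf 21163516526746743640454)))) (.node (.node (.node (.leaf 20739315195151215788433) (.leaf 18819745405313572842817)) (.node (.leaf 5325650290707660422657) (.leaf 5191927015221041839632))) (.node (.node (.leaf 75312008108531303650) (.leaf 8401453232945169345143)) (.node (.leaf 188006395703126635214) (.leaf 13105745872621888260520)))))))) (.node (.node (.node (.node (.node (.node (.node (.leaf 8670534017167505956313) (.leaf 2062830955121432244936)) (.node (.leaf 19503216773193670478880) (.leaf 21687625009731927576072)))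 (.node (.node (.leaf 10846685782198499936607) (.leaf 7514253526885044341522)) (.node (.leaf 19429135768061312764172) (.leaf 25433833235315789414)))) (.node (.node (.node (.leaf 8583744859438048903611) (.leaf 7407948305721647011227)) (.node (.leaf 21473458158769033625104) (.leaf 21347922401397065908330))) (.node (.node (.leaf 14491577801639538067286) (.leaf 17784342870503188351401)) (.node (.leaf 1159851856724391076781) (.leaf 93742678240753819097))))) (.node (.node (.node (.node (.leaf 18618809534875236925675) (.leaf 13245274585606883597)) (.node (.leaf 1935104303531089989128) (.leaf 13036275087228461319576))) (.node (.node (.leaf 3891775504672956140576) (.leaf 12838455651453221817237)) (.node (.leaf 178711312650956407227) (.leaf 1479859233991389989308)))) (.node (.node (.node (.leaf 15660670398875401486737) (.leaf 5497794865652821428985)) (.node (.leaf 2989639672365486671703) (.leaf 2112515201371293583779))) (.node (.node (.leaf 15476899424103106905943) (.leaf 21235180132632012163993)) (.node (.leaf 18919719673229574417015) (.leaf 136501677287914900377)))))) (.node (.node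 (.node (.node (.node (.leaf 21857755531904729139986) (.leaf 9706974074170503366924)) (.node (.leaf 1155396144235879796474) (.leaf 20739150465917411692639))) (.node (.node (.leaf 220729702703095843085) (.leaf 15579537804777465974522)) (.node (.leaf 22171019713518160219033) (.leaf 8365664414866356026881)))) (.node (.node (.node (.leaf 20140392602924307530978) (.leaf 924736785092782672444)) (.node (.leaf 20018478337502545813427) (.leaf 11971459594769636305527))) (.node (.node (.leaf 220269241632986956291) (.leaf 2124841165077078739865)) (.node (.leaf 8581201549805294257020) (.leaf 19501679371734395665936))))) (.node (.node (.node (.node (.leaf 1509273272741084776873) (.leaf 18819493764614800542112)) (.node (.leaf 8962244938369108423375) (.leaf 12838252392585455370474))) (.node (.node (.leaf 76655980994077199974) (.leaf 13105763408415753685564)) (.node (.leaf 237905148715509841920) (.leaf 782848464435815350506)))) (.node (.node (.node (.leaf 5949157631120599222691) (.leaf 17325272931347634965266)) (.node (.leaf 21347577233204110148834) (.leaf 76197070758690000991))) (.node (.node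 (.leaf 21413574743312060751674) (.leaf 19429503759155938904981)) (.node (.leaf 21952788339017662630304) (.leaf 176464650144309379072))))))) (.node (.node (.node (.node (.node (.node (.leaf 5543791781751571449944) (.leaf 9893229548786748864876)) (.node (.leaf 11989525873505698761276) (.leaf 20984727626931666290776))) (.node (.node (.leaf 22054316611755820155281) (.leaf 39576965324006001401)) (.node (.leaf 16969954197305727518989) (.leaf 1481597794521094848512)))) (.node (.node (.node (.leaf 17341189152810558403279) (.leaf 16455657079893670922468)) (.node (.leaf 2063098285925673799270) (.leaf 1159851880739590475871))) (.node (.node (.leaf 7682122986500519076780) (.leaf 20140688002884037084373)) (.node (.leaf 11488872645531779172703) (.leaf 19993974867859419991560))))) (.node (.node (.node (.node (.leaf 3797737633338848365600) (.leaf 5949095632318081839823)) (.node (.leaf 20767626256311952388814) (.leaf 8362249644632445029896))) (.node (.node (.leaf 1934793945980521906619) (.leaf 20139673431927044188791)) (.node (.leaf 7458470120224607341316) (.leaf 86637894806281193302)))) (.node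 (.node (.node (.leaf 9251058549197398969958) (.leaf 9893521676891404243333)) (.node (.leaf 784007288002841710088) (.leaf 10846938788584490042776))) (.node (.node (.leaf 8746316952457796258564) (.leaf 24504719282402723928)) (.node (.leaf 13330268174975894019) (.leaf 17341764210782312431721)))))) (.node (.node (.node (.node (.node (.leaf 75022319713860296627) (.leaf 8581516278849292992618)) (.node (.leaf 23068703932008267881) (.leaf 18819609768554271552200))) (.node (.node (.leaf 5326018533011577621536) (.leaf 14491598001619112853738)) (.node (.leaf 21681924966119010437208) (.leaf 8965134056011078846962)))) (.node (.node (.node (.leaf 81872462537532344408) (.leaf 675692188728773560818)) (.node (.leaf 5497715046593849379602) (.leaf 20139770426630454020512))) (.node (.node (.leaf 9250056619619787819580) (.leaf 15690772828481856275324)) (.node (.leaf 17325329066292804225796) (.leaf 15577190125511314094726))))) (.node (.node (.node (.node (.leaf 19813270580868985172680) (.leaf 6578040064004474634683)) (.node (.leaf 675880039633370257297) (.leaf 3642160188385310017955))) (.node (.node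 (.leaf 20417464562391191225213) (.leaf 16456026250035983974801)) (.node (.leaf 15752681033083104637646) (.leaf 5543770173292455570039)))) (.node (.node (.node (.leaf 8399405290302702651811) (.leaf 19429200580872170785212)) (.node (.leaf 19756876462528883306992) (.leaf 5497499454979328324080))) (.node (.node (.leaf 21953453700594342205329) (.leaf 143314466945682735210)) (.node (.leaf 15576606365935946775174) (.leaf 15040163261854262198716))))))))

def k4Code_19 : H52.TCert.Tr := .node (.node (.node (.node (.node (.node (.node (.node (.leaf 18617985899766776628093) (.leaf 18618549932380175633928)) (.node (.leaf 3855371658154656243514) (.leaf 16790012323277257411481))) (.node (.node (.leaf 1509268017895250402777) (.leaf 19756973639788541220251)) (.node (.leaf 9831022468391976464) (.leaf 238012566601345534180)))) (.node (.node (.node (.leaf 8400599660110532681651) (.leaf 6877279252437900757343)) (.node (.leaf 17341387492891715382593) (.leaf 11606554555578653868267))) (.node (.node (.leaf 21304947370022217515242) (.leaf 1939724726369928873368)) (.node (.leaf 5613652431807139546520)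 (.leaf 503184514222387055036))))) (.node (.node (.node (.node (.leaf 8403812231445669792661) (.leaf 15690108865134285881578)) (.node (.leaf 38116004598940846784) (.leaf 72112200247856501125))) (.node (.node (.leaf 3855454104277169555954) (.leaf 782290229141109130090)) (.node (.leaf 21314613847965574810098) (.leaf 2536507546636452410062)))) (.node (.node (.node (.leaf 19679227031074929160904) (.leaf 225427364533652671520)) (.node (.leaf 21553236301125529043387) (.leaf 19994328418869061590963))) (.node (.node (.leaf 22374747753187061272966) (.leaf 27924543258338246527)) (.node (.leaf 3798016816882148346628) (.leaf 1571865215737946148360)))))) (.node (.node (.node (.node (.node (.leaf 6577478417645195496185) (.leaf 6666531336306322378490)) (.node (.leaf 179352972564123159449) (.leaf 1940688419020985863688))) (.node (.node (.leaf 784005182613541914455) (.leaf 1158736084686975438586)) (.node (.leaf 221991995789901089554) (.leaf 17845003634395729627404)))) (.node (.node (.node (.leaf 19730013372993824704936) (.leaf 3798044928404114935304)) (.node (.leaf 5949743537467699201432) (.leaf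 169851573465202035460))) (.node (.node (.leaf 16293164335415229155416) (.leaf 8581308969788152971264)) (.node (.leaf 20984339339941897242852) (.leaf 14144404036269885128938))))) (.node (.node (.node (.node (.leaf 2078236593115485424320) (.leaf 17553236736119028943620)) (.node (.leaf 260727646505115551832) (.leaf 16816511585736510226))) (.node (.node (.leaf 15519946931956201882044) (.leaf 16491488215827220043665)) (.node (.leaf 20985948679007505811545) (.leaf 9251570812516527868825)))) (.node (.node (.node (.leaf 18617566960715446062694) (.leaf 15579428435511393128838)) (.node (.leaf 22170690812535430389562) (.leaf 8366247856210800855744))) (.node (.node (.leaf 20739338068332783487474) (.leaf 28839503903456919995)) (.node (.leaf 19992969447186770834120) (.leaf 19730617556044839043946))))))) (.node (.node (.node (.node (.node (.node (.leaf 5192168699305948461420) (.leaf 20019882992885292416528)) (.node (.leaf 9893392058972934916521) (.leaf 20322627598184168956845))) (.node (.node (.leaf 93609851829840423543) (.leaf 18618597037893795088803)) (.node (.leaf 8965395372986000998505)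 (.leaf 1936187067447320330111)))) (.node (.node (.node (.leaf 20417498586794456353689) (.leaf 261790142330913132134)) (.node (.leaf 20569338519502358644825) (.leaf 9510161919177236282))) (.node (.node (.leaf 143612418963050838662) (.leaf 729168069890064880006)) (.node (.leaf 17341699998343447035775) (.leaf 6401444972889551560))))) (.node (.node (.node (.node (.leaf 7459854711775431202203) (.leaf 11989471777881863306768)) (.node (.leaf 21069097006233414214573) (.leaf 8024835647891429146128))) (.node (.node (.leaf 25601240159934268642) (.leaf 8583510745762390877101)) (.node (.leaf 21557403251711574588038) (.leaf 13542407662227400178028)))) (.node (.node (.node (.leaf 20417156487443656002592) (.leaf 21315512655588161399415)) (.node (.leaf 715250841414496684300) (.leaf 7458347556977352688866))) (.node (.node (.leaf 19813457946858752248227) (.leaf 76102635748160143803)) (.node (.leaf 12734032760948555434408) (.leaf 11971195648439683664297)))))) (.node (.node (.node (.node (.node (.leaf 21413603529777597357529) (.leaf 20767927271103908364159)) (.node (.leaf 12923624735055821081337)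 (.leaf 21765089150421775253739))) (.node (.node (.leaf 20767585212556039755665) (.leaf 1939223876880352168360)) (.node (.leaf 20324286365217410518778) (.leaf 15577142998944002670592)))) (.node (.node (.node (.leaf 675927937496278348495) (.leaf 14144111041734632934137)) (.node (.leaf 21234829757213225191775) (.leaf 782354103752774651400))) (.node (.node (.leaf 220394977442432222421) (.leaf 13805704975490419296607)) (.node (.leaf 3891778659250915215779) (.leaf 19679389780019184173500))))) (.node (.node (.node (.node (.leaf 225042881682279608815) (.leaf 13289783876564131642)) (.node (.leaf 15577515117432954622341) (.leaf 260673061142361539452))) (.node (.node (.leaf 22374824642190818425196) (.leaf 1509681662636318459288)) (.node (.leaf 21315714758925897353660) (.leaf 19501677394272194249578)))) (.node (.node (.node (.leaf 18619092553360968155241) (.leaf 1854432734124452190097)) (.node (.leaf 12029869782985518396111) (.leaf 15580093877056474874749))) (.node (.node (.leaf 21557336164085232513519) (.leaf 75602686407000705728)) (.node (.leaf 8581417970581212514876) (.leaf 21110666073138762204386))))))))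 (.node (.node (.node (.node (.node (.node (.node (.leaf 72044311565982573485) (.leaf 177824068340006158780)) (.node (.leaf 12818263947832478973441) (.leaf 38692191381783526928))) (.node (.node (.leaf 13805335356130526708586) (.leaf 20323700508571803257248)) (.node (.leaf 6877259954466860113369) (.leaf 12818188078810256179435)))) (.node (.node (.node (.leaf 4320251315475336299011) (.leaf 261206036506140835946)) (.node (.leaf 82523010027060332374) (.leaf 16237693902771424870))) (.node (.node (.leaf 2537067140963621389538) (.leaf 8778665855978165445549)) (.node (.leaf 13542460245036866056688) (.leaf 2989748691930061709235))))) (.node (.node (.node (.node (.leaf 83078010326759748296) (.leaf 17765863869614407184)) (.node (.leaf 17337154771111079233961) (.leaf 715174978826698099460))) (.node (.node (.leaf 780528115658173320089) (.leaf 8580135585357865255018)) (.node (.leaf 71550738839053698902) (.leaf 12029819946316744070555)))) (.node (.node (.node (.leaf 2077886066302526792620) (.leaf 11956418872022788017049)) (.node (.leaf 676039635057653579882) (.leaf 20323155051109881232006)))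 (.node (.node (.leaf 12923102352726942225819) (.leaf 3745935648973724092504)) (.node (.leaf 1854016862646393485676) (.leaf 19502830246818899544636)))))) (.node (.node (.node (.node (.node (.leaf 29263618850448154547) (.leaf 9893894421970555438488)) (.node (.leaf 15027847479968609848352) (.leaf 11956478491355250397573))) (.node (.node (.leaf 3687544852364862262169) (.leaf 1159223711057242849386)) (.node (.leaf 15655708101419668410106) (.leaf 780708178532508992919)))) (.node (.node (.node (.leaf 13115118962786086603196) (.leaf 1155309725096320547462)) (.node (.leaf 13114672623602447649529) (.leaf 8966944123106252261727))) (.node (.node (.leaf 8962323995996408774891) (.leaf 12837895163877045540753)) (.node (.leaf 20020003714925178953177) (.leaf 21681960822238973149055))))) (.node (.node (.node (.node (.leaf 3642079294828465457924) (.leaf 19503064424288844058214)) (.node (.leaf 228294868533376993852) (.leaf 9249971598381828866048))) (.node (.node (.leaf 1632057501349258710048) (.leaf 10268440645422989185414)) (.node (.leaf 7514011623214169071418) (.leaf 20767816115725808894844))))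 (.node (.node (.node (.leaf 13542335059608450891776) (.leaf 2991321975799262756353)) (.node (.leaf 1509187094956139942277) (.leaf 23225098721895533248))) (.node (.node (.leaf 1934612116654536926124) (.leaf 10846798319150797375913)) (.node (.leaf 82080603747536505248) (.leaf 5497528182381240877290))))))) (.node (.node (.node (.node (.node (.node (.leaf 16491657241945893701463) (.leaf 13114952687882016428127)) (.node (.leaf 23328083419764603244) (.leaf 11970794326988184750308))) (.node (.node (.leaf 20984515931415115155900) (.leaf 21018322162588541929897)) (.node (.leaf 16455855680655053761143) (.leaf 38711816946952751676)))) (.node (.node (.node (.leaf 220301788435971885973) (.leaf 13805087303760841081724)) (.node (.leaf 6877365401111174138281) (.leaf 16492039341435613282538))) (.node (.node (.leaf 2063241978978511126763) (.leaf 13805515288679375538444)) (.node (.leaf 15519840004313024873322) (.leaf 261723464134835751829))))) (.node (.node (.node (.node (.leaf 1258998727671895097449) (.leaf 782320367956146334327)) (.node (.leaf 21953452299833772607577) (.leaf 186953603861970784351)))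 (.node (.node (.leaf 14087632463506488052136) (.leaf 21858251663456113168122)) (.node (.leaf 5497212560835645054425) (.leaf 2989535770626563932395)))) (.node (.node (.node (.leaf 21687700049083839021056) (.leaf 11607079439540244456365)) (.node (.leaf 21858445840497383735401) (.leaf 21413223927040705019775))) (.node (.node (.leaf 16066070666168825711364) (.leaf 11991014734649617501216)) (.node (.leaf 7458333801342985122511) (.leaf 3745844100033310011888)))))) (.node (.node (.node (.node (.node (.leaf 2112468127665389342815) (.leaf 38148796585414937001)) (.node (.leaf 15039871268597471518169) (.leaf 18617427705240767070442))) (.node (.node (.leaf 3746198001264795157373) (.leaf 8670555781044242219452)) (.node (.leaf 21682234242258491411193) (.leaf 8965131060753344792927)))) (.node (.node (.node (.leaf 21017759100914933434198) (.leaf 16066282683502403924464)) (.node (.leaf 714880900589469809286) (.leaf 19813200306895430728044))) (.node (.node (.leaf 1940418122711282068801) (.leaf 781847467373749897304)) (.node (.leaf 39874027108568313153) (.leaf 21018932614460985027191))))) (.node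 (.node (.node (.node (.leaf 38135285678120994200) (.leaf 21764936750640975850817)) (.node (.leaf 20568497281202964956373) (.leaf 21764913400259977611095))) (.node (.node (.leaf 20768208255762690310249) (.leaf 782182670233274908906)) (.node (.leaf 15027716479878857640640) (.leaf 8399182534642345480287)))) (.node (.node (.node (.leaf 8399126947960740611480) (.leaf 502692364640543519432)) (.node (.leaf 177562017581802686880) (.leaf 12818551023584452448645))) (.node (.node (.leaf 16253969283230376199575) (.leaf 1509174285215099128159)) (.node (.leaf 20019495682093785991612) (.leaf 8966389611983996421527))))))))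

def k4Code_20 : H52.TCert.Tr := .node (.node (.node (.node (.node (.node (.node (.node (.leaf 21348125656009181659241) (.leaf 17706662102118772458722)) (.node (.leaf 20985570961362558656435) (.leaf 5497507370345823844716))) (.node (.node (.leaf 2989538909639919765732) (.leaf 17326325259030101789593)) (.node (.leaf 29059969609912387414) (.leaf 8583514055151779859136)))) (.node (.node (.node (.leaf 21681860057242237386241) (.leaf 5471099674223306409367)) (.node (.leaf 18919599516745310667196) (.leaf 1854558730400586270809))) (.node (.node (.leaf 14144674198600825650704) (.leaf 21314594809958717403848)) (.node (.leaf 6877809926233382759745) (.leaf 13115155699491209982670))))) (.node (.node (.node (.node (.leaf 13105868189236717603872) (.leaf 13266756614220990302706)) (.node (.leaf 1259665628642101103008) (.leaf 13036161075632404022122))) (.node (.node (.leaf 8403899230347208556544) (.leaf 2125087592469396291584)) (.node (.leaf 1940780452316804369440) (.leaf 3353857108381699879631)))) (.node (.node (.node (.leaf 3642506672140809321094) (.leaf 20417382051911779203436)) (.node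 (.leaf 1510420904214412897601) (.leaf 17706672731930767261802))) (.node (.node (.leaf 9474719219198873503128) (.leaf 5191622001921612024036)) (.node (.leaf 8703682187052334366591) (.leaf 8581860176499512149399)))))) (.node (.node (.node (.node (.node (.leaf 13266817114031315392401) (.leaf 7407530571792919054780)) (.node (.leaf 15577132054509410157436) (.leaf 16254414969370296011177))) (.node (.node (.leaf 5325421424829224750694) (.leaf 1631973201991912072109)) (.node (.leaf 8401592302214041742657) (.leaf 188195863781552049184)))) (.node (.node (.node (.leaf 83449838845955312537) (.leaf 8746564420156764590470)) (.node (.leaf 17844919155980682004831) (.leaf 8778344414625049710088))) (.node (.node (.leaf 19992998794196486730447) (.leaf 19730608478830143287792)) (.node (.leaf 173161446872532848735) (.leaf 15576088605514236330499))))) (.node (.node (.node (.node (.leaf 13231768265320942485) (.leaf 82362076903386353254)) (.node (.leaf 2989543687400686782552) (.leaf 8399402889191483050905))) (.node (.node (.leaf 220839039593769677296) (.leaf 8962212834855548160416)) (.node (.leaf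 6877848640877121843912) (.leaf 12818533486737456745504)))) (.node (.node (.node (.leaf 6877349391574501510176) (.leaf 82539901219288468373)) (.node (.leaf 19429110817510308219296) (.leaf 14088137132863168022947))) (.node (.node (.leaf 83316206079354143164) (.leaf 16243287588353147773)) (.node (.leaf 21554500686965243185924) (.leaf 16254165136638763043577))))))) (.node (.node (.node (.node (.node (.node (.leaf 6577417395257662439939) (.leaf 3891746915487863145685)) (.node (.leaf 676113885988997171288) (.leaf 5543921571457807036911))) (.node (.node (.leaf 141819199040651381234) (.leaf 1764620054796542102421)) (.node (.leaf 20569430192804949951356) (.leaf 17340291645423850039927)))) (.node (.node (.node (.leaf 783315518287799499398) (.leaf 1572105942224002992572)) (.node (.leaf 8399099110980072616655) (.leaf 1155729217804481103061))) (.node (.node (.leaf 21553252194898401724767) (.leaf 5543896012608718769914)) (.node (.leaf 781983033138948802979) (.leaf 7682587839329818150101))))) (.node (.node (.node (.node (.leaf 28922058421789395032) (.leaf 7078272265012172081938)) (.node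 (.leaf 2063009779616586467159) (.leaf 13805645240581773364986))) (.node (.node (.leaf 21110432254564369368471) (.leaf 177718703125875525720)) (.node (.leaf 76109215611775092825) (.leaf 21557331554868984318221)))) (.node (.node (.node (.leaf 8581661918917657115270) (.leaf 20139610496636440217689)) (.node (.leaf 81870870743031134854) (.leaf 15579665274476695599750))) (.node (.node (.leaf 22170690678044832053612) (.leaf 38155903921087888897)) (.node (.leaf 13114639722479012515336) (.leaf 86557953692133328085)))))) (.node (.node (.node (.node (.node (.leaf 19756473218775809003910) (.leaf 17326117178970430000021)) (.node (.leaf 7513602260397415957717) (.leaf 19429142701504236259679))) (.node (.node (.leaf 17783986843917459065251) (.leaf 8025569769736899430489)) (.node (.leaf 714821591735149923065) (.leaf 19813312094142211819351)))) (.node (.node (.node (.leaf 8402931415914856105186) (.leaf 221898511114434515039)) (.node (.leaf 5498764479485496363424) (.leaf 10905544972047709440772))) (.node (.node (.leaf 2079044553047577136890) (.leaf 8403714416181160512409)) (.node (.leaf 6666815008641378681276)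 (.leaf 20568216450315269277924))))) (.node (.node (.node (.node (.leaf 13036461097204009667481) (.leaf 15575982984575189647466)) (.node (.leaf 1940453762475527143659) (.leaf 9249901301824713836968))) (.node (.node (.leaf 186940660614754175204) (.leaf 3687703910168931304855)) (.node (.leaf 8401972147147792650630) (.leaf 7459872702582017426300)))) (.node (.node (.node (.leaf 258524070625932190637) (.leaf 13036524049181651339353)) (.node (.leaf 503929154406863111037) (.leaf 21234508345559142866867))) (.node (.node (.leaf 142980502426898019016) (.leaf 12923704795377621944818)) (.node (.leaf 21163702121370912305870) (.leaf 17325344107752321155072)))))))) (.node (.node (.node (.node (.node (.node (.node (.leaf 21572384257857219833153) (.leaf 16790348032271916044678)) (.node (.leaf 728716425697641439034) (.leaf 71547085124582096400))) (.node (.node (.leaf 7513961562894880151441) (.leaf 14491088633681385603946)) (.node (.leaf 1854528846598965498246) (.leaf 2990946423815203098362)))) (.node (.node (.node (.leaf 17707241800679124536217) (.leaf 1571525750953430694534)) (.node (.leaf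 15579706045938214259744) (.leaf 12838253002302843555336))) (.node (.node (.leaf 21857151875633135846613) (.leaf 15752894111913801877335)) (.node (.leaf 2112432354228527333777) (.leaf 15577520887320322738937))))) (.node (.node (.node (.node (.leaf 18617613432288998109902) (.leaf 9893493590517300701815)) (.node (.leaf 8401575952404696941418) (.leaf 15519491122544760555788))) (.node (.node (.leaf 4234769567851278371588) (.leaf 237511943179653714015)) (.node (.leaf 2124844607195855095896) (.leaf 173015225076070254820)))) (.node (.node (.node (.leaf 20139907836104227618922) (.leaf 20019345442800956224200)) (.node (.leaf 9893852592815566179360) (.leaf 1065309782633192292458))) (.node (.node (.leaf 3891396879676988491606) (.leaf 504113488460643027369)) (.node (.leaf 5874104644947026861) (.leaf 17747579842179655304405)))))) (.node (.node (.node (.node (.node (.leaf 19503427850554361623024) (.leaf 29128898993177137247)) (.node (.leaf 176982302825123990208) (.leaf 9871520575834923949))) (.node (.node (.leaf 17326763499592753105340) (.leaf 13266737333326585268643)) (.node (.leaf 8526364543748975069272)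 (.leaf 5949085325162163569155)))) (.node (.node (.node (.leaf 83508364686288043536) (.leaf 16705188414424811609)) (.node (.leaf 22048573247403939496337) (.leaf 9951262124022700671491))) (.node (.node (.leaf 5192143118829178258301) (.leaf 3985798999715723674044)) (.node (.leaf 259889161057303310831) (.leaf 19679222383232886192774))))) (.node (.node (.node (.node (.leaf 19501751853921620238138) (.leaf 20141048547915863656676)) (.node (.leaf 925188235281413735832) (.leaf 12734546666594776420742))) (.node (.node (.leaf 229844939108196845399) (.leaf 92877312910540950290)) (.node (.leaf 19994486460572847383469) (.leaf 8402923781688261095920)))) (.node (.node (.node (.leaf 24223457143589024240) (.leaf 7458263968603916834705)) (.node (.leaf 21233842486982985288096) (.leaf 87014297213879650135))) (.node (.node (.leaf 3642750884485913315159) (.leaf 229752895772317469244)) (.node (.leaf 1511001269944944722363) (.leaf 502724969273200804733))))))) (.node (.node (.node (.node (.node (.node (.leaf 5498392607133756037009) (.leaf 15477270870745663408544)) (.node (.leaf 136485316556970852753)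 (.leaf 15519904024669643091265))) (.node (.node (.leaf 15477041469630958422720) (.leaf 16254299030945860733500)) (.node (.leaf 2062586441910481865148) (.leaf 784453774517424785759)))) (.node (.node (.node (.leaf 10846939906829223013697) (.leaf 21844624637787534983273)) (.node (.leaf 17412816681623896938) (.leaf 8961771667929390744984))) (.node (.node (.leaf 20018703996620774027982) (.leaf 15660447331004275067299)) (.node (.leaf 3746427999759137678253) (.leaf 1853965457500214626135))))) (.node (.node (.node (.node (.leaf 15477096034800481512769) (.leaf 21235173686923577202577)) (.node (.leaf 18919535672270745187016) (.leaf 21687619265759083692925))) (.node (.node (.leaf 21857274508322520904398) (.leaf 7459410590152745258598)) (.node (.leaf 11989870322857474818491) (.leaf 8703506915283075137642)))) (.node (.node (.node (.leaf 15690745604854251732496) (.leaf 21019345158360834096641)) (.node (.leaf 5191615816312231804417) (.leaf 259846836340401386191))) (.node (.node (.leaf 220380630386100277637) (.leaf 20019974799280615666159)) (.node (.leaf 9893775628107980802317) (.leaf 20323069089934952417778))))))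 (.node (.node (.node (.node (.node (.leaf 16066359608470886450584) (.leaf 2101852886610434130026)) (.node (.leaf 20139689799098213238614) (.leaf 19679299531461798301192))) (.node (.node (.leaf 225408968715285235096) (.leaf 1160278523762109106748)) (.node (.leaf 1764639531332833152614) (.leaf 260952679073518924272)))) (.node (.node (.node (.leaf 15896922304729760138648) (.leaf 13267298787752495066433)) (.node (.leaf 5498850074153375251969) (.leaf 259490516260626909628))) (.node (.node (.leaf 5543253404056829997552) (.leaf 14485195274659397738)) (.node (.leaf 187358576167958479363) (.leaf 17706812698803801524640))))) (.node (.node (.node (.node (.leaf 20568277235990287057789) (.leaf 178071592407832873458)) (.node (.leaf 21314142224294668125034) (.leaf 16293205697083084668928))) (.node (.node (.leaf 141920316884382023680) (.leaf 15752375007624306721283)) (.node (.leaf 21347607380964808700623) (.leaf 15690386549433222017742)))) (.node (.node (.node (.leaf 13579128023926046754005) (.leaf 1163802460521108589248)) (.node (.leaf 8822205331465899314790) (.leaf 71558095452452765185)))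 (.node (.node (.leaf 7513941608554187162044) (.leaf 19429103224843916947951)) (.node (.leaf 3746028938520505193883) (.leaf 2112775065828942102032))))))))

def k4Code_21 : H52.TCert.Tr := .node (.node (.node (.node (.node (.node (.node (.node (.leaf 16254128423262379546011) (.leaf 1087214977019175517712)) (.node (.leaf 5498526870827350176456) (.leaf 15476987065004623121440))) (.node (.node (.leaf 21235180302308705731453) (.leaf 6666192217769761605860)) (.node (.leaf 13267307600640736235258) (.leaf 2991286020010290774909)))) (.node (.node (.node (.leaf 17706961132575258214801) (.leaf 15576471434888052279565)) (.node (.leaf 16456004667979505696873) (.leaf 19813037975697681452794))) (.node (.node (.leaf 5192127234333237185433) (.leaf 260014975011193226453)) (.node (.leaf 76195276404069976850) (.leaf 12734018129043536054540))))) (.node (.node (.node (.node (.leaf 11970784053015169106321) (.leaf 7407581134116326442839)) (.node (.leaf 28345447530311518039) (.leaf 3797733604850407243881))) (.node (.node (.leaf 8703404651910909723516) (.leaf 8583561064527582837382)) (.node (.leaf 15476888302196934903191)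 (.leaf 21233543985746368546018)))) (.node (.node (.node (.leaf 21764934092065886550380) (.leaf 20768096756485470521572)) (.node (.leaf 9893748083674883312402) (.leaf 142077384764508702988))) (.node (.node (.leaf 9251337281978099990528) (.leaf 7513594653440178061827)) (.node (.leaf 17845406191253615247595) (.leaf 6666865483574958573993)))))) (.node (.node (.node (.node (.node (.leaf 8362297304403685755304) (.leaf 20322817024543378706170)) (.node (.leaf 20019339042873381294469) (.leaf 21682464689385821505625))) (.node (.node (.leaf 4320560052041953673322) (.leaf 9475023457284554919674)) (.node (.leaf 20417427348288144880334) (.leaf 10847349594331889828283)))) (.node (.node (.node (.leaf 9251056332575456231529) (.leaf 10267929018254754186108)) (.node (.leaf 785331167480364123362) (.leaf 20568132502367339789840))) (.node (.node (.leaf 17325225612203272867336) (.leaf 17783819435120306664143)) (.node (.leaf 21682273686602520210039) (.leaf 71844814934448277732))))) (.node (.node (.node (.node (.leaf 22170777340766403494289) (.leaf 19503348819256859986336)) (.node (.leaf 1159849167166371464060)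 (.leaf 8965778578755900225900))) (.node (.node (.leaf 20984640243046911870806) (.leaf 8025885028630045724262)) (.node (.leaf 8400252064546610364287) (.leaf 13036177204366507936505)))) (.node (.node (.node (.leaf 5191885675280009003113) (.leaf 259467785292098470332)) (.node (.leaf 21857478545312477645069) (.leaf 18819812699550217259506))) (.node (.node (.leaf 11990937637493554906966) (.leaf 12818461434742448409493)) (.node (.leaf 25475139559489486352) (.leaf 21473404092045732907427))))))) (.node (.node (.node (.node (.node (.node (.leaf 4234690679092934673277) (.leaf 20568119691757608046981)) (.node (.leaf 14144046264620240613872) (.leaf 18819207712696566035151))) (.node (.node (.leaf 5325993830446488715498) (.leaf 10267929278490088146327)) (.node (.leaf 221370534524112404585) (.leaf 20569333793832826515952)))) (.node (.node (.node (.leaf 7078106642320685484949) (.leaf 3687323109910506471658)) (.node (.leaf 5497384152661950908840) (.leaf 2989818848062584000250))) (.node (.node (.leaf 12029910054553625692248) (.leaf 15896783946055090847233)) (.node (.leaf 17345051383625189795)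 (.leaf 9251265330088681456490))))) (.node (.node (.node (.node (.leaf 15690227830091684923836) (.leaf 15576480273182490530182)) (.node (.leaf 82157303231487284635) (.leaf 259473324169077622873))) (.node (.node (.leaf 5543253421442983213702) (.leaf 28172143483586559504)) (.node (.leaf 143013495332932782496) (.leaf 17326357634190225670378)))) (.node (.node (.node (.leaf 21163514286420969833322) (.leaf 18919696325979304903530)) (.node (.leaf 82046052784235028282) (.leaf 11956324664937560572139))) (.node (.node (.leaf 11488876993212377381228) (.leaf 1479609954920342522125)) (.node (.leaf 8822553786894368652816) (.leaf 9893525294484396477188)))))) (.node (.node (.node (.node (.node (.leaf 15640533285289608645369) (.leaf 13114482258116422011231)) (.node (.leaf 1087597410745081438131) (.leaf 3746065154295917152525))) (.node (.node (.leaf 8670285641932870619525) (.leaf 14144151887331556400601)) (.node (.leaf 221552562816130419449) (.leaf 21687616424073431599676)))) (.node (.node (.node (.leaf 18617459113434266050483) (.leaf 19993974844219101786824)) (.node (.leaf 8362480085100614846880)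 (.leaf 17031512676091094452648))) (.node (.node (.leaf 21682427861857055211625) (.leaf 5498604186184182467481)) (.node (.leaf 8402502199417793609728) (.leaf 21858460974935651271530))))) (.node (.node (.node (.node (.leaf 1479743472561050061028) (.leaf 169493646235880603519)) (.node (.leaf 8966511610059334724215) (.leaf 19756524140971632133527))) (.node (.node (.leaf 17326443559677272723846) (.leaf 76283307559216090874)) (.node (.leaf 15027181052609274316889) (.leaf 1259472100321738817771)))) (.node (.node (.node (.leaf 781690999511751006097) (.leaf 92597353203844827634)) (.node (.leaf 2079012601442461524909) (.leaf 19756556565864472658794))) (.node (.node (.leaf 5497526350190898590415) (.leaf 21764852200997132076439)) (.node (.leaf 17747444311037811670529) (.leaf 16065968012305201903980)))))))) (.node (.node (.node (.node (.node (.node (.node (.leaf 1510854768147724672473) (.leaf 2063058396921490671704)) (.node (.leaf 17707208306636448579073) (.leaf 259427886213062493053))) (.node (.node (.leaf 20323714467597766139353) (.leaf 14087568518082977759467)) (.node (.leaf 16970440900952156934534)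 (.leaf 18819158383672219994340)))) (.node (.node (.node (.leaf 5325597703795889880959) (.leaf 14266911347693619972)) (.node (.leaf 3746122213554849034952) (.leaf 8670507297295034270570))) (.node (.node (.leaf 2991317983723674239210) (.leaf 21413227504161860388053)) (.node (.leaf 8402989936274519197526) (.leaf 1764269796996751346108))))) (.node (.node (.node (.node (.leaf 16202122373414239760) (.leaf 273901520753817727695)) (.node (.leaf 12029585108014781025173) (.leaf 27081484690710380033))) (.node (.node (.leaf 1479725898668965499269) (.leaf 170149110713272388082)) (.node (.leaf 1853907701702462903707) (.leaf 13114490597779579849490)))) (.node (.node (.node (.leaf 785151628978130225420) (.leaf 22170778881265891149013)) (.node (.leaf 86657736567469318067) (.leaf 3687053335261255076108))) (.node (.node (.leaf 17031388326798557287835) (.leaf 17324961352860839481439)) (.node (.leaf 8580363329816093230293) (.leaf 228947039903423629663)))))) (.node (.node (.node (.node (.node (.leaf 6577694974751143496452) (.leaf 15579820703610474577424)) (.node (.leaf 7407624918843389348068) (.leaf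 75336510745454332476))) (.node (.node (.leaf 11955806138453441184637) (.leaf 675952410891537678737)) (.node (.leaf 14088019313076764412825) (.leaf 13133017742464256392705)))) (.node (.node (.node (.leaf 1956507934369916191235) (.leaf 13542373630622886987159)) (.node (.leaf 188393348417955936620) (.leaf 20568136127991152445271))) (.node (.node (.leaf 21305199492779938069126) (.leaf 5470849476071969966524)) (.node (.leaf 8365617000139612655354) (.leaf 15519570150942768533894))))) (.node (.node (.node (.node (.leaf 21163032366359058751290) (.leaf 76764665096559038853)) (.node (.leaf 9250548358165274086432) (.leaf 5498526908335450063741))) (.node (.node (.leaf 15476834751359370723729) (.leaf 21857195389386037071967)) (.node (.leaf 9228621962749481350) (.leaf 13542309632670893180312)))) (.node (.node (.node (.leaf 1510723780800937016833) (.leaf 18617376609691646952856)) (.node (.leaf 228806384345987915699) (.leaf 22054908790061949755194))) (.node (.node (.leaf 39762492222833889669) (.leaf 20768123986922691330283)) (.node (.leaf 12734345101058237778976) (.leaf 21687675986046978568911)))))))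 (.node (.node (.node (.node (.node (.node (.leaf 25971910562979947437) (.leaf 15027265764387285338528)) (.node (.leaf 1510420945566509058492) (.leaf 2125516804646753061436))) (.node (.node (.leaf 21163419559847248103692) (.leaf 14025303560073531949457)) (.node (.leaf 16491389272330582032619) (.leaf 20738770252910400149393)))) (.node (.node (.node (.leaf 5326606845551438383528) (.leaf 12923166704942415577088)) (.node (.leaf 21018003297438948819459) (.leaf 16790079055922883723499))) (.node (.node (.leaf 229542353464089850351) (.leaf 8362150002501180459276)) (.node (.leaf 93401680915892047967) (.leaf 18619093681261477733292))))) (.node (.node (.node (.node (.leaf 20569281045573007609446) (.leaf 783996582658687091938)) (.node (.leaf 15640617717728102549334) (.leaf 728660591040891374272))) (.node (.node (.leaf 2102153520124155152828) (.leaf 94036042197583235423)) (.node (.leaf 18618899110864914033985) (.leaf 15690190670563549136098)))) (.node (.node (.node (.leaf 1163297833834118283665) (.leaf 1631550597702962131439)) (.node (.leaf 19813445451419730184280) (.leaf 5191655517639188187225)))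 (.node (.node (.leaf 21069159617302263869935) (.leaf 8583502732182307391913)) (.node (.leaf 2990691824010799002312) (.leaf 15579665231042785345979)))))) (.node (.node (.node (.node (.node (.leaf 21068581315576815291912) (.leaf 8746249505308809140113)) (.node (.leaf 20768237833038883539368) (.leaf 12763288618832300953))) (.node (.node (.leaf 2101933535202510866262) (.leaf 503984290829793578016)) (.node (.leaf 13805715293557245528981) (.leaf 3891126527011677212262)))) (.node (.node (.node (.leaf 8526206705827711765536) (.leaf 22375384479052371133309)) (.node (.leaf 22375129184739421457156) (.leaf 22048999509103362050136))) (.node (.node (.leaf 21553950354199198010265) (.leaf 18618642192438746824575)) (.node (.leaf 17965670668948769184) (.leaf 17336832868102054352283))))) (.node (.node (.node (.node (.leaf 179265994584059452889) (.leaf 17784378495953335978252)) (.node (.leaf 17747175107981541395136) (.leaf 12030214510103779280280))) (.node (.node (.leaf 75235037196950770054) (.leaf 273645715052370335131)) (.node (.leaf 14071989919153064697) (.leaf 2102406952497135585111)))) (.node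 (.node (.node (.leaf 6877176924083941180823) (.leaf 136694137998958264835)) (.node (.leaf 13133578264288602261773) (.leaf 21413448080762442956304))) (.node (.node (.leaf 19429396864660497926233) (.leaf 19756737073381793446534)) (.node (.leaf 2537088258377049387727) (.leaf 17340337875001328668410))))))))

def k4Code_22 : H52.TCert.Tr := .node (.node (.node (.node (.node (.node (.node (.node (.leaf 1087726676127656182997) (.leaf 1159272187856951357935)) (.node (.leaf 8580278770408309308038) (.leaf 17031484389277251714943))) (.node (.node (.leaf 8965117728505934975365) (.leaf 71563971109505446383)) (.node (.leaf 259428007896087179982) (.leaf 5543499859439795179016)))) (.node (.node (.node (.leaf 21572567566838077490583) (.leaf 15896486933354711265776)) (.node (.leaf 503222700453782556767) (.leaf 5614249794022034114648))) (.node (.node (.leaf 20984406235157519960483) (.leaf 19429046656500639531242)) (.node (.leaf 20568788221942921629791) (.leaf 17747142895110851690730))))) (.node (.node (.node (.node (.leaf 1158692923116956830268) (.leaf 176546367979333394355)) (.node (.leaf 258331402561410996113)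 (.leaf 86832112512132907523))) (.node (.node (.leaf 10268317363444554238040) (.leaf 7513672288078703233113)) (.node (.leaf 785148040181938819461) (.leaf 13579121552013098404338)))) (.node (.node (.node (.leaf 8583991109253390369212) (.leaf 8822224966538268902613)) (.node (.leaf 83025372060723118185) (.leaf 2078724301225399058947))) (.node (.node (.leaf 8746075385467168342890) (.leaf 76191828129329452443)) (.node (.leaf 12734185426181471288848) (.leaf 8399692290406373149096)))))) (.node (.node (.node (.node (.node (.leaf 17747019071481893719802) (.leaf 224906575136761650649)) (.node (.leaf 21110010978239720136506) (.leaf 1939553150954338583420))) (.node (.node (.leaf 3354028997311622743448) (.leaf 1374550483602434661849)) (.node (.leaf 20140825260149149256466) (.leaf 21314735486569931079786)))) (.node (.node (.node (.leaf 93654676728972345344) (.leaf 20323193135970012137888)) (.node (.leaf 3797733050732388332238) (.leaf 17844937630464194021207))) (.node (.node (.leaf 38596026851585929712) (.leaf 17844927506499001666322)) (.node (.leaf 1510883383572599083397) (.leaf 6666615637998326549241)))))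 (.node (.node (.node (.node (.leaf 20140923347866704642491) (.leaf 21314111101429022200198)) (.node (.leaf 143511881906669042028) (.leaf 12818621875106235763132))) (.node (.node (.leaf 261885798443899192533) (.leaf 13805756023474376773128)) (.node (.leaf 187263799059148276949) (.leaf 13133149764447959982003)))) (.node (.node (.node (.leaf 15476998610633565929578) (.leaf 87142682765668615576)) (.node (.leaf 224829545181437690300) (.leaf 785804684263692647952))) (.node (.node (.leaf 13579223697494838528425) (.leaf 11991031779620331787675)) (.node (.leaf 10847152660094133141609) (.leaf 1510581574643990440567))))))) (.node (.node (.node (.node (.node (.node (.leaf 784266887255049576371) (.leaf 1155873138555095156825)) (.node (.leaf 13133321519751043402153) (.leaf 1155902059114200794519))) (.node (.node (.leaf 21552784600192405865685) (.leaf 8966280691064246356540)) (.node (.leaf 12837938588791000185478) (.leaf 136677882842164823895)))) (.node (.node (.node (.leaf 9706455752625071260092) (.leaf 5470779955151650098790)) (.node (.leaf 20018657907756189892112) (.leaf 21858349686203610712768)))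 (.node (.node (.leaf 21572812277804654660356) (.leaf 8778463350126092553978)) (.node (.leaf 16066030728548310433296) (.leaf 237804074056232678088))))) (.node (.node (.node (.node (.leaf 13542649195205006856581) (.leaf 92245803925161744273)) (.node (.leaf 3354377321368003561896) (.leaf 21315882416889509939428))) (.node (.node (.leaf 20568501190851149922409) (.leaf 8965646268645067106935)) (.node (.leaf 784090882157591546773) (.leaf 502743370697650897001)))) (.node (.node (.node (.leaf 13133011238515518737305) (.leaf 94061202157872073760)) (.node (.leaf 18619194794552275153615) (.leaf 5543483564279729161084))) (.node (.node (.leaf 21553358212710717665999) (.leaf 92454612667392002276)) (.node (.leaf 1934839221401389278125) (.leaf 17325515744140566202784)))))) (.node (.node (.node (.node (.node (.leaf 93480282972326953194) (.leaf 21552724860639159929257)) (.node (.leaf 3797997612582286860211) (.leaf 715079387806471850073))) (.node (.node (.leaf 19813629400111787555462) (.leaf 22054910449974463543660)) (.node (.leaf 187245317590431203328) (.leaf 8962332963441355391491)))) (.node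 (.node (.node (.leaf 8703641390438023827845) (.leaf 8402501819195314713288)) (.node (.leaf 8703704334460017410449) (.leaf 7078090980845397347065))) (.node (.node (.leaf 8024452668058193069911) (.leaf 21844709625311951128804)) (.node (.leaf 15576644235641506603948) (.leaf 12752133583056122574))))) (.node (.node (.node (.node (.leaf 728662857498313228288) (.leaf 172951667965976235040)) (.node (.leaf 5470689508180149154511) (.leaf 4320655991871979589727))) (.node (.node (.leaf 136346971600910583192) (.leaf 7459904165268309789728)) (.node (.leaf 11989422345307700671183) (.leaf 14474886166770846047)))) (.node (.node (.node (.leaf 16293591352855896065878) (.leaf 9251628184236660011720)) (.node (.leaf 7513747082588190347654) (.leaf 225290256547011934572))) (.node (.node (.leaf 1087739922196411121898) (.leaf 20569439247981863109123)) (.node (.leaf 17340446843702753348156) (.leaf 21857330105843320521105)))))))) (.node (.node (.node (.node (.node (.node (.node (.leaf 21844640698873833819750) (.leaf 11606470939617180354979)) (.node (.leaf 1940707303910972982141) (.leaf 11971285905945826828090)))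 (.node (.node (.leaf 15027649447142072327641) (.leaf 258267194772841700825)) (.node (.leaf 10268442501382465683691) (.leaf 1936061064482154529642)))) (.node (.node (.node (.leaf 675694403500118606267) (.leaf 38568088837857944493)) (.node (.leaf 21765524029332746406116) (.leaf 75579742511988378521))) (.node (.node (.leaf 8669976516325520198336) (.leaf 28033783344089025084)) (.node (.leaf 16790670850452230290054) (.leaf 729311993001658890604))))) (.node (.node (.node (.node (.leaf 8362649679394031572881) (.leaf 14223933030775523379619)) (.node (.leaf 3856009358484365822738) (.leaf 21552828828476530274800))) (.node (.node (.leaf 19993975018704079145404) (.leaf 13114601181675266485569)) (.node (.leaf 785689170791492632065) (.leaf 3354359413558540765603)))) (.node (.node (.node (.leaf 12837787795891134730630) (.leaf 8778421968285797032876)) (.node (.leaf 17924862046131266476) (.leaf 176868437766072568077))) (.node (.node (.leaf 728890641080288316153) (.leaf 8400847040317218949389)) (.node (.leaf 21109992855216943988842) (.leaf 21554369548253117614496)))))) (.node (.node (.node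 (.node (.node (.leaf 1065491084646700422555) (.leaf 1631384037433329027341)) (.node (.leaf 8404276477228788485640) (.leaf 21163692729806211759632))) (.node (.node (.leaf 1482135220432217309290) (.leaf 8704080067847942161634)) (.node (.leaf 2077566662523853275371) (.leaf 27986040221454210961)))) (.node (.node (.node (.leaf 15656107197368456282346) (.leaf 11956267444986678364864)) (.node (.leaf 1158698896940784100268) (.leaf 11990383792134067915673))) (.node (.node (.leaf 3855369743110222885583) (.leaf 21844870892706837660541)) (.node (.leaf 21110664771248585324908) (.leaf 15027742070650476955032))))) (.node (.node (.node (.node (.leaf 273740405528660560316) (.leaf 19813058457597256970958)) (.node (.leaf 20323782651838154254967) (.leaf 2077578751170392765128))) (.node (.node (.leaf 20738762137752160158570) (.leaf 12838067755870446194783)) (.node (.leaf 4320165660376304817563) (.leaf 5949184478045781803882)))) (.node (.node (.node (.leaf 15896592697199290337778) (.leaf 2101857048448777291864)) (.node (.leaf 8024520662128948152588) (.leaf 11955848675914811018854))) (.node (.node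 (.leaf 20139242878570808429330) (.leaf 4320359878312646845357)) (.node (.leaf 11606467617732234588656) (.leaf 8402508327305337224720))))))) (.node (.node (.node (.node (.node (.node (.leaf 11970868580429354344371) (.leaf 13231048252621202349)) (.node (.leaf 1571598682276455745367) (.leaf 21068850588990390307167))) (.node (.node (.leaf 1940465904519416333162) (.leaf 17706650869809087021056)) (.node (.leaf 16491956636670967810136) (.leaf 15896558698906843104482)))) (.node (.node (.node (.leaf 502776240629474013679) (.leaf 17553607519371267868900)) (.node (.leaf 20324027368657353213335) (.leaf 75449908492786081594))) (.node (.node (.leaf 1939223787688893778271) (.leaf 17341520172891504331456)) (.node (.leaf 1065932620264743145062) (.leaf 18819148069170741452602))))) (.node (.node (.node (.node (.leaf 5325357243701703774597) (.leaf 21019409958642328324882)) (.node (.leaf 11606541924897720897631) (.leaf 21314723938429199888879))) (.node (.node (.leaf 6192414305417205147) (.leaf 20019411664434479938182)) (.node (.leaf 20140543400712234058602) (.leaf 1934825474789414177119)))) (.node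 (.node (.node (.leaf 784535552505147345682) (.leaf 676114012323804386715)) (.node (.leaf 225404993977324833037) (.leaf 1479700301338652573696))) (.node (.node (.leaf 19993065118879997496217) (.leaf 27690771349545405472)) (.node (.leaf 5470865801028062315011) (.leaf 15896486967631760853343)))))) (.node (.node (.node (.node (.node (.leaf 15897151339640141775083) (.leaf 503305308483227794054)) (.node (.leaf 7077803660959045128287) (.leaf 20985527196891955632017))) (.node (.node (.leaf 19993494299558805873580) (.leaf 21348050776714862113263)) (.node (.leaf 17553751626319052380049) (.leaf 82310008514687709903)))) (.node (.node (.node (.leaf 12029750398293199588249) (.leaf 23169303812025066412)) (.node (.leaf 142474943234502674876) (.leaf 29454564771931825069))) (.node (.node (.leaf 2102139546829744408927) (.leaf 17341175537035710497283)) (.node (.leaf 19503183816802059124841) (.leaf 21017759287249231886982))))) (.node (.node (.node (.node (.leaf 3986212770428442249635) (.leaf 11971457552508560191983)) (.node (.leaf 783986869429705179136) (.leaf 20139722241339042704705))) (.node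 (.node (.leaf 22054344955700632715264) (.leaf 39538511003503002115)) (.node (.leaf 1934602533144755896721) (.leaf 220444984514981735745)))) (.node (.node (.node (.leaf 19993485921656255361520) (.leaf 1163600035538700739500)) (.node (.leaf 22170869165560794040892) (.leaf 21473794074338367222255))) (.node (.node (.leaf 19679227374079860918697) (.leaf 8024333777776759210219)) (.node (.leaf 9950880532850660913871) (.leaf 3642302207732660047610))))))))

def k4Code_23 : H52.TCert.Tr := .node (.node (.node (.node (.node (.node (.node (.node (.leaf 1571441910208862663374) (.leaf 21304836695125926248554)) (.node (.leaf 16969861585621160789846) (.leaf 14144663898203207977877))) (.node (.node (.leaf 21554194604073209678248) (.leaf 220301739113269076909)) (.node (.leaf 13805384344175063827863) (.leaf 20568222119343815728954)))) (.node (.node (.node (.leaf 13105377819402546318856) (.leaf 3855880262110820676079)) (.node (.leaf 11489132463341580390790) (.leaf 9706798343008672485765))) (.node (.node (.leaf 15027255839578169772953) (.leaf 8966698348268199453612)) (.node (.leaf 8400643022306690207240)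 (.leaf 142320087260847229353))))) (.node (.node (.node (.node (.leaf 676261408989348710844) (.leaf 119918862329343121297)) (.node (.leaf 1159126693962107077858) (.leaf 1939617302090302308223))) (.node (.node (.leaf 503920367645773187516) (.leaf 1481931960799279878533)) (.node (.leaf 21019586067307344932161) (.leaf 7077896108846952925756)))) (.node (.node (.node (.leaf 1479300686574933723634) (.leaf 14491746007565591424321)) (.node (.leaf 21233365697936641474431) (.leaf 8526276711205145085335))) (.node (.node (.leaf 20020002946714972784909) (.leaf 21163037063680803179417)) (.node (.leaf 15690227766066690494854) (.leaf 259518311571425643282)))))) (.node (.node (.node (.node (.node (.leaf 13353982525722182882) (.leaf 120225370912589809932)) (.node (.leaf 17325131772491884905322) (.leaf 11606782274851507864983))) (.node (.node (.leaf 781199897312416467172) (.leaf 11606472910471613647116)) (.node (.leaf 17845099385185783329487) (.leaf 5325708110933866105256)))) (.node (.node (.node (.leaf 21844959961219517725036) (.leaf 924753018155696303425)) (.node (.leaf 8399200552395097094508)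 (.leaf 15577745319245672663484))) (.node (.node (.leaf 7459422793789104638376) (.leaf 187336412121320554897)) (.node (.leaf 120511487223288170765) (.leaf 1163660797439382880700))))) (.node (.node (.node (.node (.leaf 13579119107101515007202) (.leaf 7513889322240900776810)) (.node (.leaf 17747560304510800529677) (.leaf 225216291647213670138))) (.node (.node (.leaf 21068557557211924234240) (.leaf 17337090093838708912623)) (.node (.leaf 20738972918169560237282) (.leaf 2991213342065449241497)))) (.node (.node (.node (.leaf 16970501763504143547920) (.leaf 16253903770726844019407)) (.node (.leaf 5326577574167144872300) (.leaf 5543865246467703636202))) (.node (.node (.leaf 2077928182414301104544) (.leaf 21764934568721958816530)) (.node (.leaf 27850441125460816590) (.leaf 221421375943946338304))))))) (.node (.node (.node (.node (.node (.node (.leaf 9251514199946891037023) (.leaf 11990891052129600111107)) (.node (.leaf 2989608305764098820800) (.leaf 16790089499553380387241))) (.node (.node (.leaf 20986062534081311050649) (.leaf 238003845379869376618)) (.node (.leaf 4235248107312184887565)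 (.leaf 16552558220096968091)))) (.node (.node (.node (.leaf 5949706614237164423593) (.leaf 14491181372136916027661)) (.node (.leaf 13579119597718887972368) (.leaf 8580210621275472644800))) (.node (.node (.leaf 1158798926150934889685) (.leaf 15577771863104510004744)) (.node (.leaf 21473353526359462166399) (.leaf 10905966329868805976776))))) (.node (.node (.node (.node (.leaf 21553243259542796536077) (.leaf 1259346333217899262448)) (.node (.leaf 220208218793230860731) (.leaf 17706822897471211744577))) (.node (.node (.leaf 4320290245467111996929) (.leaf 9725243765404290080)) (.node (.leaf 20018176193166394067865) (.leaf 11970952778091418912151)))) (.node (.node (.node (.leaf 1481608403312735201911) (.leaf 10906148584362625153388)) (.node (.leaf 17341767054075072924220) (.leaf 21068504025609304312569))) (.node (.node (.leaf 19994502330891681509871) (.leaf 16066050009758648895757)) (.node (.leaf 169936409170132631658) (.leaf 1479275286740675890073)))))) (.node (.node (.node (.node (.node (.leaf 8778397009792768298016) (.leaf 8024501063380558842617)) (.node (.leaf 7682439583615933854192)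 (.leaf 2536799433110469906527))) (.node (.node (.leaf 15519998090506932913020) (.leaf 16254265014179559309417)) (.node (.leaf 1509254489424833577361) (.leaf 15027815745154654929131)))) (.node (.node (.node (.leaf 12818247259077184594860) (.leaf 8402557910659476933052)) (.node (.leaf 23138650464795263869) (.leaf 229500977738739390353))) (.node (.node (.leaf 17784488783568652312378) (.leaf 2125473931693145984762)) (.node (.leaf 24834223050763831712) (.leaf 8584161549868987747225))))) (.node (.node (.node (.node (.leaf 5325395623543367715241) (.leaf 82494266099237620131)) (.node (.leaf 9250478499826316489199) (.leaf 25953541029549805306))) (.node (.node (.leaf 16455658740399001779713) (.leaf 14500465193724972552)) (.node (.leaf 15580061489034522741161) (.leaf 21234610835900952379626)))) (.node (.node (.node (.leaf 20985492267486782104492) (.leaf 2991241509194869735868)) (.node (.leaf 20738812480771117844569) (.leaf 143055929884854864576))) (.node (.node (.leaf 1764441339949772505088) (.leaf 172956465452179500353)) (.node (.leaf 20568675849919241503970) (.leaf 14025299920372948928740))))))))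 (.node (.node (.node (.node (.node (.node (.node (.leaf 21688059006969230344063) (.leaf 86710161288041335556)) (.node (.leaf 18617848505244826109783) (.leaf 19501920515265576815017))) (.node (.node (.leaf 5614207996453865652667) (.leaf 22170958317591230689999)) (.node (.leaf 1764080879874922219350) (.leaf 21554358037343322292095)))) (.node (.node (.node (.leaf 21018428677471016683351) (.leaf 1939741884797643653225)) (.node (.leaf 3745854775837858597636) (.leaf 24844529814573157896))) (.node (.node (.leaf 6302189608842825466) (.leaf 225041855890447911410)) (.node (.leaf 16970499759471736069946) (.leaf 21068497638219809096573))))) (.node (.node (.node (.node (.leaf 16969869872216365960089) (.leaf 5326509440109185302762)) (.node (.leaf 19501874243087167488893) (.leaf 19679286757134723776618))) (.node (.node (.leaf 17324958277844625892269) (.leaf 17747348367193117541226)) (.node (.leaf 9474774895868120956928) (.leaf 503339373710373029977)))) (.node (.node (.node (.leaf 1160507613390145192451) (.leaf 17553734575633282794904)) (.node (.leaf 503145211414517711292) (.leaf 21018921782847811191299)))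 (.node (.node (.leaf 15896502266371978003669) (.leaf 19756885097539880399560)) (.node (.leaf 782835833262214367804) (.leaf 8670269604102436653817)))))) (.leaf 0)) (.leaf 0))

def k4Code : H52.TCert.Tr := .node (.node (.node (.node (.node (k4Code_0) (k4Code_1)) (.node (k4Code_2) (k4Code_3))) (.node (.node (k4Code_4) (k4Code_5)) (.node (k4Code_6) (k4Code_7)))) (.node (.node (.node (k4Code_8) (k4Code_9)) (.node (k4Code_10) (k4Code_11))) (.node (.node (k4Code_12) (k4Code_13)) (.node (k4Code_14) (k4Code_15))))) (.node (.node (.node (.node (k4Code_16) (k4Code_17)) (.node (k4Code_18) (k4Code_19))) (.node (.node (k4Code_20) (k4Code_21)) (.node (k4Code_22) (k4Code_23)))) (.node (.node (.node (.leaf 0) (.leaf 0)) (.node (.leaf 0) (.leaf 0))) (.node (.node (.leaf 0) (.leaf 0)) (.node (.leaf 0) (.leaf 0)))))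

def k4Srt_0 : H52.TCert.Tr := .node (.node (.node (.node (.node (.node (.node (.node (.leaf 3663) (.leaf 2488)) (.node (.leaf 4202) (.leaf 1461))) (.node (.node (.leaf 1934) (.leaf 739)) (.node (.leaf 5278) (.leaf 3817)))) (.node (.node (.node (.leaf 3470) (.leaf 2967)) (.node (.leaf 597) (.leaf 84))) (.node (.node (.leaf 2633) (.leaf 348)) (.node (.leaf 1420) (.leaf 522))))) (.node (.node (.node (.node (.leaf 5844) (.leaf 3623)) (.node (.leaf 6028) (.leaf 4429))) (.node (.node (.leaf 4943) (.leaf 2523)) (.node (.leaf 2260) (.leaf 1389)))) (.node (.node (.node (.leaf 5558) (.leaf 3848)) (.node (.leaf 110) (.leaf 1213))) (.node (.node (.leaf 4086) (.leaf 1698)) (.node (.leaf 3308) (.leaf 3604)))))) (.node (.node (.node (.node (.node (.leaf 1168) (.leaf 741)) (.node (.leaf 4520) (.leaf 1596))) (.node (.node (.leaf 1989) (.leaf 4939)) (.node (.leaf 4580) (.leaf 2586)))) (.node (.node (.node (.leaf 5973) (.leaf 3912)) (.node (.leaf 4337) (.leaf 4870))) (.node (.node (.leaf 4317) (.leaf 558)) (.node (.leaf 5283) (.leaf 2279))))) (.node (.node (.node (.node (.leaf 4415) (.leaf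 4686)) (.node (.leaf 2784) (.leaf 1243))) (.node (.node (.leaf 4679) (.leaf 5743)) (.node (.leaf 3620) (.leaf 320)))) (.node (.node (.node (.leaf 5603) (.leaf 3082)) (.node (.leaf 3164) (.leaf 3195))) (.node (.node (.leaf 3883) (.leaf 484)) (.node (.leaf 1490) (.leaf 694))))))) (.node (.node (.node (.node (.node (.node (.leaf 5825) (.leaf 5168)) (.node (.leaf 4753) (.leaf 4977))) (.node (.node (.leaf 4830) (.leaf 824)) (.node (.leaf 5920) (.leaf 1395)))) (.node (.node (.node (.leaf 4103) (.leaf 5622)) (.node (.leaf 1080) (.leaf 4036))) (.node (.node (.leaf 1476) (.leaf 1275)) (.node (.leaf 1860) (.leaf 1942))))) (.node (.node (.node (.node (.leaf 434) (.leaf 1578)) (.node (.leaf 5513) (.leaf 2508))) (.node (.node (.leaf 3814) (.leaf 3800)) (.node (.leaf 185) (.leaf 2481)))) (.node (.node (.node (.leaf 1577) (.leaf 5751)) (.node (.leaf 433) (.leaf 5357))) (.node (.node (.leaf 2480) (.leaf 6005)) (.node (.leaf 1943) (.leaf 3179)))))) (.node (.node (.node (.node (.node (.leaf 3346) (.leaf 3330)) (.node (.leaf 1841) (.leaf 3769))) (.node (.node (.leaf 5520) (.leaf 2471)) (.node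 (.leaf 4482) (.leaf 927)))) (.node (.node (.node (.leaf 5003) (.leaf 5181)) (.node (.leaf 2347) (.leaf 423))) (.node (.node (.leaf 1537) (.leaf 3569)) (.node (.leaf 2413) (.leaf 5959))))) (.node (.node (.node (.node (.leaf 549) (.leaf 5289)) (.node (.leaf 2640) (.leaf 4148))) (.node (.node (.leaf 622) (.leaf 3737)) (.node (.leaf 4722) (.leaf 4915)))) (.node (.node (.node (.leaf 4373) (.leaf 4078)) (.node (.leaf 258) (.leaf 5454))) (.node (.node (.leaf 1678) (.leaf 4325)) (.node (.leaf 4625) (.leaf 1560)))))))) (.node (.node (.node (.node (.node (.node (.node (.leaf 2502) (.leaf 5322)) (.node (.leaf 2961) (.leaf 4639))) (.node (.node (.leaf 4496) (.leaf 3797)) (.node (.leaf 3281) (.leaf 5009)))) (.node (.node (.node (.leaf 2106) (.leaf 7)) (.node (.leaf 1148) (.leaf 3626))) (.node (.node (.leaf 2144) (.leaf 5786)) (.node (.leaf 5614) (.leaf 1074))))) (.node (.node (.node (.node (.leaf 4834) (.leaf 1811)) (.node (.leaf 195) (.leaf 333))) (.node (.node (.leaf 2341) (.leaf 5994)) (.node (.leaf 5865) (.leaf 2427)))) (.node (.node (.node (.leaf 5051) (.leaf 685)) (.node (.leaf 3590)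 (.leaf 1763))) (.node (.node (.leaf 2724) (.leaf 5058)) (.node (.leaf 3270) (.leaf 3899)))))) (.node (.node (.node (.node (.node (.leaf 1895) (.leaf 799)) (.node (.leaf 1030) (.leaf 3963))) (.node (.node (.leaf 2025) (.leaf 3481)) (.node (.leaf 1263) (.leaf 1650)))) (.node (.node (.node (.leaf 1495) (.leaf 5304)) (.node (.leaf 4180) (.leaf 4559))) (.node (.node (.leaf 3431) (.leaf 918)) (.node (.leaf 827) (.leaf 464))))) (.node (.node (.node (.node (.leaf 2927) (.leaf 2330)) (.node (.leaf 376) (.leaf 2780))) (.node (.node (.leaf 2851) (.leaf 4829)) (.node (.leaf 4171) (.leaf 2952)))) (.node (.node (.node (.leaf 2829) (.leaf 4407)) (.node (.leaf 4690) (.leaf 5998))) (.node (.node (.leaf 6027) (.leaf 3302)) (.node (.leaf 614) (.leaf 2122))))))) (.node (.node (.node (.node (.node (.node (.leaf 901) (.leaf 1986)) (.node (.leaf 4743) (.leaf 1636))) (.node (.node (.leaf 4704) (.leaf 5438)) (.node (.leaf 2592) (.leaf 1189)))) (.node (.node (.node (.leaf 4662) (.leaf 3478)) (.node (.leaf 4948) (.leaf 2884))) (.node (.node (.leaf 4295) (.leaf 3078)) (.node (.leaf 589) (.leaf 1452)))))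 (.node (.node (.node (.node (.leaf 1721) (.leaf 4131)) (.node (.leaf 2079) (.leaf 6003))) (.node (.node (.leaf 5568) (.leaf 2206)) (.node (.leaf 941) (.leaf 875)))) (.node (.node (.node (.leaf 1635) (.leaf 4130)) (.node (.leaf 2811) (.leaf 2883))) (.node (.node (.leaf 3077) (.leaf 2285)) (.node (.leaf 4316) (.leaf 4348)))))) (.node (.node (.node (.node (.node (.leaf 1657) (.leaf 874)) (.node (.leaf 900) (.leaf 2847))) (.node (.node (.leaf 4278) (.leaf 4703)) (.node (.leaf 3437) (.leaf 3697)))) (.node (.node (.node (.leaf 1287) (.leaf 2777)) (.node (.leaf 5523) (.leaf 4392))) (.node (.node (.leaf 2078) (.leaf 3782)) (.node (.leaf 2591) (.leaf 1614))))) (.node (.node (.node (.node (.leaf 4619) (.leaf 1401)) (.node (.leaf 4711) (.leaf 1836))) (.node (.node (.leaf 5853) (.leaf 1468)) (.node (.leaf 122) (.leaf 5950)))) (.node (.node (.node (.leaf 3603) (.leaf 4893)) (.node (.leaf 4262) (.leaf 3834))) (.node (.node (.leaf 605) (.leaf 1288)) (.node (.leaf 5799) (.leaf 3645))))))))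

def k4Srt_1 : H52.TCert.Tr := .node (.node (.node (.node (.node (.node (.node (.node (.leaf 5773) (.leaf 1509)) (.node (.leaf 3614) (.leaf 5461))) (.node (.node (.leaf 1804) (.leaf 555)) (.node (.leaf 2761) (.leaf 5394)))) (.node (.node (.node (.leaf 738) (.leaf 2424)) (.node (.leaf 3995) (.leaf 985))) (.node (.node (.leaf 4925) (.leaf 3050)) (.node (.leaf 3622) (.leaf 1780))))) (.node (.node (.node (.node (.leaf 5200) (.leaf 5126)) (.node (.leaf 2619) (.leaf 5281))) (.node (.node (.leaf 56) (.leaf 5024)) (.node (.leaf 83) (.leaf 3383)))) (.node (.node (.node (.leaf 4199) (.leaf 3636)) (.node (.leaf 1419) (.leaf 5867))) (.node (.node (.leaf 2966) (.leaf 860)) (.node (.leaf 228) (.leaf 3959)))))) (.node (.node (.node (.node (.node (.leaf 3613) (.leaf 603)) (.node (.leaf 4882) (.leaf 3577))) (.node (.node (.leaf 1667) (.leaf 5104)) (.node (.leaf 4534) (.leaf 781)))) (.node (.node (.node (.leaf 5089) (.leaf 1466)) (.node (.leaf 5213) (.leaf 300))) (.node (.node (.leaf 1061) (.leaf 3407)) (.node (.leaf 1406) (.leaf 2510))))) (.node (.node (.node (.node (.leaf 5769) (.leaf 5676))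 (.node (.leaf 703) (.leaf 1907))) (.node (.node (.leaf 4995) (.leaf 5063)) (.node (.leaf 118) (.leaf 4498)))) (.node (.node (.node (.leaf 497) (.leaf 1295)) (.node (.leaf 773) (.leaf 5877))) (.node (.node (.leaf 4178) (.leaf 4805)) (.node (.leaf 4469) (.leaf 4138))))))) (.node (.node (.node (.node (.node (.node (.leaf 2452) (.leaf 2098)) (.node (.leaf 1524) (.leaf 2783))) (.node (.node (.leaf 2714) (.leaf 1200)) (.node (.leaf 2340) (.leaf 5564)))) (.node (.node (.node (.leaf 847) (.leaf 4287)) (.node (.leaf 925) (.leaf 1749))) (.node (.node (.leaf 4709) (.leaf 3535)) (.node (.leaf 202) (.leaf 5102))))) (.node (.node (.node (.node (.leaf 401) (.leaf 4059)) (.node (.leaf 350) (.leaf 5251))) (.node (.node (.leaf 5014) (.leaf 5371)) (.node (.leaf 3743) (.leaf 5637)))) (.node (.node (.node (.leaf 145) (.leaf 1355)) (.node (.leaf 3013) (.leaf 1239))) (.node (.node (.leaf 1568) (.leaf 1477)) (.node (.leaf 1621) (.leaf 4509)))))) (.node (.node (.node (.node (.node (.leaf 5423) (.leaf 4550)) (.node (.leaf 4992) (.leaf 2156))) (.node (.node (.leaf 4883) (.leaf 953)) (.node (.leaf 2652)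 (.leaf 3182)))) (.node (.node (.node (.leaf 682) (.leaf 1890)) (.node (.leaf 1414) (.leaf 2739))) (.node (.node (.leaf 4832) (.leaf 3090)) (.node (.leaf 4403) (.leaf 1072))))) (.node (.node (.node (.node (.leaf 855) (.leaf 93)) (.node (.leaf 5620) (.leaf 4732))) (.node (.node (.leaf 5539) (.leaf 2554)) (.node (.leaf 1234) (.leaf 4695)))) (.node (.node (.node (.leaf 5835) (.leaf 1024)) (.node (.leaf 796) (.leaf 2369))) (.node (.node (.leaf 5771) (.leaf 4989)) (.node (.leaf 4450) (.leaf 222)))))))) (.node (.node (.node (.node (.node (.node (.node (.leaf 4957) (.leaf 5206)) (.node (.leaf 2574) (.leaf 3069))) (.node (.node (.leaf 2236) (.leaf 5661)) (.node (.leaf 5390) (.leaf 4795)))) (.node (.node (.node (.leaf 205) (.leaf 75)) (.node (.leaf 5493) (.leaf 3758))) (.node (.node (.leaf 2190) (.leaf 28)) (.node (.leaf 1775) (.leaf 4674))))) (.node (.node (.node (.node (.leaf 2041) (.leaf 3216)) (.node (.leaf 4788) (.leaf 3040))) (.node (.node (.leaf 556) (.leaf 5553)) (.node (.leaf 517) (.leaf 3368)))) (.node (.node (.node (.leaf 1038) (.leaf 1884)) (.node (.leaf 3170) (.leaf 5210)))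 (.node (.node (.leaf 4840) (.leaf 4418)) (.node (.leaf 4161) (.leaf 1536)))))) (.node (.node (.node (.node (.node (.leaf 5466) (.leaf 5054)) (.node (.leaf 3329) (.leaf 2664))) (.node (.node (.leaf 5458) (.leaf 3865)) (.node (.leaf 548) (.leaf 5863)))) (.node (.node (.node (.leaf 5169) (.leaf 3736)) (.node (.leaf 3768) (.leaf 6001))) (.node (.node (.leaf 2412) (.leaf 5002)) (.node (.leaf 3568) (.leaf 5177))))) (.node (.node (.node (.node (.leaf 4248) (.leaf 3341)) (.node (.leaf 3528) (.leaf 1227))) (.node (.node (.leaf 5658) (.leaf 4189)) (.node (.leaf 3571) (.leaf 5008)))) (.node (.node (.node (.leaf 4389) (.leaf 3314)) (.node (.leaf 3965) (.leaf 3427))) (.node (.node (.leaf 5180) (.leaf 3642)) (.node (.leaf 1259) (.leaf 5160))))))) (.node (.node (.node (.node (.node (.node (.leaf 4479) (.leaf 1605)) (.node (.leaf 518) (.leaf 5288))) (.node (.node (.leaf 3868) (.leaf 529)) (.node (.leaf 29) (.leaf 422)))) (.node (.node (.node (.leaf 5215) (.leaf 769)) (.node (.leaf 4823) (.leaf 1746))) (.node (.node (.leaf 1919) (.leaf 5530)) (.node (.leaf 4531) (.leaf 4441))))) (.node (.node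 (.node (.node (.leaf 3631) (.leaf 6017)) (.node (.leaf 2517) (.leaf 1332))) (.node (.node (.leaf 5651) (.leaf 4499)) (.node (.leaf 3532) (.leaf 2712)))) (.node (.node (.node (.leaf 3630) (.leaf 5307)) (.node (.leaf 2755) (.leaf 2756))) (.node (.node (.leaf 4140) (.leaf 293)) (.node (.leaf 5689) (.leaf 3715)))))) (.node (.node (.node (.node (.node (.leaf 4020) (.leaf 2656)) (.node (.leaf 1520) (.leaf 5713))) (.node (.node (.leaf 485) (.leaf 3838)) (.node (.leaf 3510) (.leaf 216)))) (.node (.node (.node (.leaf 5725) (.leaf 2958)) (.node (.leaf 2602) (.leaf 3485))) (.node (.node (.leaf 321) (.leaf 5497)) (.node (.leaf 1013) (.leaf 1408))))) (.node (.node (.node (.node (.leaf 1326) (.leaf 1360)) (.node (.leaf 3731) (.leaf 2888))) (.node (.node (.leaf 3889) (.leaf 5301)) (.node (.leaf 2954) (.leaf 2006)))) (.node (.node (.node (.leaf 1330) (.leaf 2544)) (.node (.leaf 5582) (.leaf 2138))) (.node (.node (.leaf 3599) (.leaf 5728)) (.node (.leaf 720) (.leaf 1112))))))))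

def k4Srt_2 : H52.TCert.Tr := .node (.node (.node (.node (.node (.node (.node (.node (.leaf 1730) (.leaf 4932)) (.node (.leaf 5672) (.leaf 3192))) (.node (.node (.leaf 4751) (.leaf 313)) (.node (.leaf 3562) (.leaf 291)))) (.node (.node (.node (.leaf 2943) (.leaf 4303)) (.node (.leaf 4419) (.leaf 477))) (.node (.node (.leaf 5589) (.leaf 4623)) (.node (.leaf 2307) (.leaf 5721))))) (.node (.node (.node (.node (.leaf 1691) (.leaf 510)) (.node (.leaf 3522) (.leaf 5905))) (.node (.node (.leaf 4384) (.leaf 2872)) (.node (.leaf 4055) (.leaf 3819)))) (.node (.node (.node (.leaf 786) (.leaf 21)) (.node (.leaf 2054) (.leaf 2292))) (.node (.node (.leaf 744) (.leaf 1952)) (.node (.leaf 3415) (.leaf 305)))))) (.node (.node (.node (.node (.node (.leaf 5921) (.leaf 1161)) (.node (.leaf 2070) (.leaf 4617))) (.node (.node (.leaf 5934) (.leaf 1208)) (.node (.leaf 2411) (.leaf 3926)))) (.node (.node (.node (.leaf 4225) (.leaf 3280)) (.node (.leaf 620) (.leaf 1548))) (.node (.node (.leaf 5748) (.leaf 1523)) (.node (.leaf 498) (.leaf 1201))))) (.node (.node (.node (.node (.leaf 4470) (.leaf 2987))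 (.node (.leaf 203) (.leaf 5314))) (.node (.node (.leaf 4767) (.leaf 1544)) (.node (.leaf 848) (.leaf 709)))) (.node (.node (.node (.leaf 5703) (.leaf 4223)) (.node (.leaf 3515) (.leaf 5625))) (.node (.node (.leaf 876) (.leaf 1970)) (.node (.leaf 1294) (.leaf 2600))))))) (.node (.node (.node (.node (.node (.node (.leaf 5188) (.leaf 1813)) (.node (.leaf 4530) (.leaf 3903))) (.node (.node (.leaf 4341) (.leaf 1793)) (.node (.leaf 969) (.leaf 5364)))) (.node (.node (.node (.leaf 3313) (.leaf 4044)) (.node (.leaf 3900) (.leaf 2027))) (.node (.node (.leaf 103) (.leaf 5403)) (.node (.leaf 1914) (.leaf 1604))))) (.node (.node (.node (.node (.leaf 1474) (.leaf 285)) (.node (.leaf 5903) (.leaf 1589))) (.node (.node (.leaf 3462) (.leaf 37)) (.node (.leaf 5866) (.leaf 3108)))) (.node (.node (.node (.leaf 3666) (.leaf 4667)) (.node (.leaf 5244) (.leaf 996))) (.node (.node (.leaf 5462) (.leaf 1866)) (.node (.leaf 894) (.leaf 6011)))))) (.node (.node (.node (.node (.node (.leaf 3807) (.leaf 3541)) (.node (.leaf 1785) (.leaf 1757))) (.node (.node (.leaf 4861) (.leaf 4597)) (.node (.leaf 4308)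 (.leaf 1090)))) (.node (.node (.node (.leaf 3981) (.leaf 676)) (.node (.leaf 1127) (.leaf 5682))) (.node (.node (.leaf 4940) (.leaf 2450)) (.node (.leaf 4600) (.leaf 95))))) (.node (.node (.node (.node (.leaf 1472) (.leaf 4385)) (.node (.leaf 5489) (.leaf 1303))) (.node (.node (.leaf 341) (.leaf 35)) (.node (.leaf 967) (.leaf 4540)))) (.node (.node (.node (.leaf 3101) (.leaf 4042)) (.node (.leaf 3159) (.leaf 2797))) (.node (.node (.leaf 3076) (.leaf 1644)) (.node (.leaf 4907) (.leaf 4336)))))))) (.node (.node (.node (.node (.node (.node (.node (.leaf 3421) (.leaf 733)) (.node (.leaf 5982) (.leaf 2030))) (.node (.node (.leaf 3262) (.leaf 4515)) (.node (.leaf 3901) (.leaf 5525)))) (.node (.node (.node (.leaf 2731) (.leaf 1103)) (.node (.leaf 2269) (.leaf 5745))) (.node (.node (.leaf 1783) (.leaf 3137)) (.node (.leaf 6013) (.leaf 459))))) (.node (.node (.node (.node (.leaf 5271) (.leaf 2551)) (.node (.leaf 2538) (.leaf 2220))) (.node (.node (.leaf 2043) (.leaf 5166)) (.node (.leaf 425) (.leaf 838)))) (.node (.node (.node (.leaf 90) (.leaf 367)) (.node (.leaf 3951) (.leaf 3448)))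 (.node (.node (.leaf 2428) (.leaf 2442)) (.node (.leaf 3551) (.leaf 4693)))))) (.node (.node (.node (.node (.node (.leaf 3310) (.leaf 2233)) (.node (.leaf 148) (.leaf 2416))) (.node (.node (.leaf 4075) (.leaf 4799)) (.node (.leaf 3746) (.leaf 1058)))) (.node (.node (.node (.leaf 2922) (.leaf 3014)) (.node (.leaf 5649) (.leaf 1600))) (.node (.node (.leaf 1663) (.leaf 2120)) (.node (.leaf 5787) (.leaf 3651))))) (.node (.node (.node (.node (.leaf 716) (.leaf 4697)) (.node (.leaf 4577) (.leaf 3975))) (.node (.node (.leaf 5282) (.leaf 4060)) (.node (.leaf 4516) (.leaf 4154)))) (.node (.node (.node (.leaf 5114) (.leaf 4268)) (.node (.leaf 3874) (.leaf 1374))) (.node (.node (.leaf 114) (.leaf 27)) (.node (.leaf 2189) (.leaf 5205))))))) (.node (.node (.node (.node (.node (.node (.leaf 2235) (.leaf 4993)) (.node (.leaf 3757) (.leaf 4488))) (.node (.node (.leaf 528) (.leaf 4673)) (.node (.leaf 1588) (.leaf 447)))) (.node (.node (.node (.leaf 5361) (.leaf 4106)) (.node (.leaf 2040) (.leaf 2490))) (.node (.node (.leaf 516) (.leaf 4095)) (.node (.leaf 1800) (.leaf 3527))))) (.node (.node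 (.node (.node (.leaf 3729) (.leaf 4758)) (.node (.leaf 337) (.leaf 521))) (.node (.node (.leaf 1555) (.leaf 2414)) (.node (.leaf 1218) (.leaf 3508)))) (.node (.node (.node (.leaf 2003) (.leaf 3452)) (.node (.leaf 3738) (.leaf 3141))) (.node (.node (.leaf 4327) (.leaf 1864)) (.node (.leaf 4621) (.leaf 1538)))))) (.node (.node (.node (.node (.node (.leaf 4354) (.leaf 1673)) (.node (.leaf 347) (.leaf 5616))) (.node (.node (.leaf 2632) (.leaf 1369)) (.node (.leaf 4898) (.leaf 3355)))) (.node (.node (.node (.leaf 783) (.leaf 3234)) (.node (.leaf 2046) (.leaf 2113))) (.node (.node (.leaf 4366) (.leaf 1235)) (.node (.leaf 1850) (.leaf 5236))))) (.node (.node (.node (.node (.leaf 5075) (.leaf 4466)) (.node (.leaf 4052) (.leaf 302))) (.node (.node (.leaf 3451) (.leaf 492)) (.node (.leaf 3151) (.leaf 4417)))) (.node (.node (.node (.leaf 633) (.leaf 2793)) (.node (.leaf 5734) (.leaf 5686))) (.node (.node (.leaf 5933) (.leaf 5358)) (.node (.leaf 698) (.leaf 938))))))))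

def k4Srt_3 : H52.TCert.Tr := .node (.node (.node (.node (.node (.node (.node (.node (.leaf 135) (.leaf 3692)) (.node (.leaf 1423) (.leaf 4448))) (.node (.node (.leaf 2612) (.leaf 3766)) (.node (.leaf 4734) (.leaf 3114)))) (.node (.node (.node (.leaf 5159) (.leaf 2969)) (.node (.leaf 1173) (.leaf 3985))) (.node (.node (.leaf 5546) (.leaf 1703)) (.node (.leaf 1228) (.leaf 4211))))) (.node (.node (.node (.node (.leaf 2985) (.leaf 3786)) (.node (.leaf 1968) (.leaf 818))) (.node (.node (.leaf 3859) (.leaf 2183)) (.node (.leaf 3826) (.leaf 2695)))) (.node (.node (.node (.leaf 5970) (.leaf 392)) (.node (.leaf 82) (.leaf 4780))) (.node (.node (.leaf 4684) (.leaf 1831)) (.node (.leaf 5893) (.leaf 5064)))))) (.node (.node (.node (.node (.node (.leaf 3994) (.leaf 4121)) (.node (.leaf 5340) (.leaf 4972))) (.node (.node (.leaf 3778) (.leaf 5879)) (.node (.leaf 1933) (.leaf 4266)))) (.node (.node (.node (.leaf 275) (.leaf 4772)) (.node (.leaf 126) (.leaf 2045))) (.node (.node (.leaf 1351) (.leaf 5172)) (.node (.leaf 2111) (.leaf 2914))))) (.node (.node (.node (.node (.leaf 5446) (.leaf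 1270)) (.node (.leaf 3445) (.leaf 1418))) (.node (.node (.leaf 1513) (.leaf 5951)) (.node (.leaf 4028) (.leaf 3547)))) (.node (.node (.node (.leaf 267) (.leaf 307)) (.node (.leaf 4410) (.leaf 4155))) (.node (.node (.leaf 5478) (.leaf 746)) (.node (.leaf 4340) (.leaf 2373))))))) (.node (.node (.node (.node (.node (.node (.leaf 2912) (.leaf 2019)) (.node (.leaf 1441) (.leaf 2108))) (.node (.node (.leaf 5225) (.leaf 4902)) (.node (.leaf 176) (.leaf 788)))) (.node (.node (.node (.leaf 0) (.leaf 5690)) (.node (.leaf 32) (.leaf 328))) (.node (.node (.leaf 1191) (.leaf 2361)) (.node (.leaf 573) (.leaf 4613))))) (.node (.node (.node (.node (.leaf 5665) (.leaf 4357)) (.node (.leaf 3419) (.leaf 2168))) (.node (.node (.leaf 6029) (.leaf 4976)) (.node (.leaf 1723) (.leaf 964)))) (.node (.node (.node (.leaf 5939) (.leaf 5755)) (.node (.leaf 5850) (.leaf 5348))) (.node (.node (.leaf 4889) (.leaf 1020)) (.node (.leaf 3843) (.leaf 4443)))))) (.node (.node (.node (.node (.node (.leaf 3300) (.leaf 255)) (.node (.leaf 5042) (.leaf 441))) (.node (.node (.leaf 4604) (.leaf 4323)) (.node (.leaf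 3983) (.leaf 3584)))) (.node (.node (.node (.leaf 2141) (.leaf 2948)) (.node (.leaf 102) (.leaf 456))) (.node (.node (.leaf 1754) (.leaf 1792)) (.node (.leaf 4572) (.leaf 3759))))) (.node (.node (.node (.node (.leaf 4452) (.leaf 1087)) (.node (.leaf 3928) (.leaf 5562))) (.node (.node (.leaf 2381) (.leaf 2533)) (.node (.leaf 639) (.leaf 5535)))) (.node (.node (.node (.leaf 1935) (.leaf 3122)) (.node (.leaf 1720) (.leaf 5995))) (.node (.node (.leaf 588) (.leaf 5580)) (.node (.leaf 4119) (.leaf 1759)))))))) (.node (.node (.node (.node (.node (.node (.node (.leaf 1421) (.leaf 2050)) (.node (.leaf 85) (.leaf 1027))) (.node (.node (.leaf 3922) (.leaf 4110)) (.node (.leaf 1188) (.leaf 5309)))) (.node (.node (.node (.leaf 5300) (.leaf 1904)) (.node (.leaf 476) (.leaf 3543))) (.node (.node (.leaf 1299) (.leaf 3996)) (.node (.leaf 4602) (.leaf 466))))) (.node (.node (.node (.node (.leaf 2786) (.leaf 5269)) (.node (.leaf 1143) (.leaf 3972))) (.node (.node (.leaf 4553) (.leaf 3017)) (.node (.leaf 1874) (.leaf 1399)))) (.node (.node (.node (.leaf 2226) (.leaf 2569)) (.node (.leaf 5711)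 (.leaf 4583))) (.node (.node (.leaf 183) (.leaf 1052)) (.node (.leaf 4790) (.leaf 4240)))))) (.node (.node (.node (.node (.node (.leaf 5957) (.leaf 4871)) (.node (.leaf 2463) (.leaf 4484))) (.node (.node (.leaf 1625) (.leaf 153)) (.node (.leaf 531) (.leaf 406)))) (.node (.node (.node (.leaf 3131) (.leaf 1928)) (.node (.leaf 5765) (.leaf 5650))) (.node (.node (.leaf 4616) (.leaf 3945)) (.node (.leaf 1093) (.leaf 515))))) (.node (.node (.node (.node (.leaf 1639) (.leaf 26)) (.node (.leaf 2957) (.leaf 5240))) (.node (.node (.leaf 2852) (.leaf 4272)) (.node (.leaf 3661) (.leaf 3483)))) (.node (.node (.node (.leaf 721) (.leaf 1358)) (.node (.leaf 3657) (.leaf 4331))) (.node (.node (.leaf 3526) (.leaf 2320)) (.node (.leaf 2887) (.leaf 449))))))) (.node (.node (.node (.node (.node (.node (.leaf 3641) (.leaf 3564)) (.node (.leaf 5507) (.leaf 5638))) (.node (.node (.leaf 5433) (.leaf 5459)) (.node (.leaf 2422) (.leaf 5355)))) (.node (.node (.node (.leaf 5919) (.leaf 3064)) (.node (.leaf 2962) (.leaf 3364))) (.node (.node (.leaf 1561) (.leaf 3683)) (.node (.leaf 1248) (.leaf 5339)))))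 (.node (.node (.node (.node (.leaf 3034) (.leaf 5294)) (.node (.leaf 194) (.leaf 2194))) (.node (.node (.leaf 2245) (.leaf 5389)) (.node (.leaf 812) (.leaf 3480)))) (.node (.node (.node (.leaf 547) (.leaf 4365)) (.node (.leaf 1110) (.leaf 2044))) (.node (.node (.leaf 3315) (.leaf 4979)) (.node (.leaf 4914) (.leaf 2541)))))) (.node (.node (.node (.node (.node (.leaf 3933) (.leaf 3232)) (.node (.leaf 1658) (.leaf 3567))) (.node (.node (.leaf 5351) (.leaf 4593)) (.node (.leaf 4393) (.leaf 2324)))) (.node (.node (.node (.leaf 1615) (.leaf 4074)) (.node (.leaf 2539) (.leaf 461))) (.node (.node (.leaf 1727) (.leaf 2941)) (.node (.leaf 1105) (.leaf 5001))))) (.node (.node (.node (.node (.leaf 240) (.leaf 5071)) (.node (.leaf 4109) (.leaf 4937))) (.node (.node (.leaf 4313) (.leaf 613)) (.node (.leaf 582) (.leaf 3203)))) (.node (.node (.node (.leaf 2843) (.leaf 2625)) (.node (.leaf 5684) (.leaf 3055))) (.node (.node (.leaf 3375) (.leaf 463)) (.node (.leaf 917) (.leaf 1764))))))))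

def k4Srt_4 : H52.TCert.Tr := .node (.node (.node (.node (.node (.node (.node (.node (.leaf 800) (.leaf 3271)) (.node (.leaf 1446) (.leaf 232))) (.node (.node (.leaf 1896) (.leaf 4708)) (.node (.leaf 2774) (.leaf 1031)))) (.node (.node (.node (.leaf 1050) (.leaf 4009)) (.node (.leaf 2654) (.leaf 1634))) (.node (.node (.leaf 899) (.leaf 150)) (.node (.leaf 2886) (.leaf 4723))))) (.node (.node (.node (.node (.leaf 403) (.leaf 4581)) (.node (.leaf 986) (.leaf 5621))) (.node (.node (.leaf 2082) (.leaf 3147)) (.node (.leaf 57) (.leaf 5808)))) (.node (.node (.node (.leaf 873) (.leaf 2077)) (.node (.leaf 3637) (.leaf 4062))) (.node (.node (.leaf 4522) (.leaf 2590)) (.node (.leaf 1357) (.leaf 5521)))))) (.node (.node (.node (.node (.node (.leaf 1106) (.leaf 5113)) (.node (.leaf 5311) (.leaf 2302))) (.node (.node (.leaf 5719) (.leaf 3010)) (.node (.leaf 2134) (.leaf 3394)))) (.node (.node (.node (.leaf 908) (.leaf 5832)) (.node (.leaf 141) (.leaf 2938))) (.node (.node (.leaf 1217) (.leaf 2059)) (.node (.leaf 3380) (.leaf 3467))))) (.node (.node (.node (.node (.leaf 2540) (.leaf 6042))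 (.node (.leaf 2631) (.leaf 4879))) (.node (.node (.leaf 3499) (.leaf 5642)) (.node (.leaf 5857) (.leaf 6039)))) (.node (.node (.node (.leaf 743) (.leaf 1215)) (.node (.leaf 2618) (.leaf 737))) (.node (.node (.leaf 5908) (.leaf 4489)) (.node (.leaf 167) (.leaf 5242))))))) (.node (.node (.node (.node (.node (.node (.leaf 1375) (.leaf 5605)) (.node (.leaf 3145) (.leaf 4198))) (.node (.node (.leaf 5277) (.leaf 993)) (.node (.leaf 4702) (.leaf 3654)))) (.node (.node (.node (.leaf 2588) (.leaf 2556)) (.node (.leaf 1124) (.leaf 3665))) (.node (.node (.leaf 673) (.leaf 2443)) (.node (.leaf 2491) (.leaf 4124))))) (.node (.node (.node (.node (.leaf 4841) (.leaf 3936)) (.node (.leaf 966) (.leaf 5768))) (.node (.node (.leaf 1700) (.leaf 4267)) (.node (.leaf 2665) (.leaf 1039)))) (.node (.node (.node (.leaf 3866) (.leaf 2039)) (.node (.leaf 2234) (.leaf 4850))) (.node (.node (.leaf 3784) (.leaf 1170)) (.node (.leaf 4968) (.leaf 5541)))))) (.node (.node (.node (.node (.node (.leaf 4672) (.leaf 5018)) (.node (.leaf 5186) (.leaf 5849))) (.node (.node (.leaf 816) (.leaf 5904)) (.node (.leaf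 34) (.leaf 2188)))) (.node (.node (.node (.leaf 1362) (.leaf 2308)) (.node (.leaf 4614) (.leaf 3354))) (.node (.node (.leaf 5222) (.leaf 1141)) (.node (.leaf 2905) (.leaf 2567))))) (.node (.node (.node (.node (.leaf 5098) (.leaf 946)) (.node (.leaf 2009) (.leaf 2461))) (.node (.node (.leaf 345) (.leaf 5731)) (.node (.leaf 2486) (.leaf 5011)))) (.node (.node (.node (.leaf 3288) (.leaf 4954)) (.node (.leaf 3887) (.leaf 829))) (.node (.node (.leaf 2710) (.leaf 3213)) (.node (.leaf 1744) (.leaf 767)))))))) (.node (.node (.node (.node (.node (.node (.node (.leaf 757) (.leaf 4034)) (.node (.leaf 2391) (.leaf 5587))) (.node (.node (.leaf 5744) (.leaf 5250)) (.node (.leaf 3417) (.leaf 164)))) (.node (.node (.node (.leaf 2294) (.leaf 3833)) (.node (.leaf 536) (.leaf 182))) (.node (.node (.leaf 5788) (.leaf 1398)) (.node (.leaf 3474) (.leaf 3242))))) (.node (.node (.node (.node (.leaf 1693) (.leaf 1163)) (.node (.leaf 4432) (.leaf 4941))) (.node (.node (.leaf 250) (.leaf 3098)) (.node (.leaf 3647) (.leaf 5775)))) (.node (.node (.node (.leaf 5012) (.leaf 2683)) (.node (.leaf 4210) (.leaf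 951))) (.node (.node (.leaf 1166) (.leaf 696)) (.node (.leaf 4085) (.leaf 2642)))))) (.node (.node (.node (.node (.node (.leaf 1444) (.leaf 4157)) (.node (.leaf 1617) (.leaf 5031))) (.node (.node (.leaf 4067) (.leaf 1273)) (.node (.leaf 3915) (.leaf 2982)))) (.node (.node (.node (.leaf 1848) (.leaf 3549)) (.node (.leaf 936) (.leaf 2154))) (.node (.node (.leaf 631) (.leaf 1320)) (.node (.leaf 5924) (.leaf 399))))) (.node (.node (.node (.node (.leaf 3324) (.leaf 356)) (.node (.leaf 2974) (.leaf 5496))) (.node (.node (.leaf 998) (.leaf 4126)) (.node (.leaf 3222) (.leaf 3968)))) (.node (.node (.node (.leaf 4253) (.leaf 1875)) (.node (.leaf 5101) (.leaf 532))) (.node (.node (.leaf 4542) (.leaf 5198)) (.node (.leaf 4294) (.leaf 2669))))))) (.node (.node (.node (.node (.node (.node (.leaf 1519) (.leaf 5109)) (.node (.leaf 4421) (.leaf 4885))) (.node (.node (.leaf 5073) (.leaf 1325)) (.node (.leaf 4971) (.leaf 2687)))) (.node (.node (.node (.leaf 6046) (.leaf 2674)) (.node (.leaf 393) (.leaf 811))) (.node (.node (.leaf 3791) (.leaf 4791)) (.node (.leaf 339) (.leaf 4231))))) (.node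 (.node (.node (.node (.leaf 1285) (.leaf 4539)) (.node (.leaf 3119) (.leaf 3677))) (.node (.node (.leaf 276) (.leaf 1553)) (.node (.leaf 2688) (.leaf 1352)))) (.node (.node (.node (.leaf 1714) (.leaf 1317)) (.node (.leaf 718) (.leaf 5192))) (.node (.node (.leaf 4134) (.leaf 3074)) (.node (.leaf 4526) (.leaf 290)))))) (.node (.node (.node (.node (.node (.leaf 5874) (.leaf 527)) (.node (.leaf 5585) (.leaf 2848))) (.node (.node (.leaf 4900) (.leaf 4826)) (.node (.leaf 2778) (.leaf 4460)))) (.node (.node (.node (.leaf 5718) (.leaf 3309)) (.node (.leaf 1035) (.leaf 1598))) (.node (.node (.leaf 5696) (.leaf 3387)) (.node (.leaf 4018) (.leaf 1995))))) (.node (.node (.node (.node (.leaf 3589) (.leaf 5319)) (.node (.leaf 3974) (.leaf 5848))) (.node (.node (.leaf 2950) (.leaf 2231)) (.node (.leaf 2004) (.leaf 883)))) (.node (.node (.node (.leaf 4299) (.leaf 5654)) (.node (.leaf 128) (.leaf 5528))) (.node (.node (.leaf 2513) (.leaf 3048)) (.node (.leaf 2992) (.leaf 3087))))))))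

def k4Srt_5 : H52.TCert.Tr := .node (.node (.node (.node (.node (.node (.node (.node (.leaf 3721) (.leaf 3003)) (.node (.leaf 225) (.leaf 858))) (.node (.node (.leaf 5418) (.leaf 1725)) (.node (.leaf 1974) (.leaf 4537)))) (.node (.node (.node (.leaf 50) (.leaf 3504)) (.node (.leaf 329) (.leaf 5782))) (.node (.node (.leaf 1193) (.leaf 979)) (.node (.leaf 5691) (.leaf 2860))))) (.node (.node (.node (.node (.leaf 188) (.leaf 840)) (.node (.leaf 3943) (.leaf 3372))) (.node (.node (.leaf 2733) (.leaf 4024)) (.node (.leaf 3747) (.leaf 4777)))) (.node (.node (.node (.leaf 2022) (.leaf 5929)) (.node (.leaf 3181) (.leaf 2314))) (.node (.node (.leaf 369) (.leaf 2013)) (.node (.leaf 1278) (.leaf 3127)))))) (.node (.node (.node (.node (.node (.leaf 3348) (.leaf 5298)) (.node (.leaf 437) (.leaf 3028))) (.node (.node (.leaf 4038) (.leaf 3249)) (.node (.leaf 1581) (.leaf 73)))) (.node (.node (.node (.leaf 155) (.leaf 2581)) (.node (.leaf 5275) (.leaf 1240))) (.node (.node (.leaf 4370) (.leaf 3861)) (.node (.leaf 3401) (.leaf 3705))))) (.node (.node (.node (.node (.leaf 2086) (.leaf 5792))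 (.node (.leaf 408) (.leaf 2164))) (.node (.node (.leaf 2896) (.leaf 4063)) (.node (.leaf 2837) (.leaf 4128)))) (.node (.node (.node (.leaf 776) (.leaf 2661)) (.node (.leaf 1283) (.leaf 5838))) (.node (.node (.leaf 4549) (.leaf 386)) (.node (.leaf 4555) (.leaf 679))))))) (.node (.node (.node (.node (.node (.node (.leaf 3960) (.leaf 5377)) (.node (.leaf 3796) (.leaf 4039))) (.node (.node (.leaf 1372) (.leaf 1147)) (.node (.leaf 2377) (.leaf 1383)))) (.node (.node (.node (.leaf 2174) (.leaf 692)) (.node (.leaf 1677) (.leaf 331))) (.node (.node (.leaf 2023) (.leaf 1260)) (.node (.leaf 5474) (.leaf 3344))))) (.node (.node (.node (.node (.leaf 5632) (.leaf 5756)) (.node (.leaf 482) (.leaf 4104))) (.node (.node (.leaf 4071) (.leaf 4413)) (.node (.leaf 318) (.leaf 3896)))) (.node (.node (.node (.leaf 3088) (.leaf 107)) (.node (.leaf 1593) (.leaf 3881))) (.node (.node (.leaf 3306) (.leaf 2378)) (.node (.leaf 1551) (.leaf 5033)))))) (.node (.node (.node (.node (.node (.leaf 163) (.leaf 4770)) (.node (.leaf 249) (.leaf 535))) (.node (.node (.leaf 822) (.leaf 3675)) (.node (.leaf 713)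 (.leaf 5195)))) (.node (.node (.node (.leaf 3097) (.leaf 2390)) (.node (.leaf 1796) (.leaf 4229))) (.node (.node (.leaf 5697) (.leaf 4650)) (.node (.leaf 5699) (.leaf 3241))))) (.node (.node (.node (.node (.leaf 5648) (.leaf 4344)) (.node (.leaf 5802) (.leaf 1057))) (.node (.node (.leaf 4901) (.leaf 1436)) (.node (.leaf 2153) (.leaf 1697)))) (.node (.node (.node (.leaf 1599) (.leaf 398)) (.node (.leaf 5964) (.leaf 3911))) (.node (.node (.leaf 1566) (.leaf 950)) (.node (.leaf 4153) (.leaf 5906)))))))) (.node (.node (.node (.node (.node (.node (.node (.leaf 5029) (.leaf 2232)) (.node (.leaf 2297) (.leaf 2645))) (.node (.node (.leaf 5633) (.leaf 2979)) (.node (.leaf 3775) (.leaf 4286)))) (.node (.node (.node (.leaf 457) (.leaf 5426)) (.node (.leaf 1099) (.leaf 4573))) (.node (.node (.leaf 4750) (.leaf 4811)) (.node (.leaf 4680) (.leaf 197))))) (.node (.node (.node (.node (.leaf 3760) (.leaf 1755)) (.node (.leaf 3929) (.leaf 3165))) (.node (.node (.leaf 3497) (.leaf 4453)) (.node (.leaf 5349) (.leaf 2534)))) (.node (.node (.node (.leaf 4584) (.leaf 2382)) (.node (.leaf 825) (.leaf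 1088))) (.node (.node (.leaf 3857) (.leaf 723)) (.node (.leaf 3585) (.leaf 6040)))))) (.node (.node (.node (.node (.node (.leaf 5592) (.leaf 3471)) (.node (.leaf 3818) (.leaf 598))) (.node (.node (.leaf 3356) (.leaf 523)) (.node (.leaf 2524) (.leaf 2814)))) (.node (.node (.node (.leaf 1462) (.leaf 2400)) (.node (.leaf 349) (.leaf 2806))) (.node (.node (.leaf 5881) (.leaf 3156)) (.node (.leaf 3434) (.leaf 5935))))) (.node (.node (.node (.node (.leaf 4168) (.leaf 5369)) (.node (.leaf 4657) (.leaf 3440))) (.node (.node (.leaf 2261) (.leaf 1652)) (.node (.leaf 1011) (.leaf 1390)))) (.node (.node (.node (.leaf 5072) (.leaf 997)) (.node (.leaf 1518) (.leaf 2720))) (.node (.node (.leaf 355) (.leaf 1422)) (.node (.leaf 1936) (.leaf 86))))))) (.node (.node (.node (.node (.node (.node (.leaf 2968) (.leaf 4293)) (.node (.leaf 3664) (.leaf 5969))) (.node (.node (.leaf 4125) (.leaf 4561)) (.node (.leaf 3544) (.leaf 4541)))) (.node (.node (.node (.leaf 3997) (.leaf 5495)) (.node (.leaf 2686) (.leaf 1781))) (.node (.node (.leaf 1760) (.leaf 467)) (.node (.leaf 1324) (.leaf 5138))))) (.node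 (.node (.node (.node (.leaf 156) (.leaf 3920)) (.node (.leaf 1221) (.leaf 655))) (.node (.node (.leaf 4092) (.leaf 4371)) (.node (.leaf 4356) (.leaf 474)))) (.node (.node (.node (.leaf 409) (.leaf 1499)) (.node (.leaf 1558) (.leaf 4587))) (.node (.node (.leaf 4241) (.leaf 4556)) (.node (.leaf 5669) (.leaf 4181)))))) (.node (.node (.node (.node (.node (.leaf 4566) (.leaf 3018)) (.node (.leaf 1241) (.leaf 1901))) (.node (.node (.leaf 2126) (.leaf 3681)) (.node (.leaf 3698) (.leaf 4116)))) (.node (.node (.node (.leaf 4358) (.leaf 574)) (.node (.leaf 4444) (.leaf 3158))) (.node (.node (.leaf 5983) (.leaf 1724)) (.node (.leaf 5912) (.leaf 127))))) (.node (.node (.node (.node (.leaf 3002) (.leaf 2169)) (.node (.leaf 1286) (.leaf 1643))) (.node (.node (.leaf 340) (.leaf 5469)) (.node (.leaf 5851) (.leaf 1192)))) (.node (.node (.node (.leaf 5524) (.leaf 5488)) (.node (.leaf 3123) (.leaf 3781))) (.node (.node (.leaf 2362) (.leaf 3075)) (.node (.leaf 4759) (.leaf 2796))))))))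

def k4Srt_6 : H52.TCert.Tr := .node (.node (.node (.node (.node (.node (.node (.node (.leaf 4111) (.leaf 2721)) (.node (.leaf 4361) (.leaf 2365))) (.node (.node (.leaf 958) (.leaf 47)) (.node (.leaf 4807) (.leaf 5976)))) (.node (.node (.node (.leaf 4691) (.leaf 1394)) (.node (.leaf 2160) (.leaf 1028))) (.node (.node (.leaf 3081) (.leaf 3084)) (.node (.leaf 4455) (.leaf 976))))) (.node (.node (.node (.node (.leaf 5909) (.leaf 468)) (.node (.leaf 578) (.leaf 2511))) (.node (.node (.leaf 5796) (.leaf 1761)) (.node (.leaf 3501) (.leaf 4562)))) (.node (.node (.node (.leaf 5117) (.leaf 2835)) (.node (.leaf 1502) (.leaf 5050))) (.node (.node (.leaf 5990) (.leaf 1481)) (.node (.leaf 1869) (.leaf 4868)))))) (.node (.node (.node (.node (.node (.leaf 4784) (.leaf 3189)) (.node (.leaf 3878) (.leaf 3871))) (.node (.node (.leaf 3777) (.leaf 3366)) (.node (.leaf 3649) (.leaf 4981)))) (.node (.node (.node (.leaf 381) (.leaf 3000)) (.node (.leaf 2248) (.leaf 4218))) (.node (.node (.leaf 384) (.leaf 2224)) (.node (.leaf 646) (.leaf 2701))))) (.node (.node (.node (.node (.leaf 791) (.leaf 3851))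 (.node (.leaf 4535) (.leaf 562))) (.node (.node (.leaf 3624) (.leaf 907)) (.node (.leaf 310) (.leaf 5146)))) (.node (.node (.node (.leaf 5570) (.leaf 1437)) (.node (.leaf 3359) (.leaf 3493))) (.node (.node (.leaf 5695) (.leaf 363)) (.node (.leaf 2615) (.leaf 5560))))))) (.node (.node (.node (.node (.node (.node (.leaf 2057) (.leaf 5504)) (.node (.leaf 3607) (.leaf 5678))) (.node (.node (.leaf 1231) (.leaf 2186)) (.node (.leaf 2215) (.leaf 5310)))) (.node (.node (.node (.leaf 4232) (.leaf 5888)) (.node (.leaf 3682) (.leaf 1247))) (.node (.node (.leaf 2910) (.leaf 3352)) (.node (.leaf 4495) (.leaf 5257))))) (.node (.node (.node (.node (.leaf 5826) (.leaf 2470)) (.node (.leaf 3287) (.leaf 2484))) (.node (.node (.leaf 4458) (.leaf 1559)) (.node (.leaf 944) (.leaf 1863)))) (.node (.node (.node (.leaf 2501) (.leaf 4895)) (.node (.leaf 343) (.leaf 2105))) (.node (.node (.leaf 1999) (.leaf 3725)) (.node (.leaf 1887) (.leaf 5193)))))) (.node (.node (.node (.node (.node (.leaf 5793) (.leaf 909)) (.node (.leaf 3199) (.leaf 2939))) (.node (.node (.leaf 3792) (.leaf 1025)) (.node (.leaf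 2370) (.leaf 4187)))) (.node (.node (.node (.leaf 5593) (.leaf 2303)) (.node (.leaf 1407) (.leaf 173))) (.node (.node (.leaf 1107) (.leaf 1415)) (.node (.leaf 3395) (.leaf 3500))))) (.node (.node (.node (.node (.leaf 1964) (.leaf 4329)) (.node (.leaf 5157) (.leaf 3846))) (.node (.node (.leaf 494) (.leaf 3837)) (.node (.leaf 5044) (.leaf 2016)))) (.node (.node (.node (.leaf 2453) (.leaf 286)) (.node (.leaf 4454) (.leaf 4574))) (.node (.node (.leaf 3439) (.leaf 4598)) (.node (.leaf 1100) (.leaf 6022)))))))) (.node (.node (.node (.node (.node (.node (.node (.leaf 4395) (.leaf 2601)) (.node (.leaf 2535) (.leaf 2218))) (.node (.node (.leaf 5519) (.leaf 621)) (.node (.leaf 1525) (.leaf 6012)))) (.node (.node (.node (.leaf 2210) (.leaf 926)) (.node (.leaf 2813) (.leaf 3930))) (.node (.node (.leaf 2397) (.leaf 5189)) (.node (.leaf 5350) (.leaf 4288))))) (.node (.node (.node (.node (.leaf 4398) (.leaf 5526)) (.node (.leaf 2404) (.leaf 4252))) (.node (.node (.leaf 2816) (.leaf 1825)) (.node (.leaf 1979) (.leaf 3540)))) (.node (.node (.node (.leaf 5327) (.leaf 4599)) (.node (.leaf 5022)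 (.leaf 863))) (.node (.node (.leaf 1342) (.leaf 4596)) (.node (.leaf 982) (.leaf 53)))))) (.node (.node (.node (.node (.node (.leaf 4645) (.leaf 4985)) (.node (.leaf 4481) (.leaf 3160))) (.node (.node (.leaf 5254) (.leaf 2449)) (.node (.leaf 5131) (.leaf 3752)))) (.node (.node (.node (.leaf 2626) (.leaf 5878)) (.node (.leaf 5052) (.leaf 3546))) (.node (.node (.leaf 3056) (.leaf 801)) (.node (.leaf 1032) (.leaf 3272))))) (.node (.node (.node (.node (.leaf 1327) (.leaf 3045)) (.node (.leaf 1897) (.leaf 241))) (.node (.node (.leaf 4820) (.leaf 5847)) (.node (.leaf 5726) (.leaf 3824)))) (.node (.node (.node (.leaf 4603) (.leaf 323)) (.node (.leaf 1015) (.leaf 2725))) (.node (.node (.leaf 4754) (.leaf 3839)) (.node (.leaf 487) (.leaf 213))))))) (.node (.node (.node (.node (.node (.node (.leaf 4610) (.leaf 2889)) (.node (.leaf 1807) (.leaf 2083))) (.node (.node (.leaf 2959) (.leaf 1521)) (.node (.leaf 3491) (.leaf 1361)))) (.node (.node (.node (.leaf 1183) (.leaf 2603)) (.node (.leaf 1409) (.leaf 1296))) (.node (.node (.leaf 486) (.leaf 5767)) (.node (.leaf 3765) (.leaf 4935)))))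 (.node (.node (.node (.node (.leaf 2657) (.leaf 1224)) (.node (.leaf 2527) (.leaf 1255))) (.node (.node (.leaf 1715) (.leaf 3486)) (.node (.leaf 1014) (.leaf 322)))) (.node (.node (.node (.leaf 5836) (.leaf 4965)) (.node (.leaf 2468) (.leaf 3722))) (.node (.node (.leaf 280) (.leaf 1669)) (.node (.leaf 2564) (.leaf 1310)))))) (.node (.node (.node (.node (.node (.leaf 4017) (.leaf 2177)) (.node (.leaf 1136) (.leaf 235))) (.node (.node (.leaf 3206) (.leaf 5667)) (.node (.leaf 1450) (.leaf 5907)))) (.node (.node (.node (.leaf 3505) (.leaf 1924)) (.node (.leaf 4877) (.leaf 6025))) (.node (.node (.leaf 586) (.leaf 2863)) (.node (.leaf 3411) (.leaf 3980))))) (.node (.node (.node (.node (.leaf 3512) (.leaf 569)) (.node (.leaf 914) (.leaf 5100))) (.node (.node (.leaf 4438) (.leaf 1195)) (.node (.leaf 2229) (.leaf 5234)))) (.node (.node (.node (.leaf 5828) (.leaf 4152)) (.node (.leaf 2604) (.leaf 610))) (.node (.node (.leaf 2595) (.leaf 2357)) (.node (.leaf 4899) (.leaf 5762))))))))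

def k4Srt_7 : H52.TCert.Tr := .node (.node (.node (.node (.node (.node (.node (.node (.leaf 1960) (.leaf 2820)) (.node (.leaf 5142) (.leaf 3))) (.node (.node (.leaf 130) (.leaf 2868)) (.node (.leaf 3335) (.leaf 3125)))) (.node (.node (.node (.leaf 5544) (.leaf 921)) (.node (.leaf 231) (.leaf 3822))) (.node (.node (.leaf 4707) (.leaf 4108)) (.node (.leaf 2061) (.leaf 4609))))) (.node (.node (.node (.node (.leaf 4345) (.leaf 462)) (.node (.leaf 2842) (.leaf 1060))) (.node (.node (.leaf 612) (.leaf 3374)) (.node (.leaf 916) (.leaf 2599)))) (.node (.node (.node (.leaf 1290) (.leaf 4277)) (.node (.leaf 4558) (.leaf 3855))) (.node (.node (.leaf 2874) (.leaf 3202)) (.node (.leaf 581) (.leaf 4312)))))) (.node (.node (.node (.node (.node (.leaf 5318) (.leaf 1892)) (.node (.leaf 177) (.leaf 499))) (.node (.node (.leaf 3385) (.leaf 4737)) (.node (.leaf 4010) (.leaf 2988)))) (.node (.node (.node (.leaf 1202) (.leaf 4093)) (.node (.leaf 797) (.leaf 3754))) (.node (.node (.leaf 3827) (.leaf 849)) (.node (.leaf 5202) (.leaf 5505))))) (.node (.node (.node (.node (.leaf 4029) (.leaf 3024))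 (.node (.leaf 4810) (.leaf 3516))) (.node (.node (.leaf 204) (.leaf 879)) (.node (.leaf 5068) (.leaf 3039)))) (.node (.node (.node (.leaf 2249) (.leaf 5798)) (.node (.leaf 5811) (.leaf 3367))) (.node (.node (.leaf 3566) (.leaf 1955)) (.node (.leaf 554) (.leaf 3602))))))) (.node (.node (.node (.node (.node (.node (.leaf 4618) (.leaf 5016)) (.node (.leaf 5948) (.leaf 962))) (.node (.node (.leaf 415) (.leaf 2163)) (.node (.leaf 3588) (.leaf 545)))) (.node (.node (.node (.leaf 1803) (.leaf 1508)) (.node (.leaf 3977) (.leaf 1575))) (.node (.node (.leaf 121) (.leaf 3086)) (.node (.leaf 1045) (.leaf 4912))))) (.node (.node (.node (.node (.leaf 2458) (.leaf 5659)) (.node (.leaf 1009) (.leaf 2929))) (.node (.node (.leaf 304) (.leaf 656)) (.node (.leaf 2393) (.leaf 362)))) (.node (.node (.node (.leaf 2334) (.leaf 785)) (.node (.leaf 5498) (.leaf 1336))) (.node (.node (.leaf 5228) (.leaf 4186)) (.node (.leaf 3153) (.leaf 2690)))))) (.node (.node (.node (.node (.node (.leaf 566) (.leaf 1909)) (.node (.leaf 2795) (.leaf 2056))) (.node (.node (.leaf 758) (.leaf 4633)) (.node (.leaf 538)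 (.leaf 1500)))) (.node (.node (.node (.leaf 435) (.leaf 3180)) (.node (.leaf 4037) (.leaf 1377))) (.node (.node (.leaf 4606) (.leaf 2482)) (.node (.leaf 4195) (.leaf 186))))) (.node (.node (.node (.node (.leaf 5345) (.leaf 5817)) (.node (.leaf 4688) (.leaf 3825))) (.node (.node (.leaf 5604) (.leaf 3815)) (.node (.leaf 1245) (.leaf 1861)))) (.node (.node (.node (.leaf 5868) (.leaf 5588)) (.node (.leaf 1579) (.leaf 1276))) (.node (.node (.leaf 5623) (.leaf 2205)) (.node (.leaf 217) (.leaf 1944)))))))) (.node (.node (.node (.node (.node (.node (.node (.leaf 1056) (.leaf 867)) (.node (.leaf 4506) (.leaf 4330))) (.node (.node (.leaf 3290) (.leaf 142)) (.node (.leaf 4644) (.leaf 1983)))) (.node (.node (.node (.leaf 981) (.leaf 2908)) (.node (.leaf 5262) (.leaf 5088))) (.node (.node (.leaf 3740) (.leaf 4763)) (.node (.leaf 862) (.leaf 1978))))) (.node (.node (.node (.node (.leaf 3011) (.leaf 3753)) (.node (.leaf 3751) (.leaf 52))) (.node (.node (.leaf 5375) (.leaf 4141)) (.node (.leaf 3350) (.leaf 2102)))) (.node (.node (.node (.leaf 2353) (.leaf 4781)) (.node (.leaf 1119) (.leaf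 5270))) (.node (.node (.leaf 2395) (.leaf 2946)) (.node (.leaf 3446) (.leaf 5141)))))) (.node (.node (.node (.node (.node (.leaf 2440) (.leaf 760)) (.node (.leaf 1338) (.leaf 4412))) (.node (.node (.leaf 540) (.leaf 87)) (.node (.leaf 3804) (.leaf 2822)))) (.node (.node (.node (.leaf 2691) (.leaf 253)) (.node (.leaf 3557) (.leaf 2140))) (.node (.node (.leaf 5997) (.leaf 4637)) (.node (.leaf 1084) (.leaf 5571))))) (.node (.node (.node (.node (.leaf 4475) (.leaf 2331)) (.node (.leaf 3432) (.leaf 602))) (.node (.node (.leaf 4887) (.leaf 3612)) (.node (.leaf 1496) (.leaf 1608)))) (.node (.node (.node (.leaf 3955) (.leaf 669)) (.node (.leaf 990) (.leaf 2201))) (.node (.node (.leaf 1629) (.leaf 2805)) (.node (.leaf 1880) (.leaf 4100))))))) (.node (.node (.node (.node (.node (.node (.leaf 4408) (.leaf 5987)) (.node (.leaf 2123) (.leaf 3328))) (.node (.node (.leaf 5004) (.leaf 5630)) (.node (.leaf 650) (.leaf 4172)))) (.node (.node (.node (.leaf 845) (.leaf 4376)) (.node (.leaf 1226) (.leaf 5079))) (.node (.node (.leaf 5124) (.leaf 5170)) (.node (.leaf 421) (.leaf 4478))))) (.node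 (.node (.node (.node (.leaf 5954) (.leaf 2737)) (.node (.leaf 1809) (.leaf 4247))) (.node (.node (.leaf 4762) (.leaf 4188)) (.node (.leaf 5007) (.leaf 5451)))) (.node (.node (.node (.leaf 666) (.leaf 2973)) (.node (.leaf 4166) (.leaf 3989))) (.node (.node (.leaf 2277) (.leaf 4643)) (.node (.leaf 3750) (.leaf 1736)))))) (.node (.node (.node (.node (.node (.leaf 160) (.leaf 609)) (.node (.leaf 246) (.leaf 4464))) (.node (.node (.leaf 5598) (.leaf 3733)) (.node (.leaf 804) (.leaf 3511)))) (.node (.node (.node (.leaf 357) (.leaf 913)) (.node (.leaf 1341) (.leaf 2008))) (.node (.node (.leaf 2956) (.leaf 2356)) (.node (.leaf 4022) (.leaf 5255))))) (.node (.node (.node (.node (.leaf 2898) (.leaf 3709)) (.node (.leaf 5943) (.leaf 3357))) (.node (.node (.leaf 6009) (.leaf 5383)) (.node (.leaf 5516) (.leaf 5049)))) (.node (.node (.node (.leaf 912) (.leaf 4021)) (.node (.leaf 5143) (.leaf 570))) (.node (.node (.leaf 1961) (.leaf 2596)) (.node (.leaf 131) (.leaf 4463))))))))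

def k4Srt_8 : H52.TCert.Tr := .node (.node (.node (.node (.node (.node (.node (.node (.leaf 4) (.leaf 568)) (.node (.leaf 5668) (.leaf 2007))) (.node (.node (.leaf 1196) (.leaf 1340)) (.node (.leaf 611) (.leaf 3513)))) (.node (.node (.node (.leaf 3732) (.leaf 5783)) (.node (.leaf 5714) (.leaf 2358))) (.node (.node (.leaf 915) (.leaf 4706)) (.node (.leaf 2955) (.leaf 2355))))) (.node (.node (.node (.node (.leaf 5040) (.leaf 2096)) (.node (.leaf 3121) (.leaf 1297))) (.node (.node (.leaf 2148) (.leaf 2781)) (.node (.leaf 2325) (.leaf 771)))) (.node (.node (.node (.leaf 4851) (.leaf 4136)) (.node (.leaf 5887) (.leaf 3533))) (.node (.node (.leaf 11) (.leaf 5144)) (.node (.leaf 2694) (.leaf 2181)))))) (.node (.node (.node (.node (.node (.leaf 3284) (.leaf 2265)) (.node (.leaf 262) (.leaf 1718))) (.node (.node (.leaf 3236) (.leaf 2338)) (.node (.leaf 5308) (.leaf 1186)))) (.node (.node (.node (.leaf 1696) (.leaf 1965)) (.node (.leaf 174) (.leaf 2017))) (.node (.node (.leaf 949) (.leaf 5531)) (.node (.leaf 3774) (.leaf 4467))))) (.node (.node (.node (.node (.leaf 495) (.leaf 3458))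 (.node (.leaf 2644) (.leaf 2371))) (.node (.node (.leaf 5449) (.leaf 3847)) (.node (.leaf 1565) (.leaf 1416)))) (.node (.node (.node (.leaf 5028) (.leaf 3893)) (.node (.leaf 397) (.leaf 2296))) (.node (.node (.leaf 5237) (.leaf 3514)) (.node (.leaf 3793) (.leaf 1435))))))) (.node (.node (.node (.node (.node (.node (.leaf 5087) (.leaf 3349)) (.node (.leaf 1949) (.leaf 6026))) (.node (.node (.leaf 3999) (.leaf 861)) (.node (.leaf 51) (.leaf 2447)))) (.node (.node (.node (.leaf 2067) (.leaf 5021)) (.node (.leaf 1055) (.leaf 507))) (.node (.node (.leaf 5374) (.leaf 795)) (.node (.leaf 5475) (.leaf 5514))))) (.node (.node (.node (.node (.leaf 3667) (.leaf 2559)) (.node (.leaf 5092) (.leaf 18))) (.node (.node (.leaf 980) (.leaf 2101)) (.node (.leaf 5326) (.leaf 3319)))) (.node (.node (.node (.leaf 5674) (.leaf 430)) (.node (.leaf 5395) (.leaf 4665))) (.node (.node (.leaf 4816) (.leaf 3615)) (.node (.leaf 1912) (.leaf 1469)))))) (.node (.node (.node (.node (.node (.leaf 1113) (.leaf 3461)) (.node (.leaf 3079) (.leaf 5730))) (.node (.node (.leaf 606) (.leaf 4894)) (.node (.leaf 4905)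 (.leaf 1301)))) (.node (.node (.node (.leaf 3783) (.leaf 3100)) (.node (.leaf 2545) (.leaf 1402))) (.node (.node (.leaf 4144) (.leaf 731)) (.node (.leaf 1837) (.leaf 2434))))) (.node (.node (.node (.node (.leaf 5804) (.leaf 4866)) (.node (.leaf 1569) (.leaf 3891))) (.node (.node (.leaf 2410) (.leaf 402)) (.node (.leaf 4884) (.leaf 3183)))) (.node (.node (.node (.leaf 3870) (.leaf 3925)) (.node (.leaf 954) (.leaf 1207))) (.node (.node (.leaf 351) (.leaf 2291)) (.node (.leaf 1478) (.leaf 3735)))))))) (.node (.node (.node (.node (.node (.node (.node (.leaf 4383) (.leaf 2053)) (.node (.leaf 2157) (.leaf 5897))) (.node (.node (.leaf 5778) (.leaf 1535)) (.node (.leaf 1160) (.leaf 1690)))) (.node (.node (.node (.leaf 3706) (.leaf 1017)) (.node (.leaf 359) (.leaf 5607))) (.node (.node (.leaf 1410) (.leaf 1751)) (.node (.leaf 680) (.leaf 2090))))) (.node (.node (.node (.node (.leaf 489) (.leaf 2717)) (.node (.leaf 777) (.leaf 325))) (.node (.node (.leaf 3862) (.leaf 5276)) (.node (.leaf 4611) (.leaf 3841)))) (.node (.node (.node (.leaf 2662) (.leaf 2165)) (.node (.leaf 2582) (.leaf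 3537))) (.node (.node (.leaf 5185) (.leaf 4756)) (.node (.leaf 4974) (.leaf 2455)))))) (.node (.node (.node (.node (.node (.leaf 3033) (.leaf 3875)) (.node (.leaf 224) (.leaf 4719))) (.node (.node (.leaf 193) (.leaf 2244)) (.node (.leaf 3479) (.leaf 4435)))) (.node (.node (.node (.leaf 5293) (.leaf 3092)) (.node (.leaf 2439) (.leaf 1116))) (.node (.node (.leaf 1649) (.leaf 857)) (.node (.leaf 2584) (.leaf 1938))))) (.node (.node (.node (.node (.leaf 2203) (.leaf 1306)) (.node (.leaf 684) (.leaf 3810))) (.node (.node (.leaf 5872) (.leaf 1856)) (.node (.leaf 2741) (.leaf 2421)))) (.node (.node (.node (.leaf 2018) (.leaf 4027)) (.node (.leaf 175) (.leaf 1417))) (.node (.node (.leaf 5440) (.leaf 3246)) (.node (.leaf 1865) (.leaf 5268))))))) (.node (.node (.node (.node (.node (.node (.leaf 1026) (.leaf 2911)) (.node (.leaf 3794) (.leaf 1109))) (.node (.node (.leaf 170) (.leaf 1512)) (.node (.leaf 2305) (.leaf 266)))) (.node (.node (.node (.leaf 2493) (.leaf 3397)) (.node (.leaf 911) (.leaf 5958))) (.node (.node (.leaf 2107) (.leaf 2372)) (.node (.leaf 3201) (.leaf 2136))))) (.node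 (.node (.node (.node (.leaf 1882) (.leaf 2431)) (.node (.leaf 428) (.leaf 3301))) (.node (.node (.leaf 99) (.leaf 3168)) (.node (.leaf 4511) (.leaf 5814)))) (.node (.node (.node (.leaf 374) (.leaf 1789)) (.node (.leaf 4249) (.leaf 3560))) (.node (.node (.leaf 5000) (.leaf 4159)) (.node (.leaf 2827) (.leaf 5972)))))) (.node (.node (.node (.node (.node (.leaf 2252) (.leaf 3071)) (.node (.leaf 5821) (.leaf 2222))) (.node (.node (.leaf 3298) (.leaf 5412)) (.node (.leaf 4546) (.leaf 5747)))) (.node (.node (.node (.leaf 618) (.leaf 3443)) (.node (.leaf 5338) (.leaf 5149))) (.node (.node (.leaf 5595) (.leaf 4402)) (.node (.leaf 923) (.leaf 2063))))) (.node (.node (.node (.node (.leaf 1292) (.leaf 2876)) (.node (.leaf 91) (.leaf 3823))) (.node (.node (.leaf 2385) (.leaf 5432)) (.node (.leaf 4731) (.leaf 2552)))) (.node (.node (.node (.leaf 1121) (.leaf 3563)) (.node (.leaf 2243) (.leaf 3363))) (.node (.node (.leaf 5388) (.leaf 5292)) (.node (.leaf 4928) (.leaf 750))))))))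

def k4Srt_9 : H52.TCert.Tr := .node (.node (.node (.node (.node (.node (.node (.node (.leaf 792) (.leaf 2649)) (.node (.leaf 4048) (.leaf 2386))) (.node (.node (.leaf 5840) (.leaf 6000)) (.node (.leaf 311) (.leaf 690)))) (.node (.node (.node (.leaf 5156) (.leaf 3197)) (.node (.leaf 752) (.leaf 5512))) (.node (.node (.leaf 2034) (.leaf 4730)) (.node (.leaf 2346) (.leaf 5927))))) (.node (.node (.node (.node (.leaf 3393) (.leaf 1010)) (.node (.leaf 3155) (.leaf 1818))) (.node (.node (.leaf 5444) (.leaf 2216)) (.node (.leaf 4836) (.leaf 4167)))) (.node (.node (.node (.leaf 2074) (.leaf 2542)) (.node (.leaf 2678) (.leaf 6033))) (.node (.node (.leaf 4594) (.leaf 1659)) (.node (.leaf 5946) (.leaf 5576)))))) (.node (.node (.node (.node (.node (.leaf 2671) (.leaf 2812)) (.node (.leaf 3790) (.leaf 1728))) (.node (.node (.leaf 3438) (.leaf 1616)) (.node (.leaf 2894) (.leaf 3316)))) (.node (.node (.node (.leaf 870) (.leaf 4394)) (.node (.leaf 808) (.leaf 1180))) (.node (.node (.leaf 1631) (.leaf 1314)) (.node (.leaf 3704) (.leaf 1712))))) (.node (.node (.node (.node (.leaf 2221) (.leaf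 391)) (.node (.leaf 2732) (.leaf 81))) (.node (.node (.leaf 1350) (.leaf 5746)) (.node (.leaf 2270) (.leaf 5705)))) (.node (.node (.node (.leaf 4265) (.leaf 5549)) (.node (.leaf 5854) (.leaf 3598))) (.node (.node (.leaf 368) (.leaf 125)) (.node (.leaf 1932) (.leaf 3257))))))) (.node (.node (.node (.node (.node (.node (.leaf 274) (.leaf 4120)) (.node (.leaf 5129) (.leaf 839))) (.node (.node (.leaf 3138) (.leaf 426)) (.node (.leaf 1830) (.leaf 2429)))) (.node (.node (.node (.leaf 3937) (.leaf 2736)) (.node (.leaf 1171) (.leaf 2276))) (.node (.node (.leaf 1735) (.leaf 5078)) (.node (.leaf 3112) (.leaf 844))))) (.node (.node (.node (.node (.leaf 3953) (.leaf 1701)) (.node (.leaf 5450) (.leaf 1426))) (.node (.node (.leaf 4859) (.leaf 5123)) (.node (.leaf 5500) (.leaf 5055)))) (.node (.node (.node (.leaf 665) (.leaf 3749)) (.node (.leaf 2972) (.leaf 1040))) (.node (.node (.leaf 4842) (.leaf 4132)) (.node (.leaf 4761) (.leaf 3988)))))) (.node (.node (.node (.node (.node (.leaf 1981) (.leaf 1515)) (.node (.leaf 3399) (.leaf 4504))) (.node (.node (.leaf 4508) (.leaf 2496)) (.node (.leaf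 5312) (.leaf 2504)))) (.node (.node (.node (.leaf 4492) (.leaf 2965)) (.node (.leaf 5378) (.leaf 5555))) (.node (.node (.leaf 5485) (.leaf 4627)) (.node (.leaf 4006) (.leaf 2110))))) (.node (.node (.node (.node (.leaf 2659) (.leaf 1251)) (.node (.leaf 5226) (.leaf 5354))) (.node (.node (.leaf 865) (.leaf 2197)) (.node (.leaf 269) (.leaf 3293)))) (.node (.node (.node (.leaf 1601) (.leaf 5356)) (.node (.leaf 5460) (.leaf 105))) (.node (.node (.leaf 1795) (.leaf 2195)) (.node (.leaf 282) (.leaf 4423)))))))) (.node (.node (.node (.node (.node (.node (.node (.leaf 3311) (.leaf 5723)) (.node (.leaf 5639) (.leaf 4527))) (.node (.node (.leaf 1916) (.leaf 1591)) (.node (.leaf 3065) (.leaf 4497)))) (.node (.node (.node (.leaf 4855) (.leaf 4800)) (.node (.leaf 5947) (.leaf 5197))) (.node (.node (.leaf 3684) (.leaf 1562)) (.node (.leaf 813) (.leaf 5187))))) (.node (.node (.node (.node (.leaf 2949) (.leaf 4237)) (.node (.leaf 4324) (.leaf 4057))) (.node (.node (.leaf 3627) (.leaf 4878)) (.node (.leaf 641) (.leaf 4353)))) (.node (.node (.node (.leaf 257) (.leaf 4363)) (.node (.leaf 2143)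 (.leaf 3625))) (.node (.node (.leaf 3466) (.leaf 2058)) (.node (.leaf 1216) (.leaf 443)))))) (.node (.node (.node (.node (.node (.leaf 1001) (.leaf 2630)) (.node (.leaf 4638) (.leaf 3559))) (.node (.node (.leaf 6020) (.leaf 140)) (.node (.leaf 3173) (.leaf 5643)))) (.node (.node (.node (.leaf 1164) (.leaf 5287)) (.node (.leaf 431) (.leaf 1114))) (.node (.node (.leaf 4817) (.leaf 2546)) (.node (.leaf 4309) (.leaf 4319))))) (.node (.node (.node (.node (.leaf 4792) (.leaf 1302)) (.node (.leaf 1839) (.leaf 5815))) (.node (.node (.leaf 4250) (.leaf 1913)) (.node (.leaf 2681) (.leaf 1694)))) (.node (.node (.node (.leaf 2770) (.leaf 2839)) (.node (.leaf 1318) (.leaf 2295))) (.node (.node (.leaf 5960) (.leaf 732)) (.node (.leaf 2675) (.leaf 4906))))))) (.node (.node (.node (.node (.node (.node (.leaf 1492) (.leaf 5184)) (.node (.leaf 1661) (.leaf 334))) (.node (.node (.leaf 4896) (.leaf 608)) (.node (.leaf 1471) (.leaf 3726)))) (.node (.node (.node (.leaf 1250) (.leaf 3836)) (.node (.leaf 3378) (.leaf 5536))) (.node (.node (.leaf 3600) (.leaf 1672)) (.node (.leaf 1404) (.leaf 2658)))))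 (.node (.node (.node (.node (.leaf 3616) (.leaf 2920)) (.node (.leaf 2964) (.leaf 2000))) (.node (.node (.leaf 3398) (.leaf 4849)) (.node (.leaf 1641) (.leaf 4713)))) (.node (.node (.node (.leaf 5381) (.leaf 2895)) (.node (.leaf 336) (.leaf 2075))) (.node (.node (.leaf 3728) (.leaf 2679)) (.node (.leaf 1632) (.leaf 1315)))))) (.node (.node (.node (.node (.node (.leaf 809) (.leaf 520)) (.node (.leaf 871) (.leaf 2672))) (.node (.node (.leaf 4897) (.leaf 346)) (.node (.leaf 5679) (.leaf 3507)))) (.node (.node (.node (.leaf 2487) (.leaf 4715)) (.node (.leaf 2002) (.leaf 3140))) (.node (.node (.leaf 4428) (.leaf 5230)) (.node (.leaf 1181) (.leaf 5407))))) (.node (.node (.node (.node (.leaf 5624) (.leaf 2024)) (.node (.leaf 1787) (.leaf 1373))) (.node (.node (.leaf 4998) (.leaf 2916)) (.node (.leaf 896) (.leaf 4873)))) (.node (.node (.node (.leaf 2115) (.leaf 3961)) (.node (.leaf 5176) (.leaf 5066))) (.node (.node (.leaf 4105) (.leaf 1261)) (.node (.leaf 4040) (.leaf 2239))))))))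

def k4Srt_10 : H52.TCert.Tr := .node (.node (.node (.node (.node (.node (.node (.node (.leaf 97) (.leaf 2175)) (.node (.leaf 3897) (.leaf 2425))) (.node (.node (.leaf 5134) (.leaf 1384)) (.node (.leaf 4630) (.leaf 5174)))) (.node (.node (.node (.leaf 2977) (.leaf 3384)) (.node (.leaf 2036) (.leaf 4724))) (.node (.node (.leaf 4050) (.leaf 1051)) (.node (.leaf 5858) (.leaf 754))))) (.node (.node (.node (.node (.leaf 4301) (.leaf 4004)) (.node (.leaf 3638) (.leaf 5911))) (.node (.node (.leaf 2935) (.leaf 404)) (.node (.leaf 3772) (.leaf 3580)))) (.node (.node (.node (.leaf 5739) (.leaf 5448)) (.node (.leaf 5201) (.leaf 151))) (.node (.node (.leaf 4551) (.leaf 58)) (.node (.leaf 3016) (.leaf 1431)))))) (.node (.node (.node (.node (.node (.leaf 919) (.leaf 943)) (.node (.leaf 3210) (.leaf 5153))) (.node (.node (.leaf 615) (.leaf 5393)) (.node (.leaf 806) (.leaf 3148)))) (.node (.node (.node (.leaf 377) (.leaf 3787)) (.node (.leaf 5538) (.leaf 4433))) (.node (.node (.leaf 3885) (.leaf 828)) (.node (.leaf 2830) (.leaf 3391))))) (.node (.node (.node (.node (.leaf 4745) (.leaf 902))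 (.node (.leaf 465) (.leaf 1178))) (.node (.node (.leaf 2597) (.leaf 1708)) (.node (.leaf 3303) (.leaf 4560)))) (.node (.node (.node (.leaf 3404) (.leaf 1380)) (.node (.leaf 3886) (.leaf 4664))) (.node (.node (.leaf 5305) (.leaf 2100)) (.node (.leaf 2831) (.leaf 5086))))))) (.node (.node (.node (.node (.node (.node (.leaf 4955) (.leaf 699)) (.node (.leaf 3687) (.leaf 3304))) (.node (.node (.leaf 4822) (.leaf 1054)) (.node (.leaf 2751) (.leaf 3211)))) (.node (.node (.node (.leaf 4548) (.leaf 378)) (.node (.leaf 4654) (.leaf 220))) (.node (.node (.leaf 591) (.leaf 3207)) (.node (.leaf 1832) (.leaf 1454))))) (.node (.node (.node (.node (.leaf 2613) (.leaf 5333)) (.node (.leaf 3693) (.leaf 1229))) (.node (.node (.leaf 3879) (.leaf 5932)) (.node (.leaf 3025) (.leaf 2696)))) (.node (.node (.node (.leaf 881) (.leaf 710)) (.node (.leaf 2986) (.leaf 1549))) (.node (.node (.leaf 1969) (.leaf 4031)) (.node (.leaf 2184) (.leaf 4944)))))) (.node (.node (.node (.node (.node (.leaf 5239) (.leaf 3492)) (.node (.leaf 5749) (.leaf 179))) (.node (.node (.leaf 1992) (.leaf 4226)) (.node (.leaf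 819) (.leaf 3673)))) (.node (.node (.node (.leaf 3296) (.leaf 5405)) (.node (.leaf 501) (.leaf 5218))) (.node (.node (.leaf 1819) (.leaf 5653)) (.node (.leaf 1335) (.leaf 748))))) (.node (.node (.node (.node (.leaf 5754) (.leaf 5937)) (.node (.leaf 5372) (.leaf 5252))) (.node (.node (.leaf 2859) (.leaf 3476)) (.node (.leaf 4510) (.leaf 5046)))) (.node (.node (.node (.leaf 851) (.leaf 4251)) (.node (.leaf 296) (.leaf 1821))) (.node (.node (.leaf 2383) (.leaf 4741)) (.node (.leaf 1204) (.leaf 2647)))))))) (.node (.node (.node (.node (.node (.node (.node (.leaf 4681) (.leaf 3658)) (.node (.leaf 2200) (.leaf 1628))) (.node (.node (.leaf 826) (.leaf 4194)) (.node (.leaf 3166) (.leaf 724)))) (.node (.node (.node (.leaf 4585) (.leaf 4099)) (.node (.leaf 4812) (.leaf 601))) (.node (.node (.leaf 1465) (.leaf 4350)) (.node (.leaf 3884) (.leaf 3576))))) (.node (.node (.node (.node (.leaf 5986) (.leaf 198)) (.node (.leaf 1879) (.leaf 3327))) (.node (.node (.leaf 3611) (.leaf 1666)) (.node (.leaf 4710) (.leaf 5199)))) (.node (.node (.node (.leaf 5885) (.leaf 4118)) (.node (.leaf 1719)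 (.leaf 2131))) (.node (.node (.leaf 3700) (.leaf 2049)) (.node (.leaf 2651) (.leaf 5740)))))) (.node (.node (.node (.node (.node (.leaf 1903) (.leaf 5985)) (.node (.leaf 1187) (.leaf 5818))) (.node (.node (.leaf 4567) (.leaf 1298)) (.node (.leaf 475) (.leaf 587)))) (.node (.node (.node (.leaf 3921) (.leaf 2388)) (.node (.leaf 4947) (.leaf 4635))) (.node (.node (.leaf 755) (.leaf 2037)) (.node (.leaf 4005) (.leaf 1451))))) (.node (.node (.node (.node (.leaf 2566) (.leaf 4669)) (.node (.leaf 3717) (.leaf 1926))) (.node (.node (.leaf 1083) (.leaf 1175)) (.node (.leaf 1138) (.leaf 5221)))) (.node (.node (.node (.leaf 3803) (.leaf 3556)) (.node (.leaf 1705) (.leaf 658))) (.node (.node (.leaf 3939) (.leaf 2283)) (.node (.leaf 5429) (.leaf 2864))))))) (.node (.node (.node (.node (.node (.node (.leaf 3495) (.leaf 2945)) (.node (.leaf 3992) (.leaf 252))) (.node (.node (.leaf 4589) (.leaf 3593)) (.node (.leaf 4571) (.leaf 3116)))) (.node (.node (.node (.leaf 4500) (.leaf 3221)) (.node (.leaf 971) (.leaf 3422))) (.node (.node (.leaf 5581) (.leaf 2760)) (.node (.leaf 1065) (.leaf 3258)))))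 (.node (.node (.node (.node (.leaf 4386) (.leaf 4819)) (.node (.leaf 5408) (.leaf 2256))) (.node (.node (.leaf 2748) (.leaf 61)) (.node (.leaf 2519) (.leaf 553)))) (.node (.node (.node (.leaf 5482) (.leaf 5776)) (.node (.leaf 989) (.leaf 2764))) (.node (.node (.leaf 39) (.leaf 2507)) (.node (.leaf 1006) (.leaf 212)))))) (.node (.node (.node (.node (.node (.leaf 2312) (.leaf 2823)) (.node (.leaf 5550) (.leaf 4775))) (.node (.node (.leaf 3133) (.leaf 3371)) (.node (.leaf 1095) (.leaf 1772)))) (.node (.node (.node (.leaf 71) (.leaf 3947)) (.node (.leaf 4615) (.leaf 3253))) (.node (.node (.leaf 2530) (.leaf 4590)) (.node (.leaf 1967) (.leaf 4297))))) (.node (.node (.node (.node (.leaf 2571) (.leaf 2984)) (.node (.leaf 659) (.leaf 1366))) (.node (.node (.leaf 4026) (.leaf 2321)) (.node (.leaf 4923) (.leaf 451)))) (.node (.node (.node (.leaf 3464) (.leaf 4255)) (.node (.leaf 1602) (.leaf 106))) (.node (.node (.leaf 1592) (.leaf 2976)) (.node (.leaf 5194) (.leaf 1429))))))))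

def k4Srt_11 : H52.TCert.Tr := .node (.node (.node (.node (.node (.node (.node (.node (.leaf 5112) (.leaf 2359)) (.node (.leaf 5111) (.leaf 5930))) (.node (.node (.leaf 5171) (.leaf 4856)) (.node (.leaf 4528) (.leaf 283)))) (.node (.node (.node (.leaf 3305) (.leaf 4424)) (.node (.leaf 571) (.leaf 4254))) (.node (.node (.leaf 3312) (.leaf 5663)) (.node (.leaf 3223) (.leaf 1917))))) (.node (.node (.node (.node (.leaf 133) (.leaf 6)) (.node (.leaf 1424) (.leaf 4465))) (.node (.node (.leaf 2970) (.leaf 5430)) (.node (.leaf 136) (.leaf 3254)))) (.node (.node (.node (.leaf 2266) (.leaf 1963)) (.node (.leaf 3948) (.leaf 2726))) (.node (.node (.leaf 1312) (.leaf 1198)) (.node (.leaf 3656) (.leaf 4872)))))) (.node (.node (.node (.node (.node (.leaf 5902) (.leaf 3006)) (.node (.leaf 3596) (.leaf 3134))) (.node (.node (.leaf 3986) (.leaf 3660)) (.node (.leaf 5789) (.leaf 1956)))) (.node (.node (.node (.leaf 1094) (.leaf 668)) (.node (.leaf 2015) (.leaf 3132))) (.node (.node (.leaf 1966) (.leaf 3946)) (.node (.leaf 1738) (.leaf 3252))))) (.node (.node (.node (.node (.leaf 1428) (.leaf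 4733)) (.node (.leaf 4054) (.leaf 5266))) (.node (.node (.leaf 5158) (.leaf 2529)) (.node (.leaf 450) (.leaf 2983)))) (.node (.node (.node (.leaf 4025) (.leaf 1534)) (.node (.leaf 3924) (.leaf 4343))) (.node (.node (.leaf 4273) (.leaf 2052)) (.node (.leaf 5238) (.leaf 4205))))))) (.node (.node (.node (.node (.node (.node (.leaf 1510) (.leaf 5737)) (.node (.leaf 2828) (.leaf 3578))) (.node (.node (.leaf 5486) (.leaf 5823)) (.node (.leaf 5993) (.leaf 3072)))) (.node (.node (.node (.leaf 2909) (.leaf 375)) (.node (.leaf 3633) (.leaf 2253))) (.node (.node (.leaf 1790) (.leaf 4547)) (.node (.leaf 100) (.leaf 1885))))) (.node (.node (.node (.node (.leaf 5303) (.leaf 5224)) (.node (.leaf 4162) (.leaf 5518))) (.node (.node (.leaf 69) (.leaf 1770)) (.node (.leaf 2103) (.leaf 3299)))) (.node (.node (.node (.leaf 111) (.leaf 1585)) (.node (.leaf 1501) (.leaf 2394))) (.node (.node (.leaf 3320) (.leaf 5229)) (.node (.leaf 444) (.leaf 4634)))))) (.node (.node (.node (.node (.node (.leaf 1826) (.leaf 759)) (.node (.leaf 4880) (.leaf 3873))) (.node (.node (.leaf 5140) (.leaf 3184)) (.node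 (.leaf 1798) (.leaf 567)))) (.node (.node (.node (.leaf 1337) (.leaf 2930)) (.node (.leaf 657) (.leaf 4588))) (.node (.node (.leaf 5794) (.leaf 4238)) (.node (.leaf 539) (.leaf 352))))) (.node (.node (.node (.node (.leaf 1491) (.leaf 2119)) (.node (.leaf 1158) (.leaf 1732))) (.node (.node (.leaf 4721) (.leaf 248)) (.node (.leaf 730) (.leaf 821)))) (.node (.node (.node (.leaf 4660) (.leaf 534)) (.node (.leaf 4228) (.leaf 3880))) (.node (.node (.leaf 4649) (.leaf 5608)) (.node (.leaf 2389) (.leaf 5915)))))))) (.node (.node (.node (.node (.node (.node (.node (.leaf 3096) (.leaf 5286)) (.node (.leaf 4081) (.leaf 162))) (.node (.node (.leaf 712) (.leaf 1686)) (.node (.leaf 1532) (.leaf 756)))) (.node (.node (.node (.leaf 638) (.leaf 4362)) (.node (.leaf 2643) (.leaf 3295))) (.node (.node (.leaf 400) (.leaf 4523)) (.node (.leaf 5013) (.leaf 2677))))) (.node (.node (.node (.node (.leaf 5963) (.leaf 1791)) (.node (.leaf 1618) (.leaf 5634))) (.node (.node (.leaf 1321) (.leaf 101)) (.node (.leaf 254) (.leaf 1584)))) (.node (.node (.node (.leaf 5534) (.leaf 2947)) (.node (.leaf 440)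 (.leaf 952))) (.node (.node (.leaf 2155) (.leaf 2684)) (.node (.leaf 1167) (.leaf 1567)))))) (.node (.node (.node (.node (.node (.leaf 4782) (.leaf 4696)) (.node (.leaf 1891) (.leaf 2740))) (.node (.node (.leaf 94) (.leaf 1305)) (.node (.leaf 683) (.leaf 1784)))) (.node (.node (.node (.leaf 1123) (.leaf 4909)) (.node (.leaf 4990) (.leaf 223))) (.node (.node (.leaf 856) (.leaf 4833)) (.node (.leaf 5208) (.leaf 3091))))) (.node (.node (.node (.node (.leaf 2555) (.leaf 1937)) (.node (.leaf 1855) (.leaf 1115))) (.node (.node (.leaf 2583) (.leaf 3809)) (.node (.leaf 5151) (.leaf 2476)))) (.node (.node (.node (.leaf 5597) (.leaf 1190)) (.node (.leaf 4949) (.leaf 1300))) (.node (.node (.leaf 5127) (.leaf 2902)) (.node (.leaf 5397) (.leaf 2207))))))) (.node (.node (.node (.node (.node (.node (.leaf 3390) (.leaf 942)) (.node (.leaf 4176) (.leaf 4744))) (.node (.node (.leaf 1722) (.leaf 2093)) (.node (.leaf 1381) (.leaf 1371)))) (.node (.node (.node (.leaf 1453) (.leaf 4663)) (.node (.leaf 3110) (.leaf 5656))) (.node (.node (.leaf 4656) (.leaf 2173)) (.node (.leaf 5999) (.leaf 590)))))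 (.node (.node (.node (.node (.leaf 3095) (.leaf 5772)) (.node (.leaf 1888) (.leaf 245))) (.node (.node (.leaf 159) (.leaf 3020)) (.node (.leaf 1899) (.leaf 2560)))) (.node (.node (.node (.leaf 3060) (.leaf 1828)) (.node (.leaf 4000) (.leaf 2803))) (.node (.node (.leaf 119) (.leaf 1129)) (.node (.leaf 6047) (.leaf 5476)))))) (.node (.node (.node (.node (.node (.leaf 4405) (.leaf 1801)) (.node (.leaf 5515) (.leaf 4736))) (.node (.node (.leaf 5093) (.leaf 803)) (.node (.leaf 3643) (.leaf 1506)))) (.node (.node (.node (.leaf 5396) (.leaf 2963)) (.node (.leaf 1620) (.leaf 1470))) (.node (.node (.leaf 5335) (.leaf 3860)) (.node (.leaf 2503) (.leaf 92))))) (.node (.node (.node (.node (.leaf 3297) (.leaf 5736)) (.node (.leaf 1122) (.leaf 3318))) (.node (.node (.leaf 5150) (.leaf 5738)) (.node (.leaf 3444) (.leaf 2553)))) (.node (.node (.node (.leaf 751) (.leaf 607)) (.node (.leaf 3835) (.leaf 1249))) (.node (.node (.leaf 1403) (.leaf 3377)) (.node (.leaf 4712) (.leaf 5797))))))))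

def k4Srt_12 : H52.TCert.Tr := .node (.node (.node (.node (.node (.node (.node (.node (.leaf 2329) (.leaf 2704)) (.node (.leaf 2746) (.leaf 5660))) (.node (.node (.leaf 210) (.leaf 1607)) (.node (.leaf 1505) (.leaf 1494)))) (.node (.node (.node (.leaf 2804) (.leaf 4170)) (.node (.leaf 2779) (.leaf 3430))) (.node (.node (.leaf 5601) (.leaf 551)) (.node (.leaf 4828) (.leaf 4019))))) (.node (.node (.node (.node (.leaf 5161) (.leaf 2926)) (.node (.leaf 4576) (.leaf 4179))) (.node (.node (.leaf 4406) (.leaf 2850)) (.node (.leaf 3220) (.leaf 2121)))) (.node (.node (.node (.leaf 5163) (.leaf 670)) (.node (.leaf 991) (.leaf 5984))) (.node (.node (.leaf 5785) (.leaf 3433)) (.node (.leaf 1272) (.leaf 630)))))) (.node (.node (.node (.node (.node (.leaf 651) (.leaf 5709)) (.node (.leaf 935) (.leaf 1497))) (.node (.node (.leaf 5005) (.leaf 4652)) (.node (.leaf 3956) (.leaf 3338)))) (.node (.node (.node (.leaf 2124) (.leaf 4409)) (.node (.leaf 695) (.leaf 2475))) (.node (.node (.leaf 2332) (.leaf 1609)) (.node (.leaf 4156) (.leaf 1443))))) (.node (.node (.node (.node (.leaf 1022) (.leaf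 2367)) (.node (.leaf 1070) (.leaf 2808))) (.node (.node (.leaf 5370) (.leaf 778)) (.node (.leaf 5657) (.leaf 4147)))) (.node (.node (.node (.leaf 1654) (.leaf 3844)) (.node (.leaf 3919) (.leaf 1611))) (.node (.node (.leaf 2402) (.leaf 115)) (.node (.leaf 593) (.leaf 1835))))))) (.node (.node (.node (.node (.node (.node (.leaf 5470) (.leaf 297)) (.node (.leaf 1456) (.leaf 4397))) (.node (.node (.leaf 4072) (.leaf 1412)) (.node (.leaf 3435) (.leaf 702)))) (.node (.node (.node (.leaf 2047) (.leaf 626)) (.node (.leaf 4367) (.leaf 1236))) (.node (.node (.leaf 1871) (.leaf 2349)) (.node (.leaf 4053) (.leaf 4629))))) (.node (.node (.node (.node (.leaf 5323) (.leaf 3191)) (.node (.leaf 472) (.leaf 4114))) (.node (.node (.leaf 3694) (.leaf 931)) (.node (.leaf 418) (.leaf 2915)))) (.node (.node (.node (.leaf 5173) (.leaf 4786)) (.node (.leaf 2114) (.leaf 3235))) (.node (.node (.leaf 493) (.leaf 5036)) (.node (.leaf 1845) (.leaf 5735)))))) (.node (.node (.node (.node (.node (.leaf 5636) (.leaf 3489)) (.node (.leaf 3469) (.leaf 5095))) (.node (.node (.leaf 4839) (.leaf 505)) (.node (.leaf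 2609) (.leaf 2700)))) (.node (.node (.node (.leaf 3763) (.leaf 1947)) (.node (.leaf 1253) (.leaf 1222))) (.node (.node (.leaf 3519) (.leaf 3971)) (.node (.leaf 4934) (.leaf 2767))))) (.node (.node (.node (.node (.leaf 3162) (.leaf 1133)) (.node (.leaf 2801) (.leaf 16))) (.node (.node (.leaf 5717) (.leaf 2065)) (.node (.leaf 4307) (.leaf 5427)))) (.node (.node (.node (.leaf 3094) (.leaf 5701)) (.node (.leaf 316) (.leaf 3052))) (.node (.node (.leaf 3176) (.leaf 1910)) (.node (.leaf 1647) (.leaf 191)))))))) (.node (.node (.node (.node (.node (.node (.node (.leaf 5119) (.leaf 480)) (.node (.leaf 5490) (.leaf 4047))) (.node (.node (.leaf 3194) (.leaf 3909)) (.node (.leaf 4305) (.leaf 1976)))) (.node (.node (.node (.leaf 429) (.leaf 5901)) (.node (.leaf 3459) (.leaf 237))) (.node (.node (.leaf 1487) (.leaf 2432)) (.node (.leaf 3031) (.leaf 5035))))) (.node (.node (.node (.node (.leaf 3739) (.leaf 3453)) (.node (.leaf 5235) (.leaf 3347))) (.node (.node (.leaf 4091) (.leaf 4328)) (.node (.leaf 5043) (.leaf 1927)))) (.node (.node (.node (.leaf 132) (.leaf 1962)) (.node (.leaf 1197)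 (.leaf 4844))) (.node (.node (.leaf 3126) (.leaf 1370)) (.node (.leaf 3655) (.leaf 5)))))) (.node (.node (.node (.node (.node (.leaf 1311) (.leaf 3005)) (.node (.leaf 6002) (.leaf 1556))) (.node (.node (.leaf 3680) (.leaf 4355)) (.node (.leaf 5554) (.leaf 1219)))) (.node (.node (.node (.leaf 3652) (.leaf 2924)) (.node (.leaf 5416) (.leaf 4824))) (.node (.node (.leaf 1333) (.leaf 939)) (.node (.leaf 4518) (.leaf 4532))))) (.node (.node (.node (.node (.leaf 2757) (.leaf 634)) (.node (.leaf 5455) (.leaf 4699))) (.node (.node (.leaf 1851) (.leaf 4578)) (.node (.leaf 5404) (.leaf 3632)))) (.node (.node (.node (.leaf 2857) (.leaf 5952)) (.node (.leaf 4919) (.leaf 294))) (.node (.node (.leaf 5753) (.leaf 63)) (.node (.leaf 1210) (.leaf 1765))))))) (.node (.node (.node (.node (.node (.node (.leaf 192) (.leaf 784)) (.node (.leaf 5148) (.leaf 1908))) (.node (.node (.leaf 6038) (.leaf 2457)) (.node (.leaf 2055) (.leaf 3032)))) (.node (.node (.node (.leaf 3460) (.leaf 3152)) (.node (.leaf 3143) (.leaf 5413))) (.node (.node (.leaf 3927) (.leaf 3910)) (.node (.leaf 2433) (.leaf 303)))))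 (.node (.node (.node (.node (.leaf 4290) (.leaf 2794)) (.node (.leaf 361) (.leaf 1008))) (.node (.node (.leaf 1911) (.leaf 1977)) (.node (.leaf 1648) (.leaf 4056)))) (.node (.node (.node (.leaf 2995) (.leaf 5704)) (.node (.leaf 420) (.leaf 2352))) (.node (.node (.leaf 4490) (.leaf 4222)) (.node (.leaf 707) (.leaf 687)))))) (.node (.node (.node (.node (.node (.leaf 1847) (.leaf 3247)) (.node (.leaf 1815) (.leaf 2343))) (.node (.node (.leaf 3022) (.leaf 5899)) (.node (.leaf 1542) (.leaf 1546)))) (.node (.node (.node (.leaf 629) (.leaf 934)) (.node (.leaf 171) (.leaf 4769))) (.node (.node (.leaf 4213) (.leaf 3278)) (.node (.leaf 2638) (.leaf 2641))))) (.node (.node (.node (.node (.leaf 1264) (.leaf 815)) (.node (.leaf 4801) (.leaf 3107))) (.node (.node (.leaf 4041) (.leaf 2026)) (.node (.leaf 2209) (.leaf 2242)))) (.node (.node (.node (.leaf 4930) (.leaf 988)) (.node (.leaf 5265) (.leaf 1603))) (.node (.node (.leaf 4825) (.leaf 5471)) (.node (.leaf 60) (.leaf 1812))))))))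

def k4Srt_13 : H52.TCert.Tr := .node (.node (.node (.node (.node (.node (.node (.node (.leaf 284) (.leaf 5402)) (.node (.leaf 5342) (.leaf 4529))) (.node (.node (.leaf 2196) (.leaf 5274)) (.node (.leaf 2763) (.leaf 5025)))) (.node (.node (.node (.leaf 1827) (.leaf 4449)) (.node (.leaf 1586) (.leaf 5886))) (.node (.node (.leaf 3209) (.leaf 701)) (.node (.leaf 592) (.leaf 1069))))) (.node (.node (.node (.node (.leaf 1232) (.leaf 3918)) (.node (.leaf 3767) (.leaf 1834))) (.node (.node (.leaf 1411) (.leaf 2366)) (.node (.leaf 3406) (.leaf 112)))) (.node (.node (.node (.leaf 5291) (.leaf 1021)) (.node (.leaf 445) (.leaf 1479))) (.node (.node (.leaf 2616) (.leaf 3185)) (.node (.leaf 3321) (.leaf 353)))))) (.node (.node (.node (.node (.node (.leaf 850) (.leaf 2655)) (.node (.leaf 5417) (.leaf 5445))) (.node (.node (.leaf 2853) (.leaf 500)) (.node (.leaf 3484) (.leaf 2858)))) (.node (.node (.node (.leaf 1929) (.leaf 722)) (.node (.leaf 1313) (.leaf 1640))) (.node (.node (.leaf 3517) (.leaf 1203)) (.node (.leaf 5652) (.leaf 1334))))) (.node (.node (.node (.node (.leaf 295) (.leaf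 1359)) (.node (.leaf 4442) (.leaf 5045))) (.node (.node (.leaf 5766) (.leaf 4332)) (.node (.leaf 3662) (.leaf 2167)))) (.node (.node (.node (.leaf 4740) (.leaf 3196)) (.node (.leaf 1230) (.leaf 2697))) (.node (.node (.leaf 1036) (.leaf 790)) (.node (.leaf 3756) (.leaf 2614))))))) (.node (.node (.node (.node (.node (.node (.leaf 309) (.leaf 3388)) (.node (.leaf 5053) (.leaf 906))) (.node (.node (.leaf 4827) (.leaf 5320)) (.node (.leaf 1996) (.leaf 5694)))) (.node (.node (.node (.leaf 4461) (.leaf 2951)) (.node (.leaf 2214) (.leaf 2849))) (.node (.node (.leaf 4016) (.leaf 5415)) (.node (.leaf 2185) (.leaf 884))))) (.node (.node (.node (.node (.leaf 2923) (.leaf 3015)) (.node (.leaf 3558) (.leaf 4524))) (.node (.node (.leaf 5227) (.leaf 1664)) (.node (.leaf 442) (.leaf 3676)))) (.node (.node (.node (.leaf 4517) (.leaf 717)) (.node (.leaf 4076) (.leaf 4236))) (.node (.node (.leaf 149) (.leaf 4061)) (.node (.leaf 1209) (.leaf 2142)))))) (.node (.node (.node (.node (.node (.leaf 4698) (.leaf 5967)) (.node (.leaf 256) (.leaf 2752))) (.node (.node (.leaf 4127) (.leaf 640)) (.node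 (.leaf 5977) (.leaf 1000)))) (.node (.node (.node (.leaf 470) (.leaf 4814)) (.node (.leaf 4477) (.leaf 5468))) (.node (.node (.leaf 4351) (.leaf 2608)) (.node (.leaf 1157) (.leaf 4447))))) (.node (.node (.node (.node (.leaf 1684) (.leaf 1154)) (.node (.leaf 454) (.leaf 4717))) (.node (.node (.leaf 3001) (.leaf 728)) (.node (.leaf 5898) (.leaf 1482)))) (.node (.node (.node (.leaf 1870) (.leaf 890)) (.node (.leaf 4274) (.leaf 1530))) (.node (.node (.leaf 887) (.leaf 4564)) (.node (.leaf 2531) (.leaf 4282)))))))) (.node (.node (.node (.node (.node (.node (.node (.leaf 2854) (.leaf 5822)) (.node (.leaf 5761) (.leaf 4163))) (.node (.node (.leaf 5925) (.leaf 5842)) (.node (.leaf 4875) (.leaf 2819)))) (.node (.node (.node (.leaf 1511) (.leaf 4486)) (.node (.leaf 5923) (.leaf 2104))) (.node (.node (.leaf 70) (.leaf 2228)) (.node (.leaf 2570) (.leaf 1886))))) (.node (.node (.node (.node (.leaf 3334) (.leaf 1771)) (.node (.leaf 4151) (.leaf 1145))) (.node (.node (.leaf 5081) (.leaf 3634)) (.node (.leaf 3381) (.leaf 647)))) (.node (.node (.node (.leaf 2152) (.leaf 3420)) (.node (.leaf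 33) (.leaf 5540))) (.node (.node (.leaf 4206) (.leaf 5819)) (.node (.leaf 2038) (.leaf 948)))))) (.node (.node (.node (.node (.node (.leaf 3261) (.leaf 4094)) (.node (.leaf 4285) (.leaf 2437))) (.node (.node (.leaf 4302) (.leaf 3771)) (.node (.leaf 1564) (.leaf 965)))) (.node (.node (.node (.leaf 396) (.leaf 5801)) (.node (.leaf 5467) (.leaf 1434))) (.node (.node (.leaf 5017) (.leaf 4420)) (.node (.leaf 2187) (.leaf 5027))))) (.node (.node (.node (.node (.leaf 5392) (.leaf 3042)) (.node (.leaf 661) (.leaf 5059))) (.node (.node (.leaf 5824) (.leaf 2576)) (.node (.leaf 77) (.leaf 5975)))) (.node (.node (.node (.leaf 2866) (.leaf 3035)) (.node (.leaf 3217) (.leaf 3331))) (.node (.node (.leaf 4959) (.leaf 686)) (.node (.leaf 4436) (.leaf 5763))))))) (.node (.node (.node (.node (.node (.node (.leaf 2790) (.leaf 2636)) (.node (.leaf 196) (.leaf 207))) (.node (.node (.leaf 1777) (.leaf 5873)) (.node (.leaf 1651) (.leaf 4779)))) (.node (.node (.node (.leaf 3619) (.leaf 1550)) (.node (.leaf 4430) (.leaf 3674))) (.node (.node (.leaf 3472) (.leaf 3386)) (.node (.leaf 4227) (.leaf 4015)))))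 (.node (.node (.node (.node (.leaf 3895) (.leaf 5750)) (.node (.leaf 1993) (.leaf 4945))) (.node (.node (.leaf 4183) (.leaf 4802)) (.node (.leaf 711) (.leaf 4032)))) (.node (.node (.node (.leaf 180) (.leaf 3591)) (.node (.leaf 2634) (.leaf 524))) (.node (.node (.leaf 3026) (.leaf 5334)) (.node (.leaf 2791) (.leaf 820)))))) (.node (.node (.node (.node (.node (.leaf 5803) (.leaf 3686)) (.node (.leaf 4070) (.leaf 1758))) (.node (.node (.leaf 1786) (.leaf 895)) (.node (.leaf 2907) (.leaf 2451)))) (.node (.node (.node (.leaf 4215) (.leaf 1053)) (.node (.leaf 3808) (.leaf 1867))) (.node (.node (.leaf 2099) (.leaf 1379)) (.node (.leaf 2172) (.leaf 219))))) (.node (.node (.node (.node (.leaf 96) (.leaf 5953)) (.node (.leaf 3542) (.leaf 5436))) (.node (.node (.leaf 5085) (.leaf 1091)) (.node (.leaf 5693) (.leaf 4601)))) (.node (.node (.node (.leaf 5522) (.leaf 2288)) (.node (.leaf 4289) (.leaf 2405))) (.node (.node (.leaf 2817) (.leaf 3237)) (.node (.leaf 955) (.leaf 2219))))))))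

def k4Srt_14 : H52.TCert.Tr := .node (.node (.node (.node (.node (.node (.node (.node (.leaf 4380) (.leaf 1344)) (.node (.leaf 5864) (.leaf 2454))) (.node (.node (.leaf 4083) (.leaf 5015)) (.node (.leaf 575) (.leaf 4986)))) (.node (.node (.node (.leaf 2363) (.leaf 1570)) (.node (.leaf 5452) (.leaf 1921))) (.node (.node (.leaf 3552) (.leaf 4359)) (.node (.leaf 5619) (.leaf 2158))))) (.node (.node (.node (.node (.leaf 5391) (.leaf 272)) (.node (.leaf 4958) (.leaf 1539))) (.node (.node (.leaf 2762) (.leaf 3041)) (.node (.leaf 3275) (.leaf 882)))) (.node (.node (.node (.leaf 2575) (.leaf 5662)) (.node (.leaf 1776) (.leaf 1033))) (.node (.node (.leaf 4620) (.leaf 2744)) (.node (.leaf 76) (.leaf 5566)))))) (.node (.node (.node (.node (.node (.leaf 1994) (.leaf 4368)) (.node (.leaf 206) (.leaf 5299))) (.node (.node (.leaf 2499) (.leaf 557)) (.node (.leaf 3070) (.leaf 3369)))) (.node (.node (.node (.leaf 4098) (.leaf 4999)) (.node (.leaf 3574) (.leaf 1322))) (.node (.node (.leaf 5992) (.leaf 1868)) (.node (.leaf 3982) (.leaf 4994))))) (.node (.node (.node (.node (.leaf 354) (.leaf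 4631)) (.node (.leaf 2116) (.leaf 4193))) (.node (.node (.leaf 1788) (.leaf 1622)) (.node (.leaf 897) (.leaf 5437)))) (.node (.node (.node (.leaf 98) (.leaf 5175)) (.node (.leaf 5115) (.leaf 2917))) (.node (.node (.leaf 3322) (.leaf 5683)) (.node (.leaf 1516) (.leaf 2198))))))) (.node (.node (.node (.node (.node (.node (.leaf 2350) (.leaf 5784)) (.node (.leaf 932) (.leaf 3962))) (.node (.node (.leaf 1894) (.leaf 1846)) (.node (.leaf 1810) (.leaf 2723)))) (.node (.node (.node (.leaf 5037) (.leaf 5702)) (.node (.leaf 1762) (.leaf 332))) (.node (.node (.leaf 1484) (.leaf 3898)) (.node (.leaf 1872) (.leaf 5813))))) (.node (.node (.node (.node (.leaf 473) (.leaf 4787)) (.node (.leaf 5259) (.leaf 1262))) (.node (.node (.leaf 627) (.leaf 2426)) (.node (.leaf 4115) (.leaf 4757)))) (.node (.node (.node (.leaf 5020) (.leaf 1554)) (.node (.leaf 1329) (.leaf 3402))) (.node (.node (.leaf 394) (.leaf 1385)) (.node (.leaf 5577) (.leaf 3678)))))) (.node (.node (.node (.node (.node (.leaf 3707) (.leaf 2689)) (.node (.leaf 43) (.leaf 719))) (.node (.node (.leaf 4378) (.leaf 2087)) (.node (.leaf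 3424) (.leaf 3863)))) (.node (.node (.node (.leaf 1353) (.leaf 1457)) (.node (.leaf 4962) (.leaf 594))) (.node (.node (.leaf 5245) (.leaf 3267)) (.node (.leaf 277) (.leaf 2897))))) (.node (.node (.node (.node (.leaf 1328) (.leaf 2728)) (.node (.leaf 214) (.leaf 3046))) (.node (.node (.leaf 1958) (.leaf 3135)) (.node (.leaf 5139) (.leaf 324)))) (.node (.node (.node (.leaf 5431) (.leaf 2268)) (.node (.leaf 4755) (.leaf 2578))) (.node (.node (.leaf 1522) (.leaf 5232)) (.node (.leaf 834) (.leaf 365)))))))) (.node (.node (.node (.node (.node (.node (.node (.leaf 5241) (.leaf 3840)) (.node (.leaf 3950) (.leaf 3256))) (.node (.node (.leaf 1016) (.leaf 836)) (.node (.leaf 488) (.leaf 4605)))) (.node (.node (.node (.leaf 519) (.leaf 3966)) (.node (.leaf 564) (.leaf 1950))) (.node (.node (.leaf 1439) (.leaf 530)) (.node (.leaf 1268) (.leaf 30))))) (.node (.node (.node (.node (.leaf 3428) (.leaf 2879)) (.node (.leaf 5896) (.leaf 2068))) (.node (.node (.leaf 4390) (.leaf 3520)) (.node (.leaf 19) (.leaf 4735)))) (.node (.node (.node (.leaf 4789) (.leaf 1945)) (.node (.leaf 4208) (.leaf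 5136))) (.node (.node (.leaf 2980) (.leaf 4065)) (.node (.leaf 1606) (.leaf 508)))))) (.node (.node (.node (.node (.node (.leaf 5473) (.leaf 1973)) (.node (.leaf 4212) (.leaf 5527))) (.node (.node (.leaf 4456) (.leaf 978)) (.node (.leaf 49) (.leaf 190)))) (.node (.node (.node (.leaf 5781) (.leaf 5214)) (.node (.leaf 1814) (.leaf 1975))) (.node (.node (.leaf 5034) (.leaf 3908)) (.node (.leaf 1646) (.leaf 3720))))) (.node (.node (.node (.node (.leaf 3503) (.leaf 5057)) (.node (.leaf 2029) (.leaf 2991))) (.node (.node (.leaf 3030) (.leaf 1266)) (.node (.leaf 5032) (.leaf 5135)))) (.node (.node (.node (.leaf 1169) (.leaf 3605)) (.node (.leaf 3944) (.leaf 25))) (.node (.node (.leaf 448) (.leaf 5720)) (.node (.leaf 5543) (.leaf 514))))))) (.node (.node (.node (.node (.node (.node (.leaf 4012) (.leaf 3130)) (.node (.leaf 2319) (.leaf 2646))) (.node (.node (.leaf 5687) (.leaf 5698)) (.node (.leaf 1990) (.leaf 3913)))) (.node (.node (.node (.leaf 3525) (.leaf 2014)) (.node (.leaf 559) (.leaf 3251))) (.node (.node (.leaf 1699) (.leaf 3849)) (.node (.leaf 1092) (.leaf 5626))))) (.node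 (.node (.node (.node (.leaf 3573) (.leaf 1517)) (.node (.leaf 4192) (.leaf 4626))) (.node (.node (.leaf 2199) (.leaf 5285)) (.node (.leaf 3292) (.leaf 1323)))) (.node (.node (.node (.leaf 2685) (.leaf 1514)) (.node (.leaf 5137) (.leaf 3294))) (.node (.node (.leaf 5152) (.leaf 2109)) (.node (.leaf 4507) (.leaf 3323)))))) (.node (.node (.node (.node (.node (.leaf 1623) (.leaf 268)) (.node (.leaf 4491) (.leaf 2913))) (.node (.node (.leaf 5353) (.leaf 2495)) (.node (.leaf 5382) (.leaf 3575)))) (.node (.node (.node (.leaf 215) (.leaf 2693)) (.node (.leaf 3888) (.leaf 3730))) (.node (.node (.leaf 2953) (.leaf 2005)) (.node (.leaf 672) (.leaf 5559))))) (.node (.node (.node (.node (.leaf 3509) (.leaf 5048)) (.node (.leaf 5545) (.leaf 3869))) (.node (.node (.leaf 4951) (.leaf 5006)) (.node (.leaf 2418) (.leaf 3339)))) (.node (.node (.node (.leaf 2749) (.leaf 5712)) (.node (.leaf 2870) (.leaf 992))) (.node (.node (.leaf 4462) (.leaf 653)) (.node (.leaf 2180) (.leaf 2667))))))))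

def k4Srt_15 : H52.TCert.Tr := .node (.node (.node (.node (.node (.node (.node (.node (.leaf 5936) (.leaf 5962)) (.node (.leaf 226) (.leaf 4487))) (.node (.node (.leaf 5655) (.leaf 330)) (.node (.leaf 5368) (.leaf 2635)))) (.node (.node (.node (.leaf 2861) (.leaf 5692)) (.node (.leaf 1726) (.leaf 3004))) (.node (.node (.leaf 1194) (.leaf 2742)) (.node (.leaf 2170) (.leaf 4445))))) (.node (.node (.node (.node (.leaf 3958) (.leaf 3124)) (.node (.leaf 1597) (.leaf 3049))) (.node (.node (.leaf 3973) (.leaf 526)) (.node (.leaf 2230) (.leaf 129)))) (.node (.node (.node (.leaf 1971) (.leaf 5065)) (.node (.leaf 4628) (.leaf 1346))) (.node (.node (.leaf 4129) (.leaf 3233)) (.node (.leaf 1987) (.leaf 2112)))))) (.node (.node (.node (.node (.node (.leaf 2989) (.leaf 4011)) (.node (.leaf 3779) (.leaf 1526))) (.node (.node (.leaf 387) (.leaf 4996)) (.node (.leaf 999) (.leaf 5894)))) (.node (.node (.node (.leaf 3828) (.leaf 5069)) (.node (.leaf 5203) (.leaf 877))) (.node (.node (.leaf 4675) (.leaf 4973)) (.node (.leaf 5606) (.leaf 5685))))) (.node (.node (.node (.node (.leaf 3701) (.leaf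 6015)) (.node (.leaf 3104) (.leaf 5573))) (.node (.node (.leaf 1118) (.leaf 3805)) (.node (.leaf 2841) (.leaf 3226)))) (.node (.node (.node (.leaf 1752) (.leaf 3538)) (.node (.leaf 2773) (.leaf 2478))) (.node (.node (.leaf 1085) (.leaf 2548)) (.node (.leaf 1445) (.leaf 1308))))))) (.node (.node (.node (.node (.node (.node (.leaf 3812) (.leaf 230)) (.node (.leaf 1858) (.leaf 4311))) (.node (.node (.leaf 3617) (.leaf 580)) (.node (.leaf 3856) (.leaf 1940)))) (.node (.node (.node (.leaf 648) (.leaf 4439)) (.node (.leaf 2092) (.leaf 2274))) (.node (.node (.leaf 5509) (.leaf 4271)) (.node (.leaf 735) (.leaf 5076))))) (.node (.node (.node (.node (.leaf 3109) (.leaf 842)) (.node (.leaf 4023) (.leaf 3215))) (.node (.node (.leaf 2605) (.leaf 4342)) (.node (.leaf 4175) (.leaf 1365)))) (.node (.node (.node (.leaf 2311) (.leaf 2821)) (.node (.leaf 5542) (.leaf 2855))) (.node (.node (.leaf 5179) (.leaf 3336)) (.node (.leaf 832) (.leaf 2011)))))) (.node (.node (.node (.node (.node (.leaf 3565) (.leaf 4245)) (.node (.leaf 5442) (.leaf 2444))) (.node (.node (.leaf 1954) (.leaf 4969)) (.node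 (.leaf 3244) (.leaf 1574)))) (.node (.node (.node (.leaf 414) (.leaf 5477)) (.node (.leaf 2492) (.leaf 3957))) (.node (.node (.leaf 544) (.leaf 1376)) (.node (.leaf 4911) (.leaf 3976))))) (.node (.node (.node (.node (.leaf 1044) (.leaf 994)) (.node (.leaf 1125) (.leaf 674))) (.node (.node (.leaf 5891) (.leaf 5132)) (.node (.leaf 168) (.leaf 961)))) (.node (.node (.node (.leaf 1655) (.leaf 4658)) (.node (.leaf 4304) (.leaf 3193))) (.node (.node (.leaf 1905) (.leaf 2403)) (.node (.leaf 3093) (.leaf 3051)))))))) (.node (.node (.node (.node (.node (.node (.node (.leaf 3436) (.leaf 116)) (.node (.leaf 298) (.leaf 4073))) (.node (.node (.leaf 2809) (.leaf 4569)) (.node (.leaf 5777) (.leaf 1486)))) (.node (.node (.node (.leaf 2622) (.leaf 1612)) (.node (.leaf 236) (.leaf 2032))) (.node (.node (.leaf 479) (.leaf 4046)) (.node (.leaf 779) (.leaf 315))))) (.node (.node (.node (.node (.leaf 4191) (.leaf 3524)) (.node (.leaf 1089) (.leaf 513))) (.node (.node (.leaf 3539) (.leaf 3457)) (.node (.leaf 5253) (.leaf 24)))) (.node (.node (.node (.leaf 1824) (.leaf 2301)) (.node (.leaf 5961)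 (.leaf 2133))) (.node (.node (.leaf 3572) (.leaf 2937)) (.node (.leaf 1433) (.leaf 1756)))))) (.node (.node (.node (.node (.node (.leaf 4748) (.leaf 2798)) (.node (.leaf 4837) (.leaf 4595))) (.node (.node (.leaf 4284) (.leaf 3773)) (.node (.leaf 2719) (.leaf 5913)))) (.node (.node (.node (.leaf 5494) (.leaf 4008)) (.node (.leaf 2589) (.leaf 533))) (.node (.node (.leaf 5900) (.leaf 2975)) (.node (.leaf 5569) (.leaf 1356))))) (.node (.node (.node (.node (.leaf 2081) (.leaf 898)) (.node (.leaf 2670) (.leaf 1876))) (.node (.node (.leaf 872) (.leaf 5764)) (.node (.leaf 1638) (.leaf 5110)))) (.node (.node (.node (.leaf 2076) (.leaf 5807)) (.node (.leaf 5991) (.leaf 4422))) (.node (.node (.leaf 3146) (.leaf 2653)) (.node (.leaf 5026) (.leaf 1633))))))) (.node (.node (.node (.node (.node (.node (.leaf 604) (.leaf 3061)) (.node (.leaf 2191) (.leaf 5090))) (.node (.node (.leaf 2202) (.leaf 2127)) (.node (.leaf 2518) (.leaf 1467)))) (.node (.node (.node (.leaf 2473) (.leaf 4088)) (.node (.leaf 624) (.leaf 4400))) (.node (.node (.leaf 4149) (.leaf 4863)) (.node (.leaf 3408) (.leaf 2931)))))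 (.node (.node (.node (.node (.leaf 4101) (.leaf 1668)) (.node (.leaf 1843) (.leaf 1062))) (.node (.node (.leaf 4002) (.leaf 2298)) (.node (.leaf 3442) (.leaf 929)))) (.node (.node (.node (.leaf 4505) (.leaf 4647)) (.node (.leaf 3606) (.leaf 4013))) (.node (.node (.leaf 3400) (.leaf 5556)) (.node (.leaf 1982) (.leaf 4346)))))) (.node (.node (.node (.node (.node (.leaf 5398) (.leaf 4764)) (.node (.leaf 3289) (.leaf 866))) (.node (.node (.leaf 3351) (.leaf 5379)) (.node (.leaf 5688) (.leaf 560)))) (.node (.node (.node (.leaf 5316) (.leaf 5328)) (.node (.leaf 2505) (.leaf 5313))) (.node (.node (.leaf 2660) (.leaf 4007)) (.node (.leaf 1252) (.leaf 2844))))) (.node (.node (.node (.node (.leaf 2990) (.leaf 3224)) (.node (.leaf 3426) (.leaf 1387))) (.node (.node (.leaf 5267) (.leaf 45)) (.node (.leaf 4676) (.leaf 3688)))) (.node (.node (.node (.leaf 1972) (.leaf 5551)) (.node (.leaf 595) (.leaf 3829))) (.node (.node (.leaf 1347) (.leaf 5070)) (.node (.leaf 388) (.leaf 5315))))))))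

def k4Srt_16 : H52.TCert.Tr := .node (.node (.node (.node (.node (.node (.node (.node (.leaf 2084) (.leaf 2890)) (.node (.leaf 4916) (.leaf 878))) (.node (.node (.leaf 5988) (.leaf 1459)) (.node (.leaf 3268) (.leaf 1988)))) (.node (.node (.node (.leaf 693) (.leaf 823)) (.node (.leaf 2730) (.leaf 1489))) (.node (.node (.leaf 2729) (.leaf 5233)) (.node (.leaf 3449) (.leaf 3255))))) (.node (.node (.node (.node (.leaf 1959) (.leaf 5167)) (.node (.leaf 4692) (.leaf 366))) (.node (.node (.leaf 4414) (.leaf 483)) (.node (.leaf 319) (.leaf 835)))) (.node (.node (.node (.leaf 2579) (.leaf 3136)) (.node (.leaf 5385) (.leaf 5457))) (.node (.node (.leaf 837) (.leaf 4862)) (.node (.leaf 3882) (.leaf 5742)))))) (.node (.node (.node (.node (.node (.leaf 3831) (.leaf 5154)) (.node (.leaf 2598) (.leaf 1059))) (.node (.node (.leaf 4687) (.leaf 4967)) (.node (.leaf 4847) (.leaf 1244)))) (.node (.node (.node (.leaf 2060) (.leaf 920)) (.node (.leaf 3621) (.leaf 4276))) (.node (.node (.leaf 3821) (.leaf 4978)) (.node (.leaf 5263) (.leaf 1289))))) (.node (.node (.node (.node (.leaf 2873) (.leaf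 4143)) (.node (.leaf 4651) (.leaf 5931))) (.node (.node (.leaf 5965) (.leaf 2785)) (.node (.leaf 616) (.leaf 1396)))) (.node (.node (.node (.leaf 4921) (.leaf 2472)) (.node (.leaf 2707) (.leaf 424))) (.node (.node (.leaf 1768) (.leaf 2407)) (.node (.leaf 764) (.leaf 2514))))))) (.node (.node (.node (.node (.node (.node (.leaf 4773) (.leaf 1741)) (.node (.leaf 67) (.leaf 5599))) (.node (.node (.leaf 5211) (.leaf 4087)) (.node (.leaf 5258) (.leaf 5537)))) (.node (.node (.node (.leaf 1842) (.leaf 3529)) (.node (.leaf 4399) (.leaf 2348))) (.node (.node (.leaf 928) (.leaf 6006)) (.node (.leaf 623) (.leaf 4987))))) (.node (.node (.node (.node (.leaf 5472) (.leaf 4451)) (.node (.leaf 1029) (.leaf 977))) (.node (.node (.leaf 3718) (.leaf 5586)) (.node (.leaf 1706) (.leaf 1176)))) (.node (.node (.node (.leaf 3376) (.leaf 3117)) (.node (.leaf 3545) (.leaf 4164))) (.node (.node (.leaf 469) (.leaf 3639)) (.node (.leaf 2512) (.leaf 3496)))))) (.node (.node (.node (.node (.node (.leaf 48) (.leaf 3582)) (.node (.leaf 2722) (.leaf 3502))) (.node (.node (.leaf 4112) (.leaf 3719)) (.node (.leaf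 4563) (.leaf 1257)))) (.node (.node (.node (.leaf 2880) (.leaf 3770)) (.node (.leaf 3521) (.leaf 2436))) (.node (.node (.leaf 395) (.leaf 509)) (.node (.leaf 1440) (.leaf 2871))))) (.node (.node (.node (.node (.leaf 1946) (.leaf 20)) (.node (.leaf 5030) (.leaf 2978))) (.node (.node (.leaf 4209) (.leaf 4291)) (.node (.leaf 2069) (.leaf 1269)))) (.node (.node (.node (.leaf 565) (.leaf 2981)) (.node (.leaf 1563) (.leaf 4624))) (.node (.node (.leaf 5800) (.leaf 1951)) (.node (.leaf 3455) (.leaf 947)))))))) (.node (.node (.node (.node (.node (.node (.node (.leaf 2273) (.leaf 147)) (.node (.leaf 3482) (.leaf 4544))) (.node (.node (.leaf 3745) (.leaf 802)) (.node (.leaf 2802) (.leaf 3361)))) (.node (.node (.node (.leaf 3429) (.leaf 2735)) (.node (.leaf 372) (.leaf 4642))) (.node (.node (.leaf 244) (.leaf 5325)) (.node (.leaf 4391) (.leaf 4437))))) (.node (.node (.node (.node (.leaf 3059) (.leaf 4404)) (.node (.leaf 715) (.leaf 3019))) (.node (.node (.leaf 4760) (.leaf 3239)) (.node (.leaf 1898) (.leaf 158)))) (.node (.node (.node (.leaf 4881) (.leaf 4533)) (.node (.leaf 1225) (.leaf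 3941))) (.node (.node (.leaf 2769) (.leaf 1906)) (.node (.leaf 1405) (.leaf 5591)))))) (.node (.node (.node (.node (.node (.leaf 5918) (.leaf 5456)) (.node (.leaf 1184) (.leaf 5367))) (.node (.node (.leaf 3379) (.leaf 117)) (.node (.leaf 2611) (.leaf 2264)))) (.node (.node (.node (.leaf 2509) (.leaf 1716)) (.node (.leaf 1808) (.leaf 5336))) (.node (.node (.leaf 780) (.leaf 299)) (.node (.leaf 4845) (.leaf 1256))))) (.node (.node (.node (.node (.leaf 1671) (.leaf 4045)) (.node (.leaf 5365) (.leaf 3264))) (.node (.node (.leaf 1794) (.leaf 1915)) (.node (.leaf 2469) (.leaf 2483)))) (.node (.node (.node (.leaf 1475) (.leaf 4854)) (.node (.leaf 38) (.leaf 104))) (.node (.node (.leaf 1590) (.leaf 970)) (.node (.leaf 1998) (.leaf 5261))))))) (.node (.node (.node (.node (.node (.node (.leaf 1862) (.leaf 4457)) (.node (.leaf 3904) (.leaf 342))) (.node (.node (.leaf 3463) (.leaf 3286)) (.node (.leaf 4714) (.leaf 3724)))) (.node (.node (.node (.leaf 5641) (.leaf 5855)) (.node (.leaf 3029) (.leaf 3907))) (.node (.node (.leaf 1265) (.leaf 3360)) (.node (.leaf 6044) (.leaf 5831))))) (.node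 (.node (.node (.node (.leaf 1438) (.leaf 563)) (.node (.leaf 3608) (.leaf 364))) (.node (.node (.leaf 5816) (.leaf 1267)) (.node (.leaf 5453) (.leaf 3852)))) (.node (.node (.node (.leaf 2993) (.leaf 5352)) (.node (.leaf 4207) (.leaf 189))) (.node (.node (.leaf 2028) (.leaf 1645)) (.node (.leaf 5856) (.leaf 3142)))))) (.node (.node (.node (.node (.node (.leaf 3450) (.leaf 5503)) (.node (.leaf 2628) (.leaf 3150))) (.node (.node (.leaf 697) (.leaf 5710)) (.node (.leaf 2287) (.leaf 1140)))) (.node (.node (.node (.leaf 301) (.leaf 4260)) (.node (.leaf 5981) (.leaf 5084))) (.node (.node (.leaf 2460) (.leaf 5097)) (.node (.leaf 5344) (.leaf 3916))))) (.node (.node (.node (.node (.leaf 782) (.leaf 1049)) (.node (.leaf 1849) (.leaf 937))) (.node (.node (.leaf 243) (.leaf 3058)) (.node (.leaf 632) (.leaf 4416)))) (.node (.node (.node (.leaf 1146) (.leaf 2775)) (.node (.leaf 5945) (.leaf 2845))) (.node (.node (.leaf 5116) (.leaf 3343)) (.node (.leaf 4314) (.leaf 3850))))))))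

def k4Srt_17 : H52.TCert.Tr := .node (.node (.node (.node (.node (.node (.node (.node (.leaf 5376) (.leaf 5183)) (.node (.leaf 4480) (.leaf 317))) (.node (.node (.leaf 481) (.leaf 4014)) (.node (.leaf 5989) (.leaf 5317)))) (.node (.node (.node (.leaf 561) (.leaf 3695)) (.node (.leaf 1676) (.leaf 5155))) (.node (.node (.leaf 2376) (.leaf 691)) (.node (.leaf 1488) (.leaf 4347))))) (.node (.node (.node (.node (.leaf 968) (.leaf 2547)) (.node (.leaf 734) (.leaf 4043))) (.node (.node (.leaf 2316) (.leaf 3902)) (.node (.leaf 3027) (.leaf 4233)))) (.node (.node (.node (.leaf 4908) (.leaf 187)) (.node (.leaf 5363) (.leaf 2031))) (.node (.node (.leaf 3263) (.leaf 2012)) (.node (.leaf 1580) (.leaf 1473)))))) (.node (.node (.node (.node (.node (.leaf 3102) (.leaf 5752)) (.node (.leaf 1304) (.leaf 36))) (.node (.node (.leaf 4607) (.leaf 3942)) (.node (.leaf 436) (.leaf 1277)))) (.node (.node (.node (.leaf 1552) (.leaf 4809)) (.node (.leaf 6004) (.leaf 4543))) (.node (.node (.leaf 4641) (.leaf 841)) (.node (.leaf 3037) (.leaf 2272))))) (.node (.node (.node (.node (.leaf 3744) (.leaf 5062))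 (.node (.leaf 3465) (.leaf 3009))) (.node (.node (.leaf 371) (.leaf 5386)) (.node (.leaf 4853) (.leaf 726)))) (.node (.node (.node (.leaf 714) (.leaf 146)) (.node (.leaf 200) (.leaf 2734))) (.node (.node (.leaf 139) (.leaf 4425)) (.node (.leaf 3172) (.leaf 4230))))))) (.node (.node (.node (.node (.node (.node (.leaf 5574) (.leaf 869)) (.node (.leaf 2918) (.leaf 14))) (.node (.node (.leaf 2072) (.leaf 271)) (.node (.leaf 3671) (.leaf 4917)))) (.node (.node (.node (.leaf 3274) (.leaf 2151)) (.node (.leaf 5056) (.leaf 2881))) (.node (.node (.leaf 3703) (.leaf 2498)) (.node (.leaf 4525) (.leaf 3228))))) (.node (.node (.node (.node (.leaf 4220) (.leaf 5830)) (.node (.leaf 2892) (.leaf 1985))) (.node (.node (.leaf 5067) (.leaf 4494)) (.node (.leaf 265) (.leaf 2240)))) (.node (.node (.node (.leaf 1692) (.leaf 3832)) (.node (.leaf 4867) (.leaf 2020))) (.node (.node (.leaf 4259) (.leaf 3993)) (.node (.leaf 80) (.leaf 4033)))))) (.node (.node (.node (.node (.node (.leaf 5579) (.leaf 5955)) (.node (.leaf 1397) (.leaf 1931))) (.node (.node (.leaf 4246) (.leaf 417)) (.node (.leaf 5249)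 (.leaf 3416)))) (.node (.node (.node (.leaf 181) (.leaf 3646)) (.node (.leaf 4264) (.leaf 124))) (.node (.node (.leaf 1162) (.leaf 1047)) (.node (.leaf 2293) (.leaf 5774))))) (.node (.node (.node (.node (.leaf 957) (.leaf 1627)) (.node (.leaf 5890) (.leaf 6032))) (.node (.node (.leaf 3083) (.leaf 4806)) (.node (.leaf 1393) (.leaf 577)))) (.node (.node (.node (.leaf 3830) (.leaf 2159)) (.node (.leaf 3628) (.leaf 1003))) (.node (.node (.leaf 1571) (.leaf 4280)) (.node (.leaf 4142) (.leaf 4474)))))))) (.node (.node (.node (.node (.node (.node (.node (.leaf 1878) (.leaf 2753)) (.node (.leaf 2364) (.leaf 5510))) (.node (.node (.leaf 3326) (.leaf 3080)) (.node (.leaf 6030) (.leaf 5944)))) (.node (.node (.node (.leaf 542) (.leaf 2706)) (.node (.leaf 2161) (.leaf 4388))) (.node (.node (.leaf 3177) (.leaf 42)) (.node (.leaf 2522) (.leaf 3053))))) (.node (.node (.node (.node (.leaf 763) (.leaf 959)) (.node (.leaf 1572) (.leaf 238))) (.node (.node (.leaf 3085) (.leaf 973)) (.node (.leaf 5532) (.leaf 1740)))) (.node (.node (.node (.leaf 2623) (.leaf 5635)) (.node (.leaf 5483) (.leaf 4502)))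 (.node (.node (.leaf 1068) (.leaf 3260)) (.node (.leaf 2259) (.leaf 3905)))))) (.node (.node (.node (.node (.node (.leaf 6036) (.leaf 5533)) (.node (.leaf 1953) (.leaf 3820))) (.node (.node (.leaf 1920) (.leaf 1159)) (.node (.leaf 22) (.leaf 511)))) (.node (.node (.node (.leaf 306) (.leaf 5922)) (.node (.leaf 1687) (.leaf 4339))) (.node (.node (.leaf 3413) (.leaf 5420)) (.node (.leaf 2071) (.leaf 4793))))) (.node (.node (.node (.node (.leaf 4846) (.leaf 2280)) (.node (.leaf 5247) (.leaf 745))) (.node (.node (.leaf 787) (.leaf 5727)) (.node (.leaf 4082) (.leaf 4379)))) (.node (.node (.node (.leaf 1840) (.leaf 4701)) (.node (.leaf 4668) (.leaf 5217))) (.node (.node (.leaf 2682) (.leaf 4197)) (.node (.leaf 3653) (.leaf 2676))))))) (.node (.node (.node (.node (.node (.node (.leaf 1165) (.leaf 4338)) (.node (.leaf 5125) (.leaf 2587))) (.node (.node (.leaf 5463) (.leaf 1214)) (.node (.leaf 1695) (.leaf 5492)))) (.node (.node (.node (.leaf 742) (.leaf 3144)) (.node (.leaf 1319) (.leaf 4320))) (.node (.node (.leaf 2771) (.leaf 736)) (.node (.leaf 5284) (.leaf 4521))))) (.node (.node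 (.node (.node (.leaf 4090) (.leaf 2525)) (.node (.leaf 3690) (.leaf 1075))) (.node (.node (.leaf 411) (.leaf 599)) (.node (.leaf 8) (.leaf 1679)))) (.node (.node (.node (.leaf 4374) (.leaf 1391)) (.node (.leaf 4326) (.leaf 5615))) (.node (.node (.leaf 3609) (.leaf 2262)) (.node (.leaf 2145) (.leaf 1463)))))) (.node (.node (.node (.node (.node (.leaf 1149) (.leaf 4079)) (.node (.leaf 4257) (.leaf 5941))) (.node (.node (.leaf 259) (.leaf 2620)) (.node (.leaf 4200) (.leaf 5010)))) (.node (.node (.node (.leaf 1674) (.leaf 1076)) (.node (.leaf 3798) (.leaf 2580))) (.node (.node (.leaf 775) (.leaf 4146)) (.node (.leaf 3282) (.leaf 9))))) (.node (.node (.node (.node (.leaf 3536) (.leaf 3795)) (.node (.leaf 260) (.leaf 1750))) (.node (.node (.leaf 2374) (.leaf 1680)) (.node (.leaf 1073) (.leaf 5191)))) (.node (.node (.node (.leaf 289) (.leaf 2146)) (.node (.leaf 5631) (.leaf 5758))) (.node (.node (.leaf 678) (.leaf 2716)) (.node (.leaf 1150) (.leaf 2789))))))))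

def k4Srt_18 : H52.TCert.Tr := .node (.node (.node (.node (.node (.node (.node (.node (.leaf 774) (.leaf 1400)) (.node (.leaf 2715) (.leaf 2399))) (.node (.node (.leaf 2227) (.leaf 184)) (.node (.leaf 677) (.leaf 5869)))) (.node (.node (.node (.leaf 4808) (.leaf 4145)) (.node (.leaf 4485) (.leaf 4035))) (.node (.node (.leaf 2464) (.leaf 288)) (.node (.leaf 4874) (.leaf 2787))))) (.node (.node (.node (.node (.leaf 2212) (.leaf 1144)) (.node (.leaf 5837) (.leaf 4942))) (.node (.node (.leaf 2021) (.leaf 2788)) (.node (.leaf 4831) (.leaf 5978)))) (.node (.node (.node (.leaf 2323) (.leaf 4913)) (.node (.leaf 1104) (.leaf 4364))) (.node (.node (.leaf 137) (.leaf 833)) (.node (.leaf 1957) (.leaf 2865)))))) (.node (.node (.node (.node (.node (.leaf 2971) (.leaf 546)) (.node (.leaf 460) (.leaf 4204))) (.node (.node (.leaf 3949) (.leaf 1425)) (.node (.leaf 5833) (.leaf 2267)))) (.node (.node (.node (.leaf 4718) (.leaf 2727)) (.node (.leaf 6041) (.leaf 3597))) (.node (.node (.leaf 5862) (.leaf 3007)) (.node (.leaf 3231) (.leaf 3987))))) (.node (.node (.node (.node (.leaf 2089) (.leaf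 358)) (.node (.leaf 3358) (.leaf 3240))) (.node (.node (.leaf 1881) (.leaf 4682)) (.node (.leaf 5829) (.leaf 1900)))) (.node (.node (.node (.leaf 5121) (.leaf 5147)) (.node (.leaf 805) (.leaf 5359))) (.node (.node (.leaf 3167) (.leaf 5971)) (.node (.leaf 4158) (.leaf 5384))))))) (.node (.node (.node (.node (.node (.node (.leaf 161) (.leaf 427)) (.node (.leaf 2430) (.leaf 3710))) (.node (.node (.leaf 247) (.leaf 5506)) (.node (.leaf 2899) (.leaf 5256)))) (.node (.node (.node (.leaf 3845) (.leaf 2368)) (.node (.leaf 2360) (.leaf 854))) (.node (.node (.leaf 572) (.leaf 1023)) (.node (.leaf 1233) (.leaf 1071))))) (.node (.node (.node (.node (.leaf 5664) (.leaf 5647)) (.node (.leaf 5618) (.leaf 4256))) (.node (.node (.leaf 4694) (.leaf 1430)) (.node (.leaf 681) (.leaf 6037)))) (.node (.node (.node (.leaf 1413) (.leaf 221)) (.node (.leaf 2738) (.leaf 5502))) (.node (.node (.leaf 3990) (.leaf 5938)) (.node (.leaf 5279) (.leaf 2617)))))) (.node (.node (.node (.node (.node (.leaf 5421) (.leaf 2125)) (.node (.leaf 3702) (.leaf 3806))) (.node (.node (.leaf 2928) (.leaf 3227)) (.node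 (.leaf 4173) (.leaf 1557)))) (.node (.node (.node (.leaf 1753) (.leaf 654)) (.node (.leaf 5220) (.leaf 4322))) (.node (.node (.leaf 1220) (.leaf 2282)) (.node (.leaf 3618) (.leaf 1498))))) (.node (.node (.node (.node (.leaf 3914) (.leaf 2380)) (.node (.leaf 4749) (.leaf 2333))) (.node (.node (.leaf 5617) (.leaf 2718)) (.node (.leaf 1086) (.leaf 5996)))) (.node (.node (.node (.leaf 5162) (.leaf 4411)) (.node (.leaf 5677) (.leaf 5675))) (.node (.node (.leaf 550) (.leaf 2213)) (.node (.leaf 4903) (.leaf 308)))))))) (.node (.node (.node (.node (.node (.node (.node (.leaf 209) (.leaf 5926)) (.node (.leaf 1271) (.leaf 3548))) (.node (.node (.leaf 2758) (.leaf 2281)) (.node (.leaf 1504) (.leaf 2703)))) (.node (.node (.node (.leaf 4066) (.leaf 5406)) (.node (.leaf 3044) (.leaf 747))) (.node (.node (.leaf 1442) (.leaf 3587)) (.node (.leaf 789) (.leaf 3219))))) (.node (.node (.node (.node (.leaf 5561) (.leaf 4653)) (.node (.leaf 2254) (.leaf 1082))) (.node (.node (.leaf 3555) (.leaf 5091)) (.node (.leaf 2250) (.leaf 2)))) (.node (.node (.node (.leaf 5480) (.leaf 3370)) (.node (.leaf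 1767) (.leaf 4920))) (.node (.node (.leaf 704) (.leaf 5264)) (.node (.leaf 3802) (.leaf 6018)))))) (.node (.node (.node (.node (.node (.leaf 1063) (.leaf 2944)) (.node (.leaf 2825) (.leaf 66))) (.node (.node (.leaf 4864) (.leaf 637)) (.node (.leaf 4512) (.leaf 1854)))) (.node (.node (.node (.leaf 1) (.leaf 1485)) (.node (.leaf 1331) (.leaf 2139))) (.node (.node (.leaf 3554) (.leaf 4865)) (.node (.leaf 636) (.leaf 4933))))) (.node (.node (.node (.node (.leaf 314) (.leaf 3801)) (.node (.leaf 4568) (.leaf 5613))) (.node (.node (.leaf 4752) (.leaf 1853)) (.node (.leaf 5590) (.leaf 292)))) (.node (.node (.node (.leaf 478) (.leaf 1081)) (.node (.leaf 4984) (.leaf 5583))) (.node (.node (.leaf 4536) (.leaf 5722)) (.node (.leaf 65) (.leaf 3679))))))) (.node (.node (.node (.node (.node (.node (.leaf 689) (.leaf 1483)) (.node (.leaf 2345) (.leaf 471))) (.node (.node (.leaf 5839) (.leaf 5511)) (.node (.leaf 1817) (.leaf 3154)))) (.node (.node (.node (.leaf 5443) (.leaf 4113)) (.node (.leaf 1682) (.leaf 2639))) (.node (.node (.leaf 4785) (.leaf 1098)) (.node (.leaf 1155) (.leaf 4835)))))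 (.node (.node (.node (.node (.leaf 4565) (.leaf 455)) (.node (.leaf 4729) (.leaf 888))) (.node (.node (.leaf 2532) (.leaf 4275)) (.node (.leaf 5435) (.leaf 3190)))) (.node (.node (.node (.leaf 2497) (.leaf 3764)) (.node (.leaf 3273) (.leaf 1806))) (.node (.node (.leaf 3490) (.leaf 264)) (.node (.leaf 4648) (.leaf 2150)))))) (.node (.node (.node (.node (.node (.leaf 1254) (.leaf 5330)) (.node (.leaf 2327) (.leaf 4219))) (.node (.node (.leaf 5130) (.leaf 5465)) (.node (.leaf 4493) (.leaf 3163)))) (.node (.node (.node (.leaf 4766) (.leaf 2610)) (.node (.leaf 3285) (.leaf 2768))) (.node (.node (.leaf 13) (.leaf 1134)) (.node (.leaf 1223) (.leaf 270))))) (.node (.node (.node (.node (.leaf 1619) (.leaf 3935)) (.node (.leaf 5645) (.leaf 663))) (.node (.node (.leaf 1733) (.leaf 4426)) (.node (.leaf 5373) (.leaf 5178)))) (.node (.node (.node (.leaf 3477) (.leaf 3468)) (.node (.leaf 4742) (.leaf 5219))) (.node (.node (.leaf 4857) (.leaf 2223)) (.node (.leaf 3139) (.leaf 3317))))))))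

def k4Srt_19 : H52.TCert.Tr := .node (.node (.node (.node (.node (.node (.node (.node (.leaf 5628) (.leaf 4797)) (.node (.leaf 3174) (.leaf 2384))) (.node (.node (.leaf 749) (.leaf 1820)) (.node (.leaf 2648) (.leaf 3952)))) (.node (.node (.node (.leaf 1343) (.leaf 383)) (.node (.leaf 4983) (.leaf 4217))) (.node (.node (.leaf 4783) (.leaf 3188)) (.node (.leaf 3068) (.leaf 983))))) (.node (.node (.node (.node (.leaf 1980) (.leaf 5296)) (.node (.leaf 3877) (.leaf 2999))) (.node (.node (.leaf 3776) (.leaf 6034)) (.node (.leaf 6019) (.leaf 864)))) (.node (.node (.node (.leaf 3365) (.leaf 4352)) (.node (.leaf 54) (.leaf 1480))) (.node (.node (.leaf 1281) (.leaf 2834)) (.node (.leaf 645) (.leaf 4646)))))) (.node (.node (.node (.node (.node (.leaf 5023) (.leaf 55)) (.node (.leaf 3579) (.leaf 984))) (.node (.node (.leaf 1893) (.leaf 4107)) (.node (.leaf 2743) (.leaf 4030)))) (.node (.node (.node (.leaf 227) (.leaf 3382)) (.node (.leaf 3894) (.leaf 880))) (.node (.node (.leaf 2423) (.leaf 1004)) (.node (.leaf 178) (.leaf 5041))))) (.node (.node (.node (.node (.leaf 798) (.leaf 5870))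 (.node (.leaf 4738) (.leaf 3635))) (.node (.node (.leaf 1991) (.leaf 5425)) (.node (.leaf 5280) (.leaf 859)))) (.node (.node (.node (.leaf 5295) (.leaf 327)) (.node (.leaf 4888) (.leaf 5884))) (.node (.node (.leaf 2998) (.leaf 905)) (.node (.leaf 491) (.leaf 6035))))))) (.node (.node (.node (.node (.node (.node (.leaf 3149) (.leaf 5347)) (.node (.leaf 3187) (.leaf 4975))) (.node (.node (.leaf 31) (.leaf 2594)) (.node (.leaf 3842) (.leaf 963)))) (.node (.node (.node (.leaf 644) (.leaf 3067)) (.node (.leaf 4216) (.leaf 1019))) (.node (.node (.leaf 1711) (.leaf 4612)) (.node (.leaf 3418) (.leaf 2247))))) (.node (.node (.node (.node (.leaf 2607) (.leaf 1782)) (.node (.leaf 3447) (.leaf 3761))) (.node (.node (.leaf 2537) (.leaf 458)) (.node (.leaf 3550) (.leaf 4904)))) (.node (.node (.node (.leaf 3230) (.leaf 4244)) (.node (.leaf 2441) (.leaf 1102))) (.node (.node (.leaf 3932) (.leaf 413)) (.node (.leaf 2621) (.leaf 89)))))) (.node (.node (.node (.node (.node (.leaf 4281) (.leaf 4051)) (.node (.leaf 2042) (.leaf 1043))) (.node (.node (.leaf 5165) (.leaf 2550)) (.node (.leaf 4927)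 (.leaf 2322)))) (.node (.node (.node (.leaf 2379) (.leaf 740)) (.node (.leaf 109) (.leaf 5216))) (.node (.node (.leaf 1212) (.leaf 3969)) (.node (.leaf 5491) (.leaf 1595))))) (.node (.node (.node (.node (.leaf 5499) (.leaf 2698)) (.node (.leaf 2585) (.leaf 5629))) (.node (.node (.leaf 1797) (.leaf 2278)) (.node (.leaf 4858) (.leaf 6045)))) (.node (.node (.node (.leaf 1734) (.leaf 4869)) (.node (.leaf 3175) (.leaf 4700))) (.node (.node (.leaf 664) (.leaf 4427)) (.node (.leaf 3333) (.leaf 3307)))))))) (.node (.node (.node (.node (.node (.node (.node (.leaf 2568) (.leaf 922)) (.node (.leaf 642) (.leaf 1363))) (.node (.node (.leaf 830) (.leaf 2062)) (.node (.leaf 2420) (.leaf 5387)))) (.node (.node (.node (.leaf 1142) (.leaf 5809)) (.node (.leaf 3106) (.leaf 2438))) (.node (.node (.leaf 5099) (.leaf 617)) (.node (.leaf 4848) (.leaf 5223))))) (.node (.node (.node (.node (.leaf 5594) (.leaf 4956)) (.node (.leaf 2462) (.leaf 2309))) (.node (.node (.leaf 3362) (.leaf 1291)) (.node (.leaf 2875) (.leaf 5732)))) (.node (.node (.node (.leaf 3938) (.leaf 1172)) (.node (.leaf 2396) (.leaf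 2692))) (.node (.node (.leaf 3113) (.leaf 3858)) (.node (.leaf 1120) (.leaf 1702)))))) (.node (.node (.node (.node (.node (.leaf 134) (.leaf 2354)) (.node (.leaf 4926) (.leaf 3984))) (.node (.node (.leaf 5164) (.leaf 5852)) (.node (.leaf 541) (.leaf 1339)))) (.node (.node (.node (.leaf 88) (.leaf 761)) (.node (.leaf 2549) (.leaf 3785))) (.node (.node (.leaf 817) (.leaf 5880)) (.node (.leaf 4203) (.leaf 5860))))) (.node (.node (.node (.node (.leaf 1731) (.leaf 5481)) (.node (.leaf 4815) (.leaf 5780))) (.node (.node (.leaf 4513) (.leaf 705)) (.node (.leaf 2251) (.leaf 4659)))) (.node (.node (.node (.leaf 1064) (.leaf 2118)) (.node (.leaf 4720) (.leaf 729))) (.node (.node (.leaf 4891) (.leaf 891)) (.node (.leaf 1685) (.leaf 4545))))))) (.node (.node (.node (.node (.node (.node (.leaf 5302) (.leaf 5980)) (.node (.leaf 2255) (.leaf 4335))) (.node (.node (.leaf 2826) (.leaf 1660)) (.node (.leaf 1531) (.leaf 373)))) (.node (.node (.node (.leaf 5974) (.leaf 2573)) (.node (.leaf 2997) (.leaf 2315))) (.node (.node (.leaf 1774) (.leaf 3373)) (.node (.leaf 643) (.leaf 370))))) (.node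 (.node (.node (.node (.leaf 2271) (.leaf 3789)) (.node (.leaf 4778) (.leaf 1710))) (.node (.node (.leaf 1179) (.leaf 2593)) (.node (.leaf 5706) (.leaf 5324)))) (.node (.node (.node (.leaf 3876) (.leaf 1368)) (.node (.leaf 3748) (.leaf 3066))) (.node (.node (.leaf 3186) (.leaf 2246)) (.node (.leaf 904) (.leaf 74)))))) (.node (.node (.node (.node (.node (.leaf 600) (.leaf 5410)) (.node (.leaf 5273) (.leaf 1464))) (.node (.node (.leaf 4258) (.leaf 3610)) (.node (.leaf 5845) (.leaf 2526)))) (.node (.node (.node (.leaf 5118) (.leaf 4726)) (.node (.leaf 4201) (.leaf 2241))) (.node (.node (.leaf 1392) (.leaf 1005)) (.node (.leaf 814) (.leaf 2263))))) (.node (.node (.node (.node (.leaf 59) (.leaf 4929)) (.node (.leaf 1041) (.leaf 3691))) (.node (.node (.leaf 5341) (.leaf 987)) (.node (.leaf 5916) (.leaf 5038)))) (.node (.node (.node (.leaf 1883) (.leaf 4069)) (.node (.leaf 5820) (.leaf 2171))) (.node (.node (.leaf 2750) (.leaf 1037)) (.node (.leaf 2960) (.leaf 3685))))))))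

def k4Srt_20 : H52.TCert.Tr := .node (.node (.node (.node (.node (.node (.node (.node (.leaf 218) (.leaf 3047)) (.node (.leaf 1246) (.leaf 3169))) (.node (.node (.leaf 4683) (.leaf 4689)) (.node (.leaf 5209) (.leaf 4821)))) (.node (.node (.node (.leaf 5346) (.leaf 5875)) (.node (.leaf 4843) (.leaf 4160))) (.node (.node (.leaf 2663) (.leaf 4196)) (.node (.leaf 1378) (.leaf 5272))))) (.node (.node (.node (.node (.leaf 1773) (.leaf 4776)) (.node (.leaf 3488) (.leaf 889))) (.node (.node (.leaf 660) (.leaf 4334)) (.node (.leaf 4476) (.leaf 5846)))) (.node (.node (.node (.leaf 72) (.leaf 1529)) (.node (.leaf 4591) (.leaf 3762))) (.node (.node (.leaf 4813) (.leaf 1156)) (.node (.leaf 2313) (.leaf 5670)))))) (.node (.node (.node (.node (.node (.leaf 727) (.leaf 1683)) (.node (.leaf 5680) (.leaf 4298))) (.node (.node (.leaf 2824) (.leaf 1367)) (.node (.leaf 5297) (.leaf 2572)))) (.node (.node (.node (.leaf 2629) (.leaf 2765)) (.node (.leaf 3259) (.leaf 3036))) (.node (.node (.leaf 62) (.leaf 4931)) (.node (.leaf 1007) (.leaf 3659))))) (.node (.node (.node (.node (.leaf 725) (.leaf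 40)) (.node (.leaf 138) (.leaf 5409))) (.node (.node (.leaf 2520) (.leaf 4586)) (.node (.leaf 2257) (.leaf 199)))) (.node (.node (.node (.leaf 3171) (.leaf 3008)) (.node (.leaf 5343) (.leaf 5019))) (.node (.node (.leaf 1066) (.leaf 5673)) (.node (.leaf 4333) (.leaf 3265))))))) (.node (.node (.node (.node (.node (.node (.leaf 1670) (.leaf 4997)) (.node (.leaf 3712) (.leaf 3214))) (.node (.node (.leaf 5508) (.leaf 2901)) (.node (.leaf 831) (.leaf 5810)))) (.node (.node (.node (.leaf 2335) (.leaf 4123)) (.node (.leaf 3506) (.leaf 3723))) (.node (.node (.leaf 2178) (.leaf 5834)) (.node (.leaf 1364) (.leaf 3412))))) (.node (.node (.node (.node (.leaf 1997) (.leaf 4174)) (.node (.leaf 4966) (.leaf 2310))) (.node (.node (.leaf 2010) (.leaf 281)) (.node (.leaf 4182) (.leaf 4270)))) (.node (.node (.node (.leaf 2182) (.leaf 2772)) (.node (.leaf 229) (.leaf 263))) (.node (.node (.leaf 4640) (.leaf 1939)) (.node (.leaf 4952) (.leaf 12)))))) (.node (.node (.node (.node (.node (.leaf 4310) (.leaf 3103)) (.node (.leaf 3854) (.leaf 2326))) (.node (.node (.leaf 1117) (.leaf 2477)) (.node (.leaf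 2840) (.leaf 5145)))) (.node (.node (.node (.leaf 5414) (.leaf 1857)) (.node (.leaf 4852) (.leaf 4936))) (.node (.node (.leaf 1307) (.leaf 579)) (.node (.leaf 2149) (.leaf 3811))))) (.node (.node (.node (.node (.leaf 5441) (.leaf 2392)) (.node (.leaf 5419) (.leaf 5547))) (.node (.node (.leaf 3970) (.leaf 504)) (.node (.leaf 3243) (.leaf 3099)))) (.node (.node (.node (.leaf 5231) (.leaf 5895)) (.node (.leaf 15) (.leaf 5360))) (.node (.node (.leaf 2877) (.leaf 3389)) (.node (.leaf 2699) (.leaf 2064)))))))) (.node (.node (.node (.node (.node (.node (.node (.leaf 5106) (.leaf 5716)) (.node (.leaf 537) (.leaf 251))) (.node (.node (.leaf 6014) (.leaf 165)) (.node (.leaf 5646) (.leaf 3475)))) (.node (.node (.node (.leaf 2810) (.leaf 5584)) (.node (.leaf 2846) (.leaf 2398))) (.node (.node (.leaf 4396) (.leaf 4315)) (.node (.leaf 5447) (.leaf 4938))))) (.node (.node (.node (.node (.leaf 1656) (.leaf 2776)) (.node (.leaf 3931) (.leaf 2211))) (.node (.node (.leaf 5190) (.leaf 5757)) (.node (.leaf 3696) (.leaf 1101)))) (.node (.node (.node (.leaf 287) (.leaf 3498)) (.node (.leaf 2536)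 (.leaf 2284))) (.node (.node (.leaf 3640) (.leaf 4592)) (.node (.leaf 4575) (.leaf 1613)))))) (.node (.node (.node (.node (.node (.leaf 2073) (.leaf 5812)) (.node (.leaf 79) (.leaf 2882))) (.node (.node (.leaf 5575) (.leaf 6010)) (.node (.leaf 1930) (.leaf 416)))) (.node (.node (.node (.leaf 1805) (.leaf 5942)) (.node (.leaf 1829) (.leaf 3229))) (.node (.node (.leaf 4771) (.leaf 4632)) (.node (.leaf 1046) (.leaf 1630))))) (.node (.node (.node (.node (.leaf 123) (.leaf 2919)) (.node (.leaf 4728) (.leaf 4924))) (.node (.node (.leaf 2893) (.leaf 4263)) (.node (.leaf 1779) (.leaf 2117)))) (.node (.node (.node (.leaf 2176) (.leaf 4964)) (.node (.leaf 2747) (.leaf 1078))) (.node (.node (.leaf 853) (.leaf 4818)) (.node (.leaf 211) (.leaf 2506))))))) (.node (.node (.node (.node (.node (.node (.leaf 1206) (.leaf 279)) (.node (.leaf 4472) (.leaf 5047))) (.node (.node (.leaf 552) (.leaf 2759)) (.node (.leaf 503) (.leaf 4961)))) (.node (.node (.node (.leaf 1823) (.leaf 3518)) (.node (.leaf 5401) (.leaf 5565))) (.node (.node (.leaf 5108) (.leaf 3410)) (.node (.leaf 4122) (.leaf 5602)))))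 (.node (.node (.node (.node (.leaf 1925) (.leaf 1704)) (.node (.leaf 4431) (.leaf 1174))) (.node (.node (.leaf 4910) (.leaf 4570)) (.node (.leaf 2565) (.leaf 3115)))) (.node (.node (.node (.leaf 2342) (.leaf 3494)) (.node (.leaf 5644) (.leaf 4184))) (.node (.node (.leaf 3473) (.leaf 5060)) (.node (.leaf 3581) (.leaf 1137)))))) (.node (.node (.node (.node (.node (.leaf 2637) (.leaf 5428)) (.node (.leaf 2792) (.leaf 3991))) (.node (.node (.leaf 4803) (.leaf 3716)) (.node (.leaf 525) (.leaf 3964)))) (.node (.node (.node (.leaf 2091) (.leaf 6008)) (.node (.leaf 4261) (.leaf 5859))) (.node (.node (.leaf 1624) (.leaf 2668)) (.node (.leaf 2900) (.leaf 3711))))) (.node (.node (.node (.node (.leaf 360) (.leaf 5122)) (.node (.leaf 3967) (.leaf 3325))) (.node (.node (.leaf 4582) (.leaf 1018)) (.node (.leaf 326) (.leaf 4918)))) (.node (.node (.node (.leaf 490) (.leaf 5956)) (.node (.leaf 4239) (.leaf 4552))) (.node (.node (.leaf 1873) (.leaf 2456)) (.node (.leaf 405) (.leaf 152))))))))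

def k4Srt_21 : H52.TCert.Tr := .node (.node (.node (.node (.node (.node (.node (.node (.leaf 5096) (.leaf 5871)) (.node (.leaf 1309) (.leaf 2166))) (.node (.node (.leaf 44) (.leaf 3425)) (.node (.leaf 3403) (.leaf 1135)))) (.node (.node (.node (.leaf 1386) (.leaf 234)) (.node (.leaf 1458) (.leaf 2563))) (.node (.node (.leaf 5578) (.leaf 1449)) (.node (.leaf 3864) (.leaf 1923))))) (.node (.node (.node (.node (.leaf 2467) (.leaf 2088)) (.node (.leaf 3205) (.leaf 585))) (.node (.node (.leaf 3708) (.leaf 5061)) (.node (.leaf 974) (.leaf 6024)))) (.node (.node (.node (.leaf 940) (.leaf 6043)) (.node (.leaf 4579) (.leaf 635))) (.node (.node (.leaf 5103) (.leaf 166)) (.node (.leaf 3021) (.leaf 1766)))))) (.node (.node (.node (.node (.node (.leaf 2925) (.leaf 1852)) (.node (.leaf 2489) (.leaf 4661))) (.node (.node (.leaf 1799) (.leaf 1665)) (.node (.leaf 1211) (.leaf 1587)))) (.node (.node (.node (.leaf 64) (.leaf 5337)) (.node (.leaf 5841) (.leaf 446))) (.node (.node (.leaf 113) (.leaf 4519)) (.node (.leaf 4077) (.leaf 5910))))) (.node (.node (.node (.node (.leaf 4224) (.leaf 708))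 (.node (.leaf 6031) (.leaf 2815))) (.node (.node (.leaf 5979) (.leaf 1543)) (.node (.leaf 1653) (.leaf 2807)))) (.node (.node (.node (.leaf 5940) (.leaf 4169)) (.node (.leaf 5600) (.leaf 1012))) (.node (.node (.leaf 1610) (.leaf 5827)) (.node (.leaf 2401) (.leaf 1547))))))) (.node (.node (.node (.node (.node (.node (.leaf 3157) (.leaf 3279)) (.node (.leaf 1293) (.leaf 3441))) (.node (.node (.leaf 924) (.leaf 4946)) (.node (.leaf 619) (.leaf 5596)))) (.node (.node (.node (.leaf 5790) (.leaf 1637)) (.node (.leaf 2238) (.leaf 3063))) (.node (.node (.leaf 5666) (.leaf 1354)) (.node (.leaf 2934) (.leaf 2130))))) (.node (.node (.node (.node (.leaf 1238) (.leaf 2080)) (.node (.leaf 2885) (.leaf 1448))) (.node (.node (.leaf 584) (.leaf 3742)) (.node (.leaf 4097) (.leaf 2415)))) (.node (.node (.node (.leaf 3670) (.leaf 5204)) (.node (.leaf 2466) (.leaf 3979))) (.node (.node (.leaf 144) (.leaf 5806)) (.node (.leaf 4991) (.leaf 4269)))))) (.node (.node (.node (.node (.node (.leaf 46) (.leaf 5552)) (.node (.leaf 5917) (.leaf 4446))) (.node (.node (.leaf 596) (.leaf 2085)) (.node (.leaf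 975) (.leaf 3689)))) (.node (.node (.node (.leaf 1460) (.leaf 2891)) (.node (.leaf 4306) (.leaf 1388))) (.node (.node (.leaf 5572) (.leaf 1042)) (.node (.leaf 3225) (.leaf 5464))))) (.node (.node (.node (.node (.leaf 4727) (.leaf 3487)) (.node (.leaf 2766) (.leaf 3269))) (.node (.node (.leaf 412) (.leaf 4243)) (.node (.leaf 5795) (.leaf 5246)))) (.node (.node (.node (.leaf 3998) (.leaf 2446)) (.node (.leaf 700) (.leaf 5914))) (.node (.node (.leaf 794) (.leaf 1128)) (.node (.leaf 3208) (.leaf 3917)))))))) (.node (.node (.node (.node (.node (.node (.node (.leaf 4655) (.leaf 5399)) (.node (.leaf 17) (.leaf 2832))) (.node (.node (.leaf 506) (.leaf 3405)) (.node (.leaf 2878) (.leaf 5306)))) (.node (.node (.node (.leaf 3212) (.leaf 1833)) (.node (.leaf 4296) (.leaf 1455))) (.node (.node (.leaf 2558) (.leaf 2066)) (.node (.leaf 379) (.leaf 1948))))) (.node (.node (.node (.node (.leaf 5243) (.leaf 2445)) (.node (.leaf 3853) (.leaf 1237))) (.node (.node (.leaf 3012) (.leaf 4666)) (.node (.leaf 6007) (.leaf 3291)))) (.node (.node (.node (.leaf 868) (.leaf 4970)) (.node (.leaf 1984)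 (.leaf 1126))) (.node (.node (.leaf 2557) (.leaf 4318)) (.node (.leaf 2838) (.leaf 1838)))))) (.node (.node (.node (.node (.node (.leaf 995) (.leaf 675)) (.node (.leaf 143) (.leaf 4058))) (.node (.node (.leaf 5329) (.leaf 3741)) (.node (.leaf 4765) (.leaf 5380)))) (.node (.node (.node (.leaf 956) (.leaf 5889)) (.node (.leaf 1447) (.leaf 2406))) (.node (.node (.leaf 3204) (.leaf 2328)) (.node (.leaf 4876) (.leaf 3978))))) (.node (.node (.node (.node (.leaf 3553) (.leaf 576)) (.node (.leaf 3669) (.leaf 4096))) (.node (.node (.leaf 5548) (.leaf 3062)) (.node (.leaf 1345) (.leaf 583)))) (.node (.node (.node (.leaf 4360) (.leaf 2818)) (.node (.leaf 2193) (.leaf 2465))) (.node (.node (.leaf 3238) (.leaf 2933)) (.node (.leaf 2129) (.leaf 233))))))) (.node (.node (.node (.node (.node (.node (.leaf 688) (.leaf 2344)) (.node (.leaf 4349) (.leaf 1877))) (.node (.node (.leaf 1816) (.leaf 4214)) (.node (.leaf 5681) (.leaf 5362)))) (.node (.node (.node (.leaf 4473) (.leaf 172)) (.node (.leaf 2996) (.leaf 1002))) (.node (.node (.leaf 3248) (.leaf 1626)) (.node (.leaf 893) (.leaf 3340)))))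 (.node (.node (.node (.node (.leaf 2494) (.leaf 5133)) (.node (.leaf 4886) (.leaf 4279))) (.node (.node (.leaf 4185) (.leaf 3023)) (.node (.leaf 5843) (.leaf 5671)))) (.node (.node (.node (.leaf 4387) (.leaf 3890)) (.node (.leaf 1739) (.leaf 1503))) (.node (.node (.leaf 4501) (.leaf 4377)) (.node (.leaf 2225) (.leaf 3423)))))) (.node (.node (.node (.node (.node (.leaf 972) (.leaf 2705)) (.node (.leaf 41) (.leaf 3872))) (.node (.node (.leaf 4953) (.leaf 2521)) (.node (.leaf 3586) (.leaf 3266)))) (.node (.node (.node (.leaf 4982) (.leaf 1067)) (.node (.leaf 2258) (.leaf 382))) (.node (.node (.leaf 762) (.leaf 3650)) (.node (.leaf 2702) (.leaf 5715))))) (.node (.node (.node (.node (.leaf 2033) (.leaf 2132)) (.node (.leaf 543) (.leaf 1573))) (.node (.node (.leaf 1432) (.leaf 4283)) (.node (.leaf 4794) (.leaf 4190)))) (.node (.node (.node (.leaf 3523) (.leaf 5366)) (.node (.leaf 3456) (.leaf 3054))) (.node (.node (.leaf 960) (.leaf 512)) (.node (.leaf 2936) (.leaf 4747))))))))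

def k4Srt_22 : H52.TCert.Tr := .node (.node (.node (.node (.node (.node (.node (.node (.leaf 2624) (.leaf 5861)) (.node (.leaf 2162) (.leaf 5120))) (.node (.node (.leaf 3178) (.leaf 2300)) (.node (.leaf 239) (.leaf 23)))) (.node (.node (.node (.leaf 78) (.leaf 3057)) (.node (.leaf 2627) (.leaf 5083))) (.node (.node (.leaf 2459) (.leaf 5517)) (.node (.leaf 242) (.leaf 3105))))) (.node (.node (.node (.node (.leaf 2867) (.leaf 3934)) (.node (.leaf 2745) (.leaf 662))) (.node (.node (.leaf 3218) (.leaf 1778)) (.node (.leaf 5627) (.leaf 3043)))) (.node (.node (.node (.leaf 3332) (.leaf 4796)) (.node (.leaf 208) (.leaf 4960))) (.node (.node (.leaf 2286) (.leaf 2577)) (.node (.leaf 1048) (.leaf 1139)))))) (.node (.node (.node (.node (.node (.leaf 3245) (.leaf 807)) (.node (.leaf 3200) (.leaf 3396))) (.node (.node (.leaf 2940) (.leaf 4636)) (.node (.leaf 4705) (.leaf 3392)))) (.node (.node (.node (.leaf 910) (.leaf 3788)) (.node (.leaf 5966) (.leaf 5439))) (.node (.node (.leaf 4746) (.leaf 892)) (.node (.leaf 169) (.leaf 4434))))) (.node (.node (.node (.node (.leaf 2208) (.leaf 1709))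 (.node (.leaf 2304) (.leaf 1108))) (.node (.node (.leaf 903) (.leaf 5883)) (.node (.leaf 2994) (.leaf 2135)))) (.node (.node (.node (.leaf 2137) (.leaf 2543)) (.node (.leaf 108) (.leaf 5729))) (.node (.node (.leaf 2942) (.leaf 5700)) (.node (.leaf 1729) (.leaf 5779))))))) (.node (.node (.node (.node (.node (.node (.leaf 2306) (.leaf 2435)) (.node (.leaf 3454) (.leaf 3089))) (.node (.node (.leaf 3906) (.leaf 3561)) (.node (.leaf 4890) (.leaf 5968)))) (.node (.node (.node (.leaf 5196) (.leaf 1111)) (.node (.leaf 4622) (.leaf 1594))) (.node (.node (.leaf 4321) (.leaf 5724)) (.node (.leaf 2419) (.leaf 4670))))) (.node (.node (.node (.node (.leaf 10) (.leaf 2836)) (.node (.leaf 2147) (.leaf 3799))) (.node (.node (.leaf 1675) (.leaf 154)) (.node (.leaf 5612) (.leaf 3342)))) (.node (.node (.node (.leaf 1077) (.leaf 407)) (.node (.leaf 261) (.leaf 4080))) (.node (.node (.leaf 5892) (.leaf 385)) (.node (.leaf 2375) (.leaf 6023)))))) (.node (.node (.node (.node (.node (.leaf 4554) (.leaf 5791)) (.node (.leaf 4725) (.leaf 1151))) (.node (.node (.leaf 1282) (.leaf 5182)) (.node (.leaf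 3283) (.leaf 4292)))) (.node (.node (.node (.leaf 4089) (.leaf 5207)) (.node (.leaf 4988) (.leaf 671))) (.node (.node (.leaf 2666) (.leaf 4483)) (.node (.leaf 4950) (.leaf 930))))) (.node (.node (.node (.node (.leaf 2408) (.leaf 1844)) (.node (.leaf 2869) (.leaf 4150))) (.node (.node (.leaf 625) (.leaf 652)) (.node (.leaf 2474) (.leaf 4401)))) (.node (.node (.node (.leaf 4003) (.leaf 2417)) (.node (.leaf 2179) (.leaf 2237))) (.node (.node (.leaf 2128) (.leaf 2932)) (.node (.leaf 2192) (.leaf 2299)))))))) (.node (.node (.node (.node (.node (.node (.node (.leaf 4381) (.leaf 4375)) (.node (.leaf 1258) (.leaf 1681))) (.node (.node (.leaf 4165) (.leaf 3570)) (.node (.leaf 452) (.leaf 3414)))) (.node (.node (.node (.leaf 5248) (.leaf 3118)) (.node (.leaf 2289) (.leaf 1152))) (.node (.node (.leaf 1707) (.leaf 5640)) (.node (.leaf 3940) (.leaf 3583))))) (.node (.node (.node (.node (.leaf 885) (.leaf 1096)) (.node (.leaf 5708) (.leaf 1688))) (.node (.node (.leaf 1922) (.leaf 4716)) (.node (.leaf 1177) (.leaf 3867)))) (.node (.node (.node (.leaf 4678) (.leaf 1747)) (.node (.leaf 390)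 (.leaf 1528))) (.node (.node (.leaf 5128) (.leaf 4838)) (.node (.leaf 2095) (.leaf 5039)))))) (.node (.node (.node (.node (.node (.leaf 2562) (.leaf 3120)) (.node (.leaf 2528) (.leaf 770))) (.node (.node (.leaf 2337) (.leaf 1349)) (.node (.leaf 5094) (.leaf 5422)))) (.node (.node (.node (.leaf 1132) (.leaf 2800)) (.node (.leaf 5484) (.leaf 5411))) (.node (.node (.leaf 1717) (.leaf 4135)) (.node (.leaf 4503) (.leaf 1185))))) (.node (.node (.node (.node (.leaf 3531) (.leaf 5479)) (.node (.leaf 5331) (.leaf 4739))) (.node (.node (.leaf 2754) (.leaf 5567)) (.node (.leaf 3714) (.leaf 1034)))) (.node (.node (.node (.leaf 5080) (.leaf 2500)) (.node (.leaf 4369) (.leaf 768))) (.node (.node (.leaf 3672) (.leaf 3276)) (.node (.leaf 1918) (.leaf 4221))))))) (.node (.node (.node (.node (.node (.node (.leaf 6016) (.leaf 273)) (.node (.leaf 2906) (.leaf 1745))) (.node (.node (.leaf 2711) (.leaf 1540)) (.node (.leaf 3755) (.leaf 3629)))) (.node (.node (.node (.leaf 5501) (.leaf 278)) (.node (.leaf 1889) (.leaf 5107))) (.node (.node (.leaf 1130) (.leaf 5400)) (.node (.leaf 5949) (.leaf 5105)))))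 (.node (.node (.node (.node (.leaf 502) (.leaf 1822)) (.node (.leaf 3644) (.leaf 2448))) (.node (.node (.leaf 1507) (.leaf 4963)) (.node (.leaf 852) (.leaf 4685)))) (.node (.node (.node (.leaf 4001) (.leaf 1802)) (.node (.leaf 1205) (.leaf 3409))) (.node (.node (.leaf 3668) (.leaf 4471)) (.node (.leaf 120) (.leaf 5770)))))) (.node (.node (.node (.node (.node (.leaf 4372) (.leaf 410)) (.node (.leaf 389) (.leaf 4117))) (.node (.node (.leaf 2862) (.leaf 157)) (.node (.leaf 3592) (.leaf 3699)))) (.node (.node (.node (.leaf 4677) (.leaf 1242)) (.node (.leaf 2048) (.leaf 5321))) (.node (.node (.leaf 5760) (.leaf 1348)) (.node (.leaf 5741) (.leaf 4242))))) (.node (.node (.node (.node (.leaf 5805) (.leaf 1131)) (.node (.leaf 1902) (.leaf 1527))) (.node (.node (.leaf 2561) (.leaf 5928)) (.node (.leaf 3161) (.leaf 2799)))) (.node (.node (.node (.leaf 2351) (.leaf 1153)) (.node (.leaf 4064) (.leaf 1097))) (.node (.node (.leaf 5260) (.leaf 933)) (.node (.leaf 4557) (.leaf 4382))))))))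

def k4Srt_23 : H52.TCert.Tr := .node (.node (.node (.node (.node (.node (.node (.node (.leaf 5557) (.leaf 1545)) (.node (.leaf 4084) (.leaf 5332))) (.node (.node (.leaf 453) (.leaf 5759)) (.node (.leaf 3277) (.leaf 706)))) (.node (.node (.node (.leaf 5434) (.leaf 2290)) (.node (.leaf 628) (.leaf 1541))) (.node (.node (.leaf 4768) (.leaf 886)) (.node (.leaf 1689) (.leaf 419))))) (.node (.node (.node (.node (.leaf 4514) (.leaf 2606)) (.node (.leaf 3073) (.leaf 5077))) (.node (.node (.leaf 2680) (.leaf 4133)) (.node (.leaf 5707) (.leaf 649)))) (.node (.node (.node (.leaf 2673) (.leaf 2856)) (.node (.leaf 5082) (.leaf 5487))) (.node (.node (.leaf 338) (.leaf 1284)) (.node (.leaf 843) (.leaf 1182)))))) (.node (.node (.node (.node (.node (.leaf 1713) (.leaf 3337)) (.node (.leaf 2275) (.leaf 4440))) (.node (.node (.leaf 4538) (.leaf 1316)) (.node (.leaf 3780) (.leaf 810)))) (.node (.node (.node (.leaf 4798) (.leaf 2035)) (.node (.leaf 753) (.leaf 793))) (.node (.node (.leaf 4300) (.leaf 4049)) (.node (.leaf 312) (.leaf 667))))) (.node (.node (.node (.node (.leaf 2217) (.leaf 2387))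 (.node (.leaf 3345) (.leaf 1533))) (.node (.node (.leaf 3954) (.leaf 2051)) (.node (.leaf 3198) (.leaf 1427)))) (.node (.node (.node (.leaf 3923) (.leaf 2409)) (.node (.leaf 3734) (.leaf 2650))) (.node (.node (.leaf 4671) (.leaf 5074)) (.node (.leaf 1737) (.leaf 4860))))))) (.node (.node (.node (.node (.node (.node (.leaf 2904) (.leaf 3713)) (.node (.leaf 3250) (.leaf 2516))) (.node (.node (.leaf 945) (.leaf 1743)) (.node (.leaf 766) (.leaf 5290)))) (.node (.node (.node (.leaf 3129) (.leaf 2318)) (.node (.leaf 4235) (.leaf 1280))) (.node (.node (.leaf 3595) (.leaf 2709)) (.node (.leaf 4139) (.leaf 3892))))) (.node (.node (.node (.node (.leaf 439) (.leaf 5611)) (.node (.leaf 3648) (.leaf 1583))) (.node (.node (.leaf 344) (.leaf 2485)) (.node (.leaf 3816) (.leaf 3353)))) (.node (.node (.node (.leaf 4137) (.leaf 846)) (.node (.leaf 2336) (.leaf 1382))) (.node (.node (.leaf 772) (.leaf 4177)) (.node (.leaf 496) (.leaf 4804)))))) (.node (.node (.node (.node (.node (.leaf 3038) (.leaf 5876)) (.node (.leaf 2782) (.leaf 4468))) (.node (.node (.leaf 1748) (.leaf 1199)) (.node (.leaf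 201) (.leaf 2097)))) (.node (.node (.node (.leaf 2094) (.leaf 2713)) (.node (.leaf 3534) (.leaf 2903))) (.node (.node (.leaf 2339) (.leaf 5563)) (.node (.leaf 3111) (.leaf 5733))))) (.node (.node (.node (.node (.leaf 2479) (.leaf 2708)) (.node (.leaf 5212) (.leaf 4922))) (.node (.node (.leaf 1576) (.leaf 5424)) (.node (.leaf 5529) (.leaf 765)))) (.node (.node (.node (.leaf 2204) (.leaf 5882)) (.node (.leaf 1742) (.leaf 1941))) (.node (.node (.leaf 1079) (.leaf 6021)) (.node (.leaf 68) (.leaf 4774)))))))) (.node (.node (.node (.node (.node (.node (.node (.leaf 1769) (.leaf 2515)) (.node (.leaf 4102) (.leaf 3813))) (.node (.node (.leaf 1274) (.leaf 432)) (.node (.leaf 1859) (.leaf 3530)))) (.node (.node (.node (.leaf 4892) (.leaf 335)) (.node (.leaf 3601) (.leaf 380))) (.node (.node (.leaf 1493) (.leaf 4608)) (.node (.leaf 4980) (.leaf 1662))))) (.node (.node (.node (.node (.leaf 2833) (.leaf 4068)) (.node (.leaf 2001) (.leaf 2317))) (.node (.node (.leaf 2921) (.leaf 3594)) (.node (.leaf 1279) (.leaf 4459)))) (.node (.node (.node (.leaf 5610) (.leaf 3128)) (.node (.leaf 4234)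 (.leaf 1582))) (.node (.node (.leaf 3727) (.leaf 1642)) (.node (.leaf 438) (.leaf 5609)))))) (.leaf 0)) (.leaf 0))

def k4Srt : H52.TCert.Tr := .node (.node (.node (.node (.node (k4Srt_0) (k4Srt_1)) (.node (k4Srt_2) (k4Srt_3))) (.node (.node (k4Srt_4) (k4Srt_5)) (.node (k4Srt_6) (k4Srt_7)))) (.node (.node (.node (k4Srt_8) (k4Srt_9)) (.node (k4Srt_10) (k4Srt_11))) (.node (.node (k4Srt_12) (k4Srt_13)) (.node (k4Srt_14) (k4Srt_15))))) (.node (.node (.node (.node (k4Srt_16) (k4Srt_17)) (.node (k4Srt_18) (k4Srt_19))) (.node (.node (k4Srt_20) (k4Srt_21)) (.node (k4Srt_22) (k4Srt_23)))) (.node (.node (.node (.leaf 0) (.leaf 0)) (.node (.leaf 0) (.leaf 0))) (.node (.node (.leaf 0) (.leaf 0)) (.node (.leaf 0) (.leaf 0)))))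

def k4Next_0 : H52.TCert.Tr := .node (.node (.node (.node (.node (.node (.node (.node (.leaf 131073) (.leaf 262147)) (.node (.leaf 393221) (.leaf 524295))) (.node (.node (.leaf 655369) (.leaf 786443)) (.node (.leaf 917517) (.leaf 1048591)))) (.node (.node (.node (.leaf 1179665) (.leaf 1310739)) (.node (.leaf 1441813) (.leaf 1572887))) (.node (.node (.leaf 1703961) (.leaf 1835035)) (.node (.leaf 1966109) (.leaf 2097183))))) (.node (.node (.node (.node (.leaf 2228257) (.leaf 2359331)) (.node (.leaf 2490405) (.leaf 2621479))) (.node (.node (.leaf 2752553) (.leaf 2883627)) (.node (.leaf 3014701) (.leaf 3145775)))) (.node (.node (.node (.leaf 3276849) (.leaf 3407923)) (.node (.leaf 3538997) (.leaf 3670071))) (.node (.node (.leaf 3801145) (.leaf 3932219)) (.node (.leaf 4063293) (.leaf 4194367)))))) (.node (.node (.node (.node (.node (.leaf 4325441) (.leaf 4456515)) (.node (.leaf 4587589) (.leaf 4718663))) (.node (.node (.leaf 4849737) (.leaf 4980811)) (.node (.leaf 5111885) (.leaf 5242959)))) (.node (.node (.node (.leaf 5374033) (.leaf 5505107)) (.node (.leaf 5636181) (.leaf 5767255)))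 (.node (.node (.leaf 5898329) (.leaf 6029403)) (.node (.leaf 6160477) (.leaf 6291551))))) (.node (.node (.node (.node (.leaf 6422625) (.leaf 6553699)) (.node (.leaf 6684773) (.leaf 6815847))) (.node (.node (.leaf 6946921) (.leaf 7077995)) (.node (.leaf 7209069) (.leaf 7340143)))) (.node (.node (.node (.leaf 7471217) (.leaf 7602291)) (.node (.leaf 7733365) (.leaf 7864439))) (.node (.node (.leaf 7995513) (.leaf 8126587)) (.node (.leaf 8257661) (.leaf 8323072))))))) (.node (.node (.node (.node (.node (.node (.leaf 8454272) (.leaf 8585346)) (.node (.leaf 8716420) (.leaf 8847494))) (.node (.node (.leaf 8978568) (.leaf 9109642)) (.node (.leaf 9240716) (.leaf 9371790)))) (.node (.node (.node (.leaf 9502864) (.leaf 9633938)) (.node (.leaf 9765012) (.leaf 9896086))) (.node (.node (.leaf 10027160) (.leaf 10158234)) (.node (.leaf 10289308) (.leaf 10420382))))) (.node (.node (.node (.node (.leaf 10551456) (.leaf 10682530)) (.node (.leaf 10813604) (.leaf 1769638))) (.node (.node (.leaf 11010215) (.leaf 11141289)) (.node (.leaf 11272363) (.leaf 11403437)))) (.node (.node (.node (.leaf 11534511)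 (.leaf 11665585)) (.node (.leaf 11796659) (.leaf 11927733))) (.node (.node (.leaf 12058807) (.leaf 12189881)) (.node (.leaf 12320955) (.leaf 12452029)))))) (.node (.node (.node (.node (.node (.leaf 12583103) (.leaf 12714177)) (.node (.leaf 12845251) (.leaf 12976325))) (.node (.node (.leaf 13107399) (.leaf 13238473)) (.node (.leaf 13369547) (.leaf 13500621)))) (.node (.node (.node (.leaf 13631695) (.leaf 13762769)) (.node (.leaf 13893843) (.leaf 14024917))) (.node (.node (.leaf 14155991) (.leaf 14287065)) (.node (.leaf 14418139) (.leaf 14549213))))) (.node (.node (.node (.node (.leaf 14680287) (.leaf 14811361)) (.node (.leaf 14942435) (.leaf 15073509))) (.node (.node (.leaf 15204583) (.leaf 9437417)) (.node (.leaf 15401194) (.leaf 15532268)))) (.node (.node (.node (.leaf 15663342) (.leaf 15794416)) (.node (.leaf 15925490) (.leaf 16056564))) (.node (.node (.leaf 16187638) (.leaf 16318712)) (.node (.leaf 16449786) (.leaf 16580860)))))))) (.node (.node (.node (.node (.node (.node (.node (.leaf 16711934) (.leaf 16843008)) (.node (.leaf 16974082) (.leaf 17105156))) (.node (.node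 (.leaf 17236230) (.leaf 17367304)) (.node (.leaf 17498378) (.leaf 17629452)))) (.node (.node (.node (.leaf 17760526) (.leaf 17891600)) (.node (.leaf 18022674) (.leaf 18153748))) (.node (.node (.leaf 18284822) (.leaf 18415896)) (.node (.leaf 18546970) (.leaf 18678044))))) (.node (.node (.node (.node (.leaf 18809118) (.leaf 18940192)) (.node (.leaf 2818338) (.leaf 19136803))) (.node (.node (.leaf 19267877) (.leaf 19398951)) (.node (.leaf 19530025) (.leaf 19661099)))) (.node (.node (.node (.leaf 19792173) (.leaf 19923247)) (.node (.leaf 20054321) (.leaf 20185395))) (.node (.node (.leaf 20316469) (.leaf 20447543)) (.node (.leaf 20578617) (.leaf 20709691)))))) (.node (.node (.node (.node (.node (.leaf 20840765) (.leaf 20971839)) (.node (.leaf 21102913) (.leaf 21233987))) (.node (.node (.leaf 21365061) (.leaf 21496135)) (.node (.leaf 21627209) (.leaf 6357323)))) (.node (.node (.node (.leaf 21823820) (.leaf 21954894)) (.node (.leaf 22085968) (.leaf 22217042))) (.node (.node (.leaf 22348116) (.leaf 22479190)) (.node (.leaf 22610264) (.leaf 22741338))))) (.node (.node (.node (.node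 (.leaf 22872412) (.leaf 23003486)) (.node (.leaf 23134560) (.leaf 17564002))) (.node (.node (.leaf 23331171) (.leaf 23462245)) (.node (.leaf 23593319) (.leaf 23724393)))) (.node (.node (.node (.leaf 23855467) (.leaf 23986541)) (.node (.leaf 24117615) (.leaf 24248689))) (.node (.node (.leaf 24379763) (.leaf 24444930)) (.node (.leaf 24576374) (.leaf 24707448))))))) (.node (.node (.node (.node (.node (.node (.leaf 24838522) (.leaf 22544764)) (.node (.leaf 25035133) (.leaf 25166207))) (.node (.node (.leaf 25297281) (.leaf 25428355)) (.node (.leaf 25559429) (.leaf 25690503)))) (.node (.node (.node (.leaf 25821577) (.leaf 25952651)) (.node (.leaf 26083725) (.leaf 26214799))) (.node (.node (.leaf 26345873) (.leaf 26476947)) (.node (.leaf 26608021) (.leaf 26739095))))) (.node (.node (.node (.node (.leaf 26870169) (.leaf 3867035)) (.node (.leaf 27066780) (.leaf 27197854))) (.node (.node (.leaf 27328928) (.leaf 21758370)) (.node (.leaf 27525539) (.leaf 27656613)))) (.node (.node (.node (.leaf 27787687) (.leaf 27918761)) (.node (.leaf 28049835) (.leaf 19857837))) (.node (.node (.leaf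 28246446) (.leaf 28377520)) (.node (.leaf 28508594) (.leaf 28639668)))))) (.node (.node (.node (.node (.node (.leaf 28770742) (.leaf 28901816)) (.node (.leaf 29032890) (.leaf 29163964))) (.node (.node (.leaf 29295038) (.leaf 29426112)) (.node (.leaf 29557186) (.leaf 29688260)))) (.node (.node (.node (.leaf 29819334) (.leaf 29950408)) (.node (.leaf 30081482) (.leaf 30212556))) (.node (.node (.leaf 30343630) (.leaf 30474704)) (.node (.leaf 30605778) (.leaf 30736852))))) (.node (.node (.node (.node (.leaf 30867926) (.leaf 30999000)) (.node (.leaf 25493978) (.leaf 31195611))) (.node (.node (.leaf 31326685) (.leaf 31457759)) (.node (.leaf 31588833) (.leaf 31719907)))) (.node (.node (.node (.leaf 31850981) (.leaf 31982055)) (.node (.leaf 32113129) (.leaf 491))) (.node (.node (.leaf 32309740) (.leaf 32440814)) (.node (.leaf 32571888) (.leaf 32702962))))))))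

def k4Next_1 : H52.TCert.Tr := .node (.node (.node (.node (.node (.node (.node (.node (.leaf 32834036) (.leaf 32965110)) (.node (.leaf 33096184) (.leaf 33227258))) (.node (.node (.leaf 33358332) (.leaf 33489406)) (.node (.leaf 33620480) (.leaf 33751554)))) (.node (.node (.node (.leaf 33882628) (.leaf 34013702)) (.node (.leaf 34144776) (.leaf 34275850))) (.node (.node (.leaf 34406924) (.leaf 34537998)) (.node (.leaf 4915728) (.leaf 34734609))))) (.node (.node (.node (.node (.leaf 34800106) (.leaf 34931220)) (.node (.leaf 35062294) (.leaf 35193368))) (.node (.node (.leaf 35324442) (.leaf 35455516)) (.node (.leaf 35586590) (.leaf 35717664)))) (.node (.node (.node (.leaf 35848738) (.leaf 35979812)) (.node (.leaf 36110886) (.leaf 36241960))) (.node (.node (.leaf 36373034) (.leaf 36504108)) (.node (.leaf 36635182) (.leaf 36766256)))))) (.node (.node (.node (.node (.node (.leaf 36897330) (.leaf 37028404)) (.node (.leaf 37159478) (.leaf 10486328))) (.node (.node (.leaf 37356089) (.leaf 37487163)) (.node (.leaf 37618237) (.leaf 37749311)))) (.node (.node (.node (.leaf 37880385) (.leaf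 38011459)) (.node (.leaf 38142533) (.leaf 38273607))) (.node (.node (.leaf 38404681) (.leaf 38535755)) (.node (.leaf 38666829) (.leaf 33161807))))) (.node (.node (.node (.node (.leaf 38863440) (.leaf 15336018)) (.node (.leaf 39060051) (.leaf 39191125))) (.node (.node (.leaf 39322199) (.leaf 39453273)) (.node (.leaf 39584347) (.leaf 39715421)))) (.node (.node (.node (.leaf 39846495) (.leaf 39911428)) (.node (.leaf 40043106) (.leaf 40174180))) (.node (.node (.leaf 40305254) (.leaf 38077032)) (.node (.leaf 40501865) (.leaf 40632939))))))) (.node (.node (.node (.node (.node (.node (.leaf 40698058) (.leaf 40829550)) (.node (.leaf 40960624) (.leaf 41091698))) (.node (.node (.leaf 41222772) (.leaf 41353846)) (.node (.leaf 41484920) (.leaf 41615994)))) (.node (.node (.node (.leaf 41747068) (.leaf 41878142)) (.node (.leaf 42009216) (.leaf 5964418))) (.node (.node (.leaf 42205827) (.leaf 42336901)) (.node (.leaf 37290631) (.leaf 42533512))))) (.node (.node (.node (.node (.leaf 42664586) (.leaf 42795660)) (.node (.leaf 42926734) (.leaf 43057808))) (.node (.node (.leaf 35390098) (.leaf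 43254419)) (.node (.leaf 43385493) (.leaf 43516567)))) (.node (.node (.node (.leaf 43647641) (.leaf 43778715)) (.node (.leaf 43909789) (.leaf 44040863))) (.node (.node (.leaf 44171937) (.leaf 44303011)) (.node (.leaf 44434085) (.leaf 44565159)))))) (.node (.node (.node (.node (.node (.leaf 44696233) (.leaf 44827307)) (.node (.leaf 44958381) (.leaf 45089455))) (.node (.node (.leaf 45220529) (.leaf 45351603)) (.node (.leaf 45482677) (.leaf 45613751)))) (.node (.node (.node (.leaf 45744825) (.leaf 45875899)) (.node (.leaf 46006973) (.leaf 40895167))) (.node (.node (.leaf 46203584) (.leaf 46334658)) (.node (.leaf 46465732) (.leaf 46596806))))) (.node (.node (.node (.node (.leaf 46727880) (.leaf 46858954)) (.node (.leaf 46990028) (.leaf 47121102))) (.node (.node (.leaf 66256) (.leaf 47317713)) (.node (.leaf 47448787) (.leaf 47579861)))) (.node (.node (.node (.leaf 47710935) (.leaf 47842009)) (.node (.leaf 47973083) (.leaf 48104157))) (.node (.node (.leaf 22151903) (.leaf 48300768)) (.node (.leaf 48431842) (.leaf 48562916)))))))) (.node (.node (.node (.node (.node (.node (.node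 (.leaf 48693990) (.leaf 48825064)) (.node (.leaf 48956138) (.leaf 49087212))) (.node (.node (.leaf 49218286) (.leaf 49349360)) (.node (.leaf 49480434) (.leaf 7013108)))) (.node (.node (.node (.leaf 983797) (.leaf 49742582)) (.node (.leaf 49873656) (.leaf 50004730))) (.node (.node (.leaf 50135804) (.leaf 50266878)) (.node (.leaf 50397952) (.leaf 50529026))))) (.node (.node (.node (.node (.leaf 50660100) (.leaf 50791174)) (.node (.leaf 50922248) (.leaf 51053322))) (.node (.node (.leaf 51184396) (.leaf 51315470)) (.node (.leaf 51446544) (.leaf 51577618)))) (.node (.node (.node (.leaf 51708692) (.leaf 51839766)) (.node (.leaf 51970840) (.leaf 52101914))) (.node (.node (.leaf 14615324) (.leaf 52298525)) (.node (.leaf 52363891) (.leaf 52495136)))))) (.node (.node (.node (.node (.node (.leaf 52626210) (.leaf 52757284)) (.node (.leaf 52888358) (.leaf 53019432))) (.node (.node (.leaf 53150506) (.leaf 53281580)) (.node (.leaf 53412654) (.leaf 43582256)))) (.node (.node (.node (.leaf 53609265) (.leaf 53740339)) (.node (.leaf 53871413) (.leaf 54002487))) (.node (.node (.leaf 54133561)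 (.leaf 54264635)) (.node (.leaf 54395709) (.leaf 54526783))))) (.node (.node (.node (.node (.leaf 54591494) (.leaf 54723394)) (.node (.leaf 54854468) (.leaf 54985542))) (.node (.node (.leaf 42140488) (.leaf 10355529)) (.node (.leaf 55247690) (.leaf 55378764)))) (.node (.node (.node (.leaf 55509838) (.leaf 55640912)) (.node (.leaf 55771986) (.leaf 55903060))) (.node (.node (.leaf 56034134) (.leaf 56165208)) (.node (.leaf 34472794) (.leaf 56361819))))))) (.node (.node (.node (.node (.node (.node (.leaf 56492893) (.leaf 56623967)) (.node (.leaf 56755041) (.leaf 56886115))) (.node (.node (.leaf 8061797) (.leaf 57082726)) (.node (.leaf 57213800) (.leaf 57344874)))) (.node (.node (.node (.leaf 52233068) (.leaf 57541485)) (.node (.leaf 57672559) (.leaf 34341745))) (.node (.node (.leaf 50332530) (.leaf 57934707)) (.node (.leaf 58065781) (.leaf 58196855))))) (.node (.node (.node (.node (.leaf 58327929) (.leaf 10617723)) (.node (.leaf 11469692) (.leaf 58524355))) (.node (.node (.leaf 58655614) (.leaf 58786688)) (.node (.leaf 58917762) (.leaf 59048836)))) (.node (.node (.node (.leaf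 59179910) (.leaf 59310984)) (.node (.leaf 59442058) (.leaf 59573132))) (.node (.node (.leaf 59704206) (.leaf 59835280)) (.node (.leaf 59966354) (.leaf 60097428)))))) (.node (.node (.node (.node (.node (.leaf 60228502) (.leaf 60359576)) (.node (.leaf 60490650) (.leaf 55575452))) (.node (.node (.leaf 60687261) (.leaf 60818335)) (.node (.leaf 60949409) (.leaf 61080483)))) (.node (.node (.node (.leaf 61211557) (.leaf 61342631)) (.node (.leaf 61473705) (.leaf 61604779))) (.node (.node (.leaf 61735853) (.leaf 59638703)) (.node (.leaf 61866088) (.leaf 61998001))))) (.node (.node (.node (.node (.leaf 62129075) (.leaf 62260149)) (.node (.leaf 62391223) (.leaf 62522297))) (.node (.node (.leaf 62653371) (.leaf 62784445)) (.node (.leaf 62915519) (.leaf 63046593)))) (.node (.node (.node (.leaf 63177667) (.leaf 63308741)) (.node (.leaf 63439815) (.leaf 63570889))) (.node (.node (.leaf 9044939) (.leaf 63767500)) (.node (.leaf 63832783) (.leaf 63898478))))))))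

def k4Next_2 : H52.TCert.Tr := .node (.node (.node (.node (.node (.node (.node (.node (.leaf 64029648) (.leaf 64160722)) (.node (.leaf 64291796) (.leaf 64422870))) (.node (.node (.leaf 64553944) (.leaf 49415130)) (.node (.leaf 64750555) (.leaf 13042653)))) (.node (.node (.node (.leaf 64947166) (.leaf 65012642)) (.node (.leaf 65143777) (.leaf 65274851))) (.node (.node (.leaf 65405925) (.leaf 65470590)) (.node (.leaf 65602536) (.leaf 65733610))))) (.node (.node (.node (.node (.leaf 48366572) (.leaf 18613229)) (.node (.leaf 65995758) (.leaf 66126832))) (.node (.node (.leaf 66192248) (.leaf 66323443)) (.node (.leaf 66454517) (.leaf 66585591)))) (.node (.node (.node (.leaf 66716665) (.leaf 66847739)) (.node (.leaf 66978813) (.leaf 67109887))) (.node (.node (.leaf 62194689) (.leaf 48890882)) (.node (.leaf 23266307) (.leaf 67437572)))))) (.node (.node (.node (.node (.node (.leaf 67502553) (.leaf 67634183)) (.node (.leaf 67765257) (.leaf 67896331))) (.node (.node (.leaf 68027405) (.leaf 68158479)) (.node (.leaf 68222984) (.leaf 68355090)))) (.node (.node (.node (.leaf 68486164) (.leaf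 68617238)) (.node (.leaf 66519503) (.leaf 68748312))) (.node (.node (.leaf 68879386) (.leaf 68944198)) (.node (.leaf 69075997) (.leaf 69207071))))) (.node (.node (.node (.node (.leaf 69338145) (.leaf 69469219)) (.node (.leaf 69600293) (.leaf 69731367))) (.node (.node (.leaf 69862441) (.leaf 69993515)) (.node (.leaf 70124589) (.leaf 70255663)))) (.node (.node (.node (.leaf 10093617) (.leaf 70452274)) (.node (.leaf 70583348) (.leaf 65930294))) (.node (.node (.leaf 70779959) (.leaf 70911033)) (.node (.leaf 71042107) (.leaf 71173181))))))) (.node (.node (.node (.node (.node (.node (.leaf 71304255) (.leaf 64357441)) (.node (.leaf 71500866) (.leaf 71631940))) (.node (.node (.leaf 71763014) (.leaf 71894088)) (.node (.leaf 71959256) (.leaf 72024505)))) (.node (.node (.node (.leaf 72156236) (.leaf 72287310)) (.node (.leaf 72418384) (.leaf 72549458))) (.node (.node (.leaf 72680532) (.leaf 57017430)) (.node (.leaf 72877143) (.leaf 73008217))))) (.node (.node (.node (.node (.leaf 73139291) (.leaf 73270365)) (.node (.leaf 73401439) (.leaf 73532513))) (.node (.node (.leaf 73597783) (.leaf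 73729124)) (.node (.leaf 73860198) (.leaf 69141608)))) (.node (.node (.node (.leaf 74056809) (.leaf 74187883)) (.node (.leaf 74318957) (.leaf 74450031))) (.node (.node (.leaf 74581105) (.leaf 74712179)) (.node (.leaf 74843253) (.leaf 74974327)))))) (.node (.node (.node (.node (.node (.leaf 197753) (.leaf 75170938)) (.node (.leaf 75302012) (.leaf 75433086))) (.node (.node (.leaf 75564160) (.leaf 75695234)) (.node (.leaf 75826308) (.leaf 75891061)))) (.node (.node (.node (.leaf 37684359) (.leaf 76088456)) (.node (.leaf 76219530) (.leaf 76350604))) (.node (.node (.leaf 76481678) (.leaf 76612752)) (.node (.leaf 76743826) (.leaf 76874900))))) (.node (.node (.node (.node (.leaf 77005974) (.leaf 77137048)) (.node (.leaf 11076762) (.leaf 2032795))) (.node (.node (.leaf 77399196) (.leaf 25756830)) (.node (.leaf 77595807) (.leaf 77726881)))) (.node (.node (.node (.leaf 77857955) (.leaf 77989029)) (.node (.leaf 78120103) (.leaf 78251177))) (.node (.node (.leaf 78382251) (.leaf 78513325)) (.node (.leaf 78644399) (.leaf 78775473)))))))) (.node (.node (.node (.node (.node (.node (.node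 (.leaf 78906547) (.leaf 79037621)) (.node (.leaf 79168695) (.leaf 79234082))) (.node (.node (.leaf 79365306) (.leaf 79496380)) (.node (.leaf 79627454) (.leaf 79758528)))) (.node (.node (.node (.leaf 79889602) (.leaf 80020676)) (.node (.leaf 80151750) (.leaf 80282824))) (.node (.node (.leaf 71827925) (.leaf 80413898)) (.node (.leaf 80544972) (.leaf 80676046))))) (.node (.node (.node (.node (.leaf 7537872) (.leaf 80872657)) (.node (.leaf 81003731) (.leaf 81068894))) (.node (.node (.leaf 81200342) (.leaf 81264650)) (.node (.leaf 81396953) (.leaf 81528027)))) (.node (.node (.node (.leaf 81659101) (.leaf 70386911)) (.node (.leaf 18482400) (.leaf 81921249))) (.node (.node (.leaf 82052323) (.leaf 82183397)) (.node (.leaf 82314471) (.leaf 82445545)))))) (.node (.node (.node (.node (.node (.leaf 82510669) (.leaf 82642156)) (.node (.leaf 82773230) (.leaf 63505648))) (.node (.node (.leaf 82969841) (.leaf 83035019)) (.node (.leaf 83166452) (.leaf 83297526)))) (.node (.node (.node (.leaf 83428600) (.leaf 12125434)) (.node (.leaf 83625211) (.leaf 83756285))) (.node (.node (.leaf 83887359)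 (.leaf 24970497)) (.node (.leaf 84083970) (.leaf 84215044))))) (.node (.node (.node (.node (.leaf 63374598) (.leaf 77923591)) (.node (.leaf 28181768) (.leaf 84542729))) (.node (.node (.leaf 84673803) (.leaf 84804877)) (.node (.leaf 18744591) (.leaf 19596560)))) (.node (.node (.node (.leaf 85001324) (.leaf 85132562)) (.node (.leaf 85197701) (.leaf 85329173))) (.node (.node (.leaf 85460247) (.leaf 85591321)) (.node (.leaf 85722395) (.leaf 85853469))))))) (.node (.node (.node (.node (.node (.node (.leaf 85984543) (.leaf 86048794)) (.node (.leaf 86181154) (.leaf 86312228))) (.node (.node (.leaf 86443302) (.leaf 86574376)) (.node (.leaf 86705450) (.leaf 86836524)))) (.node (.node (.node (.leaf 82249006) (.leaf 87033135)) (.node (.leaf 87098155) (.leaf 87229746))) (.node (.node (.leaf 87360820) (.leaf 87491894)) (.node (.leaf 87622968) (.leaf 87754042))))) (.node (.node (.node (.node (.leaf 87885116) (.leaf 88016190)) (.node (.leaf 88147264) (.leaf 88278338))) (.node (.node (.leaf 88409412) (.leaf 88540486)) (.node (.leaf 88671560) (.leaf 88802634)))) (.node (.node (.node (.leaf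 88933708) (.leaf 89064782)) (.node (.leaf 89195856) (.leaf 89326930))) (.node (.node (.leaf 89458004) (.leaf 89589078)) (.node (.leaf 89654526) (.leaf 89785689)))))) (.node (.node (.node (.node (.node (.leaf 13174107) (.leaf 89982300)) (.node (.leaf 90047404) (.leaf 90178911))) (.node (.node (.leaf 90309985) (.leaf 90441059)) (.node (.leaf 90572133) (.leaf 90703207)))) (.node (.node (.node (.leaf 90834281) (.leaf 90965355)) (.node (.leaf 91096429) (.leaf 91227503))) (.node (.node (.leaf 91358577) (.leaf 91489651)) (.node (.leaf 91620725) (.leaf 91751799))))) (.node (.node (.node (.node (.leaf 91882873) (.leaf 92013947)) (.node (.leaf 92145021) (.leaf 92209293))) (.node (.node (.leaf 92341632) (.leaf 26543490)) (.node (.leaf 92538243) (.leaf 92669317)))) (.node (.node (.node (.leaf 92800391) (.leaf 92931465)) (.node (.leaf 93062539) (.leaf 93193613))) (.node (.node (.leaf 93257816) (.leaf 93390224)) (.node (.leaf 80348562) (.leaf 93586835))))))))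

def k4Next_3 : H52.TCert.Tr := .node (.node (.node (.node (.node (.node (.node (.node (.leaf 88868141) (.leaf 93717909)) (.node (.leaf 31131031) (.leaf 93914520))) (.node (.node (.leaf 93979133) (.leaf 94111131)) (.node (.leaf 94242205) (.leaf 94373279)))) (.node (.node (.node (.leaf 94504353) (.leaf 94635427)) (.node (.leaf 94699532) (.leaf 94766346))) (.node (.node (.leaf 94897575) (.leaf 95028649)) (.node (.leaf 93128107) (.leaf 95225260))))) (.node (.node (.node (.node (.leaf 95356334) (.leaf 95420861)) (.node (.leaf 95552945) (.leaf 95684019))) (.node (.node (.leaf 95815093) (.leaf 95946167)) (.node (.leaf 43845049) (.leaf 96142778)))) (.node (.node (.node (.leaf 96273852) (.leaf 96404926)) (.node (.leaf 96536000) (.leaf 96667074))) (.node (.node (.leaf 14222788) (.leaf 96863685)) (.node (.leaf 96928311) (.leaf 97060296)))))) (.node (.node (.node (.node (.node (.leaf 97191370) (.leaf 97256660)) (.node (.leaf 97322072) (.leaf 97453518))) (.node (.node (.leaf 90637776) (.leaf 97650129)) (.node (.leaf 97714881) (.leaf 97846740)))) (.node (.node (.node (.leaf 97977814) (.leaf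 98108888)) (.node (.leaf 98239962) (.leaf 98371036))) (.node (.node (.leaf 98502110) (.leaf 98633184)) (.node (.leaf 98764258) (.leaf 98895332))))) (.node (.node (.node (.node (.leaf 99026406) (.leaf 99157480)) (.node (.leaf 99288554) (.leaf 99419628))) (.node (.node (.leaf 99550702) (.leaf 99681776)) (.node (.leaf 99746824) (.leaf 99812340)))) (.node (.node (.node (.leaf 99943924) (.leaf 95618550)) (.node (.leaf 100140535) (.leaf 100271609))) (.node (.node (.leaf 100402683) (.leaf 100533757)) (.node (.leaf 1377791) (.leaf 100730368))))))) (.node (.node (.node (.node (.node (.node (.leaf 329218) (.leaf 100926979)) (.node (.leaf 101058053) (.leaf 101189127))) (.node (.node (.leaf 101320201) (.leaf 101451275)) (.node (.leaf 101582349) (.leaf 101647494)))) (.node (.node (.node (.leaf 52561424) (.leaf 101844497)) (.node (.leaf 101975571) (.leaf 102106645))) (.node (.node (.leaf 102237719) (.leaf 102368793)) (.node (.leaf 102499867) (.leaf 102630941))))) (.node (.node (.node (.node (.leaf 102695543) (.leaf 102827552)) (.node (.leaf 15271458) (.leaf 3081763))) (.node (.node (.leaf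 103089700) (.leaf 103220774)) (.node (.leaf 103351848) (.leaf 103482922)))) (.node (.node (.node (.leaf 103613996) (.leaf 103745070)) (.node (.leaf 71239216) (.leaf 103941681))) (.node (.node (.leaf 104072755) (.leaf 104203829)) (.node (.leaf 104334903) (.leaf 104465977)))))) (.node (.node (.node (.node (.node (.leaf 104597051) (.leaf 104728125)) (.node (.leaf 104859199) (.leaf 104990273))) (.node (.node (.leaf 105121347) (.leaf 105252421)) (.node (.leaf 30410311) (.leaf 105449032)))) (.node (.node (.node (.leaf 105514422) (.leaf 105645643)) (.node (.leaf 105776717) (.leaf 105907791))) (.node (.node (.leaf 106038865) (.leaf 106104119)) (.node (.leaf 106169612) (.leaf 76023381))))) (.node (.node (.node (.node (.leaf 70059321) (.leaf 106366550)) (.node (.leaf 106497624) (.leaf 106628698))) (.node (.node (.leaf 106759772) (.leaf 106823694)) (.node (.leaf 106956383) (.leaf 107087457)))) (.node (.node (.node (.leaf 107218531) (.leaf 96798309)) (.node (.leaf 26412646) (.leaf 107480679))) (.node (.node (.leaf 107611753) (.leaf 107742827)) (.node (.leaf 107873901) (.leaf 108004975))))))))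 (.node (.node (.node (.node (.node (.node (.node (.leaf 81790577) (.leaf 108201586)) (.node (.leaf 108332660) (.leaf 108463734))) (.node (.node (.leaf 108594808) (.leaf 108725882)) (.node (.leaf 16254588) (.leaf 108922493)))) (.node (.node (.node (.leaf 109053567) (.leaf 109118773)) (.node (.leaf 105383554) (.leaf 109315715))) (.node (.node (.leaf 109446789) (.leaf 81725063)) (.node (.leaf 103679624) (.leaf 109642909))))) (.node (.node (.node (.node (.leaf 109774474) (.leaf 109905548)) (.node (.leaf 110036622) (.leaf 26674832))) (.node (.node (.leaf 27461265) (.leaf 110233082)) (.node (.leaf 110364307) (.leaf 110495381)))) (.node (.node (.node (.leaf 62588567) (.leaf 110691992)) (.node (.leaf 110823066) (.leaf 110954140))) (.node (.node (.leaf 111085214) (.leaf 111216288)) (.node (.leaf 111347362) (.leaf 111478436)))))) (.node (.node (.node (.node (.node (.leaf 111609510) (.leaf 111740584)) (.node (.leaf 111871658) (.leaf 112002732))) (.node (.node (.leaf 112133806) (.leaf 22677168)) (.node (.leaf 112330417) (.leaf 112461491)))) (.node (.node (.node (.leaf 112592565) (.leaf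 112723639)) (.node (.leaf 112854713) (.leaf 112985787))) (.node (.node (.leaf 113116861) (.leaf 113247935)) (.node (.leaf 113379009) (.leaf 113510083))))) (.node (.node (.node (.node (.leaf 113641157) (.leaf 113772231)) (.node (.leaf 113903305) (.leaf 114034379))) (.node (.node (.leaf 114165453) (.leaf 114296527)) (.node (.leaf 114427601) (.leaf 17172179)))) (.node (.node (.node (.leaf 114624212) (.leaf 114689144)) (.node (.leaf 114754819) (.leaf 114886360))) (.node (.node (.leaf 115017434) (.leaf 87951068)) (.node (.leaf 115214045) (.leaf 115345119))))))) (.node (.node (.node (.node (.node (.node (.leaf 77072097) (.leaf 115541730)) (.node (.leaf 21169892) (.leaf 115738341))) (.node (.node (.leaf 115803443) (.leaf 115934952)) (.node (.leaf 116066026) (.leaf 116197100)))) (.node (.node (.node (.leaf 116261052) (.leaf 116393711)) (.node (.leaf 116524785) (.leaf 76154611))) (.node (.node (.leaf 34211572) (.leaf 116721336)) (.node (.leaf 116852470) (.leaf 116917638))))) (.node (.node (.node (.node (.leaf 117049081) (.leaf 117180155)) (.node (.leaf 117311229) (.leaf 117442303)))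 (.node (.node (.leaf 117573377) (.leaf 93652739)) (.node (.leaf 113313540) (.leaf 76547845)))) (.node (.node (.node (.leaf 38799110) (.leaf 117966599)) (.node (.leaf 97387198) (.leaf 118097673))) (.node (.node (.leaf 118228747) (.leaf 110888717)) (.node (.leaf 118358032) (.leaf 118490895)))))) (.node (.node (.node (.node (.node (.leaf 105187089) (.leaf 117113524)) (.node (.leaf 118687506) (.leaf 118818580))) (.node (.node (.leaf 118882867) (.leaf 119015191)) (.node (.leaf 119146265) (.leaf 119277339)))) (.node (.node (.node (.leaf 119342415) (.leaf 119473950)) (.node (.leaf 96470716) (.leaf 119605024))) (.node (.node (.leaf 119736098) (.leaf 18220836)) (.node (.leaf 91555621) (.leaf 119998246))))) (.node (.node (.node (.node (.leaf 120129320) (.leaf 120260394)) (.node (.leaf 120391468) (.leaf 115148590))) (.node (.node (.leaf 120588079) (.leaf 120719153)) (.node (.leaf 120850227) (.leaf 120981301)))) (.node (.node (.node (.leaf 121046145) (.leaf 121111198)) (.node (.leaf 121243449) (.leaf 121374523))) (.node (.node (.leaf 121505597) (.leaf 121636671)) (.node (.leaf 121767745)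 (.leaf 83560259))))))))

def k4Next_4 : H52.TCert.Tr := .node (.node (.node (.node (.node (.node (.node (.node (.leaf 121964356) (.leaf 122095430)) (.node (.leaf 122159975) (.leaf 122226349))) (.node (.node (.leaf 122357578) (.leaf 122422509)) (.node (.leaf 122488127) (.leaf 119080782)))) (.node (.node (.node (.leaf 122685263) (.leaf 122816337)) (.node (.leaf 122947411) (.leaf 123078485))) (.node (.node (.leaf 123209559) (.leaf 123340633)) (.node (.leaf 123471707) (.leaf 123602781))))) (.node (.node (.node (.node (.leaf 460639) (.leaf 123799392)) (.node (.leaf 123930466) (.leaf 124061540))) (.node (.node (.leaf 124192614) (.leaf 124323688)) (.node (.leaf 124454762) (.leaf 124519009)))) (.node (.node (.node (.leaf 124651373) (.leaf 124782447)) (.node (.leaf 124847536) (.leaf 124979058))) (.node (.node (.leaf 125110132) (.leaf 125241206)) (.node (.leaf 125372280) (.leaf 125503354)))))) (.node (.node (.node (.node (.node (.leaf 125634428) (.leaf 19203966)) (.node (.leaf 4130687) (.leaf 125896576))) (.node (.node (.leaf 41158530) (.leaf 126093187)) (.node (.leaf 126224261) (.leaf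 93325191)))) (.node (.node (.node (.leaf 126420872) (.leaf 126551946)) (.node (.leaf 126683020) (.leaf 126747484))) (.node (.node (.leaf 126879631) (.leaf 127010705)) (.node (.leaf 127141779) (.leaf 127272853))))) (.node (.node (.node (.node (.leaf 127403927) (.leaf 127535001)) (.node (.leaf 127598843) (.leaf 127731612))) (.node (.node (.leaf 127862686) (.leaf 127993760)) (.node (.leaf 128124834) (.leaf 128255908)))) (.node (.node (.node (.leaf 128386982) (.leaf 128518056)) (.node (.leaf 128649130) (.leaf 120914618))) (.node (.node (.leaf 128780204) (.leaf 128911278)) (.node (.leaf 129042352) (.leaf 11601842))))))) (.node (.node (.node (.node (.node (.node (.leaf 129238963) (.leaf 129370037)) (.node (.leaf 129434867) (.leaf 129566648))) (.node (.node (.leaf 129630226) (.leaf 129763259)) (.node (.leaf 129894333) (.leaf 130025407)))) (.node (.node (.node (.leaf 119867329) (.leaf 34080379)) (.node (.leaf 130156110) (.leaf 130287555))) (.node (.node (.leaf 130418629) (.leaf 97518820)) (.node (.leaf 130482380) (.leaf 130615240))))) (.node (.node (.node (.node (.leaf 114362314)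 (.leaf 130811851)) (.node (.leaf 130876702) (.leaf 131008462))) (.node (.node (.leaf 131139536) (.leaf 131270610)) (.node (.leaf 20252628) (.leaf 131467221)))) (.node (.node (.node (.leaf 131598295) (.leaf 40437721)) (.node (.leaf 131794906) (.leaf 131925980))) (.node (.node (.leaf 114230890) (.leaf 126355422)) (.node (.leaf 43190239) (.leaf 132188128)))))) (.node (.node (.node (.node (.node (.leaf 132319202) (.leaf 35129316)) (.node (.leaf 132450130) (.leaf 132515096))) (.node (.node (.leaf 132646887) (.leaf 132711332)) (.node (.leaf 132843498) (.leaf 132974572)))) (.node (.node (.node (.leaf 133105646) (.leaf 107939824)) (.node (.leaf 133234730) (.leaf 133367794))) (.node (.node (.leaf 133498868) (.leaf 133629942)) (.node (.leaf 133761016) (.leaf 133892090))))) (.node (.node (.node (.node (.leaf 133957009) (.leaf 130222077)) (.node (.leaf 134154238) (.leaf 134218949))) (.node (.node (.leaf 134350849) (.leaf 134481923)) (.node (.leaf 134612997) (.leaf 134744071)))) (.node (.node (.node (.leaf 107808777) (.leaf 134940682)) (.node (.leaf 135071756) (.leaf 135202830))) (.node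 (.node (.leaf 135333904) (.leaf 135464978)) (.node (.leaf 135596052) (.leaf 135727126)))))))) (.node (.node (.node (.node (.node (.node (.node (.leaf 135858200) (.leaf 135989274)) (.node (.leaf 136120348) (.leaf 136251422))) (.node (.node (.leaf 26282016) (.leaf 136448033)) (.node (.leaf 136513494) (.leaf 136644644)))) (.node (.node (.node (.leaf 21301286) (.leaf 136841255)) (.node (.leaf 136906045) (.leaf 137037866))) (.node (.node (.leaf 137102982) (.leaf 137234477)) (.node (.leaf 137365551) (.leaf 137496625))))) (.node (.node (.node (.node (.leaf 137627699) (.leaf 137758773)) (.node (.leaf 137889847) (.leaf 138020921))) (.node (.node (.leaf 138151995) (.leaf 138283069)) (.node (.leaf 138414143) (.leaf 138545217)))) (.node (.node (.node (.leaf 138676291) (.leaf 138739977)) (.node (.leaf 138872902) (.leaf 41945160))) (.node (.node (.leaf 139069513) (.leaf 139200587)) (.node (.leaf 139331661) (.leaf 139462735)))))) (.node (.node (.node (.node (.node (.leaf 139593809) (.leaf 139657367)) (.node (.leaf 139790420) (.leaf 128714838))) (.node (.node (.leaf 139987031) (.leaf 135923708))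 (.node (.leaf 140118105) (.leaf 46139483)))) (.node (.node (.node (.leaf 140248745) (.leaf 140313528)) (.node (.leaf 140445790) (.leaf 140576864))) (.node (.node (.leaf 140707938) (.leaf 140839012)) (.node (.leaf 140970086) (.leaf 141033492))))) (.node (.node (.node (.node (.leaf 141101025) (.leaf 141232234)) (.node (.leaf 141363308) (.leaf 139528302))) (.node (.node (.leaf 141559919) (.leaf 141690993)) (.node (.leaf 141755042) (.leaf 141887604)))) (.node (.node (.node (.leaf 141952530) (.leaf 49023095)) (.node (.leaf 142149752) (.leaf 142215094))) (.node (.node (.leaf 142280517) (.leaf 95291516)) (.node (.leaf 137431165) (.leaf 142542974))))))) (.node (.node (.node (.node (.node (.node (.leaf 142607466) (.leaf 142739585)) (.node (.leaf 142870659) (.leaf 143001733))) (.node (.node (.leaf 143132807) (.leaf 143263881)) (.node (.leaf 143394955) (.leaf 143526029)))) (.node (.node (.node (.leaf 143657103) (.leaf 88737937)) (.node (.leaf 143853714) (.leaf 143918520))) (.node (.node (.leaf 143984109) (.leaf 144115862)) (.node (.leaf 144246936) (.leaf 144311678))))) (.node (.node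 (.node (.node (.leaf 144377592) (.leaf 28444828)) (.node (.leaf 144508457) (.leaf 144640158))) (.node (.node (.leaf 144704407) (.leaf 2427041)) (.node (.leaf 144902306) (.leaf 592036)))) (.node (.node (.node (.leaf 145032681) (.leaf 145164454)) (.node (.leaf 145295528) (.leaf 145359621))) (.node (.node (.leaf 145425129) (.leaf 145557676)) (.node (.leaf 145622892) (.leaf 79431855)))))) (.node (.node (.node (.node (.node (.leaf 145819824) (.leaf 145950898)) (.node (.leaf 146081972) (.leaf 146213046))) (.node (.node (.leaf 146344120) (.leaf 146407820)) (.node (.leaf 146540731) (.leaf 146605094)))) (.node (.node (.node (.leaf 146670913) (.leaf 23201983)) (.node (.leaf 5179584) (.leaf 146933953))) (.node (.node (.leaf 146998611) (.leaf 147130564)) (.node (.leaf 147261638) (.leaf 147324982))))) (.node (.node (.node (.node (.leaf 120326345) (.leaf 147523786)) (.node (.leaf 147654860) (.leaf 147785934))) (.node (.node (.leaf 147917008) (.leaf 148048082)) (.node (.leaf 148179156) (.leaf 148310230)))) (.node (.node (.node (.leaf 148375025) (.leaf 148439430)) (.node (.leaf 148572378)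 (.leaf 45418716))) (.node (.node (.leaf 148768989) (.leaf 148832693)) (.node (.leaf 148965600) (.leaf 149096674))))))))

def k4Next_5 : H52.TCert.Tr := .node (.node (.node (.node (.node (.node (.node (.node (.leaf 149227748) (.leaf 149358822)) (.node (.leaf 149424134) (.leaf 149489635))) (.node (.node (.leaf 124586218) (.leaf 119670792)) (.node (.leaf 49809643) (.leaf 149752044)))) (.node (.node (.node (.leaf 149883118) (.leaf 149946390)) (.node (.leaf 150079729) (.leaf 150210803))) (.node (.node (.leaf 150341877) (.leaf 48236791)) (.node (.leaf 41812904) (.leaf 150538488))))) (.node (.node (.node (.node (.leaf 150669562) (.leaf 150800636)) (.node (.leaf 150931710) (.leaf 151062784))) (.node (.node (.leaf 151193858) (.leaf 151324932)) (.node (.leaf 151456006) (.leaf 151587080)))) (.node (.node (.node (.leaf 151718154) (.leaf 24185100)) (.node (.leaf 151914765) (.leaf 152045839))) (.node (.node (.leaf 152111108) (.leaf 148703506)) (.node (.leaf 152307987) (.leaf 152439061)))))) (.node (.node (.node (.node (.node (.leaf 130091287) (.leaf 152569729)) (.node (.leaf 152701209)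 (.leaf 152832283))) (.node (.node (.leaf 31066397) (.leaf 7276830)) (.node (.leaf 42469663) (.leaf 153094303)))) (.node (.node (.node (.leaf 153225505) (.leaf 153356579)) (.node (.leaf 13568293) (.leaf 153486132))) (.node (.node (.leaf 153618727) (.leaf 153749801)) (.node (.leaf 153880875) (.leaf 154011949))))) (.node (.node (.node (.node (.leaf 154143023) (.leaf 154274097)) (.node (.leaf 154405171) (.leaf 154536245))) (.node (.node (.leaf 154667319) (.leaf 154798393)) (.node (.leaf 38209851) (.leaf 154995004)))) (.node (.node (.node (.leaf 155126078) (.leaf 155257152)) (.node (.leaf 155388226) (.leaf 155519300))) (.node (.node (.leaf 155650374) (.leaf 155781448)) (.node (.leaf 140052810) (.leaf 111282507))))))) (.node (.node (.node (.node (.node (.node (.leaf 155975910) (.leaf 156109133)) (.node (.leaf 156240207) (.leaf 39782737))) (.node (.node (.leaf 156436818) (.leaf 156501019)) (.node (.leaf 156633429) (.leaf 156764503)))) (.node (.node (.node (.leaf 156895577) (.leaf 157026651)) (.node (.leaf 157157725) (.leaf 70322527))) (.node (.node (.leaf 157354336) (.leaf 157485410))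 (.node (.leaf 25102692) (.leaf 157682021))))) (.node (.node (.node (.node (.leaf 157746689) (.leaf 157812356)) (.node (.leaf 128846185) (.leaf 158009706))) (.node (.node (.leaf 158140780) (.leaf 85920110)) (.node (.leaf 73794517) (.leaf 102762863)))) (.node (.node (.node (.leaf 28969328) (.leaf 158468465)) (.node (.leaf 127076022) (.leaf 20515187))) (.node (.node (.leaf 49154420) (.leaf 158730613)) (.node (.leaf 158861687) (.leaf 158926477)))))) (.node (.node (.node (.node (.node (.leaf 159058298) (.leaf 159189372)) (.node (.leaf 159320446) (.leaf 159451520))) (.node (.node (.leaf 86378882) (.leaf 87165315)) (.node (.leaf 159713668) (.leaf 156305798)))) (.node (.node (.node (.leaf 102304135) (.leaf 53545352)) (.node (.leaf 160041353) (.leaf 81855387))) (.node (.node (.leaf 126944256) (.leaf 160172427)) (.node (.leaf 71436685) (.leaf 160369038))))) (.node (.node (.node (.node (.leaf 160434027) (.leaf 160497688)) (.node (.leaf 160631186) (.leaf 160762260))) (.node (.node (.leaf 160827297) (.leaf 159253393)) (.node (.leaf 160958871) (.leaf 161089945)))) (.node (.node (.node (.leaf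 82903831) (.leaf 161221019)) (.node (.leaf 161352093) (.leaf 161483167))) (.node (.node (.leaf 154470456) (.leaf 161614241)) (.node (.leaf 161745315) (.leaf 161876389)))))))) (.node (.node (.node (.node (.node (.node (.node (.leaf 162007463) (.leaf 162138537)) (.node (.leaf 26151339) (.leaf 158665132))) (.node (.node (.leaf 162400685) (.leaf 162531759)) (.node (.leaf 162662833) (.leaf 162793907)))) (.node (.node (.node (.leaf 162924981) (.leaf 158206391)) (.node (.leaf 66259384) (.leaf 163187129))) (.node (.node (.leaf 163318203) (.leaf 163383456)) (.node (.leaf 163448330) (.leaf 163580351))))) (.node (.node (.node (.node (.leaf 163711425) (.leaf 163842499)) (.node (.leaf 163973573) (.leaf 108857799))) (.node (.node (.leaf 164170184) (.leaf 164301258)) (.node (.leaf 164364356) (.leaf 164497869)))) (.node (.node (.node (.leaf 164628943) (.leaf 164693614)) (.node (.leaf 164825554) (.leaf 161286612))) (.node (.node (.leaf 164955146) (.leaf 165019948)) (.node (.leaf 113443898) (.leaf 165153239)))))) (.node (.node (.node (.node (.node (.leaf 165284313) (.leaf 165415387)) (.node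 (.leaf 165546461) (.leaf 124914143))) (.node (.node (.leaf 723424) (.leaf 165808609)) (.node (.leaf 165939683) (.leaf 166070757)))) (.node (.node (.node (.leaf 166201831) (.leaf 166332905)) (.node (.leaf 166396737) (.leaf 92735980))) (.node (.node (.leaf 166595053) (.leaf 166726127)) (.node (.leaf 166857201) (.leaf 166920533))))) (.node (.node (.node (.node (.leaf 166988054) (.leaf 167051517)) (.node (.leaf 167184886) (.leaf 167315960))) (.node (.node (.leaf 167447034) (.leaf 27134460)) (.node (.leaf 6228477) (.leaf 167709182)))) (.node (.node (.node (.leaf 55839232) (.leaf 167905793)) (.node (.leaf 168036867) (.leaf 168167941))) (.node (.node (.leaf 45680370) (.leaf 168299015)) (.node (.leaf 18876937) (.leaf 78318090))))))) (.node (.node (.node (.node (.node (.node (.leaf 168561163) (.leaf 168626141)) (.node (.leaf 168757774) (.leaf 168888848))) (.node (.node (.leaf 169019922) (.leaf 169085344)) (.node (.leaf 169216533) (.leaf 169347607)))) (.node (.node (.node (.leaf 169478681) (.leaf 169609755)) (.node (.leaf 169740829) (.leaf 169871903))) (.node (.node (.leaf 170002977)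 (.leaf 170134051)) (.node (.leaf 15730701) (.leaf 170199322))))) (.node (.node (.node (.node (.leaf 170330662) (.leaf 170395253)) (.node (.leaf 170460336) (.leaf 170592810))) (.node (.node (.leaf 170657515) (.leaf 170789421)) (.node (.leaf 170852948) (.leaf 170919661)))) (.node (.node (.node (.leaf 171051569) (.leaf 171114818)) (.node (.leaf 171248180) (.leaf 171379254))) (.node (.node (.leaf 157420088) (.leaf 123865657)) (.node (.leaf 171574943) (.leaf 148113979)))))) (.node (.node (.node (.node (.node (.leaf 65866300) (.leaf 171771941)) (.node (.leaf 28117566) (.leaf 171969087))) (.node (.node (.leaf 172100161) (.leaf 172231235)) (.node (.leaf 55118405) (.leaf 172427846)))) (.node (.node (.node (.leaf 172492827) (.leaf 157289033)) (.node (.leaf 168102474) (.leaf 57870923))) (.node (.node (.leaf 172754159) (.leaf 172820425)) (.node (.leaf 65669710) (.leaf 49285711))))) (.node (.node (.node (.node (.leaf 50072144) (.leaf 142805462)) (.node (.leaf 173082265) (.leaf 173214290))) (.node (.node (.leaf 173345364) (.leaf 173410535)) (.node (.leaf 173541975) (.leaf 173673049))))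 (.node (.node (.node (.leaf 173735994) (.leaf 173803602)) (.node (.leaf 173935197) (.leaf 174000400))) (.node (.node (.leaf 174131808) (.leaf 174196308)) (.node (.leaf 174328419) (.leaf 174459493))))))))

def k4Next_6 : H52.TCert.Tr := .node (.node (.node (.node (.node (.node (.node (.node (.leaf 174590567) (.leaf 149162601)) (.node (.leaf 174787178) (.leaf 145885804))) (.node (.node (.leaf 174983789) (.leaf 175114863)) (.node (.leaf 175245937) (.leaf 175377011)))) (.node (.node (.node (.leaf 175440568) (.leaf 175573622)) (.node (.leaf 18090616) (.leaf 175770233))) (.node (.node (.leaf 175901307) (.leaf 175965948)) (.node (.leaf 176097918) (.leaf 23923266))))) (.node (.node (.node (.node (.leaf 176228992) (.leaf 29100674)) (.node (.leaf 176425603) (.leaf 176490292))) (.node (.node (.leaf 85658246) (.leaf 176687751)) (.node (.leaf 23792265) (.leaf 176817948)))) (.node (.node (.node (.leaf 176949899) (.leaf 177080973)) (.node (.leaf 177212047) (.leaf 177343121))) (.node (.node (.leaf 177474195) (.leaf 177605269)) (.node (.leaf 177736343) (.leaf 177867417)))))) (.node (.node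 (.node (.node (.node (.leaf 177998491) (.leaf 178061698)) (.node (.leaf 178128788) (.leaf 56560287))) (.node (.node (.leaf 178259824) (.leaf 178391713)) (.node (.leaf 178522787) (.leaf 178586213)))) (.node (.node (.node (.leaf 178719398) (.leaf 178850472)) (.node (.leaf 178913494) (.leaf 179047083))) (.node (.node (.leaf 169937581) (.leaf 179243694)) (.node (.leaf 175638491) (.leaf 179374768))))) (.node (.node (.node (.node (.leaf 60622894) (.leaf 179505842)) (.node (.leaf 179636916) (.leaf 179700691))) (.node (.node (.leaf 5442231) (.leaf 179830812)) (.node (.leaf 179898956) (.leaf 179964137)))) (.node (.node (.node (.leaf 180095675) (.leaf 178784105)) (.node (.leaf 86903485) (.leaf 180225944))) (.node (.node (.leaf 180290431) (.leaf 79694528)) (.node (.leaf 180422424) (.leaf 180554434))))))) (.node (.node (.node (.node (.node (.node (.leaf 180685508) (.leaf 97913542)) (.node (.leaf 180882119) (.leaf 180945441))) (.node (.node (.leaf 181010949) (.leaf 181077009)) (.node (.leaf 181209804) (.leaf 30018254)))) (.node (.node (.node (.leaf 181406415) (.leaf 181470593)) (.node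 (.leaf 181603026) (.leaf 181734100))) (.node (.node (.leaf 181799463) (.leaf 181864905)) (.node (.leaf 181996248) (.leaf 176753370))))) (.node (.node (.node (.node (.leaf 182192859) (.leaf 182257144)) (.node (.leaf 182389470) (.leaf 182520544))) (.node (.node (.leaf 182651618) (.leaf 182782692)) (.node (.leaf 182847867) (.leaf 182979303)))) (.node (.node (.node (.leaf 183044335) (.leaf 183175914)) (.node (.leaf 183306988) (.leaf 3476206))) (.node (.node (.leaf 183503599) (.leaf 854769)) (.node (.leaf 183700210) (.leaf 40241908)))))) (.node (.node (.node (.node (.node (.leaf 83364597) (.leaf 183962358)) (.node (.leaf 184093432) (.leaf 184224506))) (.node (.node (.leaf 184289771) (.leaf 105712381)) (.node (.leaf 184486654) (.leaf 83954432)))) (.node (.node (.node (.leaf 184683265) (.leaf 184814339)) (.node (.leaf 77466373) (.leaf 184944518))) (.node (.node (.leaf 185076487) (.leaf 185207561)) (.node (.leaf 185338635) (.leaf 185469709))))) (.node (.node (.node (.node (.leaf 185600783) (.leaf 162859793)) (.node (.leaf 185797394) (.leaf 185928468))) (.node (.node (.leaf 116984598)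 (.leaf 79563543)) (.node (.leaf 186190616) (.leaf 186321690)))) (.node (.node (.node (.leaf 186452764) (.leaf 186583838)) (.node (.leaf 186714912) (.leaf 186845986))) (.node (.node (.leaf 186977060) (.leaf 59902758)) (.node (.leaf 187173671) (.leaf 187239107)))))))) (.node (.node (.node (.node (.node (.node (.node (.leaf 187370282) (.leaf 187501356)) (.node (.leaf 153160494) (.leaf 187629612))) (.node (.node (.leaf 187697741) (.leaf 166529841)) (.node (.leaf 161942120) (.leaf 187894578)))) (.node (.node (.node (.leaf 187959134) (.leaf 188091189)) (.node (.leaf 188153886) (.leaf 75959096))) (.node (.node (.leaf 188353337) (.leaf 188484411)) (.node (.leaf 181340989) (.leaf 56429374))))) (.node (.node (.node (.node (.leaf 188746559) (.leaf 188877633)) (.node (.leaf 189008707) (.leaf 22940485))) (.node (.node (.leaf 189138772) (.leaf 142019399)) (.node (.leaf 189336392) (.leaf 189467466)))) (.node (.node (.node (.leaf 189598540) (.leaf 189729614)) (.node (.leaf 32050000) (.leaf 85789521))) (.node (.node (.leaf 189991762) (.leaf 190057062)) (.node (.leaf 187108181) (.leaf 190253910))))))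 (.node (.node (.node (.node (.node (.leaf 190384984) (.leaf 125766490)) (.node (.leaf 185535323) (.leaf 190581247))) (.node (.node (.leaf 146017117) (.leaf 75238238)) (.node (.leaf 190843743) (.leaf 56691553)))) (.node (.node (.node (.leaf 57477986) (.leaf 191040233)) (.node (.leaf 191171428) (.leaf 191302502))) (.node (.node (.leaf 156566568) (.leaf 191433576)) (.node (.leaf 191564650) (.leaf 191695724))))) (.node (.node (.node (.node (.leaf 191826798) (.leaf 81333104)) (.node (.leaf 192023409) (.leaf 192154483))) (.node (.node (.leaf 192285557) (.leaf 85068663)) (.node (.leaf 192482168) (.leaf 192613242)))) (.node (.node (.node (.leaf 138087292) (.leaf 52956029)) (.node (.leaf 192875390) (.leaf 192938276))) (.node (.node (.leaf 193072001) (.leaf 193203075)) (.node (.leaf 193266381) (.leaf 193399686))))))) (.node (.node (.node (.node (.node (.node (.leaf 193462482) (.leaf 193596297)) (.node (.leaf 193727371) (.leaf 32770957))) (.node (.node (.leaf 193923982) (.leaf 135004984)) (.node (.leaf 193989042) (.leaf 194054566)))) (.node (.node (.node (.leaf 125569938) (.leaf 194251667))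 (.node (.leaf 36703125) (.leaf 194448278))) (.node (.node (.leaf 194512898) (.leaf 194578780)) (.node (.leaf 194710426) (.leaf 194841500))))) (.node (.node (.node (.node (.leaf 165740856) (.leaf 194972574)) (.node (.leaf 55970720) (.leaf 124717985))) (.node (.node (.leaf 63245218) (.leaf 195234115)) (.node (.leaf 195365796) (.leaf 195430476)))) (.node (.node (.node (.leaf 195562407) (.leaf 195693481)) (.node (.leaf 195824555) (.leaf 195955629))) (.node (.node (.leaf 196086703) (.leaf 3214257)) (.node (.leaf 125042925) (.leaf 67242930)))))) (.node (.node (.node (.node (.node (.leaf 196348851) (.leaf 142345319)) (.node (.leaf 196479925) (.leaf 196610999))) (.node (.node (.leaf 153684921) (.leaf 196739104)) (.node (.leaf 196873147) (.leaf 148507581)))) (.node (.node (.node (.leaf 195626080) (.leaf 197069758)) (.node (.leaf 197200832) (.leaf 197264361))) (.node (.node (.leaf 197397443) (.leaf 197462434)) (.node (.leaf 197594054) (.leaf 197658653))))) (.node (.node (.node (.node (.leaf 197724568) (.leaf 141822279)) (.node (.leaf 100076490) (.leaf 197921739))) (.node (.node (.leaf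 33819597) (.leaf 198118350)) (.node (.leaf 179768272) (.leaf 198314961)))) (.node (.node (.node (.leaf 198446035) (.leaf 198577109)) (.node (.leaf 198708183) (.leaf 198839257))) (.node (.node (.leaf 198903655) (.leaf 96011339)) (.node (.leaf 199035868) (.leaf 160697310))))))))

def k4Next_7 : H52.TCert.Tr := .node (.node (.node (.node (.node (.node (.node (.node (.leaf 199166504) (.leaf 199298016)) (.node (.leaf 199429090) (.leaf 105319396))) (.node (.node (.leaf 199625701) (.leaf 199689468)) (.node (.leaf 52169016) (.leaf 199822312)))) (.node (.node (.node (.leaf 199886791) (.leaf 200018923)) (.node (.leaf 200149997) (.leaf 200281071))) (.node (.node (.leaf 200412145) (.leaf 200543219)) (.node (.leaf 168692154) (.leaf 188025845))))) (.node (.node (.node (.node (.leaf 200739830) (.leaf 200870904)) (.node (.leaf 201001978) (.leaf 177015804))) (.node (.node (.leaf 91818099) (.leaf 201198589)) (.node (.leaf 201329663) (.leaf 201460737)))) (.node (.node (.node (.leaf 201591811) (.leaf 201722885)) (.node (.leaf 201785466) (.leaf 201919496))) (.node (.node (.leaf 69405706) (.leaf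 202116107)) (.node (.leaf 139725837) (.leaf 202246540)))))) (.node (.node (.node (.node (.node (.leaf 202310898) (.leaf 202443792)) (.node (.leaf 202507670) (.leaf 202640403))) (.node (.node (.leaf 202771477) (.leaf 202834292)) (.node (.leaf 202968088) (.leaf 203099162)))) (.node (.node (.node (.leaf 186059804) (.leaf 203295773)) (.node (.leaf 198771811) (.leaf 203426847))) (.node (.node (.leaf 19729441) (.leaf 203557302)) (.node (.leaf 203688995) (.leaf 203753421))))) (.node (.node (.node (.node (.leaf 203885606) (.leaf 203948066)) (.node (.leaf 204082217) (.leaf 204213291))) (.node (.node (.leaf 204344365) (.leaf 192678670)) (.node (.leaf 63113483) (.leaf 204409059)))) (.node (.node (.node (.leaf 204540976) (.leaf 204606043)) (.node (.leaf 142411714) (.leaf 204669256))) (.node (.node (.leaf 204736977) (.leaf 193662005)) (.node (.leaf 178654262) (.leaf 204933103))))))) (.node (.node (.node (.node (.node (.node (.leaf 205065272) (.leaf 205196346)) (.node (.leaf 205327420) (.leaf 35785790))) (.node (.node (.leaf 205524031) (.leaf 205655105)) (.node (.leaf 68684518) (.leaf 7146563))))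 (.node (.node (.node (.leaf 193530107) (.leaf 205851716)) (.node (.leaf 64097350) (.leaf 205982700))) (.node (.node (.leaf 187828201) (.leaf 206113864)) (.node (.leaf 206244938) (.leaf 150998092))))) (.node (.node (.node (.node (.leaf 206372938) (.leaf 206507086)) (.node (.leaf 206638160) (.leaf 206769234))) (.node (.node (.leaf 206900308) (.leaf 207031382)) (.node (.leaf 207095893) (.leaf 204475481)))) (.node (.node (.node (.leaf 207293530) (.leaf 207357863)) (.node (.leaf 207490141) (.leaf 207621215))) (.node (.node (.leaf 207752289) (.leaf 207883363)) (.node (.leaf 150867045) (.leaf 208079974)))))) (.node (.node (.node (.node (.node (.leaf 208142452) (.leaf 208276585)) (.node (.leaf 208407659) (.leaf 208472563))) (.node (.node (.leaf 208604270) (.leaf 208735344)) (.node (.leaf 208866418) (.leaf 208997492)))) (.node (.node (.node (.leaf 209062448) (.leaf 178457719)) (.node (.leaf 41684088) (.leaf 209325177))) (.node (.node (.leaf 209390656) (.leaf 36834428)) (.node (.leaf 209587325) (.leaf 209651723))))) (.node (.node (.node (.node (.leaf 209783936) (.leaf 209915010)) (.node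 (.leaf 189074564) (.leaf 210111621))) (.node (.node (.leaf 210242695) (.leaf 105581705)) (.node (.leaf 210373487) (.leaf 210504843)))) (.node (.node (.node (.leaf 158600333) (.leaf 210701454)) (.node (.leaf 57805968) (.leaf 210898065))) (.node (.node (.leaf 211029139) (.leaf 211091959)) (.node (.leaf 107351190) (.leaf 70192279)))))))) (.node (.node (.node (.node (.node (.node (.node (.leaf 211356824) (.leaf 211487898)) (.node (.leaf 211618972) (.leaf 27856030))) (.node (.node (.leaf 211815583) (.leaf 211878163)) (.node (.leaf 212012194) (.leaf 203361444)))) (.node (.node (.node (.leaf 208931928) (.leaf 212208805)) (.node (.leaf 73993383) (.leaf 212338996))) (.node (.node (.leaf 212403908) (.leaf 212536490)) (.node (.leaf 212599527) (.leaf 212733101))))) (.node (.node (.node (.node (.leaf 212864175) (.leaf 212926500)) (.node (.leaf 212994921) (.leaf 186911923))) (.node (.node (.leaf 213191860) (.leaf 211750070)) (.node (.leaf 213320168) (.leaf 53939384)))) (.node (.node (.node (.leaf 213451855) (.leaf 213585082)) (.node (.leaf 213649585) (.leaf 76680381))) (.node (.node (.leaf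 213847230) (.leaf 213912612)) (.node (.leaf 213977547) (.leaf 141626562)))))) (.node (.node (.node (.node (.node (.leaf 210046147) (.leaf 214240452)) (.node (.leaf 214304592) (.leaf 214437063))) (.node (.node (.leaf 214568137) (.leaf 214699211)) (.node (.leaf 214830285) (.leaf 214961359)))) (.node (.node (.node (.leaf 26938577) (.leaf 215157970)) (.node (.leaf 162335956) (.leaf 135793877))) (.node (.node (.leaf 215420118) (.leaf 215482807)) (.node (.leaf 215550101) (.leaf 215682266))))) (.node (.node (.node (.node (.leaf 215813340) (.leaf 215877700)) (.node (.leaf 215944102) (.leaf 43453664))) (.node (.node (.leaf 216074435) (.leaf 216206562)) (.node (.leaf 216270121) (.leaf 4525285)))) (.node (.node (.node (.leaf 216468710) (.leaf 1117416)) (.node (.leaf 216598675) (.leaf 158534890))) (.node (.node (.leaf 216796395) (.leaf 216859818)) (.node (.leaf 216924558) (.leaf 217058543))))))) (.node (.node (.node (.node (.node (.node (.leaf 217123531) (.leaf 127798514)) (.node (.leaf 217320691) (.leaf 217384733))) (.node (.node (.leaf 217450511) (.leaf 38734227)) (.node (.leaf 9309431)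 (.leaf 217648376)))) (.node (.node (.node (.leaf 217779450) (.leaf 217841750)) (.node (.leaf 182586621) (.leaf 217973629))) (.node (.node (.leaf 218107135) (.leaf 218238209)) (.node (.leaf 218369283) (.leaf 218432237))))) (.node (.node (.node (.node (.leaf 218565894) (.leaf 218696968)) (.node (.leaf 218761369) (.leaf 218825329))) (.node (.node (.leaf 102960396) (.leaf 218956442)) (.node (.leaf 164759917) (.leaf 219024101)))) (.node (.node (.node (.leaf 219155727) (.leaf 29494545)) (.node (.leaf 219286626) (.leaf 219352133))) (.node (.node (.leaf 200936724) (.leaf 197856356)) (.node (.leaf 219548949) (.leaf 219612651)))))) (.node (.node (.node (.node (.node (.leaf 219676710) (.leaf 219811097)) (.node (.leaf 219875952) (.leaf 219940236))) (.node (.node (.leaf 220073245) (.leaf 220204319)) (.node (.leaf 220267222) (.leaf 220400930)))) (.node (.node (.node (.leaf 220465845) (.leaf 220597541)) (.node (.leaf 39652647) (.leaf 220794152))) (.node (.node (.leaf 110431530) (.leaf 98962528)) (.node (.leaf 58264875) (.leaf 221056300))))) (.node (.node (.node (.node (.leaf 221187374) (.leaf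 221252617)) (.node (.leaf 166791881) (.leaf 221383985))) (.node (.node (.leaf 46075187) (.leaf 11341108)) (.node (.leaf 70715751) (.leaf 221580515)))) (.node (.node (.node (.leaf 221711670) (.leaf 221774723)) (.node (.leaf 3607865) (.leaf 221906125))) (.node (.node (.leaf 222039355) (.leaf 222103197)) (.node (.leaf 222169924) (.leaf 222301503))))))))

def k4Next_8 : H52.TCert.Tr := .node (.node (.node (.node (.node (.node (.node (.node (.leaf 157879617) (.leaf 222498114)) (.node (.leaf 222629188) (.leaf 222693881))) (.node (.node (.leaf 222825799) (.leaf 66653513)) (.node (.leaf 223022410) (.leaf 223153484)))) (.node (.node (.node (.leaf 184028494) (.leaf 223350095)) (.node (.leaf 223481169) (.leaf 223612243))) (.node (.node (.leaf 212143445) (.leaf 154078550)) (.node (.leaf 223805791) (.leaf 223939928))))) (.node (.node (.node (.node (.leaf 224071002) (.leaf 68095324)) (.node (.leaf 103550301) (.leaf 161810197))) (.node (.node (.leaf 47517022) (.leaf 15600991)) (.node (.leaf 224464224) (.leaf 27004258)))) (.node (.node (.node (.leaf 224660835) (.leaf 119803237)) (.node (.leaf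 224857446) (.leaf 224988520))) (.node (.node (.leaf 40570218) (.leaf 225185131)) (.node (.leaf 225249443) (.leaf 225315092)))))) (.node (.node (.node (.node (.node (.leaf 184159599) (.leaf 225512816)) (.node (.leaf 133170564) (.leaf 43978098))) (.node (.node (.leaf 225709427) (.leaf 202574145)) (.node (.leaf 36048245) (.leaf 76811638)))) (.node (.node (.node (.leaf 225971575) (.leaf 91426169)) (.node (.leaf 173148444) (.leaf 226168186))) (.node (.node (.leaf 226299260) (.leaf 31264126)) (.node (.leaf 133565823) (.leaf 134283668))))) (.node (.node (.node (.node (.leaf 226561408) (.leaf 224135991)) (.node (.leaf 146279810) (.leaf 226758019))) (.node (.node (.leaf 120524165) (.leaf 226954630)) (.node (.leaf 227019769) (.leaf 227082280)))) (.node (.node (.node (.leaf 227216778) (.leaf 48500108)) (.node (.leaf 227347483) (.leaf 226231587))) (.node (.node (.leaf 227478926) (.leaf 227610000)) (.node (.leaf 130744546) (.leaf 227741074))))))) (.node (.node (.node (.node (.node (.node (.leaf 227872148) (.leaf 89853334)) (.node (.leaf 222563466) (.leaf 228068759))) (.node (.node (.leaf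 168824217) (.leaf 7802266)) (.node (.leaf 228330907) (.leaf 228461981)))) (.node (.node (.node (.leaf 41552341) (.leaf 225906079)) (.node (.leaf 29756832) (.leaf 228724129))) (.node (.node (.leaf 7671203) (.leaf 228852530)) (.node (.leaf 228920097) (.leaf 229051814))))) (.node (.node (.node (.node (.leaf 110628264) (.leaf 229182692)) (.node (.leaf 229247146) (.leaf 229379499))) (.node (.node (.leaf 229510573) (.leaf 229641647)) (.node (.leaf 229772721) (.leaf 151848383)))) (.node (.node (.node (.leaf 229903795) (.leaf 230034869)) (.node (.leaf 230097027) (.leaf 230231480))) (.node (.node (.leaf 230295807) (.leaf 230428091)) (.node (.leaf 227806653) (.leaf 230557450)))))) (.node (.node (.node (.node (.node (.leaf 230621721) (.leaf 3344169)) (.node (.leaf 230755776) (.leaf 110562754))) (.node (.node (.leaf 230952387) (.leaf 231083461)) (.node (.leaf 201133511) (.leaf 1248712)))) (.node (.node (.node (.leaf 231345609) (.leaf 231476683)) (.node (.leaf 231540037) (.leaf 231673294))) (.node (.node (.leaf 231736696) (.leaf 231802072)) (.node (.leaf 139267538) (.leaf 232000979)))))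 (.node (.node (.node (.node (.leaf 232132053) (.leaf 232263127)) (.node (.leaf 232325698) (.leaf 232394031))) (.node (.node (.leaf 232525275) (.leaf 232588873)) (.node (.leaf 232721886) (.leaf 232852960)))) (.node (.node (.node (.leaf 232984034) (.leaf 233115108)) (.node (.leaf 233246182) (.leaf 233308407))) (.node (.node (.leaf 23661672) (.leaf 233442793)) (.node (.leaf 233507077) (.leaf 233572242)))))))) (.node (.node (.node (.node (.node (.node (.node (.leaf 233704941) (.leaf 233769883)) (.node (.leaf 233901552) (.leaf 233964549))) (.node (.node (.leaf 234032029) (.leaf 234094831)) (.node (.leaf 88998447) (.leaf 164105717)))) (.node (.node (.node (.leaf 234294774) (.leaf 224923128)) (.node (.leaf 200609273) (.leaf 162466092))) (.node (.node (.leaf 218500602) (.leaf 116657659)) (.node (.leaf 234620514) (.leaf 43126269))))) (.node (.node (.node (.node (.leaf 234819070) (.leaf 234950144)) (.node (.leaf 235015285) (.leaf 224792067))) (.node (.node (.leaf 84413956) (.leaf 235211828)) (.node (.leaf 116461062) (.leaf 76942855)))) (.node (.node (.node (.leaf 77663752) (.leaf 214502847))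 (.node (.leaf 235473190) (.leaf 235605514))) (.node (.node (.leaf 235736588) (.leaf 235798618)) (.node (.leaf 175049888) (.leaf 235865658)))))) (.node (.node (.node (.node (.node (.leaf 235998736) (.leaf 236129810)) (.node (.leaf 236260884) (.leaf 219090454))) (.node (.node (.leaf 236457495) (.leaf 236588569)) (.node (.leaf 236719643) (.leaf 162074141)))) (.node (.node (.node (.leaf 236916254) (.leaf 236979298)) (.node (.leaf 33685614) (.leaf 237112865))) (.node (.node (.leaf 237177770) (.leaf 104400339)) (.node (.leaf 39390721) (.leaf 237309476))))) (.node (.node (.node (.node (.leaf 44108410) (.leaf 237440550)) (.node (.leaf 191957976) (.leaf 132910632))) (.node (.node (.leaf 166465065) (.leaf 39259690)) (.node (.leaf 237702087) (.leaf 237767102)))) (.node (.node (.node (.leaf 237899309) (.leaf 238030383)) (.node (.leaf 238161457) (.leaf 238292531))) (.node (.node (.leaf 238423605) (.leaf 58002999)) (.node (.leaf 238551661) (.leaf 238619668))))))) (.node (.node (.node (.node (.node (.node (.leaf 83103290) (.leaf 238816827)) (.node (.leaf 238879765) (.leaf 239013438))) (.node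 (.node (.leaf 239075663) (.leaf 239210049)) (.node (.leaf 233180739) (.leaf 163122756)))) (.node (.node (.node (.leaf 239472197) (.leaf 86969475)) (.node (.leaf 239603271) (.leaf 187305545))) (.node (.node (.leaf 239732443) (.leaf 9571915)) (.node (.leaf 239865107) (.leaf 239996493))))) (.node (.node (.node (.node (.leaf 238947175) (.leaf 134021546)) (.node (.leaf 240060792) (.leaf 240125203))) (.node (.node (.leaf 128061009) (.leaf 240257988)) (.node (.leaf 240323344) (.leaf 240388851)))) (.node (.node (.node (.leaf 240520789) (.leaf 178193344)) (.node (.leaf 240584462) (.leaf 240650954))) (.node (.node (.leaf 45023685) (.leaf 240782937)) (.node (.leaf 240846919) (.leaf 240911936)))))) (.node (.node (.node (.node (.node (.leaf 241045085) (.leaf 241110506)) (.node (.leaf 241175988) (.leaf 241240396))) (.node (.node (.leaf 237637218) (.leaf 241438307)) (.node (.leaf 241502365) (.leaf 241634918)))) (.node (.node (.node (.leaf 241765992) (.leaf 241897066)) (.node (.leaf 242028140) (.leaf 242093435))) (.node (.node (.leaf 242158871) (.leaf 242290288)) (.node (.leaf 242421362)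 (.leaf 5574260))))) (.node (.node (.node (.node (.leaf 242617973) (.leaf 68554359)) (.node (.leaf 131206776) (.leaf 242880121))) (.node (.node (.leaf 243011195) (.leaf 243142269)) (.node (.leaf 243207633) (.leaf 149032576)))) (.node (.node (.node (.leaf 131665537) (.leaf 243469954)) (.node (.leaf 243601028) (.leaf 125963910))) (.node (.node (.leaf 243731468) (.leaf 243863176)) (.node (.leaf 243994250) (.leaf 244125324))))))))

def k4Next_9 : H52.TCert.Tr := .node (.node (.node (.node (.node (.node (.node (.node (.leaf 244256398) (.leaf 244387472)) (.node (.leaf 244518546) (.leaf 244649620))) (.node (.node (.leaf 195497622) (.leaf 127930007)) (.node (.leaf 244911768) (.leaf 245042842)))) (.node (.node (.node (.leaf 245173916) (.leaf 245304990)) (.node (.leaf 245436064) (.leaf 180358818))) (.node (.node (.leaf 245632675) (.leaf 86246741)) (.node (.leaf 245763749) (.leaf 245829203))))) (.node (.node (.node (.node (.leaf 96997032) (.leaf 167579305)) (.node (.leaf 221646506) (.leaf 246087756))) (.node (.node (.leaf 246156805) (.leaf 231934528)) (.node (.leaf 228265493) (.leaf 246288045))))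 (.node (.node (.node (.leaf 246419119) (.leaf 246480942)) (.node (.leaf 58134194) (.leaf 246681267))) (.node (.node (.leaf 164433589) (.leaf 240717494)) (.node (.leaf 108400311) (.leaf 247008952)))))) (.node (.node (.node (.node (.node (.leaf 247140026) (.leaf 38473404)) (.node (.leaf 247270382) (.leaf 213715776))) (.node (.node (.leaf 247402174) (.leaf 247533248)) (.node (.leaf 247664322) (.leaf 47058628)))) (.node (.node (.node (.leaf 133041861) (.leaf 95162054)) (.node (.leaf 247926291) (.leaf 245698248))) (.node (.node (.leaf 248123081) (.leaf 248254155)) (.node (.leaf 32181965) (.leaf 244321998))))) (.node (.node (.node (.node (.leaf 248447819) (.leaf 248581840)) (.node (.leaf 83234514) (.leaf 84020947))) (.node (.node (.leaf 248778351) (.leaf 95882965)) (.node (.leaf 248975062) (.leaf 224266015)))) (.node (.node (.node (.leaf 249039508) (.leaf 249171673)) (.node (.leaf 249302747) (.leaf 249433821))) (.node (.node (.leaf 129697177) (.leaf 249564895)) (.node (.leaf 249695969) (.leaf 249827043))))))) (.node (.node (.node (.node (.node (.node (.leaf 103419621) (.leaf 250023654))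 (.node (.leaf 163907011) (.leaf 210570984))) (.node (.node (.leaf 79823657) (.leaf 250220265)) (.node (.leaf 159646226) (.leaf 250351339)))) (.node (.node (.node (.leaf 250482413) (.leaf 250545270)) (.node (.leaf 148639472) (.leaf 67964657))) (.node (.node (.leaf 46534386) (.leaf 250809552)) (.node (.leaf 250941172) (.leaf 67374838))))) (.node (.node (.node (.node (.leaf 251071580) (.leaf 251203320)) (.node (.leaf 47910650) (.leaf 251399931))) (.node (.node (.leaf 251464263) (.leaf 84938494)) (.node (.leaf 251662079) (.leaf 174853889)))) (.node (.node (.node (.leaf 251858690) (.leaf 251923705)) (.node (.leaf 167382789) (.leaf 252120838))) (.node (.node (.leaf 51644233) (.leaf 252251912)) (.node (.leaf 252316260) (.leaf 252448523)))))) (.node (.node (.node (.node (.node (.leaf 249499405) (.leaf 206045615)) (.node (.leaf 231870222) (.leaf 67571471))) (.node (.node (.leaf 166661289) (.leaf 42864400)) (.node (.leaf 252775300) (.leaf 252907282)))) (.node (.node (.node (.leaf 223742626) (.leaf 131075860)) (.node (.leaf 253103893) (.leaf 253234967))) (.node (.node (.leaf 253297886)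 (.leaf 179310362)) (.node (.leaf 229968016) (.leaf 181929461))))) (.node (.node (.node (.node (.leaf 191630979) (.leaf 253427760)) (.node (.leaf 253496998) (.leaf 228396829))) (.node (.node (.leaf 48762654) (.leaf 177540625)) (.node (.leaf 253759263) (.leaf 80744225)))) (.node (.node (.node (.leaf 253888316) (.leaf 200806179)) (.node (.leaf 251793188) (.leaf 254152485))) (.node (.node (.leaf 227544871) (.leaf 254349096)) (.node (.leaf 254480170) (.leaf 254544358)))))))) (.node (.node (.node (.node (.node (.node (.node (.leaf 254608855) (.leaf 127668014)) (.node (.leaf 135139119) (.leaf 254873392))) (.node (.node (.leaf 171904818) (.leaf 127207218)) (.node (.leaf 19992371) (.leaf 255067774)))) (.node (.node (.node (.leaf 255134587) (.leaf 255200223)) (.node (.leaf 255265333) (.leaf 255397688))) (.node (.node (.leaf 255528762) (.leaf 255592596)) (.node (.leaf 255725373) (.leaf 255856447))))) (.node (.node (.node (.node (.leaf 1511233) (.leaf 255986713)) (.node (.leaf 256118595) (.leaf 256249669))) (.node (.node (.leaf 256314810) (.leaf 256446280)) (.node (.leaf 256509349) (.leaf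 256576873)))) (.node (.node (.node (.leaf 211947340) (.leaf 256707263)) (.node (.leaf 256839502) (.leaf 74125136))) (.node (.node (.leaf 257036113) (.leaf 257167187)) (.node (.leaf 257298261) (.leaf 49680215)))))) (.node (.node (.node (.node (.node (.leaf 12388519) (.leaf 257494872)) (.node (.leaf 257625946) (.leaf 178982748))) (.node (.node (.leaf 257753225) (.leaf 257820275)) (.node (.leaf 117772127) (.leaf 258019168)))) (.node (.node (.node (.leaf 246812514) (.leaf 258149777)) (.node (.leaf 258215559) (.leaf 258280335))) (.node (.node (.leaf 258412390) (.leaf 258543464)) (.node (.leaf 258674538) (.leaf 258805612))))) (.node (.node (.node (.node (.leaf 20909934) (.leaf 254412274)) (.node (.leaf 5312367) (.leaf 149818331))) (.node (.node (.leaf 216731504) (.leaf 27594609)) (.node (.leaf 71700338) (.leaf 259264371)))) (.node (.node (.node (.leaf 259328570) (.leaf 259391538)) (.node (.leaf 259457202) (.leaf 259592056))) (.node (.node (.leaf 259723130) (.leaf 89721679)) (.node (.leaf 213780794) (.leaf 259785415))))))) (.node (.node (.node (.node (.node (.node (.leaf 182061178)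 (.leaf 220725695)) (.node (.leaf 259919741) (.leaf 74911615))) (.node (.node (.leaf 206180224) (.leaf 260115032)) (.node (.leaf 260247426) (.leaf 50728836)))) (.node (.node (.node (.leaf 260444037) (.leaf 260508579)) (.node (.leaf 260640648) (.leaf 251136834))) (.node (.node (.leaf 97583428) (.leaf 260771722)) (.node (.leaf 260834254) (.leaf 90378125))))) (.node (.node (.node (.node (.leaf 260968249) (.leaf 261032531)) (.node (.leaf 261164944) (.leaf 261296018))) (.node (.node (.leaf 261427092) (.leaf 261488746)) (.node (.leaf 261623703) (.leaf 261687365)))) (.node (.node (.node (.leaf 261753516) (.leaf 22810523)) (.node (.leaf 261951388) (.leaf 68422172))) (.node (.node (.leaf 122291413) (.leaf 262082462)) (.node (.leaf 262213536) (.leaf 262344610)))))) (.node (.node (.node (.node (.node (.leaf 262475684) (.leaf 262606758)) (.node (.leaf 44240551) (.leaf 262737832))) (.node (.node (.leaf 38604401) (.leaf 262799980)) (.node (.leaf 211292075) (.leaf 262931645)))) (.node (.node (.node (.leaf 263065517) (.leaf 56298412)) (.node (.leaf 263130532) (.leaf 263196550))) (.node (.node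 (.leaf 210636721) (.leaf 51777458)) (.node (.leaf 216403891) (.leaf 263457387))))) (.node (.node (.node (.node (.leaf 263589813) (.leaf 84609881)) (.node (.leaf 263655051) (.leaf 147197880))) (.node (.node (.leaf 263851961) (.leaf 263983035)) (.node (.leaf 264114109) (.leaf 264245183)))) (.node (.node (.node (.leaf 264376257) (.leaf 264440777)) (.node (.leaf 264572868) (.leaf 264635102))) (.node (.node (.leaf 264769479) (.leaf 96604105)) (.node (.leaf 264966090) (.leaf 265097164))))))))

def k4Next_10 : H52.TCert.Tr := .node (.node (.node (.node (.node (.node (.node (.node (.leaf 265228238) (.leaf 265359312)) (.node (.leaf 242487250) (.leaf 258936787))) (.node (.node (.leaf 113182939) (.leaf 262868890)) (.node (.leaf 265621460) (.leaf 265685331)))) (.node (.node (.node (.leaf 265749434) (.leaf 42995672)) (.node (.leaf 221515737) (.leaf 265945140))) (.node (.node (.leaf 266014603) (.leaf 266145756)) (.node (.leaf 265424862) (.leaf 11995179))))) (.node (.node (.node (.node (.leaf 266273029) (.leaf 235406811)) (.node (.leaf 212799456) (.leaf 78711551))) (.node (.node (.leaf 102436833)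 (.leaf 266471484)) (.node (.leaf 266538868) (.leaf 263720127)))) (.node (.node (.node (.leaf 243339236) (.leaf 266669799)) (.node (.leaf 210178022) (.leaf 231605166))) (.node (.node (.leaf 146739175) (.leaf 214894805)) (.node (.leaf 266932200) (.leaf 136184909)))))) (.node (.node (.node (.node (.node (.leaf 175509482) (.leaf 267128811)) (.node (.leaf 267193029) (.leaf 267325422))) (.node (.node (.leaf 267389596) (.leaf 267455242)) (.node (.leaf 267587570) (.leaf 267650731)))) (.node (.node (.node (.leaf 6623221) (.leaf 1642486)) (.node (.leaf 267849201) (.leaf 267980792))) (.node (.node (.leaf 268043800) (.leaf 268109640)) (.node (.leaf 268177226) (.leaf 65802237))))) (.node (.node (.node (.node (.leaf 68815470) (.leaf 53481470)) (.node (.leaf 13438975) (.leaf 268505088))) (.node (.node (.leaf 129829501) (.leaf 215748610)) (.node (.leaf 268701699) (.leaf 268763254)))) (.node (.node (.node (.leaf 253952094) (.leaf 268898310)) (.node (.leaf 269029384) (.leaf 269091451))) (.node (.node (.leaf 137694348) (.leaf 269157201)) (.node (.leaf 269291532) (.leaf 99487758))))))) (.node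 (.node (.node (.node (.node (.node (.leaf 269488143) (.leaf 269550458)) (.node (.leaf 269684754) (.leaf 269815828))) (.node (.node (.leaf 269946902) (.leaf 270077976)) (.node (.leaf 270143393) (.leaf 270208908)))) (.node (.node (.node (.leaf 253562787) (.leaf 103157788)) (.node (.leaf 270405661) (.leaf 207949855))) (.node (.node (.leaf 270533685) (.leaf 270599975)) (.node (.leaf 101780745) (.leaf 270733346))))) (.node (.node (.node (.node (.leaf 270796791) (.leaf 270929957)) (.node (.leaf 271061031) (.leaf 271192105))) (.node (.node (.leaf 54333483) (.leaf 271322712)) (.node (.leaf 271388575) (.leaf 269422638)))) (.node (.node (.node (.leaf 271515968) (.leaf 271584829)) (.node (.leaf 235933044) (.leaf 67177867))) (.node (.node (.leaf 271716401) (.leaf 60558620)) (.node (.leaf 15470643) (.leaf 240455667)))))) (.node (.node (.node (.node (.node (.leaf 4395060) (.leaf 271978549)) (.node (.leaf 272109623) (.leaf 67832764))) (.node (.node (.leaf 272240697) (.leaf 199495739)) (.node (.leaf 272437308) (.leaf 272568382)))) (.node (.node (.node (.leaf 272699456) (.leaf 272830530))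 (.node (.leaf 272961604) (.leaf 217190470))) (.node (.node (.leaf 265554930) (.leaf 273088983)) (.node (.leaf 273223752) (.leaf 273354826))))) (.node (.node (.node (.node (.leaf 94572620) (.leaf 10227789)) (.node (.leaf 217581978) (.leaf 273616974))) (.node (.node (.leaf 273748048) (.leaf 273811744)) (.node (.leaf 273944659) (.leaf 162202202)))) (.node (.node (.node (.leaf 274009243) (.leaf 55185494)) (.node (.leaf 78578254) (.leaf 215223024))) (.node (.node (.leaf 84872023) (.leaf 274206807)) (.node (.leaf 274271438) (.leaf 173606019)))))))) (.node (.node (.node (.node (.node (.node (.node (.leaf 208670810) (.leaf 258083714)) (.node (.leaf 50987361) (.leaf 102568027))) (.node (.node (.leaf 20122753) (.leaf 274534492)) (.node (.leaf 274665566) (.leaf 174264416)))) (.node (.node (.node (.leaf 138219617) (.leaf 273420386)) (.node (.leaf 274993251) (.leaf 142083759))) (.node (.node (.leaf 257952133) (.leaf 275124325)) (.node (.leaf 163057767) (.leaf 275320936))))) (.node (.node (.node (.node (.leaf 133827781) (.leaf 275382328)) (.node (.leaf 86770852) (.leaf 241963115))) (.node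 (.node (.leaf 275513477) (.leaf 274466469)) (.node (.leaf 275582078) (.leaf 136380772)))) (.node (.node (.node (.leaf 171509314) (.leaf 275647937)) (.node (.leaf 272171503) (.leaf 275712138))) (.node (.node (.leaf 275845232) (.leaf 275909898)) (.node (.leaf 198250611) (.leaf 56234100)))))) (.node (.node (.node (.node (.node (.leaf 276172917) (.leaf 276237906)) (.node (.leaf 86640767) (.leaf 276303149))) (.node (.node (.leaf 276435065) (.leaf 158992450)) (.node (.leaf 276566139) (.leaf 276630526)))) (.node (.node (.node (.leaf 276697076) (.leaf 276761335)) (.node (.leaf 276893824) (.leaf 277024898))) (.node (.node (.leaf 277155972) (.leaf 224727174)) (.node (.leaf 189862023) (.leaf 249104066))))) (.node (.node (.node (.node (.leaf 16912520) (.leaf 216989890)) (.node (.leaf 249955069) (.leaf 250677680))) (.node (.node (.leaf 151654537) (.leaf 277549194)) (.node (.leaf 277680268) (.leaf 256774286)))) (.node (.node (.node (.leaf 277876879) (.leaf 278007953)) (.node (.leaf 278139027) (.leaf 118165653))) (.node (.node (.leaf 278267486) (.leaf 278401175)) (.node (.leaf 278463269)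 (.leaf 278532144))))))) (.node (.node (.node (.node (.node (.node (.leaf 278594258) (.leaf 278661373)) (.node (.leaf 57151645) (.leaf 14487710))) (.node (.node (.leaf 278925471) (.leaf 107676612)) (.node (.leaf 279056545) (.leaf 236063916)))) (.node (.node (.node (.leaf 279121053) (.leaf 279183438)) (.node (.leaf 168366245) (.leaf 279318409))) (.node (.node (.leaf 279449767) (.leaf 279580841)) (.node (.leaf 73073322) (.leaf 279646318))))) (.node (.node (.node (.node (.leaf 116330668) (.leaf 279776422)) (.node (.leaf 279908526) (.leaf 199099558))) (.node (.node (.leaf 279970961) (.leaf 4657329)) (.node (.leaf 280170674) (.leaf 280301748)))) (.node (.node (.node (.leaf 31526823) (.leaf 280366506)) (.node (.leaf 280498359) (.leaf 280562507))) (.node (.node (.leaf 280627724) (.leaf 280760507)) (.node (.leaf 280823706) (.leaf 280891089)))))) (.node (.node (.node (.node (.node (.leaf 281022655) (.leaf 281084691)) (.node (.leaf 35262658) (.leaf 256052645))) (.node (.node (.leaf 198511159) (.leaf 281218942)) (.node (.leaf 44503236) (.leaf 281415877)))) (.node (.node (.node (.leaf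 129175577) (.leaf 137171143)) (.node (.leaf 281546343) (.leaf 225119345))) (.node (.node (.leaf 87690032) (.leaf 281678025)) (.node (.leaf 281741078) (.leaf 281805810))))) (.node (.node (.node (.node (.leaf 269881549) (.leaf 247992526)) (.node (.leaf 232919247) (.leaf 282136784))) (.node (.node (.leaf 116789458) (.leaf 152506579)) (.node (.leaf 282329231) (.leaf 48632021)))) (.node (.node (.node (.leaf 282530006) (.leaf 282661080)) (.node (.leaf 282725593) (.leaf 282857691))) (.node (.node (.leaf 54201492) (.leaf 71569629)) (.node (.leaf 58593502) (.leaf 283119839))))))))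

def k4Next_11 : H52.TCert.Tr := .node (.node (.node (.node (.node (.node (.node (.node (.leaf 283184937) (.leaf 283249696)) (.node (.leaf 54071523) (.leaf 222433508))) (.node (.node (.leaf 283513061) (.leaf 283644135)) (.node (.leaf 150474985) (.leaf 65212650)))) (.node (.node (.node (.leaf 208537000) (.leaf 128189635)) (.node (.leaf 283906283) (.leaf 123142601))) (.node (.node (.leaf 245371117) (.leaf 280105198)) (.node (.leaf 202903791) (.leaf 282398407))))) (.node (.node (.node (.node (.leaf 83693808) (.leaf 112267191)) (.node (.leaf 284232965) (.leaf 65081586))) (.node (.node (.leaf 284363115) (.leaf 13701364)) (.node (.leaf 284491836) (.leaf 284561435)))) (.node (.node (.node (.leaf 283840329) (.leaf 116134135)) (.node (.leaf 214765412) (.leaf 45155988))) (.node (.node (.leaf 138940664) (.leaf 284757541)) (.node (.leaf 284889338) (.leaf 284954168)))))) (.node (.node (.node (.node (.node (.leaf 154931453) (.leaf 42602750)) (.node (.leaf 72222060) (.leaf 285148503))) (.node (.node (.leaf 285215121) (.leaf 200673451)) (.node (.leaf 59511041) (.leaf 285413634)))) (.node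 (.node (.node (.leaf 285477534) (.leaf 285610245)) (.node (.leaf 285741319) (.leaf 285806776))) (.node (.node (.leaf 283316490) (.leaf 285937244)) (.node (.leaf 244713242) (.leaf 286069004))))) (.node (.node (.node (.node (.leaf 286200078) (.leaf 286331152)) (.node (.leaf 286393471) (.leaf 286527763))) (.node (.node (.leaf 286658837) (.leaf 286723545)) (.node (.leaf 1904920) (.leaf 35524889)))) (.node (.node (.node (.leaf 94966042) (.leaf 287052059)) (.node (.leaf 287183133) (.leaf 287314207))) (.node (.node (.leaf 212471958) (.leaf 154732743)) (.node (.leaf 131862817) (.leaf 172298530))))))) (.node (.node (.node (.node (.node (.node (.leaf 287576355) (.leaf 287707429)) (.node (.leaf 167776551) (.leaf 287838043))) (.node (.node (.leaf 287969577) (.leaf 288100651)) (.node (.leaf 202707245) (.leaf 276369710)))) (.node (.node (.node (.leaf 288296601) (.leaf 288428336)) (.node (.leaf 252973362) (.leaf 169283891))) (.node (.node (.leaf 36965645) (.leaf 288690484)) (.node (.leaf 288821558) (.leaf 288952632))))) (.node (.node (.node (.node (.leaf 289083706) (.leaf 111546684)) (.node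 (.leaf 289214715) (.leaf 289345854))) (.node (.node (.leaf 289476928) (.leaf 271847746)) (.node (.leaf 289603692) (.leaf 289673411)))) (.node (.node (.node (.leaf 278334504) (.leaf 213127372)) (.node (.leaf 289804613) (.leaf 206572666))) (.node (.node (.leaf 289935687) (.leaf 289996862)) (.node (.leaf 290132298) (.leaf 285348172)))))) (.node (.node (.node (.node (.node (.leaf 108269901) (.leaf 290394446)) (.node (.leaf 33034576) (.leaf 290591057))) (.node (.node (.leaf 53219667) (.leaf 290721595)) (.node (.leaf 266407411) (.leaf 238752085)))) (.node (.node (.node (.leaf 290848838) (.leaf 290984279)) (.node (.leaf 61542745) (.leaf 173478234))) (.node (.node (.leaf 291246427) (.leaf 291311819)) (.node (.leaf 152179038) (.leaf 291438664))))) (.node (.node (.node (.node (.leaf 130552160) (.leaf 288166241)) (.node (.leaf 291639456) (.leaf 233046541))) (.node (.node (.leaf 150016355) (.leaf 291836260)) (.node (.leaf 108532070) (.leaf 109249737)))) (.node (.node (.node (.leaf 243667303) (.leaf 78188904)) (.node (.leaf 273549732) (.leaf 292163945))) (.node (.node (.leaf 292225632)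 (.leaf 292360556)) (.node (.leaf 170529134) (.leaf 292557167)))))))) (.node (.node (.node (.node (.node (.node (.node (.leaf 292621979) (.leaf 122622322)) (.node (.leaf 292752707) (.leaf 292884852))) (.node (.node (.leaf 264049014) (.leaf 293081463)) (.node (.leaf 293212537) (.leaf 293276766)))) (.node (.node (.node (.leaf 293409148) (.leaf 293540222)) (.node (.leaf 231277093) (.leaf 25233940))) (.node (.node (.leaf 82579840) (.leaf 201068929)) (.node (.leaf 114102658) (.leaf 293801296))))) (.node (.node (.node (.node (.leaf 201261414) (.leaf 170985816)) (.node (.leaf 214042445) (.leaf 293933444))) (.node (.node (.leaf 170070406) (.leaf 221974919)) (.node (.leaf 294125632) (.leaf 278204809)))) (.node (.node (.node (.leaf 218894730) (.leaf 294392203)) (.node (.leaf 294523277) (.leaf 177669872))) (.node (.node (.leaf 294654351) (.leaf 294718872)) (.node (.leaf 265292918) (.leaf 101387663)))))) (.node (.node (.node (.node (.node (.leaf 213519698) (.leaf 294783697)) (.node (.leaf 62850527) (.leaf 294850833))) (.node (.node (.leaf 239800724) (.leaf 295047573)) (.node (.leaf 176558487)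 (.leaf 295244184)))) (.node (.node (.node (.leaf 252514714) (.leaf 295440795)) (.node (.leaf 99224421) (.leaf 28837688))) (.node (.node (.leaf 287248797) (.leaf 227283358)) (.node (.leaf 164040171) (.leaf 272765343))))) (.node (.node (.node (.node (.leaf 291767890) (.leaf 295768480)) (.node (.leaf 24907078) (.leaf 277287330))) (.node (.node (.leaf 295898163) (.leaf 296030628)) (.node (.leaf 296161702) (.leaf 296225418)))) (.node (.node (.node (.leaf 270274985) (.leaf 296358214)) (.node (.leaf 176360871) (.leaf 246354347))) (.node (.node (.leaf 172364204) (.leaf 181669928)) (.node (.leaf 296553168) (.leaf 237830350))))))) (.node (.node (.node (.node (.node (.node (.leaf 138349753) (.leaf 253170094)) (.node (.leaf 89391339) (.leaf 296751535))) (.node (.node (.leaf 296882609) (.leaf 109707448)) (.node (.leaf 297013683) (.leaf 119211624)))) (.node (.node (.node (.leaf 297144757) (.leaf 176295300)) (.node (.leaf 297207756) (.leaf 297273434))) (.node (.node (.leaf 256183033) (.leaf 104665529)) (.node (.leaf 297472442) (.leaf 297537798))))) (.node (.node (.node (.node (.leaf 244778315)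 (.leaf 295372620)) (.node (.leaf 297669053) (.leaf 254020663))) (.node (.node (.leaf 297800127) (.leaf 297861186)) (.node (.leaf 297996738) (.leaf 111938268)))) (.node (.node (.node (.leaf 160305604) (.leaf 250089103)) (.node (.leaf 113970470) (.leaf 298126606))) (.node (.node (.leaf 190975502) (.leaf 214109231)) (.node (.leaf 268304949) (.leaf 157946310)))))) (.node (.node (.node (.node (.node (.leaf 298257483) (.leaf 298389960)) (.node (.leaf 298521034) (.leaf 187568588))) (.node (.node (.leaf 64688358) (.leaf 118623854)) (.node (.leaf 11211213) (.leaf 6491422)))) (.node (.node (.node (.leaf 114952828) (.leaf 265884069)) (.node (.leaf 246220417) (.leaf 52433358))) (.node (.node (.leaf 298848719) (.leaf 298913618)) (.node (.leaf 299045330) (.leaf 299176404))))) (.node (.node (.node (.node (.leaf 255462563) (.leaf 167842262)) (.node (.leaf 269357527) (.leaf 299371391))) (.node (.node (.leaf 12521945) (.leaf 299569626)) (.node (.leaf 299700700) (.leaf 299831774)))) (.node (.node (.node (.leaf 69931130) (.leaf 299893483)) (.node (.leaf 65540577) (.leaf 300093922))) (.node (.node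 (.leaf 300158055) (.leaf 247206373)) (.node (.leaf 300356070) (.leaf 300487144))))))))

def k4Next_12 : H52.TCert.Tr := .node (.node (.node (.node (.node (.node (.node (.node (.leaf 148902378) (.leaf 300617438)) (.node (.leaf 300679953) (.leaf 225841645))) (.node (.node (.leaf 300880366) (.leaf 84349424)) (.node (.leaf 301076977) (.leaf 159777714)))) (.node (.node (.node (.leaf 301208051) (.leaf 14356981)) (.node (.leaf 301338997) (.leaf 301400577))) (.node (.node (.leaf 301535736) (.leaf 297603578)) (.node (.leaf 301662440) (.leaf 301728911))))) (.node (.node (.node (.node (.leaf 301796005) (.leaf 174066034)) (.node (.leaf 301862616) (.leaf 245567999))) (.node (.node (.leaf 190321152) (.leaf 172036609)) (.node (.leaf 52824867) (.leaf 125175415)))) (.node (.node (.node (.leaf 302124470) (.leaf 213385457)) (.node (.leaf 300290563) (.leaf 302322180))) (.node (.node (.leaf 42078726) (.leaf 228594183)) (.node (.leaf 208801639) (.leaf 302515875)))))) (.node (.node (.node (.node (.node (.leaf 281608860) (.leaf 88346709)) (.node (.leaf 302580114) (.leaf 302715402))) (.node (.node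 (.leaf 302778361) (.leaf 8655373)) (.node (.leaf 302977550) (.leaf 2167312)))) (.node (.node (.node (.leaf 303107287) (.leaf 225774013)) (.node (.leaf 303239698) (.leaf 303302541))) (.node (.node (.leaf 303366777) (.leaf 303501846)) (.node (.leaf 303566423) (.leaf 303698457))))) (.node (.node (.node (.node (.leaf 303762376) (.leaf 183372906)) (.node (.leaf 17437212) (.leaf 303894371))) (.node (.node (.leaf 303956117) (.leaf 241832479)) (.node (.leaf 304088337) (.leaf 304222753)))) (.node (.node (.node (.leaf 270864463) (.leaf 304284819)) (.node (.leaf 304349979) (.leaf 304484901))) (.node (.node (.leaf 304549085) (.leaf 185992224)) (.node (.leaf 146805288) (.leaf 172885065))))))) (.node (.node (.node (.node (.node (.node (.leaf 230362481) (.leaf 172625517)) (.node (.leaf 304747049) (.leaf 304812351))) (.node (.node (.leaf 304877084) (.leaf 180160592)) (.node (.leaf 58397229) (.leaf 305074734)))) (.node (.node (.node (.leaf 153293360) (.leaf 58724669)) (.node (.leaf 84742705) (.leaf 305270607))) (.node (.node (.leaf 305402419) (.leaf 305467828)) (.node (.leaf 232194803) (.leaf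 305599030))))) (.node (.node (.node (.node (.leaf 73929272) (.leaf 19465778)) (.node (.leaf 112790893) (.leaf 305730059))) (.node (.node (.leaf 305861178) (.leaf 305923350)) (.node (.leaf 5706301) (.leaf 100206511)))) (.node (.node (.node (.leaf 306053369) (.leaf 306121002)) (.node (.leaf 306187963) (.leaf 306319937))) (.node (.node (.leaf 225382482) (.leaf 306451011)) (.node (.leaf 306582085) (.leaf 306643781)))))) (.node (.node (.node (.node (.node (.leaf 306778696) (.leaf 117248586)) (.node (.leaf 100667979) (.leaf 306973053))) (.node (.node (.leaf 242944626) (.leaf 13832781)) (.node (.leaf 307171918) (.leaf 307302992)))) (.node (.node (.node (.leaf 222237266) (.leaf 270336588)) (.node (.leaf 272896595) (.leaf 307498752))) (.node (.node (.leaf 25629269) (.leaf 228199361)) (.node (.leaf 75370435) (.leaf 23531552))))) (.node (.node (.node (.node (.leaf 307696214) (.leaf 12653144)) (.node (.leaf 307892825) (.leaf 197988955))) (.node (.node (.leaf 267784796) (.leaf 308154973)) (.node (.leaf 308286047) (.leaf 308350183)))) (.node (.node (.node (.leaf 243077730) (.leaf 308548195))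 (.node (.leaf 206309450) (.leaf 72094309))) (.node (.node (.leaf 64885350) (.leaf 125309543)) (.node (.leaf 308875880) (.leaf 137957994)))))))) (.node (.node (.node (.node (.node (.node (.node (.leaf 235539762) (.leaf 283578987)) (.node (.leaf 46273132) (.leaf 206705261))) (.node (.node (.leaf 207422079) (.leaf 307564209)) (.node (.leaf 217256558) (.leaf 175703418)))) (.node (.node (.node (.leaf 198380269) (.leaf 309266939)) (.node (.leaf 309400176) (.leaf 76285373))) (.node (.node (.leaf 258347452) (.leaf 263784435)) (.node (.leaf 309465153) (.leaf 204865883))))) (.node (.node (.node (.node (.leaf 309596787) (.leaf 136712821)) (.node (.leaf 306516459) (.leaf 309724815))) (.node (.node (.leaf 232657527) (.leaf 11866744)) (.node (.leaf 309990009) (.leaf 69799358)))) (.node (.node (.node (.leaf 308810363) (.leaf 44765820)) (.node (.leaf 185012861) (.leaf 11735678))) (.node (.node (.leaf 310314187) (.leaf 310382241)) (.node (.leaf 310514305) (.leaf 310579724)))))) (.node (.node (.node (.node (.node (.leaf 310643949) (.leaf 310776453)) (.node (.leaf 310907527) (.leaf 311038601)))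 (.node (.node (.leaf 311169675) (.leaf 311232942)) (.node (.leaf 311296255) (.leaf 311431823)))) (.node (.node (.node (.leaf 311495338) (.leaf 311628434)) (.node (.leaf 106435220) (.leaf 112921526))) (.node (.node (.leaf 153424533) (.leaf 266601852)) (.node (.leaf 311821920) (.leaf 296618792))))) (.node (.node (.node (.node (.leaf 2298519) (.leaf 311951560)) (.node (.leaf 312087193) (.leaf 312150035))) (.node (.node (.leaf 312215614) (.leaf 312281018)) (.node (.leaf 211554974) (.leaf 312414281)))) (.node (.node (.node (.leaf 312545952) (.leaf 312611380)) (.node (.leaf 264311459) (.leaf 312740062))) (.node (.node (.leaf 176030172) (.leaf 312873637)) (.node (.leaf 313004711) (.leaf 313135785))))))) (.node (.node (.node (.node (.node (.node (.leaf 172167851) (.leaf 313262448)) (.node (.leaf 39128951) (.leaf 261100205))) (.node (.node (.leaf 96341283) (.leaf 313396242)) (.node (.leaf 313529007) (.leaf 313594237)))) (.node (.node (.node (.leaf 313725618) (.leaf 313788168)) (.node (.leaf 313856383) (.leaf 313917800))) (.node (.node (.leaf 136053734) (.leaf 229836368)) (.node (.leaf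 313985582) (.leaf 308089528))))) (.node (.node (.node (.node (.leaf 296423538) (.leaf 228658493)) (.node (.leaf 195170598) (.leaf 314116340))) (.node (.node (.leaf 71373498) (.leaf 314249226)) (.node (.leaf 314315092) (.leaf 308023997)))) (.node (.node (.node (.leaf 132059838) (.leaf 314511175)) (.node (.leaf 195039936) (.leaf 125440705))) (.node (.node (.leaf 126161602) (.leaf 292293302)) (.node (.leaf 314772794) (.leaf 314905284)))))) (.node (.node (.node (.node (.node (.leaf 315036358) (.leaf 315097241)) (.node (.leaf 236654353) (.leaf 315164881))) (.node (.node (.leaf 315232383) (.leaf 315364043)) (.node (.leaf 315495117) (.leaf 304681679)))) (.node (.node (.node (.leaf 315691728) (.leaf 315822802)) (.node (.leaf 168956628) (.leaf 315953093))) (.node (.node (.leaf 316016459) (.leaf 62718124)) (.node (.leaf 316150487) (.leaf 182125333))))) (.node (.node (.node (.node (.leaf 147851392) (.leaf 67703483)) (.node (.leaf 316213726) (.leaf 316347098))) (.node (.node (.leaf 316478172) (.leaf 84480734)) (.node (.leaf 316605468) (.leaf 130945269)))) (.node (.node (.node (.leaf 316670524)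 (.leaf 159847137)) (.node (.leaf 313201378) (.leaf 228986816))) (.node (.node (.leaf 316936931) (.leaf 134089116)) (.node (.leaf 245895909) (.leaf 317063578))))))))

def k4Next_13 : H52.TCert.Tr := .node (.node (.node (.node (.node (.node (.node (.node (.leaf 17699559) (.leaf 317194458)) (.node (.leaf 317330153) (.leaf 50859735))) (.node (.node (.leaf 207159951) (.leaf 317392427)) (.node (.leaf 192549131) (.leaf 275255696)))) (.node (.node (.node (.leaf 317460113) (.leaf 269749878)) (.node (.leaf 317524809) (.leaf 238683848))) (.node (.node (.leaf 255658938) (.leaf 264833239)) (.node (.leaf 317590871) (.leaf 252646127))))) (.node (.node (.node (.node (.leaf 167252720) (.leaf 317787361)) (.node (.leaf 261362418) (.leaf 317985523))) (.node (.node (.leaf 287773429) (.leaf 318115644)) (.node (.leaf 318247671) (.leaf 9700894)))) (.node (.node (.node (.leaf 318378745) (.leaf 118559483)) (.node (.leaf 205263612) (.leaf 254806442))) (.node (.node (.leaf 318575261) (.leaf 268962519)) (.node (.leaf 201986814) (.leaf 318706102)))))) (.node (.node (.node (.node (.node (.leaf 108794624)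 (.leaf 318837059)) (.node (.leaf 51516162) (.leaf 203035395))) (.node (.node (.leaf 254939908) (.leaf 319165189)) (.node (.leaf 240192211) (.leaf 251597017)))) (.node (.node (.node (.leaf 133433378) (.leaf 319228756)) (.node (.leaf 319296236) (.leaf 305795117))) (.node (.node (.leaf 183632011) (.leaf 270471871)) (.node (.leaf 61148671) (.leaf 309924558))))) (.node (.node (.node (.node (.leaf 268571401) (.leaf 319426704)) (.node (.leaf 230167307) (.leaf 107287308))) (.node (.node (.leaf 151393037) (.leaf 319755022)) (.node (.leaf 66917136) (.leaf 268374439)))) (.node (.node (.node (.leaf 319951633) (.leaf 320082707)) (.node (.leaf 320144782) (.leaf 141497110))) (.node (.node (.leaf 320279244) (.leaf 320410392)) (.node (.leaf 47190810) (.leaf 277091099))))))) (.node (.node (.node (.node (.node (.node (.leaf 320603362) (.leaf 320738077)) (.node (.leaf 131729924) (.leaf 320803574))) (.node (.node (.leaf 28709664) (.leaf 321000225)) (.node (.leaf 321064498) (.leaf 321130358)))) (.node (.node (.node (.leaf 266081061) (.leaf 321327910)) (.node (.leaf 204015708) (.leaf 159126312)))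 (.node (.node (.leaf 321524521) (.leaf 321655595)) (.node (.leaf 147067693) (.leaf 229705846))))) (.node (.node (.node (.node (.leaf 300749614) (.leaf 226493389)) (.node (.leaf 321917743) (.leaf 322048817))) (.node (.node (.leaf 322111324) (.leaf 181277492)) (.node (.leaf 118297397) (.leaf 74383754)))) (.node (.node (.node (.leaf 272503152) (.leaf 322308630)) (.node (.leaf 117904183) (.leaf 322441688))) (.node (.node (.leaf 322573113) (.leaf 75764539)) (.node (.leaf 132387644) (.leaf 172561213)))))) (.node (.node (.node (.node (.node (.leaf 322834973) (.leaf 54924095)) (.node (.leaf 251335488) (.leaf 323097409))) (.node (.node (.leaf 323160764) (.leaf 323294020)) (.node (.leaf 321390004) (.leaf 30802580)))) (.node (.node (.node (.leaf 312349510) (.leaf 92083015)) (.node (.leaf 232067034) (.leaf 71111496))) (.node (.node (.leaf 323555054) (.leaf 57283402)) (.node (.leaf 307366544) (.leaf 205132619))))) (.node (.node (.node (.node (.leaf 323749824) (.leaf 239403740)) (.node (.leaf 249236200) (.leaf 323813456))) (.node (.node (.leaf 323883783) (.leaf 184423247)) (.node (.leaf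 26021629) (.leaf 238228170)))) (.node (.node (.node (.leaf 324080464) (.leaf 129110866)) (.node (.leaf 30544723) (.leaf 324342612))) (.node (.node (.leaf 324473686) (.leaf 324537805)) (.node (.leaf 251529348) (.leaf 208212825)))))))) (.node (.node (.node (.node (.node (.node (.node (.leaf 234754313) (.leaf 113052630)) (.node (.leaf 324667662) (.leaf 290525268))) (.node (.node (.leaf 167646043) (.leaf 324799704)) (.node (.leaf 324932445) (.leaf 325063519)))) (.node (.node (.node (.leaf 2560865) (.leaf 325194171)) (.node (.leaf 325325667) (.leaf 325456741))) (.node (.node (.leaf 325522065) (.leaf 325585000)) (.node (.leaf 325653086) (.leaf 301470570))))) (.node (.node (.node (.node (.leaf 325783120) (.leaf 325915500)) (.node (.leaf 122753902) (.leaf 326112111))) (.node (.node (.leaf 164562523) (.leaf 326243185)) (.node (.leaf 77337459) (.leaf 271258484)))) (.node (.node (.node (.leaf 326505333) (.leaf 239145847)) (.node (.leaf 326633731) (.leaf 254088057))) (.node (.node (.leaf 319558522) (.leaf 326832754)) (.node (.leaf 326898431) (.leaf 327029629)))))) (.node (.node (.node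 (.node (.node (.leaf 327160703) (.leaf 174657860)) (.node (.leaf 36443009) (.leaf 324405402))) (.node (.node (.leaf 303174530) (.leaf 120787843)) (.node (.leaf 327417938) (.leaf 30933294)))) (.node (.node (.node (.leaf 99356537) (.leaf 136580803)) (.node (.leaf 109841736) (.leaf 327484528))) (.node (.node (.leaf 241306816) (.leaf 190513828)) (.node (.leaf 327619462) (.leaf 123540360))))) (.node (.node (.node (.node (.leaf 257428085) (.leaf 327749133)) (.node (.leaf 327881610) (.leaf 328012684))) (.node (.node (.leaf 328077699) (.leaf 328209295)) (.node (.leaf 322506425) (.leaf 142475825)))) (.node (.node (.node (.leaf 328340369) (.leaf 185861846)) (.node (.leaf 328404491) (.leaf 328536980))) (.node (.node (.leaf 110760854) (.leaf 94835607)) (.node (.leaf 328728744) (.leaf 328864665))))))) (.node (.node (.node (.node (.node (.node (.leaf 328928405) (.leaf 103026242)) (.node (.leaf 38343580) (.leaf 111805810))) (.node (.node (.leaf 199755703) (.leaf 56824733)) (.node (.leaf 185734046) (.leaf 329257887)))) (.node (.node (.node (.leaf 329322658) (.leaf 250741497)) (.node (.leaf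 72356616) (.leaf 329388230))) (.node (.node (.leaf 67048184) (.leaf 301139493)) (.node (.leaf 329451423) (.leaf 329585572))))) (.node (.node (.node (.node (.leaf 329650815) (.leaf 329716621)) (.node (.leaf 300814445) (.leaf 14750632))) (.node (.node (.leaf 302912425) (.leaf 329911832)) (.node (.leaf 265819051) (.leaf 132255436)))) (.node (.node (.node (.leaf 285016484) (.leaf 217713017)) (.node (.leaf 330109868) (.leaf 273154132))) (.node (.node (.leaf 330175378) (.leaf 330306479)) (.node (.leaf 330367475) (.leaf 314706056)))))) (.node (.node (.node (.node (.node (.leaf 98177239) (.leaf 300422066)) (.node (.leaf 292490503) (.leaf 261231539))) (.node (.node (.leaf 209127226) (.leaf 94049204)) (.node (.leaf 330699701) (.leaf 330763860)))) (.node (.node (.node (.leaf 274860366) (.leaf 189273016)) (.node (.leaf 330893622) (.leaf 10752168))) (.node (.node (.leaf 2692026) (.leaf 331027123)) (.node (.leaf 331088789) (.leaf 331155639))))) (.node (.node (.node (.node (.leaf 331221991) (.leaf 331289448)) (.node (.leaf 116593600) (.leaf 118754842))) (.node (.node (.leaf 21566401) (.leaf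 204148259)) (.node (.leaf 331551682) (.leaf 331612340)))) (.node (.node (.node (.leaf 270991517) (.leaf 109384645)) (.node (.leaf 331744298) (.leaf 210309612))) (.node (.node (.leaf 331810024) (.leaf 331944904)) (.node (.leaf 144053194) (.leaf 27268043))))))))

def k4Next_14 : H52.TCert.Tr := .node (.node (.node (.node (.node (.node (.node (.node (.leaf 332137742) (.leaf 332272589)) (.node (.leaf 323949472) (.leaf 146870255))) (.node (.node (.leaf 13964239) (.leaf 251005903)) (.node (.leaf 145756710) (.leaf 332469200)))) (.node (.node (.node (.leaf 332532819) (.leaf 269620179)) (.node (.leaf 332731348) (.leaf 332862422))) (.node (.node (.leaf 332073522) (.leaf 332923437)) (.node (.leaf 117707377) (.leaf 23397267))))) (.node (.node (.node (.node (.leaf 8524761) (.leaf 333054784)) (.node (.leaf 250613773) (.leaf 333190107))) (.node (.node (.leaf 333321181) (.leaf 333452255)) (.node (.leaf 267061845) (.leaf 333583329)))) (.node (.node (.node (.leaf 284103651) (.leaf 333710012)) (.node (.leaf 293016549) (.leaf 333844626))) (.node (.node (.leaf 140907495) (.leaf 18355176)) (.node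 (.leaf 334039569) (.leaf 334173162)))))) (.node (.node (.node (.node (.node (.leaf 334236981) (.leaf 302450174)) (.node (.leaf 57741002) (.leaf 334303133))) (.node (.node (.leaf 299766766) (.leaf 326766316)) (.node (.leaf 146478063) (.leaf 35655782)))) (.node (.node (.node (.leaf 271913968) (.leaf 180032497)) (.node (.leaf 333911026) (.leaf 334762995))) (.node (.node (.leaf 326700417) (.leaf 334894069)) (.node (.leaf 92607479) (.leaf 251991032))))) (.node (.node (.node (.node (.leaf 206967301) (.leaf 318048728)) (.node (.leaf 335085825) (.leaf 291571165))) (.node (.node (.leaf 335155683) (.leaf 209257041)) (.node (.leaf 234424536) (.leaf 335218024)))) (.node (.node (.node (.leaf 335286823) (.leaf 294982653)) (.node (.leaf 82842622) (.leaf 335483442))) (.node (.node (.leaf 335548708) (.leaf 226102418)) (.node (.leaf 335614905) (.leaf 335679098))))))) (.node (.node (.node (.node (.node (.node (.leaf 335811587) (.leaf 167515141)) (.node (.leaf 290264070) (.leaf 307957804))) (.node (.node (.leaf 247795459) (.leaf 32510983)) (.node (.leaf 303431998) (.leaf 282461346)))) (.node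 (.node (.node (.leaf 322244002) (.leaf 220532892)) (.node (.leaf 336072980) (.leaf 325850121))) (.node (.node (.leaf 188814346) (.leaf 196547595)) (.node (.leaf 260704496) (.leaf 336331967))))) (.node (.node (.node (.node (.leaf 336400510) (.leaf 336462971)) (.node (.leaf 336530720) (.leaf 22414916))) (.node (.node (.leaf 150734540) (.leaf 315298300)) (.node (.leaf 186520054) (.leaf 336597904)))) (.node (.node (.node (.leaf 173869695) (.leaf 336663547)) (.node (.leaf 194909202) (.leaf 336794107))) (.node (.node (.leaf 295569289) (.leaf 336856949)) (.node (.leaf 8786965) (.leaf 337056790)))))) (.node (.node (.node (.node (.node (.leaf 337187864) (.leaf 337252996)) (.node (.leaf 169412179) (.leaf 165220033))) (.node (.node (.leaf 288755164) (.leaf 24515611)) (.node (.leaf 337382422) (.leaf 181539614)))) (.node (.node (.node (.leaf 337515549) (.leaf 337576158)) (.node (.leaf 64226735) (.leaf 325259904))) (.node (.node (.leaf 295177719) (.leaf 337646471)) (.node (.leaf 72619041) (.leaf 209851426))))) (.node (.node (.node (.node (.leaf 337838946) (.leaf 308220383)) (.node (.leaf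 134811308) (.leaf 257102884))) (.node (.node (.leaf 337972162) (.leaf 312939558)) (.node (.leaf 254219303) (.leaf 195302440)))) (.node (.node (.node (.leaf 185406505) (.leaf 338297099)) (.node (.leaf 76420139) (.leaf 338430726))) (.node (.node (.leaf 338564141) (.leaf 259526874)) (.node (.leaf 338695215) (.leaf 80937203)))))))) (.node (.node (.node (.node (.node (.node (.node (.leaf 120656945) (.leaf 338825057)) (.node (.leaf 262672830) (.leaf 80811059))) (.node (.node (.leaf 306385972) (.leaf 339022145)) (.node (.leaf 339153974) (.leaf 106304568)))) (.node (.node (.node (.leaf 116001151) (.leaf 299632747)) (.node (.leaf 192743333) (.leaf 60757049))) (.node (.node (.leaf 200344238) (.leaf 319099962)) (.node (.leaf 336987623) (.leaf 297407547))))) (.node (.node (.node (.node (.leaf 338367255) (.leaf 131403769)) (.node (.leaf 339481123) (.leaf 115872829))) (.node (.node (.leaf 339608327) (.leaf 21697599)) (.node (.leaf 339738716) (.leaf 339806997)))) (.node (.node (.node (.leaf 339281250) (.leaf 194778178)) (.node (.leaf 292426620) (.leaf 73206050))) (.node (.node (.leaf 211227715)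 (.leaf 340005593)) (.node (.leaf 340137029) (.leaf 340202207)))))) (.node (.node (.node (.node (.node (.leaf 222958664) (.leaf 70846960)) (.node (.leaf 121307905) (.leaf 288624009))) (.node (.node (.leaf 296488174) (.leaf 283448393)) (.node (.leaf 289869369) (.leaf 340394797)))) (.node (.node (.node (.leaf 340530251) (.leaf 338891853)) (.node (.leaf 318901189) (.leaf 169677902))) (.node (.node (.leaf 288887887) (.leaf 340789093)) (.node (.leaf 340856745) (.leaf 340919795))))) (.node (.node (.node (.node (.leaf 2954323) (.leaf 64491434)) (.node (.leaf 141300820) (.leaf 111415485))) (.node (.node (.leaf 341185621) (.leaf 341247419)) (.node (.leaf 222760187) (.leaf 108074072)))) (.node (.node (.node (.leaf 341447769) (.leaf 55316651)) (.node (.leaf 255923062) (.leaf 341578843))) (.node (.node (.leaf 341643109) (.leaf 297342046)) (.node (.leaf 89264267) (.leaf 341774461))))))) (.node (.node (.node (.node (.node (.node (.leaf 323687520) (.leaf 90117217)) (.node (.leaf 176885698) (.leaf 342037602))) (.node (.node (.leaf 277943396) (.leaf 154211429)) (.node (.leaf 58987590) (.leaf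 342299750)))) (.node (.node (.node (.leaf 332993640) (.leaf 342425770)) (.node (.leaf 342496288) (.leaf 53809601))) (.node (.node (.leaf 301992546) (.leaf 342560647)) (.node (.leaf 298783200) (.leaf 342692972))))) (.node (.node (.node (.node (.leaf 340332352) (.leaf 151260980)) (.node (.leaf 100799598) (.leaf 62064198))) (.node (.node (.leaf 288491934) (.leaf 80090223)) (.node (.leaf 25891509) (.leaf 267522336)))) (.node (.node (.node (.leaf 342955120) (.leaf 87823474)) (.node (.leaf 235672691) (.leaf 61019252))) (.node (.node (.leaf 343217189) (.leaf 220927094)) (.node (.leaf 343343239) (.leaf 341708911)))))) (.node (.node (.node (.node (.node (.leaf 161026257) (.leaf 313066440)) (.node (.leaf 219743701) (.leaf 343411286))) (.node (.node (.leaf 151523286) (.leaf 152242091)) (.node (.leaf 318641273) (.leaf 126617994)))) (.node (.node (.node (.leaf 286786576) (.leaf 233641082)) (.node (.leaf 343676027) (.leaf 161682557))) (.node (.node (.leaf 343806532) (.leaf 184620159)) (.node (.leaf 100996224) (.leaf 344069249))))) (.node (.node (.node (.node (.leaf 115479605) (.leaf 88478766))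 (.node (.leaf 262538839) (.leaf 257234051))) (.node (.node (.leaf 339350660) (.leaf 91947626)) (.node (.leaf 344331397) (.leaf 141431481)))) (.node (.node (.node (.leaf 344462471) (.leaf 277807881)) (.node (.leaf 256643772) (.leaf 157225417))) (.node (.node (.leaf 343019587) (.leaf 344526797)) (.node (.leaf 344591618) (.leaf 344658453))))))))

def k4Next_15 : H52.TCert.Tr := .node (.node (.node (.node (.node (.node (.node (.node (.leaf 196285580) (.leaf 86508511)) (.node (.leaf 7410392) (.leaf 147456478))) (.node (.node (.leaf 249366629) (.leaf 127338963)) (.node (.leaf 123671693) (.leaf 302386233)))) (.node (.node (.node (.leaf 305004640) (.leaf 344855524)) (.node (.leaf 269227151) (.leaf 150604238))) (.node (.node (.leaf 315561104) (.leaf 226890897)) (.node (.leaf 239931308) (.leaf 266342469))))) (.node (.node (.node (.node (.leaf 89527442) (.leaf 345182740)) (.node (.leaf 284431508) (.leaf 81990673))) (.node (.node (.leaf 144970901) (.leaf 180748464)) (.node (.leaf 62325387) (.leaf 275453078)))) (.node (.node (.node (.leaf 345444537) (.leaf 327816344)) (.node (.leaf 187042816)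 (.leaf 279384188))) (.node (.node (.leaf 345642137) (.leaf 33950385)) (.node (.leaf 345773211) (.leaf 345838140)))))) (.node (.node (.node (.node (.node (.leaf 345899993) (.leaf 288560287)) (.node (.leaf 346100896) (.leaf 50205468))) (.node (.node (.leaf 16782498) (.leaf 346230657)) (.node (.leaf 10949796) (.leaf 346357858)))) (.node (.node (.node (.leaf 246745994) (.leaf 342887624)) (.node (.leaf 292949077) (.leaf 157093930))) (.node (.node (.leaf 114495509) (.leaf 346425551)) (.node (.leaf 346491911) (.leaf 343278361))))) (.node (.node (.node (.node (.leaf 346558357) (.leaf 341513385)) (.node (.leaf 91032887) (.leaf 160895250))) (.node (.node (.leaf 328142884) (.leaf 342234282)) (.node (.leaf 346756116) (.leaf 289736437)))) (.node (.node (.node (.leaf 346821468) (.leaf 346952877)) (.node (.leaf 347013490) (.leaf 330962096))) (.node (.node (.leaf 17828028) (.leaf 347148139)) (.node (.leaf 196416690) (.leaf 347277454))))))) (.node (.node (.node (.node (.node (.node (.leaf 333124547) (.leaf 332403892)) (.node (.leaf 347406989) (.leaf 347472509))) (.node (.node (.leaf 347541657)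 (.leaf 248190136)) (.node (.leaf 347739321) (.leaf 347799825)))) (.node (.node (.node (.leaf 223088352) (.leaf 283772829)) (.node (.leaf 324013098) (.leaf 347870182))) (.node (.node (.leaf 347934629) (.leaf 12258391)) (.node (.leaf 290657150) (.leaf 242548999))))) (.node (.node (.node (.node (.leaf 348000621) (.leaf 274404543)) (.node (.leaf 155456097) (.leaf 109579510))) (.node (.node (.leaf 348198080) (.leaf 311693771)) (.node (.leaf 126027081) (.leaf 188617430)))) (.node (.node (.node (.leaf 57611458) (.leaf 348328813)) (.node (.leaf 131990245) (.leaf 348460228))) (.node (.node (.leaf 346035398) (.leaf 348656839)) (.node (.leaf 348718614) (.leaf 40374855)))))) (.node (.node (.node (.node (.node (.leaf 319488100) (.leaf 348787050)) (.node (.leaf 289014869) (.leaf 348849066))) (.node (.node (.leaf 312674754) (.leaf 327093729)) (.node (.leaf 348916913) (.leaf 348984262)))) (.node (.node (.node (.leaf 215618766) (.leaf 42276047)) (.node (.leaf 349180316) (.leaf 349243446))) (.node (.node (.leaf 56956114) (.leaf 349375457)) (.node (.leaf 276108500) (.leaf 349574357))))) (.node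 (.node (.node (.node (.leaf 337777712) (.leaf 304026761)) (.node (.leaf 97785047) (.leaf 215289229))) (.node (.node (.leaf 349702753) (.leaf 12784557)) (.node (.leaf 134877164) (.leaf 306255065)))) (.node (.node (.node (.leaf 349833736) (.leaf 349897561)) (.node (.leaf 21432543) (.leaf 326439168))) (.node (.node (.leaf 25367772) (.leaf 350098653)) (.node (.leaf 350159060) (.leaf 286135520)))))))) (.node (.node (.node (.node (.node (.node (.node (.leaf 222365330) (.leaf 350360801)) (.node (.leaf 350491875) (.leaf 339871260))) (.node (.node (.leaf 152964167) (.leaf 9176249)) (.node (.leaf 202051673) (.leaf 300027340)))) (.node (.node (.node (.leaf 235276086) (.leaf 311562852)) (.node (.leaf 350552166) (.leaf 149689574))) (.node (.node (.leaf 350685863) (.leaf 329782504)) (.node (.leaf 324994787) (.leaf 310445576))))) (.node (.node (.node (.node (.leaf 94440773) (.leaf 350885097)) (.node (.leaf 191237812) (.leaf 125703347))) (.node (.node (.leaf 109969751) (.leaf 351016171)) (.node (.leaf 351081126) (.leaf 100012620)))) (.node (.node (.node (.leaf 27399406) (.leaf 351209432))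 (.node (.leaf 351274123) (.leaf 351341421))) (.node (.node (.leaf 248648018) (.leaf 351408801)) (.node (.leaf 351472644) (.leaf 351606004)))))) (.node (.node (.node (.node (.node (.leaf 159383850) (.leaf 351668435)) (.node (.leaf 70980548) (.leaf 287116592))) (.node (.node (.leaf 223286519) (.leaf 248513729)) (.node (.leaf 348591352) (.leaf 197527801)))) (.node (.node (.node (.leaf 101127417) (.leaf 31397114)) (.node (.leaf 253629691) (.leaf 352130300))) (.node (.node (.leaf 352261374) (.leaf 46925929)) (.node (.leaf 298717231) (.leaf 122882720))))) (.node (.node (.node (.node (.leaf 98045514) (.leaf 301009855)) (.node (.leaf 91296781) (.leaf 167122046))) (.node (.node (.leaf 177410867) (.leaf 281284658)) (.node (.leaf 352392448) (.leaf 128581969)))) (.node (.node (.node (.leaf 124391753) (.leaf 352523522)) (.node (.leaf 352588443) (.leaf 101913861))) (.node (.node (.leaf 225055902) (.leaf 150145628)) (.node (.leaf 223220845) (.leaf 352719383))))))) (.node (.node (.node (.node (.node (.node (.leaf 260047315) (.leaf 352851207)) (.node (.leaf 9963223) (.leaf 205919422))) (.node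 (.node (.leaf 352912376) (.leaf 279514591)) (.node (.leaf 15996170) (.leaf 353113355)))) (.node (.node (.node (.leaf 353174188) (.leaf 96209934)) (.node (.leaf 315425863) (.leaf 59247572))) (.node (.node (.leaf 353309966) (.leaf 15865104)) (.node (.leaf 200213540) (.leaf 353440055))))) (.node (.node (.node (.node (.leaf 353572114) (.leaf 191370516)) (.node (.leaf 333518040) (.leaf 329188530))) (.node (.node (.leaf 353699871) (.leaf 212664697)) (.node (.leaf 353767955) (.leaf 333975134)))) (.node (.node (.node (.leaf 353830244) (.leaf 353965336)) (.node (.leaf 354096410) (.leaf 155586949))) (.node (.node (.leaf 354159256) (.leaf 354223393)) (.node (.leaf 265159678) (.leaf 354289034)))))) (.node (.node (.node (.node (.node (.leaf 354354880) (.leaf 354489632)) (.node (.leaf 354550835) (.leaf 337122595))) (.node (.node (.leaf 295832613) (.leaf 354686088)) (.node (.leaf 354746848) (.leaf 310053922)))) (.node (.node (.node (.leaf 252712230) (.leaf 124259130)) (.node (.leaf 354877967) (.leaf 354948283))) (.node (.node (.leaf 352064809) (.leaf 172692778)) (.node (.leaf 82122027) (.leaf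 349050135))))) (.node (.node (.node (.node (.leaf 355206281) (.leaf 80216280)) (.node (.leaf 282203331) (.leaf 355273497))) (.node (.node (.leaf 309006834) (.leaf 317920558)) (.node (.leaf 45810755) (.leaf 275972637)))) (.node (.node (.node (.leaf 342168259) (.leaf 75499984)) (.node (.leaf 329059464) (.leaf 186125021))) (.node (.node (.leaf 94180647) (.leaf 79107375)) (.node (.leaf 355472251) (.leaf 171644209))))))))

def k4Next_16 : H52.TCert.Tr := .node (.node (.node (.node (.node (.node (.node (.node (.leaf 355600477) (.leaf 300943765)) (.node (.leaf 5047071) (.leaf 354616538))) (.node (.node (.leaf 276501811) (.leaf 355800372)) (.node (.leaf 321983798) (.leaf 289281335)))) (.node (.node (.node (.leaf 355996775) (.leaf 356058944)) (.node (.leaf 261817200) (.leaf 246876506))) (.node (.node (.leaf 356126491) (.leaf 356192511)) (.node (.leaf 99091335) (.leaf 356258557))))) (.node (.node (.node (.node (.leaf 356323272) (.leaf 356387615)) (.node (.leaf 196219344) (.leaf 320344746))) (.node (.node (.leaf 220138375) (.leaf 314445895)) (.node (.leaf 330568697) (.leaf 356521279))))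 (.node (.node (.node (.leaf 329846769) (.leaf 356586626)) (.node (.leaf 36312386) (.leaf 293737562))) (.node (.node (.leaf 332010753) (.leaf 123011701)) (.node (.leaf 356783427) (.leaf 341972293)))))) (.node (.node (.node (.node (.node (.leaf 235083078) (.leaf 314381597)) (.node (.leaf 247862599) (.leaf 86117871))) (.node (.node (.leaf 248845087) (.leaf 299238462)) (.node (.leaf 117836881) (.leaf 77796680)))) (.node (.node (.node (.leaf 119542784) (.leaf 143328501)) (.node (.leaf 284693833) (.leaf 357242186))) (.node (.node (.leaf 307630512) (.leaf 278794641)) (.node (.leaf 293670589) (.leaf 357307118))))) (.node (.node (.node (.node (.leaf 353045786) (.leaf 357372954)) (.node (.leaf 226432016) (.leaf 114823712))) (.node (.node (.leaf 93459354) (.leaf 16519503)) (.node (.leaf 309068753) (.leaf 72483457)))) (.node (.node (.node (.leaf 171709774) (.leaf 180620971)) (.node (.leaf 357500626) (.leaf 351866407))) (.node (.node (.leaf 357569026) (.leaf 212079624)) (.node (.leaf 326178129) (.leaf 234357824))))))) (.node (.node (.node (.node (.node (.node (.leaf 185270433) (.leaf 357700331))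 (.node (.leaf 277220045) (.leaf 348066334))) (.node (.node (.leaf 274793821) (.leaf 126489005)) (.node (.leaf 357832019) (.leaf 72947029)))) (.node (.node (.node (.leaf 357962961) (.leaf 358027985)) (.node (.leaf 159978840) (.leaf 309138609))) (.node (.node (.leaf 358154745) (.leaf 101518233)) (.node (.leaf 173020506) (.leaf 78451490))))) (.node (.node (.node (.node (.leaf 282004497) (.leaf 358287381)) (.node (.leaf 104795957) (.leaf 338497129))) (.node (.node (.leaf 358355146) (.leaf 237503348)) (.node (.leaf 153814030) (.leaf 334826968)))) (.node (.node (.node (.leaf 195891876) (.leaf 284169565)) (.node (.leaf 358482032) (.leaf 102172418))) (.node (.node (.leaf 318180844) (.leaf 358551147)) (.node (.leaf 358615357) (.leaf 8394081)))))) (.node (.node (.node (.node (.node (.leaf 234687442) (.leaf 210831123)) (.node (.leaf 50464622) (.leaf 17962135))) (.node (.node (.leaf 216141438) (.leaf 314839607)) (.node (.leaf 339088738) (.leaf 34607085)))) (.node (.node (.node (.leaf 358814255) (.leaf 78976356)) (.node (.leaf 358945949) (.leaf 359008513))) (.node (.node (.leaf 359074488)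 (.leaf 348393868)) (.node (.leaf 28315639) (.leaf 359208296))))) (.node (.node (.node (.node (.leaf 283972970) (.leaf 359334270)) (.node (.leaf 152376684) (.leaf 359470342))) (.node (.node (.leaf 359532378) (.leaf 19010927)) (.node (.leaf 359732592) (.leaf 51385714)))) (.node (.node (.node (.leaf 349769264) (.leaf 36574579)) (.node (.leaf 163255668) (.leaf 359989362))) (.node (.node (.leaf 33292710) (.leaf 360059885)) (.node (.leaf 176165208) (.leaf 16650301)))))))) (.node (.node (.node (.node (.node (.node (.node (.leaf 296289370) (.leaf 285872099)) (.node (.leaf 350815105) (.leaf 360191351))) (.node (.node (.leaf 165614969) (.leaf 205460412)) (.node (.leaf 224398338) (.leaf 103880058)))) (.node (.node (.node (.leaf 360387206) (.leaf 248319942)) (.node (.leaf 53086252) (.leaf 293475708))) (.node (.node (.leaf 216010140) (.leaf 70653309)) (.node (.leaf 310121854) (.leaf 343151999))))) (.node (.node (.node (.node (.leaf 98309148) (.leaf 360715197)) (.node (.leaf 93525316) (.leaf 121570352))) (.node (.node (.leaf 234558849) (.leaf 108139659)) (.node (.leaf 360844172) (.leaf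 104928643)))) (.node (.node (.node (.leaf 203620952) (.leaf 268636814)) (.node (.leaf 361043332) (.leaf 115414406))) (.node (.node (.leaf 320472591) (.leaf 361239943)) (.node (.leaf 181141783) (.leaf 64820212)))))) (.node (.node (.node (.node (.node (.leaf 361301710) (.leaf 361368909)) (.node (.leaf 307041675) (.leaf 207558028))) (.node (.node (.leaf 115280212) (.leaf 351143028)) (.node (.leaf 121181581) (.leaf 361431755)))) (.node (.node (.node (.leaf 27987894) (.leaf 202375898)) (.node (.leaf 355141878) (.leaf 184751502))) (.node (.node (.leaf 194383806) (.leaf 356980111)) (.node (.leaf 361764178) (.leaf 239534601))))) (.node (.node (.node (.node (.leaf 326570484) (.leaf 262998464)) (.node (.leaf 361829282) (.leaf 227938556))) (.node (.node (.leaf 361890098) (.leaf 298648810)) (.node (.leaf 361959724) (.leaf 362091924)))) (.node (.node (.node (.leaf 362154873) (.leaf 14881740)) (.node (.leaf 3736085) (.leaf 238487664))) (.node (.node (.leaf 362288535) (.leaf 362349167)) (.node (.leaf 362419559) (.leaf 69277083))))))) (.node (.node (.node (.node (.node (.node (.leaf 29364708)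 (.leaf 149556964)) (.node (.leaf 135397596) (.leaf 362549024))) (.node (.node (.leaf 362615305) (.leaf 106563383)) (.node (.leaf 145233211) (.leaf 112202983)))) (.node (.node (.node (.leaf 301929877) (.leaf 160240782)) (.node (.leaf 62458046) (.leaf 362747294))) (.node (.node (.leaf 362812446) (.leaf 39520016)) (.node (.leaf 121836961) (.leaf 361501719))))) (.node (.node (.node (.node (.leaf 115606425) (.leaf 362941320)) (.node (.leaf 85530019) (.leaf 363140516))) (.node (.node (.leaf 276039070) (.leaf 363205478)) (.node (.leaf 107419047) (.leaf 168494484)))) (.node (.node (.node (.leaf 349442327) (.leaf 172953951)) (.node (.leaf 363336551) (.leaf 293606608))) (.node (.node (.leaf 201656808) (.leaf 347670238)) (.node (.leaf 104137519) (.leaf 184882053)))))) (.node (.node (.node (.node (.node (.leaf 50598536) (.leaf 193861033)) (.node (.leaf 264181162) (.leaf 198185631))) (.node (.node (.leaf 315752568) (.leaf 323360171)) (.node (.leaf 217514363) (.leaf 363400052)))) (.node (.node (.node (.leaf 121705660) (.leaf 294587783)) (.node (.leaf 334959852) (.leaf 313464214))) (.node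 (.node (.leaf 363598108) (.leaf 338957741)) (.node (.leaf 351996919) (.leaf 291114438))))) (.node (.node (.node (.node (.leaf 47650222) (.leaf 298061943)) (.node (.leaf 271125822) (.leaf 363861423))) (.node (.node (.leaf 225447503) (.leaf 130684337)) (.node (.leaf 363990299) (.leaf 364123571)))) (.node (.node (.node (.leaf 237962756) (.leaf 364187122)) (.node (.leaf 108991397) (.leaf 30278876))) (.node (.node (.leaf 188942686) (.leaf 203227710)) (.node (.leaf 355341513) (.leaf 64623606))))))))

def k4Next_17 : H52.TCert.Tr := .node (.node (.node (.node (.node (.node (.node (.node (.leaf 364254587) (.leaf 164234723)) (.node (.leaf 364316861) (.leaf 252580784))) (.node (.node (.leaf 364385480) (.leaf 364450561)) (.node (.leaf 345377286) (.leaf 79956468)))) (.node (.node (.node (.leaf 12916154) (.leaf 137564731)) (.node (.leaf 364647867) (.leaf 364709729))) (.node (.node (.leaf 364844478) (.leaf 143197758)) (.node (.leaf 90510784) (.leaf 139924753))))) (.node (.node (.node (.node (.leaf 345312895) (.leaf 364975480)) (.node (.leaf 98571369) (.leaf 365040347))) (.node (.node (.leaf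 259134074) (.leaf 317134145)) (.node (.leaf 352195770) (.leaf 309858702)))) (.node (.node (.node (.leaf 296684836) (.leaf 227415120)) (.node (.leaf 252843459) (.leaf 365166980))) (.node (.node (.leaf 102045125) (.leaf 365368774)) (.node (.leaf 320935368) (.leaf 302191045)))))) (.node (.node (.node (.node (.node (.leaf 365565385) (.leaf 110300221)) (.node (.leaf 365629976) (.leaf 250156193))) (.node (.node (.leaf 65344972) (.leaf 144774062)) (.node (.leaf 300553677) (.leaf 365893070)))) (.node (.node (.node (.leaf 270669264) (.leaf 80614865)) (.node (.leaf 347605690) (.leaf 258476570))) (.node (.node (.leaf 155718041) (.leaf 365236980)) (.node (.leaf 192811682) (.leaf 80480562))))) (.node (.node (.node (.node (.leaf 305991768) (.leaf 29627858)) (.node (.leaf 366149756) (.leaf 366216248))) (.node (.node (.leaf 366351829) (.leaf 226690929)) (.node (.leaf 5833679) (.leaf 97126665)))) (.node (.node (.node (.leaf 163646092) (.leaf 366413859)) (.node (.leaf 366481514) (.leaf 345575418))) (.node (.node (.leaf 111154649) (.leaf 366679514)) (.node (.leaf 195761628) (.leaf 144840124)))))))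 (.node (.node (.node (.node (.node (.node (.leaf 365695515) (.leaf 366810430)) (.node (.leaf 218171515) (.leaf 366871724))) (.node (.node (.leaf 83498463) (.leaf 209521124)) (.node (.leaf 367005418) (.leaf 367072542)))) (.node (.node (.node (.leaf 4003298) (.leaf 90771151)) (.node (.leaf 250418659) (.leaf 207689188))) (.node (.node (.leaf 272371716) (.leaf 260576741)) (.node (.leaf 211159960) (.leaf 367399596))))) (.node (.node (.node (.node (.leaf 298325479) (.leaf 367531369)) (.node (.leaf 367594388) (.leaf 367728106))) (.node (.node (.leaf 345708012) (.leaf 367858191)) (.node (.leaf 367990254) (.leaf 196941296)))) (.node (.node (.node (.leaf 298587633) (.leaf 368184553)) (.node (.leaf 192222707) (.leaf 220861910))) (.node (.node (.leaf 73337900) (.leaf 319689306)) (.node (.leaf 307762676) (.leaf 368383425)))))) (.node (.node (.node (.node (.node (.leaf 364057765) (.leaf 346886830)) (.node (.leaf 368514550) (.leaf 234231288))) (.node (.node (.leaf 246027769) (.leaf 189402273)) (.node (.leaf 368708844) (.leaf 69014348)))) (.node (.node (.node (.leaf 361633060) (.leaf 368771268))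 (.node (.leaf 368907772) (.leaf 201394439))) (.node (.node (.leaf 271453108) (.leaf 368967878)) (.node (.leaf 259852517) (.leaf 367793663))))) (.node (.node (.node (.node (.leaf 369103868) (.leaf 189533275)) (.node (.leaf 190188064) (.leaf 168234560))) (.node (.node (.leaf 363073649) (.leaf 369166253)) (.node (.leaf 369231268) (.leaf 280696323)))) (.node (.node (.node (.leaf 147395433) (.leaf 48038015)) (.node (.leaf 336269500) (.leaf 304616964))) (.node (.node (.leaf 369430529) (.leaf 238357407)) (.node (.leaf 369563142) (.leaf 105058934)))))))) (.node (.node (.node (.node (.node (.node (.node (.leaf 302060111) (.leaf 159583835)) (.node (.leaf 113707148) (.leaf 369627152))) (.node (.node (.leaf 360319361) (.leaf 369694146)) (.node (.leaf 369757739) (.leaf 369824875)))) (.node (.node (.node (.leaf 237376130) (.leaf 319362560)) (.node (.leaf 240980949) (.leaf 369888858))) (.node (.node (.leaf 316277066) (.leaf 210767650)) (.node (.leaf 94310172) (.leaf 104535565))))) (.node (.node (.node (.node (.leaf 282269198) (.leaf 152633652)) (.node (.leaf 325389948) (.leaf 370086986)))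 (.node (.node (.leaf 318965785) (.leaf 95751146)) (.node (.leaf 281351357) (.leaf 324211143)))) (.node (.node (.node (.leaf 366018689) (.leaf 370218512)) (.node (.leaf 154603108) (.leaf 321785987))) (.node (.node (.leaf 193334061) (.leaf 248713928)) (.node (.leaf 30671851) (.leaf 106696537)))))) (.node (.node (.node (.node (.node (.leaf 197005544) (.leaf 19338770)) (.node (.leaf 26807842) (.leaf 284035345))) (.node (.node (.leaf 79304211) (.leaf 370480660)) (.node (.leaf 358421360) (.leaf 370611734)))) (.node (.node (.node (.leaf 324735481) (.leaf 55449112)) (.node (.leaf 20649497) (.leaf 280957009))) (.node (.node (.leaf 156175141) (.leaf 275781146)) (.node (.leaf 319821339) (.leaf 370938663))))) (.node (.node (.node (.node (.leaf 365757622) (.leaf 308740511)) (.node (.leaf 371070493) (.leaf 371201567))) (.node (.node (.leaf 22287905) (.leaf 371327932)) (.node (.leaf 371393898) (.leaf 288360307)))) (.node (.node (.node (.leaf 371462947) (.leaf 234881424)) (.node (.leaf 371528333) (.leaf 253821290))) (.node (.node (.leaf 371591650) (.leaf 371657008)) (.node (.leaf 337904714)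 (.leaf 365495986))))))) (.node (.node (.node (.node (.node (.node (.leaf 4265512) (.leaf 355013128)) (.node (.leaf 308678057) (.leaf 179181097))) (.node (.node (.leaf 175314474) (.leaf 371922278)) (.node (.leaf 110102501) (.leaf 371987792)))) (.node (.node (.node (.leaf 332600297) (.leaf 156829559)) (.node (.leaf 286983352) (.leaf 372050784))) (.node (.node (.leaf 372117424) (.leaf 372181486)) (.node (.leaf 312476825) (.leaf 122558000))))) (.node (.node (.node (.node (.leaf 34998475) (.leaf 372312657)) (.node (.leaf 266737202) (.leaf 372443112))) (.node (.node (.leaf 9835894) (.leaf 144575227)) (.node (.leaf 252382524) (.leaf 252056335)))) (.node (.node (.node (.leaf 308417516) (.leaf 372510901)) (.node (.leaf 372573511) (.leaf 41031222))) (.node (.node (.leaf 123995660) (.leaf 38998049)) (.node (.leaf 372704828) (.leaf 20780600)))))) (.node (.node (.node (.node (.node (.leaf 257690777) (.leaf 115676729)) (.node (.leaf 201528890) (.leaf 373036603))) (.node (.node (.leaf 210441789) (.leaf 299435054)) (.node (.leaf 372641956) (.leaf 303629936)))) (.node (.node (.node (.leaf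 90900544) (.leaf 295112307)) (.node (.leaf 349963079) (.leaf 373233214))) (.node (.node (.leaf 326964751) (.leaf 330042447)) (.node (.leaf 282989536) (.leaf 298189384))))) (.node (.node (.node (.node (.leaf 352326849) (.leaf 209458752)) (.node (.leaf 24647196) (.leaf 372969284))) (.node (.node (.leaf 72816193) (.leaf 243797772)) (.node (.leaf 373428998) (.leaf 373560899)))) (.node (.node (.node (.leaf 292033869) (.leaf 257365573)) (.node (.leaf 190776103) (.leaf 373686765))) (.node (.node (.leaf 221845063) (.leaf 373819634)) (.node (.leaf 373885418) (.leaf 373951597))))))))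

def k4Next_18 : H52.TCert.Tr := .node (.node (.node (.node (.node (.node (.node (.node (.leaf 374017167) (.leaf 101258828)) (.node (.leaf 174719580) (.leaf 328472141))) (.node (.node (.leaf 29231913) (.leaf 359141816)) (.node (.leaf 310186559) (.leaf 120460543)))) (.node (.node (.node (.leaf 347083910) (.leaf 167969045)) (.node (.leaf 315888457) (.leaf 374213892))) (.node (.node (.leaf 374281218) (.leaf 374346033)) (.node (.leaf 374409861) (.leaf 344397394))))) (.node (.node (.node (.node (.leaf 369301075) (.leaf 374675028)) (.node (.leaf 355730958) (.leaf 374737897))) (.node (.node (.leaf 113574184) (.leaf 58461997)) (.node (.leaf 241369312) (.leaf 218303686)))) (.node (.node (.node (.leaf 118035661) (.leaf 351929799)) (.node (.leaf 363009522) (.leaf 132126295))) (.node (.node (.leaf 205001792) (.leaf 226624397)) (.node (.leaf 367135120) (.leaf 207228307)))))) (.node (.node (.node (.node (.node (.leaf 189208152) (.leaf 286916947)) (.node (.leaf 375002713) (.leaf 375064773))) (.node (.node (.leaf 335025671) (.leaf 375132293)) (.node (.leaf 252187386) (.leaf 158338751))))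 (.node (.node (.node (.leaf 324866440) (.leaf 323425885)) (.node (.leaf 54793822) (.leaf 328668767))) (.node (.node (.leaf 51121566) (.leaf 258739808)) (.node (.leaf 283055379) (.leaf 151786865))))) (.node (.node (.node (.node (.leaf 375395932) (.leaf 372376420)) (.node (.leaf 332338600) (.leaf 87428969))) (.node (.node (.leaf 112399953) (.leaf 260380056)) (.node (.leaf 365433101) (.leaf 311367265)))) (.node (.node (.node (.leaf 150410850) (.leaf 375658083)) (.node (.leaf 117511322) (.leaf 331421193))) (.node (.node (.leaf 375723285) (.leaf 375854694)) (.node (.leaf 360257104) (.leaf 107550312))))))) (.node (.node (.node (.node (.node (.node (.leaf 75044457) (.leaf 335941430)) (.node (.leaf 357041485) (.leaf 205718355))) (.node (.node (.leaf 376050860) (.leaf 43718024)) (.node (.leaf 376182379) (.leaf 361695898)))) (.node (.node (.node (.leaf 363795332) (.leaf 330241645)) (.node (.leaf 376378990) (.leaf 297929896))) (.node (.node (.leaf 188552816) (.leaf 311102652)) (.node (.leaf 288032469) (.leaf 368252204))))) (.node (.node (.node (.node (.leaf 376575601) (.leaf 376638291))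 (.node (.leaf 196676360) (.leaf 333255804))) (.node (.node (.leaf 376706528) (.leaf 376837749)) (.node (.leaf 368448816) (.leaf 81598071)))) (.node (.node (.node (.leaf 179115640) (.leaf 377034138)) (.node (.leaf 377097806) (.leaf 359667323))) (.node (.node (.leaf 174522803) (.leaf 292820445)) (.node (.leaf 138614396) (.leaf 107157117)))))) (.node (.node (.node (.node (.node (.leaf 189666098) (.leaf 83826080)) (.node (.leaf 298456702) (.leaf 377424942))) (.node (.node (.leaf 316867717) (.leaf 321193352)) (.node (.leaf 112531072) (.leaf 41422686)))) (.node (.node (.node (.leaf 177935951) (.leaf 377624193)) (.node (.leaf 203495043) (.leaf 45549149))) (.node (.node (.leaf 322702538) (.leaf 266212996)) (.node (.leaf 180489513) (.leaf 346691049))))) (.node (.node (.node (.node (.leaf 377886341) (.leaf 377950001)) (.node (.leaf 357176968) (.leaf 199955806))) (.node (.node (.leaf 378082775) (.leaf 125830811)) (.node (.leaf 378147125) (.leaf 316741259)))) (.node (.node (.node (.leaf 378277153) (.leaf 324277651)) (.node (.leaf 375527053) (.leaf 378476174))) (.node (.node (.leaf 367269101)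 (.leaf 236328042)) (.node (.leaf 352455902) (.leaf 371791504)))))))) (.node (.node (.node (.node (.node (.node (.node (.leaf 198645393) (.leaf 378667153)) (.node (.leaf 45941275) (.leaf 107025173))) (.node (.node (.leaf 152769097) (.leaf 291964758)) (.node (.leaf 317656875) (.leaf 248382545)))) (.node (.node (.node (.leaf 365827731) (.leaf 49550996)) (.node (.leaf 326372896) (.leaf 291705543))) (.node (.node (.leaf 378934933) (.leaf 376770323)) (.node (.leaf 214172647) (.leaf 352786071))))) (.node (.node (.node (.node (.leaf 244583220) (.leaf 291902149)) (.node (.leaf 379064277) (.leaf 153555230))) (.node (.node (.leaf 141170329) (.leaf 66783757)) (.node (.leaf 244453430) (.leaf 159911832)))) (.node (.node (.node (.leaf 121443936) (.leaf 379193780)) (.node (.leaf 117642414) (.leaf 371131930))) (.node (.node (.leaf 379262465) (.leaf 351540446)) (.node (.leaf 371004410) (.leaf 103812939)))))) (.node (.node (.node (.node (.node (.leaf 205787434) (.leaf 340263561)) (.node (.leaf 258868001) (.leaf 333774995))) (.node (.node (.leaf 363533980) (.leaf 143070252)) (.node (.leaf 30152349)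 (.leaf 343609892)))) (.node (.node (.node (.leaf 328603294) (.leaf 290786269)) (.node (.leaf 140382266) (.leaf 379590303))) (.node (.node (.leaf 334630233) (.leaf 247338657)) (.node (.leaf 4788171) (.leaf 282924541))))) (.node (.node (.node (.node (.leaf 367330599) (.leaf 364907225)) (.node (.leaf 356450769) (.leaf 350426316))) (.node (.node (.leaf 195103558) (.leaf 197137107)) (.node (.leaf 37098789) (.leaf 379715888)))) (.node (.node (.node (.leaf 332661017) (.leaf 379783108)) (.node (.leaf 366089892) (.leaf 93784670))) (.node (.node (.leaf 377491716) (.leaf 170263012)) (.node (.leaf 21894821) (.leaf 322376083))))))) (.node (.node (.node (.node (.node (.node (.leaf 186783277) (.leaf 380049062)) (.node (.leaf 278729169) (.leaf 332206250))) (.node (.node (.leaf 380180136) (.leaf 380243719)) (.node (.leaf 349113844) (.leaf 380306404)))) (.node (.node (.node (.leaf 196154943) (.leaf 38929701)) (.node (.leaf 380372183) (.leaf 322180041))) (.node (.node (.leaf 165680813) (.leaf 355407534)) (.node (.leaf 380638895) (.leaf 330629569))))) (.node (.node (.node (.node (.leaf 380701334)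 (.leaf 339416754)) (.node (.leaf 380830821) (.leaf 344004276))) (.node (.node (.leaf 380965135) (.leaf 381031663)) (.node (.leaf 381096505) (.leaf 360580664)))) (.node (.node (.node (.leaf 84284185) (.leaf 378344240)) (.node (.leaf 361108722) (.leaf 139136812))) (.node (.node (.leaf 322901444) (.leaf 299111974)) (.node (.leaf 184354866) (.leaf 381163054)))))) (.node (.node (.node (.node (.node (.leaf 381228425) (.leaf 55055603)) (.node (.leaf 98435936) (.leaf 61673768))) (.node (.node (.leaf 371851819) (.leaf 187438095)) (.node (.leaf 381293649) (.leaf 378017467)))) (.node (.node (.node (.leaf 246945468) (.leaf 293994871)) (.node (.leaf 328273176) (.leaf 381490177))) (.node (.node (.leaf 37947609) (.leaf 245238530)) (.node (.leaf 358093971) (.leaf 232786152))))) (.node (.node (.node (.node (.leaf 230822676) (.leaf 39982782)) (.node (.leaf 272045759) (.leaf 115083378))) (.node (.node (.leaf 377820738) (.leaf 95490743)) (.node (.leaf 161158848) (.leaf 273876215)))) (.node (.node (.node (.leaf 354422810) (.leaf 188290753)) (.node (.leaf 272635383) (.leaf 286594754))) (.node (.node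 (.leaf 244187887) (.leaf 129302892)) (.node (.leaf 57415363) (.leaf 149622652))))))))

def k4Next_19 : H52.TCert.Tr := .node (.node (.node (.node (.node (.node (.node (.node (.leaf 194645373) (.leaf 37230276)) (.node (.leaf 367460507) (.leaf 382013077))) (.node (.node (.leaf 343544032) (.leaf 306910676)) (.node (.leaf 120065494) (.leaf 342626118)))) (.node (.node (.node (.leaf 382076103) (.leaf 350947483)) (.node (.leaf 382145976) (.leaf 382206395))) (.node (.node (.leaf 306712463) (.leaf 108664521)) (.node (.leaf 325129866) (.leaf 382338474))))) (.node (.node (.node (.node (.leaf 382406550) (.leaf 136319240)) (.node (.leaf 382471960) (.leaf 377362125))) (.node (.node (.leaf 136976078) (.leaf 382736079)) (.node (.leaf 85397852) (.leaf 349310851)))) (.node (.node (.node (.leaf 382796070) (.leaf 344987087)) (.node (.leaf 31789966) (.leaf 370413744))) (.node (.node (.leaf 175183270) (.leaf 289411936)) (.node (.leaf 220336986) (.leaf 341839253)))))) (.node (.node (.node (.node (.node (.leaf 128456402) (.leaf 41293310)) (.node (.leaf 330830935) (.leaf 165483722))) (.node (.node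 (.leaf 314971859) (.leaf 87299519)) (.node (.leaf 305206996) (.leaf 383058179)))) (.node (.node (.node (.leaf 355536627) (.leaf 188417744)) (.node (.leaf 290916482) (.leaf 383123907))) (.node (.node (.leaf 112068141) (.leaf 220990494)) (.node (.leaf 340984200) (.leaf 228134931))))) (.node (.node (.node (.node (.leaf 383194676) (.leaf 243406095)) (.node (.leaf 145102552) (.leaf 259069657))) (.node (.node (.leaf 194188600) (.leaf 135533736)) (.node (.leaf 138478617) (.leaf 383456986)))) (.node (.node (.node (.leaf 213259698) (.leaf 171185884)) (.node (.leaf 286000302) (.leaf 325716828))) (.node (.node (.leaf 98701858) (.leaf 133695206)) (.node (.leaf 321260718) (.leaf 158797244))))))) (.node (.node (.node (.node (.node (.node (.leaf 49616331) (.leaf 353894559)) (.node (.leaf 383588019) (.leaf 331880158))) (.node (.node (.leaf 220007865) (.leaf 374475524)) (.node (.leaf 317264803) (.leaf 158405602)))) (.node (.node (.node (.leaf 47257082) (.leaf 356716730)) (.node (.leaf 339678644) (.leaf 216536380))) (.node (.node (.leaf 378869471) (.leaf 279252758)) (.node (.leaf 383784320)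 (.leaf 62983750))))) (.node (.node (.node (.node (.leaf 163518003) (.leaf 174917344)) (.node (.leaf 341906599) (.leaf 32380641))) (.node (.node (.leaf 106894217) (.leaf 19075297)) (.node (.leaf 343937491) (.leaf 224596951)))) (.node (.node (.node (.leaf 193793801) (.leaf 382992612)) (.node (.leaf 258610130) (.leaf 111018590))) (.node (.node (.leaf 33424929) (.leaf 383910761)) (.node (.leaf 293869283) (.leaf 189795539)))))) (.node (.node (.node (.node (.node (.leaf 380440572) (.leaf 379983205)) (.node (.leaf 384042044) (.leaf 384107564))) (.node (.node (.leaf 98833420) (.leaf 287905510)) (.node (.leaf 27727591) (.leaf 384303615)))) (.node (.node (.node (.leaf 377557443) (.leaf 384374453)) (.node (.leaf 384439201) (.leaf 20386261))) (.node (.node (.leaf 342824591) (.leaf 318308853)) (.node (.leaf 175834585) (.leaf 334435624))))) (.node (.node (.node (.node (.leaf 185144813) (.leaf 350620383)) (.node (.leaf 157616151) (.leaf 59381334))) (.node (.node (.leaf 84153733) (.leaf 160105613)) (.node (.leaf 165353195) (.leaf 256381259)))) (.node (.node (.node (.leaf 263522485) (.leaf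 375455907)) (.node (.leaf 342099778) (.leaf 291505467))) (.node (.node (.leaf 374082990) (.leaf 384567756)) (.node (.leaf 347211201) (.leaf 282788766)))))))) (.node (.node (.node (.node (.node (.node (.node (.leaf 70522605) (.leaf 275191534)) (.node (.leaf 381685627) (.leaf 142677743))) (.node (.node (.leaf 208016310) (.leaf 40767257)) (.node (.leaf 360912624) (.leaf 384893261)))) (.node (.node (.node (.leaf 340726117) (.leaf 171316978)) (.node (.leaf 289543923) (.leaf 360450234))) (.node (.node (.leaf 17303451) (.leaf 297077291)) (.node (.leaf 370807450) (.leaf 314575834))))) (.node (.node (.node (.node (.leaf 354026864) (.leaf 355664037)) (.node (.leaf 219484360) (.leaf 345114793))) (.node (.node (.leaf 140776006) (.leaf 385160948)) (.node (.leaf 248910602) (.leaf 152896068)))) (.node (.node (.node (.leaf 385223451) (.leaf 144443816)) (.node (.leaf 42407278) (.leaf 385289282))) (.node (.node (.leaf 385355484) (.leaf 109515186)) (.node (.leaf 226361879) (.leaf 120198818)))))) (.node (.node (.node (.node (.node (.leaf 341119541) (.leaf 320669603)) (.node (.leaf 46405369) (.leaf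 385483176))) (.node (.node (.leaf 74779826) (.leaf 370349016)) (.node (.leaf 200084110) (.leaf 142938854)))) (.node (.node (.node (.leaf 137828029) (.leaf 54662871)) (.node (.leaf 238098035) (.leaf 337711179))) (.node (.node (.leaf 385549116) (.leaf 385619530)) (.node (.leaf 223412469) (.leaf 385682998))))) (.node (.node (.node (.node (.leaf 344262641) (.leaf 385745655)) (.node (.leaf 268239557) (.leaf 323491583))) (.node (.node (.leaf 385876938) (.leaf 385947368)) (.node (.leaf 178329346) (.leaf 235149059)))) (.node (.node (.node (.leaf 338171211) (.leaf 358749381)) (.node (.leaf 73664304) (.leaf 335348695))) (.node (.node (.leaf 124128099) (.leaf 183833065)) (.node (.leaf 244846181) (.leaf 140515072))))))) (.node (.node (.node (.node (.node (.node (.leaf 127471709) (.leaf 234491967)) (.node (.leaf 253691836) (.leaf 253040388))) (.node (.node (.leaf 386275077) (.leaf 376506941)) (.node (.leaf 328992005) (.leaf 319622497)))) (.node (.node (.node (.leaf 386339661) (.leaf 259002523)) (.node (.leaf 143787290) (.leaf 386404504))) (.node (.node (.leaf 386469535) (.leaf 257889813))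 (.node (.leaf 375917372) (.leaf 382670602))))) (.node (.node (.node (.node (.leaf 320214795) (.leaf 133305009)) (.node (.leaf 320869994) (.leaf 370673252))) (.node (.node (.leaf 126290504) (.leaf 197793069)) (.node (.leaf 215025615) (.leaf 339940665)))) (.node (.node (.node (.leaf 386666526) (.leaf 139858061)) (.node (.leaf 256902873) (.leaf 183440933))) (.node (.node (.leaf 301602490) (.leaf 183113485)) (.node (.leaf 314050349) (.leaf 244056349)))))) (.node (.node (.node (.node (.node (.leaf 278861403) (.leaf 263260200)) (.node (.leaf 193009164) (.leaf 386797563))) (.node (.node (.leaf 122033935) (.leaf 359794252)) (.node (.leaf 256972514) (.leaf 386925492)))) (.node (.node (.node (.leaf 145490333) (.leaf 126817900)) (.node (.leaf 338037338) (.leaf 386993263))) (.node (.node (.leaf 148244934) (.leaf 51908625)) (.node (.leaf 387055790) (.leaf 146148272))))) (.node (.node (.node (.node (.leaf 387124555) (.leaf 314184086)) (.node (.leaf 78056443) (.leaf 33556954))) (.node (.node (.leaf 302647740) (.leaf 156370379)) (.node (.leaf 381880796) (.leaf 63640503)))) (.node (.node (.node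 (.leaf 287446297) (.leaf 279841583)) (.node (.leaf 384500510) (.leaf 43324347))) (.node (.node (.leaf 221122295) (.leaf 387189364)) (.node (.leaf 360516596) (.leaf 59118301))))))))

def k4Next_20 : H52.TCert.Tr := .node (.node (.node (.node (.node (.node (.node (.node (.leaf 229119765) (.leaf 237245553)) (.node (.leaf 32248796) (.leaf 267257671))) (.node (.node (.leaf 340593014) (.leaf 385090836)) (.node (.leaf 231151382) (.leaf 366286404)))) (.node (.node (.node (.leaf 112662295) (.leaf 373363878)) (.node (.leaf 199230814) (.leaf 151128406))) (.node (.node (.leaf 331486790) (.leaf 287381272)) (.node (.leaf 194120216) (.leaf 375982254))))) (.node (.node (.node (.node (.leaf 198970056) (.leaf 243535671)) (.node (.leaf 293144070) (.leaf 386597750))) (.node (.node (.leaf 378213920) (.leaf 329518508)) (.node (.leaf 278992538) (.leaf 309662791)))) (.node (.node (.node (.leaf 387514911) (.leaf 370280390)) (.node (.leaf 192091229) (.leaf 316542135))) (.node (.node (.leaf 387580958) (.leaf 16387993)) (.node (.leaf 44368278) (.leaf 219419436)))))) (.node (.node (.node (.node (.node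 (.leaf 111678289) (.leaf 387650742)) (.node (.leaf 154865907) (.leaf 282594017))) (.node (.node (.leaf 226825949) (.leaf 190715125)) (.node (.leaf 284824810) (.leaf 194315563)))) (.node (.node (.node (.leaf 132781852) (.leaf 166270749)) (.node (.leaf 335415393) (.leaf 387847815))) (.node (.node (.leaf 232458328) (.leaf 384701522)) (.node (.leaf 235345015) (.leaf 13305418))))) (.node (.node (.node (.node (.leaf 257560015) (.leaf 384240528)) (.node (.leaf 6887199) (.leaf 294916472))) (.node (.node (.leaf 374603958) (.leaf 303825511)) (.node (.leaf 387911394) (.leaf 199366377)))) (.node (.node (.node (.leaf 369496687) (.leaf 358223845)) (.node (.leaf 280237856) (.leaf 343085718))) (.node (.node (.leaf 345051241) (.leaf 332796480)) (.node (.leaf 388110113) (.leaf 308479348))))))) (.node (.node (.node (.node (.node (.node (.leaf 204805923) (.leaf 388239916)) (.node (.leaf 388303628) (.leaf 316410021))) (.node (.node (.leaf 286266036) (.leaf 151983542)) (.node (.leaf 45287358) (.leaf 247074148)))) (.node (.node (.node (.leaf 277742577) (.leaf 359861493)) (.node (.leaf 165086037)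 (.leaf 128323034))) (.node (.node (.leaf 21042615) (.leaf 263395110)) (.node (.leaf 388436147) (.leaf 137303848))))) (.node (.node (.node (.node (.leaf 143464145) (.leaf 327354036)) (.node (.leaf 255006213) (.leaf 369953579))) (.node (.node (.leaf 323621056) (.leaf 92999691)) (.node (.leaf 376113694) (.leaf 110171488)))) (.node (.node (.node (.leaf 388566846) (.leaf 216339720)) (.node (.leaf 158075582) (.leaf 128977397))) (.node (.node (.leaf 384175692) (.leaf 223544754)) (.node (.leaf 190644652) (.leaf 44635946)))))) (.node (.node (.node (.node (.node (.leaf 345505978) (.leaf 364578490)) (.node (.leaf 229445164) (.leaf 388697211))) (.node (.node (.leaf 388760975) (.leaf 153949997)) (.node (.leaf 284626897) (.leaf 388896521)))) (.node (.node (.node (.leaf 304155841) (.leaf 388958094)) (.node (.leaf 131340080) (.leaf 389091564))) (.node (.node (.leaf 266868478) (.leaf 6100786)) (.node (.leaf 61280635) (.leaf 389220898))))) (.node (.node (.node (.node (.leaf 294262074) (.leaf 368645940)) (.node (.leaf 389354001) (.leaf 249758467))) (.node (.node (.leaf 305139747) (.leaf 375592427))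 (.node (.leaf 372774253) (.leaf 274732349)))) (.node (.node (.node (.leaf 247468535) (.leaf 118953599)) (.node (.leaf 327552272) (.leaf 265033055))) (.node (.node (.leaf 362223288) (.leaf 248057317)) (.node (.leaf 56103648) (.leaf 387780341)))))))) (.node (.node (.node (.node (.node (.node (.node (.leaf 389417063) (.leaf 337319735)) (.node (.leaf 217912476) (.leaf 17041587))) (.node (.node (.leaf 307435320) (.leaf 370540734)) (.node (.leaf 233374409) (.leaf 377231161)))) (.node (.node (.node (.leaf 81466633) (.leaf 149296227)) (.node (.leaf 310253284) (.leaf 224005796))) (.node (.node (.leaf 352655162) (.leaf 74651377)) (.node (.leaf 37427003) (.leaf 285676957))))) (.node (.node (.node (.node (.leaf 205394179) (.leaf 236853052)) (.node (.leaf 186384653) (.leaf 221320667))) (.node (.node (.leaf 302844535) (.leaf 87556288)) (.node (.leaf 362481023) (.leaf 274143020)))) (.node (.node (.node (.leaf 327685829) (.leaf 389876684)) (.node (.leaf 389944216) (.leaf 210966335))) (.node (.node (.leaf 105976121) (.leaf 339214818)) (.node (.leaf 386075721) (.leaf 96736348)))))) (.node (.node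 (.node (.node (.node (.leaf 155061106) (.leaf 327222459)) (.node (.leaf 390075487) (.leaf 24778561))) (.node (.node (.leaf 114561877) (.leaf 74519766)) (.node (.leaf 228791477) (.leaf 48174794)))) (.node (.node (.node (.leaf 314644181) (.leaf 312022437)) (.node (.leaf 390206399) (.leaf 228004895))) (.node (.node (.leaf 227678019) (.leaf 164890577)) (.node (.leaf 49941267) (.leaf 387323712))))) (.node (.node (.node (.node (.leaf 236192408) (.leaf 295505494)) (.node (.leaf 212275913) (.leaf 390403908))) (.node (.node (.leaf 390469371) (.leaf 362878791)) (.node (.leaf 55706115) (.leaf 352980155)))) (.node (.node (.node (.leaf 165876207) (.leaf 390598175)) (.node (.leaf 28578211) (.leaf 389156232))) (.node (.node (.leaf 390665957) (.leaf 263916864)) (.node (.leaf 143595052) (.leaf 360972874))))))) (.node (.node (.node (.node (.node (.node (.leaf 263329610) (.leaf 295966482)) (.node (.leaf 390792441) (.leaf 379917530))) (.node (.node (.leaf 299964236) (.leaf 40113997)) (.node (.leaf 134550400) (.leaf 37818486)))) (.node (.node (.node (.leaf 327942868) (.leaf 219223760)) (.node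 (.leaf 369366791) (.leaf 390993314))) (.node (.node (.leaf 391058961) (.leaf 140185103)) (.node (.leaf 215353323) (.leaf 391119670))))) (.node (.node (.node (.node (.leaf 245502142) (.leaf 386861250)) (.node (.leaf 353244401) (.leaf 377752828))) (.node (.node (.leaf 162991348) (.leaf 294327351)) (.node (.leaf 34871121) (.leaf 384635574)))) (.node (.node (.node (.leaf 380507564) (.leaf 294063753)) (.node (.leaf 156696993) (.leaf 224330374))) (.node (.node (.leaf 260183507) (.leaf 32902167)) (.node (.leaf 353504750) (.leaf 391255625)))))) (.node (.node (.node (.node (.node (.leaf 261883987) (.leaf 383648203)) (.node (.leaf 391386963) (.leaf 104011087))) (.node (.node (.leaf 147719629) (.leaf 241702453)) (.node (.leaf 213063509) (.leaf 373166884)))) (.node (.node (.node (.leaf 309333722) (.leaf 261558191)) (.node (.leaf 373297501) (.leaf 286851456))) (.node (.node (.leaf 139007531) (.leaf 338625840)) (.node (.leaf 203821664) (.leaf 381749929))))) (.node (.node (.node (.node (.leaf 371267324) (.leaf 322769841)) (.node (.leaf 224200825) (.leaf 391514086))) (.node (.node (.leaf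 214635893) (.leaf 361568087)) (.node (.leaf 204281688) (.leaf 81135974)))) (.node (.node (.node (.leaf 285284185) (.leaf 260902107)) (.node (.leaf 211424088) (.leaf 215095130))) (.node (.node (.leaf 391645889) (.leaf 60294610)) (.node (.leaf 162731754) (.leaf 388633940))))))))

def k4Next_21 : H52.TCert.Tr := .node (.node (.node (.node (.node (.node (.node (.node (.leaf 60036907) (.leaf 322967140)) (.node (.leaf 383260183) (.leaf 307828394))) (.node (.node (.leaf 6755138) (.leaf 374146904)) (.node (.leaf 299505270) (.leaf 255333411)))) (.node (.node (.node (.leaf 307102062) (.leaf 373757787)) (.node (.leaf 343740454) (.leaf 135665324))) (.node (.node (.leaf 376440715) (.leaf 374541240)) (.node (.leaf 281875957) (.leaf 91689782))))) (.node (.node (.node (.node (.leaf 242814960) (.leaf 254285660)) (.node (.leaf 391971024) (.leaf 60424959))) (.node (.node (.leaf 182718951) (.leaf 209196108)) (.node (.leaf 191497142) (.leaf 376969054)))) (.node (.node (.node (.leaf 192416402) (.leaf 220663669)) (.node (.leaf 357893671) (.leaf 163779670))) (.node (.node (.leaf 392107827) (.leaf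 298979706)) (.node (.leaf 350028925) (.leaf 392170752)))))) (.node (.node (.node (.node (.node (.leaf 150279623) (.leaf 247600754)) (.node (.leaf 119412364) (.leaf 392236344))) (.node (.node (.leaf 144182960) (.leaf 52040670)) (.node (.leaf 239670839) (.leaf 392370018)))) (.node (.node (.node (.leaf 387449852) (.leaf 268440978)) (.node (.leaf 29889429) (.leaf 377164975))) (.node (.node (.leaf 309793742) (.leaf 53675687)) (.node (.leaf 299307636) (.leaf 369036003))))) (.node (.node (.node (.node (.leaf 309200160) (.leaf 171442833)) (.node (.leaf 392435174) (.leaf 317855067))) (.node (.node (.leaf 88217335) (.leaf 313656079)) (.node (.leaf 365298918) (.leaf 198055349)))) (.node (.node (.node (.leaf 290456599) (.leaf 324602056)) (.node (.leaf 22023534) (.leaf 281481436))) (.node (.node (.leaf 134676796) (.leaf 377684998)) (.node (.leaf 389680989) (.leaf 277484273))))))) (.node (.node (.node (.node (.node (.node (.leaf 368055583) (.leaf 285543539)) (.node (.leaf 316803374) (.leaf 305530489))) (.node (.node (.leaf 321460030) (.leaf 209982796)) (.node (.leaf 206834583) (.leaf 392499868))))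 (.node (.node (.node (.leaf 236787486) (.leaf 254740015)) (.node (.leaf 367920048) (.leaf 389747931))) (.node (.node (.leaf 368116830) (.leaf 320538430)) (.node (.leaf 183569579) (.leaf 362024283))))) (.node (.node (.node (.node (.leaf 341049920) (.leaf 32639329)) (.node (.leaf 35917924) (.leaf 287512422))) (.node (.node (.leaf 183768106) (.leaf 360647475)) (.node (.leaf 229578439) (.leaf 177800621)))) (.node (.node (.node (.leaf 249632459) (.leaf 363922996)) (.node (.leaf 338760930) (.leaf 268829600))) (.node (.node (.leaf 309532519) (.leaf 289148425)) (.node (.leaf 237045894) (.leaf 251265986)))))) (.node (.node (.node (.node (.node (.leaf 392695817) (.leaf 392760808)) (.node (.leaf 73466686) (.leaf 344788209))) (.node (.node (.leaf 373624809) (.leaf 392824268)) (.node (.leaf 385417955) (.leaf 380572523)))) (.node (.node (.node (.leaf 8914452) (.leaf 230493243)) (.node (.leaf 223876918) (.leaf 336729963))) (.node (.node (.leaf 95096316) (.leaf 384960190)) (.node (.leaf 297735457) (.leaf 242358124))))) (.node (.node (.node (.node (.leaf 393023109) (.leaf 293343162)) (.node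 (.leaf 310974318) (.leaf 341382841))) (.node (.node (.leaf 182327151) (.leaf 262411665)) (.node (.leaf 391845336) (.leaf 382932552)))) (.node (.node (.node (.leaf 393216455) (.leaf 366941067)) (.node (.leaf 271783083) (.leaf 123408894))) (.node (.node (.leaf 357437069) (.leaf 274596603)) (.node (.leaf 162600698) (.leaf 392894205)))))))) (.node (.node (.node (.node (.node (.node (.node (.leaf 60887442) (.leaf 100601819)) (.node (.leaf 182456916) (.leaf 177279664))) (.node (.node (.leaf 339548017) (.leaf 393349075)) (.node (.leaf 184552900) (.leaf 393414893)))) (.node (.node (.node (.leaf 203163109) (.leaf 31656934)) (.node (.leaf 292099140) (.leaf 129502572))) (.node (.node (.leaf 132583342) (.leaf 376244302)) (.node (.leaf 393479151) (.leaf 231019683))))) (.node (.node (.node (.node (.leaf 335741894) (.leaf 378603839)) (.node (.leaf 392955164) (.leaf 169804063))) (.node (.node (.leaf 365105627) (.leaf 372247464)) (.node (.leaf 378737194) (.leaf 381621942)))) (.node (.node (.node (.leaf 166005983) (.leaf 382275144)) (.node (.leaf 179437851) (.leaf 334103808))) (.node (.node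 (.leaf 391187506) (.leaf 68294500)) (.node (.leaf 308614757) (.leaf 348526196)))))) (.node (.node (.node (.node (.node (.leaf 381949733) (.leaf 363465348)) (.node (.leaf 46666145) (.leaf 274929525))) (.node (.node (.leaf 249894774) (.leaf 168429310)) (.node (.leaf 330499721) (.leaf 197331343)))) (.node (.node (.node (.leaf 344725000) (.leaf 34673714)) (.node (.leaf 348129431) (.leaf 383388749))) (.node (.node (.leaf 47388063) (.leaf 373491350)) (.node (.leaf 393678102) (.leaf 349639948))))) (.node (.node (.node (.node (.leaf 162268370) (.leaf 387387818)) (.node (.leaf 354815025) (.leaf 186652220))) (.node (.node (.leaf 346162588) (.leaf 342756092)) (.node (.leaf 254678699) (.leaf 287642628)))) (.node (.node (.node (.leaf 139400135) (.leaf 355861850)) (.node (.leaf 360779905) (.leaf 381356965))) (.node (.node (.leaf 370151795) (.leaf 7931232)) (.node (.leaf 161421176) (.leaf 58856401))))))) (.node (.node (.node (.node (.node (.node (.leaf 242745805) (.leaf 324141654)) (.node (.leaf 267916937) (.leaf 173280383))) (.node (.node (.leaf 341314227) (.leaf 322635466)) (.node (.leaf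 188683324) (.leaf 123734703)))) (.node (.node (.node (.leaf 393090529) (.leaf 383522669)) (.node (.leaf 205590676) (.leaf 123279225))) (.node (.node (.leaf 345249614) (.leaf 378410874)) (.node (.leaf 393806394) (.leaf 154343042))))) (.node (.node (.node (.node (.leaf 389616899) (.leaf 386012711)) (.node (.leaf 327291918) (.leaf 259986497))) (.node (.node (.leaf 336135927) (.leaf 189928996)) (.node (.leaf 59771436) (.leaf 158275329)))) (.node (.node (.node (.leaf 393942903) (.leaf 277350267)) (.node (.leaf 388044434) (.leaf 379326627))) (.node (.node (.leaf 169545882) (.leaf 374935362)) (.node (.leaf 266799901) (.leaf 176625400)))))) (.node (.node (.node (.node (.node (.leaf 359929527) (.leaf 211687075)) (.node (.leaf 389809122) (.leaf 394003279))) (.node (.node (.leaf 119936893) (.leaf 191106772)) (.node (.leaf 145692282) (.leaf 267720544)))) (.node (.node (.node (.leaf 77532819) (.leaf 247730422)) (.node (.leaf 359600303) (.leaf 273027818))) (.node (.node (.leaf 343873326) (.leaf 131534904)) (.node (.leaf 246617982) (.leaf 333385549))))) (.node (.node (.node (.node (.leaf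 14092648) (.leaf 276956309)) (.node (.leaf 376903065) (.leaf 191895423))) (.node (.node (.leaf 350291862) (.leaf 171837227)) (.node (.leaf 376312317) (.leaf 8194043)))) (.node (.node (.node (.leaf 357762140) (.leaf 362681255)) (.node (.leaf 245105147) (.leaf 388501089))) (.node (.node (.leaf 344916662) (.leaf 385029868)) (.node (.leaf 294458965) (.leaf 380109319))))))))

def k4Next_22 : H52.TCert.Tr := .node (.node (.node (.node (.node (.node (.node (.node (.leaf 337449963) (.leaf 394336128)) (.node (.leaf 334367783) (.leaf 360124439))) (.node (.node (.leaf 253367977) (.leaf 140645198)) (.node (.leaf 147981769) (.leaf 338235362)))) (.node (.node (.node (.leaf 393877190) (.leaf 100341634)) (.node (.leaf 274077219) (.leaf 36181821))) (.node (.node (.leaf 250877778) (.leaf 390927983)) (.node (.leaf 372900484) (.leaf 393547210))))) (.node (.node (.node (.node (.leaf 372839043) (.leaf 239343489)) (.node (.leaf 394464724) (.leaf 345966461))) (.node (.node (.leaf 161550529) (.leaf 63966462)) (.node (.leaf 330438475) (.leaf 394528384)))) (.node (.node (.node (.leaf 323228222) (.leaf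 394204185)) (.node (.leaf 296817954) (.leaf 370738979))) (.node (.node (.leaf 265491888) (.leaf 192353968)) (.node (.leaf 260310010) (.leaf 359273316)))))) (.node (.node (.node (.node (.node (.leaf 121902981) (.leaf 318772037)) (.node (.leaf 365959046) (.leaf 326307731))) (.node (.node (.leaf 394726864) (.leaf 236389388)) (.node (.leaf 344133805) (.leaf 264902363)))) (.node (.node (.node (.leaf 389483044) (.leaf 386205869)) (.node (.leaf 317718873) (.leaf 387716917))) (.node (.node (.leaf 394860424) (.leaf 323032559)) (.node (.leaf 225579794) (.leaf 379131747))))) (.node (.node (.node (.node (.leaf 106236790) (.leaf 392042335)) (.node (.leaf 196024032) (.leaf 391580324))) (.node (.node (.leaf 361174364) (.leaf 290068273)) (.node (.leaf 273679211) (.leaf 129963914)))) (.node (.node (.node (.leaf 239273633) (.leaf 155193672)) (.node (.leaf 69669752) (.leaf 156046850))) (.node (.node (.leaf 283383631) (.leaf 281150927)) (.node (.leaf 259195706) (.leaf 262275853))))))) (.node (.node (.node (.node (.node (.node (.leaf 201853224) (.leaf 355931894)) (.node (.leaf 295310730) (.leaf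 343477232))) (.node (.node (.leaf 375198551) (.leaf 77207435)) (.node (.leaf 302253806) (.leaf 117378525)))) (.node (.node (.node (.leaf 88609754) (.leaf 155850216)) (.node (.leaf 391710905) (.leaf 286462178))) (.node (.node (.leaf 380895503) (.leaf 319882577)) (.node (.leaf 67307509) (.leaf 274335673))))) (.node (.node (.node (.node (.leaf 231216962) (.leaf 393614736)) (.node (.leaf 379519654) (.leaf 395054644))) (.node (.node (.leaf 395117449) (.leaf 383321498)) (.node (.leaf 395187761) (.leaf 243272838)))) (.node (.node (.node (.leaf 245962083) (.leaf 16122467)) (.node (.leaf 378999126) (.leaf 191759778))) (.node (.node (.leaf 66391307) (.leaf 312806674)) (.node (.leaf 311760487) (.leaf 278070595)))))) (.node (.node (.node (.node (.node (.leaf 52692905) (.leaf 89129632)) (.node (.leaf 366613395) (.leaf 280036081))) (.node (.node (.leaf 188221549) (.leaf 281937312)) (.node (.leaf 393156467) (.leaf 209717797)))) (.node (.node (.node (.leaf 391774739) (.leaf 46798047)) (.node (.leaf 382535257) (.leaf 69536307))) (.node (.node (.leaf 379655880) (.leaf 134420263)) (.node (.leaf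 348264335) (.leaf 166134257))))) (.node (.node (.node (.node (.leaf 390333096) (.leaf 182913672)) (.node (.leaf 216663548) (.leaf 285087026))) (.node (.node (.leaf 193140516) (.leaf 234166120)) (.node (.leaf 340658064) (.leaf 226038419)))) (.node (.node (.node (.leaf 77272873) (.leaf 183244685)) (.node (.leaf 379852688) (.leaf 304943760))) (.node (.node (.leaf 225646257) (.leaf 75109654)) (.node (.leaf 303044360) (.leaf 290199441)))))))) (.node (.node (.node (.node (.node (.node (.node (.leaf 113840868) (.leaf 229316484)) (.node (.leaf 236522385) (.leaf 382600843))) (.node (.node (.leaf 395247965) (.leaf 395446049)) (.node (.leaf 143722902) (.leaf 42733573)))) (.node (.node (.node (.leaf 382866615) (.leaf 243930570)) (.node (.leaf 230888811) (.leaf 90247175))) (.node (.node (.leaf 329976163) (.leaf 350227427)) (.node (.leaf 391318967) (.leaf 383977589))))) (.node (.node (.node (.node (.leaf 390269773) (.leaf 214372601)) (.node (.leaf 92411552) (.leaf 99617590))) (.node (.node (.leaf 356848760) (.leaf 342366036)) (.node (.leaf 364512799) (.leaf 386138401)))) (.node (.node (.node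 (.leaf 395515734) (.leaf 221447158)) (.node (.leaf 74257648) (.leaf 296095278))) (.node (.node (.leaf 393743005) (.leaf 331351150)) (.node (.leaf 377296764) (.leaf 395579351)))))) (.node (.node (.node (.node (.node (.leaf 177147836) (.leaf 381814326)) (.node (.leaf 368318357) (.leaf 179573335))) (.node (.node (.leaf 390140116) (.leaf 271652677)) (.node (.leaf 31917478) (.leaf 206444027)))) (.node (.node (.node (.leaf 202182146) (.leaf 103289135)) (.node (.leaf 291050707) (.leaf 395710415))) (.node (.node (.leaf 325976472) (.leaf 100472688)) (.node (.leaf 242223657) (.leaf 276824587))))) (.node (.node (.node (.node (.leaf 282070788) (.leaf 250283462)) (.node (.leaf 390534078) (.leaf 199559894))) (.node (.node (.leaf 358877409) (.leaf 326042968)) (.node (.leaf 392303069) (.leaf 218631602)))) (.node (.node (.node (.leaf 305337144) (.leaf 270011768)) (.node (.leaf 155326359) (.leaf 394597514))) (.node (.node (.leaf 295634985) (.leaf 109189016)) (.node (.leaf 374803333) (.leaf 24318875))))))) (.node (.node (.node (.node (.node (.node (.leaf 222893118) (.leaf 340072181)) (.node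 (.leaf 155915517) (.leaf 346297130))) (.node (.node (.leaf 91162682) (.leaf 367200787)) (.node (.leaf 230687979) (.leaf 47779299)))) (.node (.node (.node (.leaf 153032467) (.leaf 190452574)) (.node (.leaf 346624744) (.leaf 307233201))) (.node (.node (.leaf 72751001) (.leaf 383713590)) (.node (.leaf 388368709) (.leaf 310841526))))) (.node (.node (.node (.node (.leaf 159518886) (.leaf 390728719)) (.node (.leaf 395972071) (.leaf 321586344))) (.node (.node (.leaf 356652820) (.leaf 334562083)) (.node (.leaf 320017954) (.leaf 82711755)))) (.node (.node (.node (.leaf 389549232) (.leaf 381556585)) (.node (.leaf 394395962) (.leaf 313328754))) (.node (.node (.leaf 390010694) (.leaf 61409977)) (.node (.leaf 340465435) (.leaf 378803641)))))) (.node (.node (.node (.node (.node (.leaf 391908224) (.leaf 190125772)) (.node (.leaf 96080621) (.leaf 292689486))) (.node (.node (.leaf 272307520) (.leaf 82379710)) (.node (.leaf 231413278) (.leaf 393286357)))) (.node (.node (.node (.leaf 273484501) (.leaf 392566674)) (.node (.leaf 100864578) (.leaf 279713691))) (.node (.node (.leaf 363661815) (.leaf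 396100815)) (.node (.leaf 92475930) (.leaf 394070575))))) (.node (.node (.node (.node (.leaf 61935979) (.leaf 169154439)) (.node (.leaf 395313840) (.leaf 147592578))) (.node (.node (.leaf 328799142) (.leaf 390861941)) (.node (.leaf 259655679) (.leaf 394137151)))) (.node (.node (.node (.leaf 356909967) (.leaf 301274372)) (.node (.leaf 395908878) (.leaf 367660796))) (.node (.node (.leaf 10884729) (.leaf 366548890)) (.node (.leaf 384829283) (.leaf 317002998))))))))

def k4Next_23 : H52.TCert.Tr := .node (.node (.node (.node (.node (.node (.node (.node (.leaf 396167504) (.leaf 395839232)) (.node (.leaf 157554457) (.leaf 44897944))) (.node (.node (.leaf 375330577) (.leaf 135270137)) (.node (.leaf 368837812) (.leaf 37556344)))) (.node (.node (.node (.leaf 207815209) (.leaf 251727839)) (.node (.leaf 300226316) (.leaf 396236363))) (.node (.node (.leaf 389285230) (.leaf 61803879)) (.node (.leaf 242685273) (.leaf 364777134))))) (.node (.node (.node (.node (.leaf 388171981) (.leaf 331679025)) (.node (.leaf 316083404) (.leaf 105844589))) (.node (.node (.leaf 368576841) (.leaf 241571707))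 (.node (.leaf 389027478) (.leaf 334496928)))) (.node (.node (.node (.leaf 156964149) (.leaf 355076077)) (.node (.leaf 277415532) (.leaf 118427572))) (.node (.node (.leaf 334698399) (.leaf 321720674)) (.node (.leaf 379455768) (.leaf 63704870)))))) (.node (.node (.node (.node (.node (.leaf 394660132) (.leaf 384764545)) (.node (.leaf 228526004) (.leaf 395777547))) (.node (.node (.leaf 385812994) (.leaf 383846495)) (.node (.leaf 53350678) (.leaf 85268135)))) (.node (.node (.node (.leaf 318505650) (.leaf 200480628)) (.node (.leaf 378541501) (.leaf 88086420))) (.node (.node (.leaf 190910350) (.leaf 336006150)) (.node (.leaf 394793826) (.leaf 160566941))))) (.node (.node (.node (.node (.leaf 237572061) (.leaf 387258254)) (.node (.leaf 264505065) (.leaf 333649498))) (.node (.node (.leaf 335873913) (.leaf 394925850)) (.node (.leaf 262148544) (.leaf 264703754)))) (.node (.node (.node (.leaf 329125983) (.leaf 186257963)) (.node (.leaf 60162599) (.leaf 273289531))) (.node (.node (.leaf 375259718) (.leaf 93853084)) (.node (.leaf 51249814) (.leaf 183900044))))))) (.node (.node (.node (.node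 (.node (.node (.leaf 311891172) (.leaf 66065407)) (.node (.leaf 104273165) (.leaf 306845150))) (.node (.node (.leaf 375789405) (.leaf 370874262)) (.node (.leaf 244979247) (.leaf 318445328)))) (.node (.node (.node (.leaf 170724692) (.leaf 196809642)) (.node (.leaf 227150699) (.leaf 99878246))) (.node (.node (.leaf 296946116) (.leaf 102897442)) (.node (.leaf 185668201) (.leaf 310708831))))) (.node (.node (.node (.node (.leaf 92275680) (.leaf 280429478)) (.node (.leaf 370017654) (.leaf 387973955))) (.node (.node (.leaf 218043621) (.leaf 305661690)) (.node (.leaf 277616283) (.leaf 174393443)))) (.node (.node (.node (.leaf 373101910) (.leaf 344200838)) (.node (.leaf 350753207) (.leaf 275057138))) (.node (.node (.leaf 78840901) (.leaf 347346785)) (.node (.leaf 246549685) (.leaf 336921751)))))) (.node (.node (.node (.node (.node (.leaf 351732198) (.leaf 283710986)) (.node (.leaf 359401472) (.leaf 336201745))) (.node (.node (.leaf 353636079) (.leaf 15143794)) (.node (.leaf 294196567) (.leaf 366745391)))) (.node (.node (.node (.leaf 353376106) (.leaf 101716803)) (.node (.leaf 319035267)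 (.leaf 92869258))) (.node (.node (.leaf 349507473) (.leaf 357106771)) (.node (.leaf 75633320) (.leaf 371726160))))) (.node (.node (.node (.node (.leaf 315623180) (.leaf 233837137)) (.node (.leaf 15009840) (.leaf 395379235))) (.node (.node (.leaf 136779678) (.leaf 357635091)) (.node (.leaf 338105150) (.leaf 255787996)))) (.node (.node (.node (.leaf 388827716) (.leaf 89921381)) (.node (.leaf 396300952) (.leaf 358684572))) (.node (.node (.leaf 374870257) (.leaf 290326449)) (.node (.leaf 291182483) (.leaf 363728724)))))))) (.node (.node (.node (.node (.node (.node (.node (.leaf 392627695) (.leaf 395644144)) (.node (.leaf 379393906) (.leaf 391452573))) (.node (.node (.leaf 180817468) (.leaf 187765105)) (.node (.leaf 363270568) (.leaf 223678294)))) (.node (.node (.node (.leaf 24052755) (.leaf 266997868)) (.node (.leaf 308942107) (.leaf 386537174))) (.node (.node (.leaf 321848033) (.leaf 295702111)) (.node (.leaf 304419468) (.leaf 284301128))))) (.node (.node (.node (.node (.leaf 288233289) (.leaf 394986977)) (.node (.leaf 130352838) (.leaf 396039452))) (.node (.node (.leaf 291376046)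 (.leaf 208343866)) (.node (.leaf 262015028) (.leaf 54462340)))) (.node (.node (.node (.leaf 224532230) (.leaf 394267151)) (.node (.leaf 380770185) (.leaf 351800752))) (.node (.node (.leaf 138807015) (.leaf 381422700)) (.node (.leaf 23071467) (.leaf 386728715)))))) (.leaf 0)) (.leaf 0))

def k4Next : H52.TCert.Tr := .node (.node (.node (.node (.node (k4Next_0) (k4Next_1)) (.node (k4Next_2) (k4Next_3))) (.node (.node (k4Next_4) (k4Next_5)) (.node (k4Next_6) (k4Next_7)))) (.node (.node (.node (k4Next_8) (k4Next_9)) (.node (k4Next_10) (k4Next_11))) (.node (.node (k4Next_12) (k4Next_13)) (.node (k4Next_14) (k4Next_15))))) (.node (.node (.node (.node (k4Next_16) (k4Next_17)) (.node (k4Next_18) (k4Next_19))) (.node (.node (k4Next_20) (k4Next_21)) (.node (k4Next_22) (k4Next_23)))) (.node (.node (.node (.leaf 0) (.leaf 0)) (.node (.leaf 0) (.leaf 0))) (.node (.node (.leaf 0) (.leaf 0)) (.node (.leaf 0) (.leaf 0)))))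

def k4Wit_0 : H52.TCert.Tr := .node (.node (.node (.node (.node (.node (.node (.node (.leaf 5) (.leaf 0)) (.node (.leaf 1) (.leaf 0))) (.node (.node (.leaf 0) (.leaf 0)) (.node (.leaf 1) (.leaf 0)))) (.node (.node (.node (.leaf 0) (.leaf 0)) (.node (.leaf 0) (.leaf 0))) (.node (.node (.leaf 0) (.leaf 0)) (.node (.leaf 1) (.leaf 0))))) (.node (.node (.node (.node (.leaf 0) (.leaf 0)) (.node (.leaf 0) (.leaf 0))) (.node (.node (.leaf 0) (.leaf 0)) (.node (.leaf 1) (.leaf 0)))) (.node (.node (.node (.leaf 0) (.leaf 0)) (.node (.leaf 0) (.leaf 0))) (.node (.node (.leaf 1) (.leaf 0)) (.node (.leaf 5) (.leaf 0)))))) (.node (.node (.node (.node (.node (.leaf 0) (.leaf 0)) (.node (.leaf 0) (.leaf 0))) (.node (.node (.leaf 0) (.leaf 0)) (.node (.leaf 0) (.leaf 0)))) (.node (.node (.node (.leaf 0) (.leaf 0)) (.node (.leaf 0) (.leaf 0))) (.node (.node (.leaf 0) (.leaf 0)) (.node (.leaf 2) (.leaf 0))))) (.node (.node (.node (.node (.leaf 0) (.leaf 0)) (.node (.leaf 0) (.leaf 0))) (.node (.node (.leaf 0) (.leaf 0)) (.node (.leaf 0) (.leaf 0)))) (.node (.node (.node (.leaf 0) (.leaf 0))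 (.node (.leaf 1) (.leaf 0))) (.node (.node (.leaf 0) (.leaf 1)) (.node (.leaf 1) (.leaf 0))))))) (.node (.node (.node (.node (.node (.node (.leaf 0) (.leaf 0)) (.node (.leaf 0) (.leaf 0))) (.node (.node (.leaf 0) (.leaf 0)) (.node (.leaf 0) (.leaf 0)))) (.node (.node (.node (.leaf 0) (.leaf 0)) (.node (.leaf 0) (.leaf 0))) (.node (.node (.leaf 0) (.leaf 0)) (.node (.leaf 0) (.leaf 0))))) (.node (.node (.node (.node (.leaf 0) (.leaf 0)) (.node (.leaf 0) (.leaf 0))) (.node (.node (.leaf 0) (.leaf 0)) (.node (.leaf 0) (.leaf 0)))) (.node (.node (.node (.leaf 0) (.leaf 0)) (.node (.leaf 5) (.leaf 0))) (.node (.node (.leaf 1) (.leaf 1)) (.node (.leaf 0) (.leaf 0)))))) (.node (.node (.node (.node (.node (.leaf 0) (.leaf 0)) (.node (.leaf 0) (.leaf 0))) (.node (.node (.leaf 0) (.leaf 0)) (.node (.leaf 0) (.leaf 0)))) (.node (.node (.node (.leaf 0) (.leaf 0)) (.node (.leaf 0) (.leaf 0))) (.node (.node (.leaf 5) (.leaf 0)) (.node (.leaf 0) (.leaf 0))))) (.node (.node (.node (.node (.leaf 0) (.leaf 0)) (.node (.leaf 0) (.leaf 0))) (.node (.node (.leaf 0) (.leaf 5)) (.node (.leaf 0)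 (.leaf 0)))) (.node (.node (.node (.leaf 0) (.leaf 0)) (.node (.leaf 0) (.leaf 0))) (.node (.node (.leaf 0) (.leaf 0)) (.node (.leaf 1) (.leaf 0)))))))) (.node (.node (.node (.node (.node (.node (.node (.leaf 0) (.leaf 0)) (.node (.leaf 0) (.leaf 0))) (.node (.node (.leaf 0) (.leaf 0)) (.node (.leaf 0) (.leaf 0)))) (.node (.node (.node (.leaf 0) (.leaf 0)) (.node (.leaf 0) (.leaf 0))) (.node (.node (.leaf 0) (.leaf 0)) (.node (.leaf 0) (.leaf 0))))) (.node (.node (.node (.node (.leaf 0) (.leaf 0)) (.node (.leaf 0) (.leaf 0))) (.node (.node (.leaf 0) (.leaf 0)) (.node (.leaf 0) (.leaf 0)))) (.node (.node (.node (.leaf 0) (.leaf 0)) (.node (.leaf 0) (.leaf 0))) (.node (.node (.leaf 0) (.leaf 1)) (.node (.leaf 0) (.leaf 0)))))) (.node (.node (.node (.node (.node (.leaf 0) (.leaf 0)) (.node (.leaf 0) (.leaf 0))) (.node (.node (.leaf 0) (.leaf 0)) (.node (.leaf 0) (.leaf 0)))) (.node (.node (.node (.leaf 0) (.leaf 0)) (.node (.leaf 0) (.leaf 0))) (.node (.node (.leaf 0) (.leaf 0)) (.node (.leaf 0) (.leaf 0))))) (.node (.node (.node (.node (.leaf 0) (.leaf 0)) (.node (.leaf 0) (.leaf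 1))) (.node (.node (.leaf 0) (.leaf 0)) (.node (.leaf 0) (.leaf 0)))) (.node (.node (.node (.leaf 0) (.leaf 0)) (.node (.leaf 0) (.leaf 0))) (.node (.node (.leaf 0) (.leaf 0)) (.node (.leaf 0) (.leaf 0))))))) (.node (.node (.node (.node (.node (.node (.leaf 0) (.leaf 0)) (.node (.leaf 0) (.leaf 0))) (.node (.node (.leaf 0) (.leaf 0)) (.node (.leaf 0) (.leaf 0)))) (.node (.node (.node (.leaf 0) (.leaf 0)) (.node (.leaf 0) (.leaf 0))) (.node (.node (.leaf 0) (.leaf 0)) (.node (.leaf 0) (.leaf 0))))) (.node (.node (.node (.node (.leaf 0) (.leaf 0)) (.node (.leaf 0) (.leaf 0))) (.node (.node (.leaf 1) (.leaf 0)) (.node (.leaf 1) (.leaf 0)))) (.node (.node (.node (.leaf 0) (.leaf 0)) (.node (.leaf 0) (.leaf 0))) (.node (.node (.leaf 0) (.leaf 0)) (.node (.leaf 0) (.leaf 0)))))) (.node (.node (.node (.node (.node (.leaf 0) (.leaf 0)) (.node (.leaf 0) (.leaf 0))) (.node (.node (.leaf 1) (.leaf 0)) (.node (.leaf 0) (.leaf 0)))) (.node (.node (.node (.leaf 0) (.leaf 0)) (.node (.leaf 0) (.leaf 0))) (.node (.node (.leaf 0) (.leaf 0)) (.node (.leaf 0) (.leaf 0))))) (.node (.node (.node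 (.node (.leaf 0) (.leaf 1)) (.node (.leaf 0) (.leaf 0))) (.node (.node (.leaf 0) (.leaf 1)) (.node (.leaf 0) (.leaf 0)))) (.node (.node (.node (.leaf 0) (.leaf 0)) (.node (.leaf 0) (.leaf 1))) (.node (.node (.leaf 0) (.leaf 0)) (.node (.leaf 0) (.leaf 0))))))))

def k4Wit_1 : H52.TCert.Tr := .node (.node (.node (.node (.node (.node (.node (.node (.leaf 0) (.leaf 0)) (.node (.leaf 0) (.leaf 0))) (.node (.node (.leaf 0) (.leaf 0)) (.node (.leaf 0) (.leaf 0)))) (.node (.node (.node (.leaf 0) (.leaf 0)) (.node (.leaf 0) (.leaf 0))) (.node (.node (.leaf 0) (.leaf 0)) (.node (.leaf 0) (.leaf 0))))) (.node (.node (.node (.node (.leaf 0) (.leaf 0)) (.node (.leaf 0) (.leaf 0))) (.node (.node (.leaf 0) (.leaf 0)) (.node (.leaf 0) (.leaf 0)))) (.node (.node (.node (.leaf 0) (.leaf 0)) (.node (.leaf 0) (.leaf 0))) (.node (.node (.leaf 0) (.leaf 0)) (.node (.leaf 0) (.leaf 0)))))) (.node (.node (.node (.node (.node (.leaf 0) (.leaf 0)) (.node (.leaf 0) (.leaf 0))) (.node (.node (.leaf 0) (.leaf 0)) (.node (.leaf 0) (.leaf 0)))) (.node (.node (.node (.leaf 0) (.leaf 0)) (.node (.leaf 0)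 (.leaf 0))) (.node (.node (.leaf 1) (.leaf 0)) (.node (.leaf 0) (.leaf 0))))) (.node (.node (.node (.node (.leaf 0) (.leaf 1)) (.node (.leaf 0) (.leaf 0))) (.node (.node (.leaf 0) (.leaf 0)) (.node (.leaf 0) (.leaf 0)))) (.node (.node (.node (.leaf 0) (.leaf 0)) (.node (.leaf 0) (.leaf 0))) (.node (.node (.leaf 0) (.leaf 0)) (.node (.leaf 0) (.leaf 0))))))) (.node (.node (.node (.node (.node (.node (.leaf 0) (.leaf 0)) (.node (.leaf 0) (.leaf 0))) (.node (.node (.leaf 0) (.leaf 0)) (.node (.leaf 0) (.leaf 0)))) (.node (.node (.node (.leaf 0) (.leaf 0)) (.node (.leaf 0) (.leaf 0))) (.node (.node (.leaf 0) (.leaf 0)) (.node (.leaf 0) (.leaf 0))))) (.node (.node (.node (.node (.leaf 0) (.leaf 2)) (.node (.leaf 0) (.leaf 0))) (.node (.node (.leaf 0) (.leaf 0)) (.node (.leaf 0) (.leaf 0)))) (.node (.node (.node (.leaf 0) (.leaf 0)) (.node (.leaf 0) (.leaf 0))) (.node (.node (.leaf 0) (.leaf 0)) (.node (.leaf 0) (.leaf 0)))))) (.node (.node (.node (.node (.node (.leaf 0) (.leaf 0)) (.node (.leaf 0) (.leaf 0))) (.node (.node (.leaf 0) (.leaf 0)) (.node (.leaf 0) (.leaf 0)))) (.node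 (.node (.node (.leaf 0) (.leaf 0)) (.node (.leaf 0) (.leaf 0))) (.node (.node (.leaf 1) (.leaf 0)) (.node (.leaf 0) (.leaf 0))))) (.node (.node (.node (.node (.leaf 1) (.leaf 0)) (.node (.leaf 0) (.leaf 0))) (.node (.node (.leaf 0) (.leaf 0)) (.node (.leaf 0) (.leaf 1)))) (.node (.node (.node (.leaf 0) (.leaf 0)) (.node (.leaf 0) (.leaf 0))) (.node (.node (.leaf 1) (.leaf 0)) (.node (.leaf 1) (.leaf 0)))))))) (.node (.node (.node (.node (.node (.node (.node (.leaf 0) (.leaf 0)) (.node (.leaf 0) (.leaf 0))) (.node (.node (.leaf 0) (.leaf 0)) (.node (.leaf 0) (.leaf 0)))) (.node (.node (.node (.leaf 0) (.leaf 0)) (.node (.leaf 0) (.leaf 0))) (.node (.node (.leaf 0) (.leaf 0)) (.node (.leaf 0) (.leaf 0))))) (.node (.node (.node (.node (.leaf 0) (.leaf 0)) (.node (.leaf 0) (.leaf 0))) (.node (.node (.leaf 0) (.leaf 0)) (.node (.leaf 0) (.leaf 0)))) (.node (.node (.node (.leaf 0) (.leaf 0)) (.node (.leaf 0) (.leaf 2))) (.node (.node (.leaf 0) (.leaf 0)) (.node (.leaf 0) (.leaf 0)))))) (.node (.node (.node (.node (.node (.leaf 0) (.leaf 0)) (.node (.leaf 0) (.leaf 0))) (.node (.node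 (.leaf 0) (.leaf 0)) (.node (.leaf 0) (.leaf 1)))) (.node (.node (.node (.leaf 0) (.leaf 0)) (.node (.leaf 0) (.leaf 0))) (.node (.node (.leaf 0) (.leaf 0)) (.node (.leaf 0) (.leaf 0))))) (.node (.node (.node (.node (.leaf 0) (.leaf 0)) (.node (.leaf 0) (.leaf 0))) (.node (.node (.leaf 0) (.leaf 0)) (.node (.leaf 0) (.leaf 0)))) (.node (.node (.node (.leaf 0) (.leaf 0)) (.node (.leaf 0) (.leaf 0))) (.node (.node (.leaf 1) (.leaf 0)) (.node (.leaf 0) (.leaf 0))))))) (.node (.node (.node (.node (.node (.node (.leaf 0) (.leaf 0)) (.node (.leaf 0) (.leaf 0))) (.node (.node (.leaf 0) (.leaf 0)) (.node (.leaf 1) (.leaf 0)))) (.node (.node (.node (.leaf 0) (.leaf 0)) (.node (.leaf 0) (.leaf 1))) (.node (.node (.leaf 1) (.leaf 0)) (.node (.leaf 1) (.leaf 0))))) (.node (.node (.node (.node (.leaf 2) (.leaf 0)) (.node (.leaf 0) (.leaf 0))) (.node (.node (.leaf 0) (.leaf 0)) (.node (.leaf 0) (.leaf 0)))) (.node (.node (.node (.leaf 0) (.leaf 0)) (.node (.leaf 0) (.leaf 0))) (.node (.node (.leaf 0) (.leaf 0)) (.node (.leaf 0) (.leaf 0)))))) (.node (.node (.node (.node (.node (.leaf 0)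 (.leaf 0)) (.node (.leaf 0) (.leaf 0))) (.node (.node (.leaf 0) (.leaf 0)) (.node (.leaf 0) (.leaf 0)))) (.node (.node (.node (.leaf 0) (.leaf 0)) (.node (.leaf 0) (.leaf 0))) (.node (.node (.leaf 0) (.leaf 0)) (.node (.leaf 0) (.leaf 0))))) (.node (.node (.node (.node (.leaf 0) (.leaf 0)) (.node (.leaf 0) (.leaf 0))) (.node (.node (.leaf 0) (.leaf 0)) (.node (.leaf 0) (.leaf 0)))) (.node (.node (.node (.leaf 0) (.leaf 0)) (.node (.leaf 0) (.leaf 0))) (.node (.node (.leaf 0) (.leaf 0)) (.node (.leaf 0) (.leaf 0))))))))

def k4Wit_2 : H52.TCert.Tr := .node (.node (.node (.node (.node (.node (.node (.node (.leaf 0) (.leaf 1)) (.node (.leaf 1) (.leaf 0))) (.node (.node (.leaf 0) (.leaf 0)) (.node (.leaf 0) (.leaf 0)))) (.node (.node (.node (.leaf 0) (.leaf 0)) (.node (.leaf 0) (.leaf 0))) (.node (.node (.leaf 0) (.leaf 0)) (.node (.leaf 0) (.leaf 0))))) (.node (.node (.node (.node (.leaf 0) (.leaf 0)) (.node (.leaf 0) (.leaf 0))) (.node (.node (.leaf 0) (.leaf 0)) (.node (.leaf 0) (.leaf 0)))) (.node (.node (.node (.leaf 0) (.leaf 0)) (.node (.leaf 0) (.leaf 0))) (.node (.node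 (.leaf 0) (.leaf 0)) (.node (.leaf 0) (.leaf 1)))))) (.node (.node (.node (.node (.node (.leaf 0) (.leaf 0)) (.node (.leaf 0) (.leaf 0))) (.node (.node (.leaf 0) (.leaf 0)) (.node (.leaf 0) (.leaf 0)))) (.node (.node (.node (.leaf 0) (.leaf 0)) (.node (.leaf 0) (.leaf 0))) (.node (.node (.leaf 0) (.leaf 0)) (.node (.leaf 0) (.leaf 0))))) (.node (.node (.node (.node (.leaf 0) (.leaf 0)) (.node (.leaf 0) (.leaf 0))) (.node (.node (.leaf 0) (.leaf 0)) (.node (.leaf 0) (.leaf 0)))) (.node (.node (.node (.leaf 0) (.leaf 0)) (.node (.leaf 0) (.leaf 0))) (.node (.node (.leaf 0) (.leaf 0)) (.node (.leaf 0) (.leaf 0))))))) (.node (.node (.node (.node (.node (.node (.leaf 0) (.leaf 0)) (.node (.leaf 0) (.leaf 0))) (.node (.node (.leaf 0) (.leaf 0)) (.node (.leaf 0) (.leaf 0)))) (.node (.node (.node (.leaf 0) (.leaf 0)) (.node (.leaf 0) (.leaf 0))) (.node (.node (.leaf 0) (.leaf 0)) (.node (.leaf 0) (.leaf 1))))) (.node (.node (.node (.node (.leaf 0) (.leaf 0)) (.node (.leaf 0) (.leaf 0))) (.node (.node (.leaf 0) (.leaf 0)) (.node (.leaf 0) (.leaf 0)))) (.node (.node (.node (.leaf 0)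 (.leaf 0)) (.node (.leaf 0) (.leaf 0))) (.node (.node (.leaf 0) (.leaf 0)) (.node (.leaf 0) (.leaf 0)))))) (.node (.node (.node (.node (.node (.leaf 0) (.leaf 0)) (.node (.leaf 0) (.leaf 0))) (.node (.node (.leaf 0) (.leaf 0)) (.node (.leaf 0) (.leaf 0)))) (.node (.node (.node (.leaf 0) (.leaf 0)) (.node (.leaf 0) (.leaf 0))) (.node (.node (.leaf 0) (.leaf 0)) (.node (.leaf 0) (.leaf 0))))) (.node (.node (.node (.node (.leaf 0) (.leaf 0)) (.node (.leaf 0) (.leaf 0))) (.node (.node (.leaf 0) (.leaf 0)) (.node (.leaf 0) (.leaf 0)))) (.node (.node (.node (.leaf 0) (.leaf 0)) (.node (.leaf 0) (.leaf 0))) (.node (.node (.leaf 0) (.leaf 0)) (.node (.leaf 0) (.leaf 0)))))))) (.node (.node (.node (.node (.node (.node (.node (.leaf 0) (.leaf 0)) (.node (.leaf 0) (.leaf 0))) (.node (.node (.leaf 0) (.leaf 0)) (.node (.leaf 0) (.leaf 0)))) (.node (.node (.node (.leaf 0) (.leaf 0)) (.node (.leaf 0) (.leaf 0))) (.node (.node (.leaf 0) (.leaf 0)) (.node (.leaf 1) (.leaf 0))))) (.node (.node (.node (.node (.leaf 0) (.leaf 0)) (.node (.leaf 0) (.leaf 0))) (.node (.node (.leaf 0) (.leaf 0))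 (.node (.leaf 0) (.leaf 0)))) (.node (.node (.node (.leaf 0) (.leaf 0)) (.node (.leaf 0) (.leaf 1))) (.node (.node (.leaf 0) (.leaf 0)) (.node (.leaf 0) (.leaf 0)))))) (.node (.node (.node (.node (.node (.leaf 0) (.leaf 0)) (.node (.leaf 1) (.leaf 0))) (.node (.node (.leaf 0) (.leaf 0)) (.node (.leaf 0) (.leaf 0)))) (.node (.node (.node (.leaf 0) (.leaf 0)) (.node (.leaf 0) (.leaf 0))) (.node (.node (.leaf 0) (.leaf 0)) (.node (.leaf 0) (.leaf 0))))) (.node (.node (.node (.node (.leaf 0) (.leaf 0)) (.node (.leaf 0) (.leaf 1))) (.node (.node (.leaf 1) (.leaf 0)) (.node (.leaf 0) (.leaf 0)))) (.node (.node (.node (.leaf 0) (.leaf 0)) (.node (.leaf 0) (.leaf 0))) (.node (.node (.leaf 0) (.leaf 0)) (.node (.leaf 0) (.leaf 0))))))) (.node (.node (.node (.node (.node (.node (.leaf 0) (.leaf 0)) (.node (.leaf 0) (.leaf 0))) (.node (.node (.leaf 0) (.leaf 0)) (.node (.leaf 0) (.leaf 1)))) (.node (.node (.node (.leaf 0) (.leaf 0)) (.node (.leaf 0) (.leaf 0))) (.node (.node (.leaf 0) (.leaf 0)) (.node (.leaf 0) (.leaf 0))))) (.node (.node (.node (.node (.leaf 0) (.leaf 1)) (.node (.leaf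 0) (.leaf 0))) (.node (.node (.leaf 0) (.leaf 0)) (.node (.leaf 0) (.leaf 0)))) (.node (.node (.node (.leaf 0) (.leaf 0)) (.node (.leaf 0) (.leaf 0))) (.node (.node (.leaf 0) (.leaf 0)) (.node (.leaf 0) (.leaf 0)))))) (.node (.node (.node (.node (.node (.leaf 0) (.leaf 0)) (.node (.leaf 0) (.leaf 0))) (.node (.node (.leaf 0) (.leaf 0)) (.node (.leaf 0) (.leaf 0)))) (.node (.node (.node (.leaf 0) (.leaf 0)) (.node (.leaf 0) (.leaf 0))) (.node (.node (.leaf 0) (.leaf 0)) (.node (.leaf 0) (.leaf 0))))) (.node (.node (.node (.node (.leaf 0) (.leaf 0)) (.node (.leaf 0) (.leaf 0))) (.node (.node (.leaf 0) (.leaf 0)) (.node (.leaf 0) (.leaf 0)))) (.node (.node (.node (.leaf 0) (.leaf 0)) (.node (.leaf 0) (.leaf 0))) (.node (.node (.leaf 0) (.leaf 0)) (.node (.leaf 0) (.leaf 1))))))))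

def k4Wit_3 : H52.TCert.Tr := .node (.node (.node (.node (.node (.node (.node (.node (.leaf 0) (.leaf 0)) (.node (.leaf 0) (.leaf 0))) (.node (.node (.leaf 0) (.leaf 0)) (.node (.leaf 0) (.leaf 0)))) (.node (.node (.node (.leaf 0) (.leaf 0)) (.node (.leaf 0) (.leaf 0))) (.node (.node (.leaf 0) (.leaf 0)) (.node (.leaf 0) (.leaf 0))))) (.node (.node (.node (.node (.leaf 0) (.leaf 0)) (.node (.leaf 0) (.leaf 0))) (.node (.node (.leaf 0) (.leaf 0)) (.node (.leaf 0) (.leaf 0)))) (.node (.node (.node (.leaf 0) (.leaf 0)) (.node (.leaf 0) (.leaf 0))) (.node (.node (.leaf 0) (.leaf 0)) (.node (.leaf 0) (.leaf 0)))))) (.node (.node (.node (.node (.node (.leaf 0) (.leaf 0)) (.node (.leaf 0) (.leaf 0))) (.node (.node (.leaf 1) (.leaf 0)) (.node (.leaf 0) (.leaf 0)))) (.node (.node (.node (.leaf 0) (.leaf 0)) (.node (.leaf 0) (.leaf 0))) (.node (.node (.leaf 0) (.leaf 0)) (.node (.leaf 0) (.leaf 0))))) (.node (.node (.node (.node (.leaf 0) (.leaf 0)) (.node (.leaf 0) (.leaf 0))) (.node (.node (.leaf 0) (.leaf 0)) (.node (.leaf 1) (.leaf 0)))) (.node (.node (.node (.leaf 0) (.leaf 0))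 (.node (.leaf 0) (.leaf 0))) (.node (.node (.leaf 0) (.leaf 0)) (.node (.leaf 0) (.leaf 0))))))) (.node (.node (.node (.node (.node (.node (.leaf 0) (.leaf 0)) (.node (.leaf 0) (.leaf 0))) (.node (.node (.leaf 0) (.leaf 0)) (.node (.leaf 0) (.leaf 0)))) (.node (.node (.node (.leaf 0) (.leaf 0)) (.node (.leaf 0) (.leaf 0))) (.node (.node (.leaf 0) (.leaf 0)) (.node (.leaf 0) (.leaf 0))))) (.node (.node (.node (.node (.leaf 0) (.leaf 0)) (.node (.leaf 0) (.leaf 0))) (.node (.node (.leaf 0) (.leaf 0)) (.node (.leaf 0) (.leaf 0)))) (.node (.node (.node (.leaf 0) (.leaf 0)) (.node (.leaf 0) (.leaf 0))) (.node (.node (.leaf 0) (.leaf 0)) (.node (.leaf 0) (.leaf 0)))))) (.node (.node (.node (.node (.node (.leaf 0) (.leaf 0)) (.node (.leaf 0) (.leaf 0))) (.node (.node (.leaf 0) (.leaf 0)) (.node (.leaf 0) (.leaf 0)))) (.node (.node (.node (.leaf 0) (.leaf 0)) (.node (.leaf 0) (.leaf 0))) (.node (.node (.leaf 0) (.leaf 0)) (.node (.leaf 0) (.leaf 0))))) (.node (.node (.node (.node (.leaf 0) (.leaf 0)) (.node (.leaf 0) (.leaf 0))) (.node (.node (.leaf 0) (.leaf 0)) (.node (.leaf 0)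 (.leaf 0)))) (.node (.node (.node (.leaf 0) (.leaf 0)) (.node (.leaf 0) (.leaf 0))) (.node (.node (.leaf 0) (.leaf 0)) (.node (.leaf 0) (.leaf 0)))))))) (.node (.node (.node (.node (.node (.node (.node (.leaf 0) (.leaf 0)) (.node (.leaf 0) (.leaf 0))) (.node (.node (.leaf 0) (.leaf 0)) (.node (.leaf 0) (.leaf 0)))) (.node (.node (.node (.leaf 0) (.leaf 0)) (.node (.leaf 0) (.leaf 0))) (.node (.node (.leaf 1) (.leaf 0)) (.node (.leaf 0) (.leaf 0))))) (.node (.node (.node (.node (.leaf 0) (.leaf 0)) (.node (.leaf 0) (.leaf 0))) (.node (.node (.leaf 0) (.leaf 0)) (.node (.leaf 0) (.leaf 0)))) (.node (.node (.node (.leaf 0) (.leaf 0)) (.node (.leaf 0) (.leaf 0))) (.node (.node (.leaf 0) (.leaf 0)) (.node (.leaf 0) (.leaf 0)))))) (.node (.node (.node (.node (.node (.leaf 0) (.leaf 0)) (.node (.leaf 0) (.leaf 0))) (.node (.node (.leaf 0) (.leaf 0)) (.node (.leaf 0) (.leaf 0)))) (.node (.node (.node (.leaf 0) (.leaf 0)) (.node (.leaf 0) (.leaf 0))) (.node (.node (.leaf 0) (.leaf 0)) (.node (.leaf 0) (.leaf 0))))) (.node (.node (.node (.node (.leaf 0) (.leaf 0)) (.node (.leaf 1) (.leaf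 0))) (.node (.node (.leaf 0) (.leaf 0)) (.node (.leaf 0) (.leaf 2)))) (.node (.node (.node (.leaf 0) (.leaf 0)) (.node (.leaf 0) (.leaf 0))) (.node (.node (.leaf 0) (.leaf 0)) (.node (.leaf 0) (.leaf 0))))))) (.node (.node (.node (.node (.node (.node (.leaf 0) (.leaf 0)) (.node (.leaf 0) (.leaf 0))) (.node (.node (.leaf 0) (.leaf 0)) (.node (.leaf 5) (.leaf 0)))) (.node (.node (.node (.leaf 0) (.leaf 0)) (.node (.leaf 0) (.leaf 1))) (.node (.node (.leaf 0) (.leaf 0)) (.node (.leaf 0) (.leaf 0))))) (.node (.node (.node (.node (.leaf 0) (.leaf 0)) (.node (.leaf 0) (.leaf 0))) (.node (.node (.leaf 0) (.leaf 0)) (.node (.leaf 0) (.leaf 0)))) (.node (.node (.node (.leaf 0) (.leaf 0)) (.node (.leaf 0) (.leaf 0))) (.node (.node (.leaf 0) (.leaf 0)) (.node (.leaf 0) (.leaf 0)))))) (.node (.node (.node (.node (.node (.leaf 0) (.leaf 0)) (.node (.leaf 0) (.leaf 5))) (.node (.node (.leaf 0) (.leaf 0)) (.node (.leaf 1) (.leaf 0)))) (.node (.node (.node (.leaf 0) (.leaf 0)) (.node (.leaf 0) (.leaf 0))) (.node (.node (.leaf 0) (.leaf 0)) (.node (.leaf 0) (.leaf 0))))) (.node (.node (.node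 (.node (.leaf 1) (.leaf 0)) (.node (.leaf 0) (.leaf 0))) (.node (.node (.leaf 0) (.leaf 0)) (.node (.leaf 5) (.leaf 0)))) (.node (.node (.node (.leaf 1) (.leaf 0)) (.node (.leaf 0) (.leaf 0))) (.node (.node (.leaf 0) (.leaf 0)) (.node (.leaf 1) (.leaf 0))))))))

def k4Wit_4 : H52.TCert.Tr := .node (.node (.node (.node (.node (.node (.node (.node (.leaf 0) (.leaf 0)) (.node (.leaf 0) (.leaf 0))) (.node (.node (.leaf 0) (.leaf 0)) (.node (.leaf 0) (.leaf 0)))) (.node (.node (.node (.leaf 0) (.leaf 0)) (.node (.leaf 0) (.leaf 0))) (.node (.node (.leaf 0) (.leaf 0)) (.node (.leaf 2) (.leaf 0))))) (.node (.node (.node (.node (.leaf 0) (.leaf 0)) (.node (.leaf 0) (.leaf 0))) (.node (.node (.leaf 1) (.leaf 0)) (.node (.leaf 0) (.leaf 0)))) (.node (.node (.node (.leaf 1) (.leaf 0)) (.node (.leaf 5) (.leaf 0))) (.node (.node (.leaf 0) (.leaf 0)) (.node (.leaf 0) (.leaf 0)))))) (.node (.node (.node (.node (.node (.leaf 0) (.leaf 0)) (.node (.leaf 0) (.leaf 0))) (.node (.node (.leaf 0) (.leaf 0)) (.node (.leaf 0) (.leaf 0)))) (.node (.node (.node (.leaf 0) (.leaf 0)) (.node (.leaf 0)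 (.leaf 1))) (.node (.node (.leaf 0) (.leaf 0)) (.node (.leaf 1) (.leaf 1))))) (.node (.node (.node (.node (.leaf 0) (.leaf 0)) (.node (.leaf 0) (.leaf 0))) (.node (.node (.leaf 0) (.leaf 0)) (.node (.leaf 0) (.leaf 0)))) (.node (.node (.node (.leaf 0) (.leaf 0)) (.node (.leaf 0) (.leaf 0))) (.node (.node (.leaf 0) (.leaf 0)) (.node (.leaf 0) (.leaf 0))))))) (.node (.node (.node (.node (.node (.node (.leaf 0) (.leaf 0)) (.node (.leaf 0) (.leaf 0))) (.node (.node (.leaf 0) (.leaf 0)) (.node (.leaf 5) (.leaf 0)))) (.node (.node (.node (.leaf 0) (.leaf 1)) (.node (.leaf 0) (.leaf 0))) (.node (.node (.leaf 0) (.leaf 0)) (.node (.leaf 0) (.leaf 0))))) (.node (.node (.node (.node (.leaf 0) (.leaf 0)) (.node (.leaf 0) (.leaf 0))) (.node (.node (.leaf 0) (.leaf 0)) (.node (.leaf 0) (.leaf 0)))) (.node (.node (.node (.leaf 0) (.leaf 0)) (.node (.leaf 0) (.leaf 0))) (.node (.node (.leaf 0) (.leaf 0)) (.node (.leaf 0) (.leaf 0)))))) (.node (.node (.node (.node (.node (.leaf 0) (.leaf 0)) (.node (.leaf 0) (.leaf 0))) (.node (.node (.leaf 0) (.leaf 0)) (.node (.leaf 0) (.leaf 0)))) (.node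 (.node (.node (.leaf 0) (.leaf 1)) (.node (.leaf 0) (.leaf 0))) (.node (.node (.leaf 0) (.leaf 0)) (.node (.leaf 0) (.leaf 0))))) (.node (.node (.node (.node (.leaf 0) (.leaf 0)) (.node (.leaf 0) (.leaf 0))) (.node (.node (.leaf 1) (.leaf 1)) (.node (.leaf 0) (.leaf 0)))) (.node (.node (.node (.leaf 0) (.leaf 0)) (.node (.leaf 0) (.leaf 0))) (.node (.node (.leaf 0) (.leaf 0)) (.node (.leaf 0) (.leaf 0)))))))) (.node (.node (.node (.node (.node (.node (.node (.leaf 0) (.leaf 0)) (.node (.leaf 0) (.leaf 0))) (.node (.node (.leaf 0) (.leaf 0)) (.node (.leaf 0) (.leaf 0)))) (.node (.node (.node (.leaf 0) (.leaf 0)) (.node (.leaf 0) (.leaf 0))) (.node (.node (.leaf 5) (.leaf 0)) (.node (.leaf 1) (.leaf 0))))) (.node (.node (.node (.node (.leaf 0) (.leaf 0)) (.node (.leaf 0) (.leaf 0))) (.node (.node (.leaf 0) (.leaf 0)) (.node (.leaf 0) (.leaf 0)))) (.node (.node (.node (.leaf 0) (.leaf 0)) (.node (.leaf 0) (.leaf 0))) (.node (.node (.leaf 0) (.leaf 0)) (.node (.leaf 0) (.leaf 0)))))) (.node (.node (.node (.node (.node (.leaf 0) (.leaf 0)) (.node (.leaf 0) (.leaf 1))) (.node (.node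 (.leaf 0) (.leaf 0)) (.node (.leaf 0) (.leaf 0)))) (.node (.node (.node (.leaf 0) (.leaf 0)) (.node (.leaf 0) (.leaf 0))) (.node (.node (.leaf 0) (.leaf 0)) (.node (.leaf 1) (.leaf 0))))) (.node (.node (.node (.node (.leaf 0) (.leaf 0)) (.node (.leaf 0) (.leaf 0))) (.node (.node (.leaf 1) (.leaf 0)) (.node (.leaf 0) (.leaf 0)))) (.node (.node (.node (.leaf 0) (.leaf 0)) (.node (.leaf 0) (.leaf 0))) (.node (.node (.leaf 0) (.leaf 0)) (.node (.leaf 0) (.leaf 0))))))) (.node (.node (.node (.node (.node (.node (.leaf 0) (.leaf 0)) (.node (.leaf 0) (.leaf 0))) (.node (.node (.leaf 0) (.leaf 0)) (.node (.leaf 0) (.leaf 0)))) (.node (.node (.node (.leaf 0) (.leaf 0)) (.node (.leaf 0) (.leaf 0))) (.node (.node (.leaf 0) (.leaf 0)) (.node (.leaf 0) (.leaf 0))))) (.node (.node (.node (.node (.leaf 0) (.leaf 0)) (.node (.leaf 0) (.leaf 0))) (.node (.node (.leaf 0) (.leaf 0)) (.node (.leaf 0) (.leaf 0)))) (.node (.node (.node (.leaf 0) (.leaf 0)) (.node (.leaf 0) (.leaf 5))) (.node (.node (.leaf 0) (.leaf 0)) (.node (.leaf 0) (.leaf 0)))))) (.node (.node (.node (.node (.node (.leaf 0)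 (.leaf 0)) (.node (.leaf 0) (.leaf 0))) (.node (.node (.leaf 0) (.leaf 0)) (.node (.leaf 0) (.leaf 0)))) (.node (.node (.node (.leaf 0) (.leaf 0)) (.node (.leaf 0) (.leaf 0))) (.node (.node (.leaf 0) (.leaf 0)) (.node (.leaf 0) (.leaf 0))))) (.node (.node (.node (.node (.leaf 0) (.leaf 0)) (.node (.leaf 0) (.leaf 0))) (.node (.node (.leaf 0) (.leaf 0)) (.node (.leaf 0) (.leaf 0)))) (.node (.node (.node (.leaf 0) (.leaf 0)) (.node (.leaf 0) (.leaf 0))) (.node (.node (.leaf 0) (.leaf 0)) (.node (.leaf 0) (.leaf 0))))))))

def k4Wit_5 : H52.TCert.Tr := .node (.node (.node (.node (.node (.node (.node (.node (.leaf 0) (.leaf 0)) (.node (.leaf 0) (.leaf 0))) (.node (.node (.leaf 0) (.leaf 0)) (.node (.leaf 0) (.leaf 0)))) (.node (.node (.node (.leaf 0) (.leaf 0)) (.node (.leaf 0) (.leaf 0))) (.node (.node (.leaf 0) (.leaf 0)) (.node (.leaf 0) (.leaf 0))))) (.node (.node (.node (.node (.leaf 0) (.leaf 0)) (.node (.leaf 0) (.leaf 0))) (.node (.node (.leaf 0) (.leaf 0)) (.node (.leaf 0) (.leaf 0)))) (.node (.node (.node (.leaf 0) (.leaf 0)) (.node (.leaf 0) (.leaf 0))) (.node (.node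 (.leaf 0) (.leaf 0)) (.node (.leaf 0) (.leaf 0)))))) (.node (.node (.node (.node (.node (.leaf 0) (.leaf 1)) (.node (.leaf 0) (.leaf 0))) (.node (.node (.leaf 1) (.leaf 0)) (.node (.leaf 0) (.leaf 0)))) (.node (.node (.node (.leaf 0) (.leaf 0)) (.node (.leaf 0) (.leaf 0))) (.node (.node (.leaf 0) (.leaf 0)) (.node (.leaf 0) (.leaf 0))))) (.node (.node (.node (.node (.leaf 2) (.leaf 0)) (.node (.leaf 0) (.leaf 0))) (.node (.node (.leaf 0) (.leaf 0)) (.node (.leaf 0) (.leaf 0)))) (.node (.node (.node (.leaf 0) (.leaf 0)) (.node (.leaf 0) (.leaf 0))) (.node (.node (.leaf 0) (.leaf 0)) (.node (.leaf 0) (.leaf 0))))))) (.node (.node (.node (.node (.node (.node (.leaf 0) (.leaf 0)) (.node (.leaf 0) (.leaf 0))) (.node (.node (.leaf 0) (.leaf 0)) (.node (.leaf 0) (.leaf 0)))) (.node (.node (.node (.leaf 0) (.leaf 0)) (.node (.leaf 0) (.leaf 5))) (.node (.node (.leaf 1) (.leaf 0)) (.node (.leaf 0) (.leaf 0))))) (.node (.node (.node (.node (.leaf 0) (.leaf 0)) (.node (.leaf 0) (.leaf 0))) (.node (.node (.leaf 0) (.leaf 0)) (.node (.leaf 0) (.leaf 0)))) (.node (.node (.node (.leaf 0)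 (.leaf 0)) (.node (.leaf 0) (.leaf 0))) (.node (.node (.leaf 0) (.leaf 0)) (.node (.leaf 2) (.leaf 0)))))) (.node (.node (.node (.node (.node (.leaf 0) (.leaf 5)) (.node (.leaf 0) (.leaf 0))) (.node (.node (.leaf 0) (.leaf 0)) (.node (.leaf 0) (.leaf 0)))) (.node (.node (.node (.leaf 0) (.leaf 0)) (.node (.leaf 0) (.leaf 0))) (.node (.node (.leaf 0) (.leaf 0)) (.node (.leaf 0) (.leaf 0))))) (.node (.node (.node (.node (.leaf 0) (.leaf 0)) (.node (.leaf 0) (.leaf 0))) (.node (.node (.leaf 0) (.leaf 0)) (.node (.leaf 0) (.leaf 0)))) (.node (.node (.node (.leaf 0) (.leaf 0)) (.node (.leaf 0) (.leaf 0))) (.node (.node (.leaf 0) (.leaf 0)) (.node (.leaf 0) (.leaf 0)))))))) (.node (.node (.node (.node (.node (.node (.node (.leaf 0) (.leaf 0)) (.node (.leaf 0) (.leaf 0))) (.node (.node (.leaf 0) (.leaf 0)) (.node (.leaf 0) (.leaf 0)))) (.node (.node (.node (.leaf 0) (.leaf 0)) (.node (.leaf 0) (.leaf 0))) (.node (.node (.leaf 0) (.leaf 0)) (.node (.leaf 0) (.leaf 0))))) (.node (.node (.node (.node (.leaf 0) (.leaf 0)) (.node (.leaf 0) (.leaf 0))) (.node (.node (.leaf 0) (.leaf 1))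 (.node (.leaf 0) (.leaf 0)))) (.node (.node (.node (.leaf 0) (.leaf 0)) (.node (.leaf 0) (.leaf 0))) (.node (.node (.leaf 0) (.leaf 0)) (.node (.leaf 0) (.leaf 0)))))) (.node (.node (.node (.node (.node (.leaf 0) (.leaf 0)) (.node (.leaf 0) (.leaf 0))) (.node (.node (.leaf 0) (.leaf 0)) (.node (.leaf 0) (.leaf 0)))) (.node (.node (.node (.leaf 0) (.leaf 0)) (.node (.leaf 0) (.leaf 0))) (.node (.node (.leaf 0) (.leaf 0)) (.node (.leaf 0) (.leaf 0))))) (.node (.node (.node (.node (.leaf 0) (.leaf 0)) (.node (.leaf 0) (.leaf 0))) (.node (.node (.leaf 0) (.leaf 0)) (.node (.leaf 0) (.leaf 0)))) (.node (.node (.node (.leaf 0) (.leaf 0)) (.node (.leaf 0) (.leaf 0))) (.node (.node (.leaf 0) (.leaf 0)) (.node (.leaf 0) (.leaf 0))))))) (.node (.node (.node (.node (.node (.node (.leaf 0) (.leaf 0)) (.node (.leaf 0) (.leaf 0))) (.node (.node (.leaf 0) (.leaf 0)) (.node (.leaf 0) (.leaf 0)))) (.node (.node (.node (.leaf 0) (.leaf 1)) (.node (.leaf 0) (.leaf 0))) (.node (.node (.leaf 0) (.leaf 0)) (.node (.leaf 0) (.leaf 0))))) (.node (.node (.node (.node (.leaf 0) (.leaf 0)) (.node (.leaf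 0) (.leaf 2))) (.node (.node (.leaf 0) (.leaf 0)) (.node (.leaf 0) (.leaf 0)))) (.node (.node (.node (.leaf 0) (.leaf 1)) (.node (.leaf 0) (.leaf 0))) (.node (.node (.leaf 0) (.leaf 0)) (.node (.leaf 0) (.leaf 0)))))) (.node (.node (.node (.node (.node (.leaf 0) (.leaf 0)) (.node (.leaf 0) (.leaf 0))) (.node (.node (.leaf 0) (.leaf 0)) (.node (.leaf 0) (.leaf 0)))) (.node (.node (.node (.leaf 0) (.leaf 0)) (.node (.leaf 0) (.leaf 0))) (.node (.node (.leaf 0) (.leaf 0)) (.node (.leaf 0) (.leaf 0))))) (.node (.node (.node (.node (.leaf 0) (.leaf 0)) (.node (.leaf 0) (.leaf 0))) (.node (.node (.leaf 0) (.leaf 0)) (.node (.leaf 0) (.leaf 0)))) (.node (.node (.node (.leaf 0) (.leaf 0)) (.node (.leaf 0) (.leaf 0))) (.node (.node (.leaf 0) (.leaf 0)) (.node (.leaf 0) (.leaf 0))))))))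

def k4Wit_6 : H52.TCert.Tr := .node (.node (.node (.node (.node (.node (.node (.node (.leaf 0) (.leaf 0)) (.node (.leaf 0) (.leaf 0))) (.node (.node (.leaf 1) (.leaf 0)) (.node (.leaf 0) (.leaf 0)))) (.node (.node (.node (.leaf 0) (.leaf 5)) (.node (.leaf 0) (.leaf 0))) (.node (.node (.leaf 0) (.leaf 0)) (.node (.leaf 0) (.leaf 0))))) (.node (.node (.node (.node (.leaf 0) (.leaf 0)) (.node (.leaf 0) (.leaf 1))) (.node (.node (.leaf 0) (.leaf 0)) (.node (.leaf 0) (.leaf 0)))) (.node (.node (.node (.leaf 0) (.leaf 0)) (.node (.leaf 0) (.leaf 0))) (.node (.node (.leaf 0) (.leaf 0)) (.node (.leaf 0) (.leaf 0)))))) (.node (.node (.node (.node (.node (.leaf 0) (.leaf 0)) (.node (.leaf 0) (.leaf 0))) (.node (.node (.leaf 0) (.leaf 0)) (.node (.leaf 0) (.leaf 0)))) (.node (.node (.node (.leaf 0) (.leaf 0)) (.node (.leaf 0) (.leaf 0))) (.node (.node (.leaf 0) (.leaf 0)) (.node (.leaf 0) (.leaf 0))))) (.node (.node (.node (.node (.leaf 1) (.leaf 0)) (.node (.leaf 0) (.leaf 0))) (.node (.node (.leaf 0) (.leaf 0)) (.node (.leaf 0) (.leaf 0)))) (.node (.node (.node (.leaf 0) (.leaf 1))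 (.node (.leaf 0) (.leaf 0))) (.node (.node (.leaf 0) (.leaf 0)) (.node (.leaf 0) (.leaf 0))))))) (.node (.node (.node (.node (.node (.node (.leaf 0) (.leaf 0)) (.node (.leaf 0) (.leaf 0))) (.node (.node (.leaf 1) (.leaf 0)) (.node (.leaf 0) (.leaf 0)))) (.node (.node (.node (.leaf 0) (.leaf 0)) (.node (.leaf 0) (.leaf 0))) (.node (.node (.leaf 0) (.leaf 0)) (.node (.leaf 0) (.leaf 0))))) (.node (.node (.node (.node (.leaf 0) (.leaf 0)) (.node (.leaf 0) (.leaf 0))) (.node (.node (.leaf 0) (.leaf 0)) (.node (.leaf 0) (.leaf 0)))) (.node (.node (.node (.leaf 0) (.leaf 0)) (.node (.leaf 0) (.leaf 0))) (.node (.node (.leaf 0) (.leaf 0)) (.node (.leaf 0) (.leaf 0)))))) (.node (.node (.node (.node (.node (.leaf 0) (.leaf 0)) (.node (.leaf 0) (.leaf 0))) (.node (.node (.leaf 0) (.leaf 0)) (.node (.leaf 0) (.leaf 0)))) (.node (.node (.node (.leaf 0) (.leaf 0)) (.node (.leaf 0) (.leaf 0))) (.node (.node (.leaf 0) (.leaf 0)) (.node (.leaf 0) (.leaf 0))))) (.node (.node (.node (.node (.leaf 0) (.leaf 0)) (.node (.leaf 0) (.leaf 0))) (.node (.node (.leaf 0) (.leaf 0)) (.node (.leaf 0)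 (.leaf 0)))) (.node (.node (.node (.leaf 0) (.leaf 0)) (.node (.leaf 0) (.leaf 0))) (.node (.node (.leaf 0) (.leaf 0)) (.node (.leaf 0) (.leaf 1)))))))) (.node (.node (.node (.node (.node (.node (.node (.leaf 0) (.leaf 0)) (.node (.leaf 0) (.leaf 2))) (.node (.node (.leaf 0) (.leaf 0)) (.node (.leaf 0) (.leaf 0)))) (.node (.node (.node (.leaf 0) (.leaf 0)) (.node (.leaf 2) (.leaf 0))) (.node (.node (.leaf 0) (.leaf 0)) (.node (.leaf 0) (.leaf 0))))) (.node (.node (.node (.node (.leaf 0) (.leaf 0)) (.node (.leaf 0) (.leaf 0))) (.node (.node (.leaf 0) (.leaf 0)) (.node (.leaf 0) (.leaf 0)))) (.node (.node (.node (.leaf 0) (.leaf 1)) (.node (.leaf 1) (.leaf 0))) (.node (.node (.leaf 0) (.leaf 0)) (.node (.leaf 0) (.leaf 0)))))) (.node (.node (.node (.node (.node (.leaf 0) (.leaf 1)) (.node (.leaf 1) (.leaf 0))) (.node (.node (.leaf 0) (.leaf 0)) (.node (.leaf 0) (.leaf 0)))) (.node (.node (.node (.leaf 0) (.leaf 0)) (.node (.leaf 0) (.leaf 0))) (.node (.node (.leaf 0) (.leaf 0)) (.node (.leaf 0) (.leaf 0))))) (.node (.node (.node (.node (.leaf 0) (.leaf 0)) (.node (.leaf 0) (.leaf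 0))) (.node (.node (.leaf 0) (.leaf 0)) (.node (.leaf 0) (.leaf 1)))) (.node (.node (.node (.leaf 0) (.leaf 0)) (.node (.leaf 0) (.leaf 0))) (.node (.node (.leaf 0) (.leaf 0)) (.node (.leaf 0) (.leaf 0))))))) (.node (.node (.node (.node (.node (.node (.leaf 0) (.leaf 0)) (.node (.leaf 0) (.leaf 0))) (.node (.node (.leaf 1) (.leaf 0)) (.node (.leaf 0) (.leaf 0)))) (.node (.node (.node (.leaf 0) (.leaf 5)) (.node (.leaf 0) (.leaf 0))) (.node (.node (.leaf 0) (.leaf 0)) (.node (.leaf 0) (.leaf 0))))) (.node (.node (.node (.node (.leaf 0) (.leaf 0)) (.node (.leaf 0) (.leaf 0))) (.node (.node (.leaf 0) (.leaf 0)) (.node (.leaf 0) (.leaf 0)))) (.node (.node (.node (.leaf 0) (.leaf 0)) (.node (.leaf 0) (.leaf 0))) (.node (.node (.leaf 0) (.leaf 0)) (.node (.leaf 0) (.leaf 0)))))) (.node (.node (.node (.node (.node (.leaf 0) (.leaf 0)) (.node (.leaf 5) (.leaf 0))) (.node (.node (.leaf 0) (.leaf 0)) (.node (.leaf 0) (.leaf 0)))) (.node (.node (.node (.leaf 2) (.leaf 0)) (.node (.leaf 0) (.leaf 0))) (.node (.node (.leaf 0) (.leaf 0)) (.node (.leaf 0) (.leaf 0))))) (.node (.node (.node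 (.node (.leaf 0) (.leaf 0)) (.node (.leaf 0) (.leaf 0))) (.node (.node (.leaf 1) (.leaf 0)) (.node (.leaf 0) (.leaf 0)))) (.node (.node (.node (.leaf 0) (.leaf 0)) (.node (.leaf 1) (.leaf 0))) (.node (.node (.leaf 0) (.leaf 0)) (.node (.leaf 0) (.leaf 0))))))))

def k4Wit_7 : H52.TCert.Tr := .node (.node (.node (.node (.node (.node (.node (.node (.leaf 1) (.leaf 0)) (.node (.leaf 0) (.leaf 0))) (.node (.node (.leaf 0) (.leaf 0)) (.node (.leaf 0) (.leaf 0)))) (.node (.node (.node (.leaf 0) (.leaf 5)) (.node (.leaf 0) (.leaf 0))) (.node (.node (.leaf 0) (.leaf 0)) (.node (.leaf 0) (.leaf 0))))) (.node (.node (.node (.node (.leaf 0) (.leaf 0)) (.node (.leaf 0) (.leaf 0))) (.node (.node (.leaf 0) (.leaf 0)) (.node (.leaf 0) (.leaf 0)))) (.node (.node (.node (.leaf 0) (.leaf 0)) (.node (.leaf 0) (.leaf 0))) (.node (.node (.leaf 0) (.leaf 0)) (.node (.leaf 0) (.leaf 0)))))) (.node (.node (.node (.node (.node (.leaf 0) (.leaf 0)) (.node (.leaf 0) (.leaf 0))) (.node (.node (.leaf 0) (.leaf 0)) (.node (.leaf 0) (.leaf 0)))) (.node (.node (.node (.leaf 0) (.leaf 0)) (.node (.leaf 0)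 (.leaf 0))) (.node (.node (.leaf 2) (.leaf 0)) (.node (.leaf 0) (.leaf 0))))) (.node (.node (.node (.node (.leaf 0) (.leaf 0)) (.node (.leaf 0) (.leaf 0))) (.node (.node (.leaf 0) (.leaf 0)) (.node (.leaf 0) (.leaf 0)))) (.node (.node (.node (.leaf 0) (.leaf 0)) (.node (.leaf 0) (.leaf 0))) (.node (.node (.leaf 0) (.leaf 0)) (.node (.leaf 0) (.leaf 0))))))) (.node (.node (.node (.node (.node (.node (.leaf 0) (.leaf 0)) (.node (.leaf 0) (.leaf 0))) (.node (.node (.leaf 0) (.leaf 0)) (.node (.leaf 0) (.leaf 0)))) (.node (.node (.node (.leaf 0) (.leaf 0)) (.node (.leaf 0) (.leaf 0))) (.node (.node (.leaf 0) (.leaf 0)) (.node (.leaf 0) (.leaf 0))))) (.node (.node (.node (.node (.leaf 0) (.leaf 5)) (.node (.leaf 0) (.leaf 0))) (.node (.node (.leaf 0) (.leaf 0)) (.node (.leaf 0) (.leaf 1)))) (.node (.node (.node (.leaf 0) (.leaf 0)) (.node (.leaf 0) (.leaf 0))) (.node (.node (.leaf 0) (.leaf 0)) (.node (.leaf 0) (.leaf 0)))))) (.node (.node (.node (.node (.node (.leaf 0) (.leaf 0)) (.node (.leaf 0) (.leaf 0))) (.node (.node (.leaf 0) (.leaf 1)) (.node (.leaf 0) (.leaf 0)))) (.node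 (.node (.node (.leaf 0) (.leaf 0)) (.node (.leaf 0) (.leaf 0))) (.node (.node (.leaf 0) (.leaf 0)) (.node (.leaf 0) (.leaf 0))))) (.node (.node (.node (.node (.leaf 0) (.leaf 0)) (.node (.leaf 0) (.leaf 0))) (.node (.node (.leaf 0) (.leaf 0)) (.node (.leaf 0) (.leaf 0)))) (.node (.node (.node (.leaf 0) (.leaf 0)) (.node (.leaf 0) (.leaf 0))) (.node (.node (.leaf 0) (.leaf 0)) (.node (.leaf 0) (.leaf 0)))))))) (.node (.node (.node (.node (.node (.node (.node (.leaf 0) (.leaf 0)) (.node (.leaf 0) (.leaf 0))) (.node (.node (.leaf 0) (.leaf 0)) (.node (.leaf 0) (.leaf 0)))) (.node (.node (.node (.leaf 0) (.leaf 0)) (.node (.leaf 0) (.leaf 0))) (.node (.node (.leaf 0) (.leaf 0)) (.node (.leaf 0) (.leaf 2))))) (.node (.node (.node (.node (.leaf 0) (.leaf 0)) (.node (.leaf 0) (.leaf 0))) (.node (.node (.leaf 0) (.leaf 0)) (.node (.leaf 0) (.leaf 1)))) (.node (.node (.node (.leaf 0) (.leaf 0)) (.node (.leaf 1) (.leaf 0))) (.node (.node (.leaf 0) (.leaf 0)) (.node (.leaf 1) (.leaf 0)))))) (.node (.node (.node (.node (.node (.leaf 0) (.leaf 0)) (.node (.leaf 0) (.leaf 0))) (.node (.node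 (.leaf 0) (.leaf 0)) (.node (.leaf 0) (.leaf 0)))) (.node (.node (.node (.leaf 0) (.leaf 0)) (.node (.leaf 0) (.leaf 0))) (.node (.node (.leaf 0) (.leaf 1)) (.node (.leaf 1) (.leaf 0))))) (.node (.node (.node (.node (.leaf 0) (.leaf 0)) (.node (.leaf 1) (.leaf 0))) (.node (.node (.leaf 0) (.leaf 0)) (.node (.leaf 0) (.leaf 0)))) (.node (.node (.node (.leaf 0) (.leaf 0)) (.node (.leaf 0) (.leaf 0))) (.node (.node (.leaf 0) (.leaf 0)) (.node (.leaf 0) (.leaf 0))))))) (.node (.node (.node (.node (.node (.node (.leaf 0) (.leaf 0)) (.node (.leaf 0) (.leaf 0))) (.node (.node (.leaf 1) (.leaf 0)) (.node (.leaf 0) (.leaf 0)))) (.node (.node (.node (.leaf 0) (.leaf 0)) (.node (.leaf 0) (.leaf 0))) (.node (.node (.leaf 0) (.leaf 0)) (.node (.leaf 0) (.leaf 0))))) (.node (.node (.node (.node (.leaf 0) (.leaf 0)) (.node (.leaf 0) (.leaf 0))) (.node (.node (.leaf 0) (.leaf 0)) (.node (.leaf 0) (.leaf 0)))) (.node (.node (.node (.leaf 0) (.leaf 0)) (.node (.leaf 0) (.leaf 1))) (.node (.node (.leaf 0) (.leaf 0)) (.node (.leaf 0) (.leaf 0)))))) (.node (.node (.node (.node (.node (.leaf 0)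 (.leaf 0)) (.node (.leaf 0) (.leaf 0))) (.node (.node (.leaf 0) (.leaf 1)) (.node (.leaf 0) (.leaf 0)))) (.node (.node (.node (.leaf 0) (.leaf 0)) (.node (.leaf 1) (.leaf 0))) (.node (.node (.leaf 0) (.leaf 0)) (.node (.leaf 0) (.leaf 0))))) (.node (.node (.node (.node (.leaf 0) (.leaf 0)) (.node (.leaf 5) (.leaf 0))) (.node (.node (.leaf 0) (.leaf 0)) (.node (.leaf 0) (.leaf 0)))) (.node (.node (.node (.leaf 0) (.leaf 0)) (.node (.leaf 0) (.leaf 0))) (.node (.node (.leaf 0) (.leaf 0)) (.node (.leaf 0) (.leaf 0))))))))

def k4Wit_8 : H52.TCert.Tr := .node (.node (.node (.node (.node (.node (.node (.node (.leaf 0) (.leaf 0)) (.node (.leaf 0) (.leaf 0))) (.node (.node (.leaf 0) (.leaf 0)) (.node (.leaf 0) (.leaf 0)))) (.node (.node (.node (.leaf 0) (.leaf 0)) (.node (.leaf 0) (.leaf 0))) (.node (.node (.leaf 0) (.leaf 0)) (.node (.leaf 0) (.leaf 0))))) (.node (.node (.node (.node (.leaf 0) (.leaf 0)) (.node (.leaf 0) (.leaf 0))) (.node (.node (.leaf 0) (.leaf 0)) (.node (.leaf 0) (.leaf 0)))) (.node (.node (.node (.leaf 0) (.leaf 0)) (.node (.leaf 0) (.leaf 0))) (.node (.node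 (.leaf 0) (.leaf 0)) (.node (.leaf 0) (.leaf 0)))))) (.node (.node (.node (.node (.node (.leaf 0) (.leaf 0)) (.node (.leaf 0) (.leaf 0))) (.node (.node (.leaf 0) (.leaf 0)) (.node (.leaf 0) (.leaf 0)))) (.node (.node (.node (.leaf 0) (.leaf 0)) (.node (.leaf 0) (.leaf 0))) (.node (.node (.leaf 0) (.leaf 0)) (.node (.leaf 0) (.leaf 0))))) (.node (.node (.node (.node (.leaf 0) (.leaf 0)) (.node (.leaf 1) (.leaf 0))) (.node (.node (.leaf 0) (.leaf 0)) (.node (.leaf 0) (.leaf 0)))) (.node (.node (.node (.leaf 0) (.leaf 0)) (.node (.leaf 0) (.leaf 0))) (.node (.node (.leaf 0) (.leaf 0)) (.node (.leaf 0) (.leaf 0))))))) (.node (.node (.node (.node (.node (.node (.leaf 0) (.leaf 0)) (.node (.leaf 0) (.leaf 0))) (.node (.node (.leaf 0) (.leaf 0)) (.node (.leaf 0) (.leaf 0)))) (.node (.node (.node (.leaf 0) (.leaf 0)) (.node (.leaf 0) (.leaf 0))) (.node (.node (.leaf 0) (.leaf 0)) (.node (.leaf 0) (.leaf 0))))) (.node (.node (.node (.node (.leaf 0) (.leaf 0)) (.node (.leaf 0) (.leaf 0))) (.node (.node (.leaf 0) (.leaf 0)) (.node (.leaf 0) (.leaf 0)))) (.node (.node (.node (.leaf 0)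 (.leaf 0)) (.node (.leaf 0) (.leaf 0))) (.node (.node (.leaf 0) (.leaf 0)) (.node (.leaf 0) (.leaf 0)))))) (.node (.node (.node (.node (.node (.leaf 0) (.leaf 0)) (.node (.leaf 0) (.leaf 0))) (.node (.node (.leaf 1) (.leaf 0)) (.node (.leaf 0) (.leaf 0)))) (.node (.node (.node (.leaf 0) (.leaf 0)) (.node (.leaf 0) (.leaf 0))) (.node (.node (.leaf 0) (.leaf 0)) (.node (.leaf 0) (.leaf 0))))) (.node (.node (.node (.node (.leaf 0) (.leaf 0)) (.node (.leaf 0) (.leaf 0))) (.node (.node (.leaf 0) (.leaf 0)) (.node (.leaf 0) (.leaf 0)))) (.node (.node (.node (.leaf 0) (.leaf 0)) (.node (.leaf 0) (.leaf 0))) (.node (.node (.leaf 0) (.leaf 0)) (.node (.leaf 0) (.leaf 0)))))))) (.node (.node (.node (.node (.node (.node (.node (.leaf 0) (.leaf 0)) (.node (.leaf 0) (.leaf 0))) (.node (.node (.leaf 0) (.leaf 0)) (.node (.leaf 0) (.leaf 0)))) (.node (.node (.node (.leaf 0) (.leaf 0)) (.node (.leaf 0) (.leaf 0))) (.node (.node (.leaf 0) (.leaf 0)) (.node (.leaf 0) (.leaf 0))))) (.node (.node (.node (.node (.leaf 0) (.leaf 0)) (.node (.leaf 0) (.leaf 0))) (.node (.node (.leaf 0) (.leaf 0))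 (.node (.leaf 0) (.leaf 0)))) (.node (.node (.node (.leaf 0) (.leaf 0)) (.node (.leaf 0) (.leaf 0))) (.node (.node (.leaf 1) (.leaf 0)) (.node (.leaf 0) (.leaf 0)))))) (.node (.node (.node (.node (.node (.leaf 1) (.leaf 0)) (.node (.leaf 0) (.leaf 0))) (.node (.node (.leaf 0) (.leaf 0)) (.node (.leaf 0) (.leaf 0)))) (.node (.node (.node (.leaf 0) (.leaf 0)) (.node (.leaf 0) (.leaf 0))) (.node (.node (.leaf 0) (.leaf 0)) (.node (.leaf 0) (.leaf 0))))) (.node (.node (.node (.node (.leaf 0) (.leaf 0)) (.node (.leaf 0) (.leaf 0))) (.node (.node (.leaf 0) (.leaf 0)) (.node (.leaf 0) (.leaf 1)))) (.node (.node (.node (.leaf 0) (.leaf 0)) (.node (.leaf 0) (.leaf 0))) (.node (.node (.leaf 0) (.leaf 0)) (.node (.leaf 0) (.leaf 0))))))) (.node (.node (.node (.node (.node (.node (.leaf 0) (.leaf 0)) (.node (.leaf 0) (.leaf 0))) (.node (.node (.leaf 2) (.leaf 0)) (.node (.leaf 0) (.leaf 0)))) (.node (.node (.node (.leaf 0) (.leaf 0)) (.node (.leaf 0) (.leaf 0))) (.node (.node (.leaf 0) (.leaf 0)) (.node (.leaf 0) (.leaf 0))))) (.node (.node (.node (.node (.leaf 0) (.leaf 0)) (.node (.leaf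 0) (.leaf 0))) (.node (.node (.leaf 0) (.leaf 0)) (.node (.leaf 0) (.leaf 0)))) (.node (.node (.node (.leaf 0) (.leaf 0)) (.node (.leaf 0) (.leaf 0))) (.node (.node (.leaf 0) (.leaf 1)) (.node (.leaf 0) (.leaf 0)))))) (.node (.node (.node (.node (.node (.leaf 0) (.leaf 0)) (.node (.leaf 0) (.leaf 0))) (.node (.node (.leaf 2) (.leaf 0)) (.node (.leaf 0) (.leaf 0)))) (.node (.node (.node (.leaf 0) (.leaf 0)) (.node (.leaf 0) (.leaf 0))) (.node (.node (.leaf 1) (.leaf 0)) (.node (.leaf 0) (.leaf 0))))) (.node (.node (.node (.node (.leaf 0) (.leaf 0)) (.node (.leaf 1) (.leaf 0))) (.node (.node (.leaf 0) (.leaf 0)) (.node (.leaf 0) (.leaf 0)))) (.node (.node (.node (.leaf 0) (.leaf 0)) (.node (.leaf 0) (.leaf 0))) (.node (.node (.leaf 0) (.leaf 0)) (.node (.leaf 0) (.leaf 0))))))))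

def k4Wit_9 : H52.TCert.Tr := .node (.node (.node (.node (.node (.node (.node (.node (.leaf 0) (.leaf 0)) (.node (.leaf 0) (.leaf 0))) (.node (.node (.leaf 0) (.leaf 0)) (.node (.leaf 0) (.leaf 0)))) (.node (.node (.node (.leaf 0) (.leaf 0)) (.node (.leaf 0) (.leaf 0))) (.node (.node (.leaf 0) (.leaf 0)) (.node (.leaf 0) (.leaf 1))))) (.node (.node (.node (.node (.leaf 0) (.leaf 0)) (.node (.leaf 0) (.leaf 0))) (.node (.node (.leaf 0) (.leaf 0)) (.node (.leaf 0) (.leaf 0)))) (.node (.node (.node (.leaf 0) (.leaf 5)) (.node (.leaf 0) (.leaf 0))) (.node (.node (.leaf 0) (.leaf 0)) (.node (.leaf 0) (.leaf 0)))))) (.node (.node (.node (.node (.node (.leaf 0) (.leaf 0)) (.node (.leaf 1) (.leaf 0))) (.node (.node (.leaf 0) (.leaf 0)) (.node (.leaf 0) (.leaf 0)))) (.node (.node (.node (.leaf 0) (.leaf 0)) (.node (.leaf 1) (.leaf 0))) (.node (.node (.leaf 0) (.leaf 0)) (.node (.leaf 0) (.leaf 0))))) (.node (.node (.node (.node (.leaf 0) (.leaf 0)) (.node (.leaf 0) (.leaf 0))) (.node (.node (.leaf 0) (.leaf 0)) (.node (.leaf 0) (.leaf 0)))) (.node (.node (.node (.leaf 0) (.leaf 0))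 (.node (.leaf 0) (.leaf 0))) (.node (.node (.leaf 0) (.leaf 0)) (.node (.leaf 0) (.leaf 0))))))) (.node (.node (.node (.node (.node (.node (.leaf 0) (.leaf 0)) (.node (.leaf 0) (.leaf 0))) (.node (.node (.leaf 0) (.leaf 0)) (.node (.leaf 0) (.leaf 0)))) (.node (.node (.node (.leaf 0) (.leaf 1)) (.node (.leaf 0) (.leaf 0))) (.node (.node (.leaf 0) (.leaf 0)) (.node (.leaf 1) (.leaf 0))))) (.node (.node (.node (.node (.leaf 0) (.leaf 0)) (.node (.leaf 0) (.leaf 0))) (.node (.node (.leaf 0) (.leaf 0)) (.node (.leaf 0) (.leaf 0)))) (.node (.node (.node (.leaf 0) (.leaf 0)) (.node (.leaf 0) (.leaf 0))) (.node (.node (.leaf 0) (.leaf 0)) (.node (.leaf 0) (.leaf 0)))))) (.node (.node (.node (.node (.node (.leaf 0) (.leaf 0)) (.node (.leaf 0) (.leaf 0))) (.node (.node (.leaf 0) (.leaf 0)) (.node (.leaf 1) (.leaf 1)))) (.node (.node (.node (.leaf 0) (.leaf 0)) (.node (.leaf 1) (.leaf 0))) (.node (.node (.leaf 0) (.leaf 0)) (.node (.leaf 0) (.leaf 0))))) (.node (.node (.node (.node (.leaf 0) (.leaf 0)) (.node (.leaf 0) (.leaf 0))) (.node (.node (.leaf 0) (.leaf 0)) (.node (.leaf 0)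 (.leaf 0)))) (.node (.node (.node (.leaf 0) (.leaf 1)) (.node (.leaf 0) (.leaf 0))) (.node (.node (.leaf 0) (.leaf 0)) (.node (.leaf 0) (.leaf 0)))))))) (.node (.node (.node (.node (.node (.node (.node (.leaf 0) (.leaf 0)) (.node (.leaf 0) (.leaf 0))) (.node (.node (.leaf 0) (.leaf 1)) (.node (.leaf 0) (.leaf 0)))) (.node (.node (.node (.leaf 0) (.leaf 0)) (.node (.leaf 0) (.leaf 0))) (.node (.node (.leaf 0) (.leaf 0)) (.node (.leaf 0) (.leaf 0))))) (.node (.node (.node (.node (.leaf 0) (.leaf 0)) (.node (.leaf 0) (.leaf 0))) (.node (.node (.leaf 0) (.leaf 0)) (.node (.leaf 0) (.leaf 0)))) (.node (.node (.node (.leaf 0) (.leaf 0)) (.node (.leaf 0) (.leaf 0))) (.node (.node (.leaf 0) (.leaf 0)) (.node (.leaf 0) (.leaf 0)))))) (.node (.node (.node (.node (.node (.leaf 0) (.leaf 1)) (.node (.leaf 0) (.leaf 0))) (.node (.node (.leaf 0) (.leaf 0)) (.node (.leaf 0) (.leaf 0)))) (.node (.node (.node (.leaf 0) (.leaf 0)) (.node (.leaf 0) (.leaf 0))) (.node (.node (.leaf 0) (.leaf 0)) (.node (.leaf 0) (.leaf 0))))) (.node (.node (.node (.node (.leaf 0) (.leaf 0)) (.node (.leaf 0) (.leaf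 0))) (.node (.node (.leaf 0) (.leaf 0)) (.node (.leaf 0) (.leaf 1)))) (.node (.node (.node (.leaf 0) (.leaf 0)) (.node (.leaf 0) (.leaf 0))) (.node (.node (.leaf 0) (.leaf 0)) (.node (.leaf 0) (.leaf 0))))))) (.node (.node (.node (.node (.node (.node (.leaf 0) (.leaf 0)) (.node (.leaf 0) (.leaf 0))) (.node (.node (.leaf 1) (.leaf 0)) (.node (.leaf 0) (.leaf 0)))) (.node (.node (.node (.leaf 0) (.leaf 0)) (.node (.leaf 0) (.leaf 0))) (.node (.node (.leaf 0) (.leaf 0)) (.node (.leaf 0) (.leaf 0))))) (.node (.node (.node (.node (.leaf 0) (.leaf 0)) (.node (.leaf 0) (.leaf 0))) (.node (.node (.leaf 0) (.leaf 0)) (.node (.leaf 0) (.leaf 0)))) (.node (.node (.node (.leaf 0) (.leaf 0)) (.node (.leaf 0) (.leaf 0))) (.node (.node (.leaf 0) (.leaf 0)) (.node (.leaf 0) (.leaf 0)))))) (.node (.node (.node (.node (.node (.leaf 0) (.leaf 0)) (.node (.leaf 0) (.leaf 0))) (.node (.node (.leaf 0) (.leaf 0)) (.node (.leaf 0) (.leaf 0)))) (.node (.node (.node (.leaf 0) (.leaf 0)) (.node (.leaf 0) (.leaf 0))) (.node (.node (.leaf 0) (.leaf 0)) (.node (.leaf 0) (.leaf 0))))) (.node (.node (.node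 (.node (.leaf 0) (.leaf 0)) (.node (.leaf 0) (.leaf 0))) (.node (.node (.leaf 0) (.leaf 0)) (.node (.leaf 0) (.leaf 0)))) (.node (.node (.node (.leaf 0) (.leaf 0)) (.node (.leaf 0) (.leaf 0))) (.node (.node (.leaf 0) (.leaf 0)) (.node (.leaf 0) (.leaf 0))))))))

def k4Wit_10 : H52.TCert.Tr := .node (.node (.node (.node (.node (.node (.node (.node (.leaf 0) (.leaf 0)) (.node (.leaf 0) (.leaf 0))) (.node (.node (.leaf 0) (.leaf 0)) (.node (.leaf 0) (.leaf 0)))) (.node (.node (.node (.leaf 0) (.leaf 0)) (.node (.leaf 0) (.leaf 0))) (.node (.node (.leaf 0) (.leaf 0)) (.node (.leaf 0) (.leaf 0))))) (.node (.node (.node (.node (.leaf 0) (.leaf 0)) (.node (.leaf 0) (.leaf 0))) (.node (.node (.leaf 0) (.leaf 0)) (.node (.leaf 0) (.leaf 0)))) (.node (.node (.node (.leaf 0) (.leaf 0)) (.node (.leaf 0) (.leaf 0))) (.node (.node (.leaf 0) (.leaf 0)) (.node (.leaf 0) (.leaf 0)))))) (.node (.node (.node (.node (.node (.leaf 0) (.leaf 0)) (.node (.leaf 0) (.leaf 0))) (.node (.node (.leaf 0) (.leaf 0)) (.node (.leaf 0) (.leaf 0)))) (.node (.node (.node (.leaf 0) (.leaf 0)) (.node (.leaf 1)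 (.leaf 0))) (.node (.node (.leaf 0) (.leaf 0)) (.node (.leaf 0) (.leaf 0))))) (.node (.node (.node (.node (.leaf 0) (.leaf 0)) (.node (.leaf 1) (.leaf 0))) (.node (.node (.leaf 0) (.leaf 0)) (.node (.leaf 0) (.leaf 0)))) (.node (.node (.node (.leaf 0) (.leaf 0)) (.node (.leaf 0) (.leaf 0))) (.node (.node (.leaf 0) (.leaf 0)) (.node (.leaf 0) (.leaf 0))))))) (.node (.node (.node (.node (.node (.node (.leaf 0) (.leaf 0)) (.node (.leaf 0) (.leaf 1))) (.node (.node (.leaf 0) (.leaf 0)) (.node (.leaf 0) (.leaf 0)))) (.node (.node (.node (.leaf 0) (.leaf 0)) (.node (.leaf 0) (.leaf 0))) (.node (.node (.leaf 0) (.leaf 0)) (.node (.leaf 0) (.leaf 0))))) (.node (.node (.node (.node (.leaf 0) (.leaf 0)) (.node (.leaf 1) (.leaf 0))) (.node (.node (.leaf 0) (.leaf 0)) (.node (.leaf 0) (.leaf 0)))) (.node (.node (.node (.leaf 0) (.leaf 0)) (.node (.leaf 0) (.leaf 0))) (.node (.node (.leaf 0) (.leaf 0)) (.node (.leaf 0) (.leaf 0)))))) (.node (.node (.node (.node (.node (.leaf 0) (.leaf 0)) (.node (.leaf 0) (.leaf 0))) (.node (.node (.leaf 0) (.leaf 0)) (.node (.leaf 0) (.leaf 1)))) (.node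 (.node (.node (.leaf 0) (.leaf 0)) (.node (.leaf 0) (.leaf 0))) (.node (.node (.leaf 0) (.leaf 0)) (.node (.leaf 0) (.leaf 0))))) (.node (.node (.node (.node (.leaf 0) (.leaf 0)) (.node (.leaf 0) (.leaf 0))) (.node (.node (.leaf 0) (.leaf 0)) (.node (.leaf 0) (.leaf 0)))) (.node (.node (.node (.leaf 0) (.leaf 0)) (.node (.leaf 0) (.leaf 0))) (.node (.node (.leaf 0) (.leaf 1)) (.node (.leaf 1) (.leaf 0)))))))) (.node (.node (.node (.node (.node (.node (.node (.leaf 0) (.leaf 0)) (.node (.leaf 1) (.leaf 0))) (.node (.node (.leaf 0) (.leaf 0)) (.node (.leaf 0) (.leaf 0)))) (.node (.node (.node (.leaf 0) (.leaf 0)) (.node (.leaf 0) (.leaf 0))) (.node (.node (.leaf 0) (.leaf 0)) (.node (.leaf 0) (.leaf 0))))) (.node (.node (.node (.node (.leaf 0) (.leaf 0)) (.node (.leaf 2) (.leaf 0))) (.node (.node (.leaf 0) (.leaf 0)) (.node (.leaf 0) (.leaf 0)))) (.node (.node (.node (.leaf 0) (.leaf 0)) (.node (.leaf 0) (.leaf 0))) (.node (.node (.leaf 0) (.leaf 0)) (.node (.leaf 0) (.leaf 0)))))) (.node (.node (.node (.node (.node (.leaf 0) (.leaf 0)) (.node (.leaf 1) (.leaf 0))) (.node (.node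 (.leaf 0) (.leaf 0)) (.node (.leaf 0) (.leaf 0)))) (.node (.node (.node (.leaf 0) (.leaf 0)) (.node (.leaf 0) (.leaf 0))) (.node (.node (.leaf 0) (.leaf 0)) (.node (.leaf 1) (.leaf 0))))) (.node (.node (.node (.node (.leaf 0) (.leaf 0)) (.node (.leaf 0) (.leaf 0))) (.node (.node (.leaf 0) (.leaf 0)) (.node (.leaf 0) (.leaf 0)))) (.node (.node (.node (.leaf 0) (.leaf 0)) (.node (.leaf 0) (.leaf 0))) (.node (.node (.leaf 0) (.leaf 0)) (.node (.leaf 1) (.leaf 0))))))) (.node (.node (.node (.node (.node (.node (.leaf 0) (.leaf 0)) (.node (.leaf 0) (.leaf 0))) (.node (.node (.leaf 0) (.leaf 0)) (.node (.leaf 0) (.leaf 0)))) (.node (.node (.node (.leaf 0) (.leaf 0)) (.node (.leaf 0) (.leaf 0))) (.node (.node (.leaf 0) (.leaf 0)) (.node (.leaf 0) (.leaf 0))))) (.node (.node (.node (.node (.leaf 0) (.leaf 0)) (.node (.leaf 0) (.leaf 0))) (.node (.node (.leaf 0) (.leaf 0)) (.node (.leaf 0) (.leaf 0)))) (.node (.node (.node (.leaf 0) (.leaf 0)) (.node (.leaf 1) (.leaf 0))) (.node (.node (.leaf 0) (.leaf 0)) (.node (.leaf 0) (.leaf 0)))))) (.node (.node (.node (.node (.node (.leaf 0)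 (.leaf 0)) (.node (.leaf 0) (.leaf 0))) (.node (.node (.leaf 1) (.leaf 0)) (.node (.leaf 0) (.leaf 0)))) (.node (.node (.node (.leaf 0) (.leaf 0)) (.node (.leaf 0) (.leaf 0))) (.node (.node (.leaf 0) (.leaf 0)) (.node (.leaf 0) (.leaf 0))))) (.node (.node (.node (.node (.leaf 0) (.leaf 1)) (.node (.leaf 1) (.leaf 2))) (.node (.node (.leaf 0) (.leaf 0)) (.node (.leaf 0) (.leaf 0)))) (.node (.node (.node (.leaf 1) (.leaf 0)) (.node (.leaf 0) (.leaf 0))) (.node (.node (.leaf 0) (.leaf 0)) (.node (.leaf 0) (.leaf 0))))))))

def k4Wit_11 : H52.TCert.Tr := .node (.node (.node (.node (.node (.node (.node (.node (.leaf 0) (.leaf 2)) (.node (.leaf 0) (.leaf 0))) (.node (.node (.leaf 0) (.leaf 0)) (.node (.leaf 0) (.leaf 0)))) (.node (.node (.node (.leaf 0) (.leaf 0)) (.node (.leaf 0) (.leaf 0))) (.node (.node (.leaf 1) (.leaf 0)) (.node (.leaf 0) (.leaf 0))))) (.node (.node (.node (.node (.leaf 0) (.leaf 0)) (.node (.leaf 0) (.leaf 0))) (.node (.node (.leaf 0) (.leaf 0)) (.node (.leaf 0) (.leaf 0)))) (.node (.node (.node (.leaf 0) (.leaf 0)) (.node (.leaf 0) (.leaf 0))) (.node (.node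 (.leaf 0) (.leaf 0)) (.node (.leaf 0) (.leaf 0)))))) (.node (.node (.node (.node (.node (.leaf 0) (.leaf 0)) (.node (.leaf 0) (.leaf 0))) (.node (.node (.leaf 0) (.leaf 0)) (.node (.leaf 0) (.leaf 0)))) (.node (.node (.node (.leaf 0) (.leaf 0)) (.node (.leaf 0) (.leaf 0))) (.node (.node (.leaf 0) (.leaf 0)) (.node (.leaf 0) (.leaf 0))))) (.node (.node (.node (.node (.leaf 0) (.leaf 0)) (.node (.leaf 0) (.leaf 0))) (.node (.node (.leaf 0) (.leaf 1)) (.node (.leaf 0) (.leaf 0)))) (.node (.node (.node (.leaf 0) (.leaf 0)) (.node (.leaf 0) (.leaf 0))) (.node (.node (.leaf 0) (.leaf 0)) (.node (.leaf 0) (.leaf 0))))))) (.node (.node (.node (.node (.node (.node (.leaf 0) (.leaf 0)) (.node (.leaf 0) (.leaf 2))) (.node (.node (.leaf 0) (.leaf 0)) (.node (.leaf 0) (.leaf 0)))) (.node (.node (.node (.leaf 0) (.leaf 0)) (.node (.leaf 0) (.leaf 0))) (.node (.node (.leaf 0) (.leaf 0)) (.node (.leaf 0) (.leaf 0))))) (.node (.node (.node (.node (.leaf 0) (.leaf 0)) (.node (.leaf 0) (.leaf 0))) (.node (.node (.leaf 0) (.leaf 0)) (.node (.leaf 0) (.leaf 0)))) (.node (.node (.node (.leaf 0)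 (.leaf 0)) (.node (.leaf 0) (.leaf 0))) (.node (.node (.leaf 0) (.leaf 1)) (.node (.leaf 0) (.leaf 0)))))) (.node (.node (.node (.node (.node (.leaf 0) (.leaf 0)) (.node (.leaf 0) (.leaf 0))) (.node (.node (.leaf 1) (.leaf 0)) (.node (.leaf 0) (.leaf 0)))) (.node (.node (.node (.leaf 0) (.leaf 0)) (.node (.leaf 0) (.leaf 0))) (.node (.node (.leaf 0) (.leaf 0)) (.node (.leaf 0) (.leaf 0))))) (.node (.node (.node (.node (.leaf 0) (.leaf 0)) (.node (.leaf 0) (.leaf 0))) (.node (.node (.leaf 0) (.leaf 0)) (.node (.leaf 0) (.leaf 0)))) (.node (.node (.node (.leaf 0) (.leaf 0)) (.node (.leaf 0) (.leaf 0))) (.node (.node (.leaf 0) (.leaf 0)) (.node (.leaf 0) (.leaf 0)))))))) (.node (.node (.node (.node (.node (.node (.node (.leaf 0) (.leaf 0)) (.node (.leaf 0) (.leaf 0))) (.node (.node (.leaf 0) (.leaf 0)) (.node (.leaf 0) (.leaf 1)))) (.node (.node (.node (.leaf 0) (.leaf 0)) (.node (.leaf 0) (.leaf 0))) (.node (.node (.leaf 0) (.leaf 0)) (.node (.leaf 0) (.leaf 0))))) (.node (.node (.node (.node (.leaf 0) (.leaf 0)) (.node (.leaf 0) (.leaf 0))) (.node (.node (.leaf 0) (.leaf 0))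 (.node (.leaf 0) (.leaf 0)))) (.node (.node (.node (.leaf 0) (.leaf 0)) (.node (.leaf 0) (.leaf 0))) (.node (.node (.leaf 0) (.leaf 0)) (.node (.leaf 0) (.leaf 0)))))) (.node (.node (.node (.node (.node (.leaf 0) (.leaf 0)) (.node (.leaf 0) (.leaf 0))) (.node (.node (.leaf 0) (.leaf 0)) (.node (.leaf 0) (.leaf 0)))) (.node (.node (.node (.leaf 0) (.leaf 0)) (.node (.leaf 0) (.leaf 0))) (.node (.node (.leaf 1) (.leaf 1)) (.node (.leaf 0) (.leaf 0))))) (.node (.node (.node (.node (.leaf 0) (.leaf 0)) (.node (.leaf 0) (.leaf 0))) (.node (.node (.leaf 0) (.leaf 0)) (.node (.leaf 1) (.leaf 0)))) (.node (.node (.node (.leaf 0) (.leaf 0)) (.node (.leaf 0) (.leaf 0))) (.node (.node (.leaf 0) (.leaf 0)) (.node (.leaf 0) (.leaf 0))))))) (.node (.node (.node (.node (.node (.node (.leaf 0) (.leaf 1)) (.node (.leaf 0) (.leaf 0))) (.node (.node (.leaf 0) (.leaf 0)) (.node (.leaf 0) (.leaf 0)))) (.node (.node (.node (.leaf 0) (.leaf 0)) (.node (.leaf 0) (.leaf 0))) (.node (.node (.leaf 0) (.leaf 0)) (.node (.leaf 0) (.leaf 0))))) (.node (.node (.node (.node (.leaf 0) (.leaf 0)) (.node (.leaf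 0) (.leaf 0))) (.node (.node (.leaf 0) (.leaf 0)) (.node (.leaf 0) (.leaf 0)))) (.node (.node (.node (.leaf 0) (.leaf 0)) (.node (.leaf 0) (.leaf 0))) (.node (.node (.leaf 0) (.leaf 0)) (.node (.leaf 0) (.leaf 0)))))) (.node (.node (.node (.node (.node (.leaf 0) (.leaf 0)) (.node (.leaf 0) (.leaf 1))) (.node (.node (.leaf 0) (.leaf 0)) (.node (.leaf 0) (.leaf 0)))) (.node (.node (.node (.leaf 1) (.leaf 0)) (.node (.leaf 0) (.leaf 0))) (.node (.node (.leaf 0) (.leaf 0)) (.node (.leaf 0) (.leaf 0))))) (.node (.node (.node (.node (.leaf 0) (.leaf 0)) (.node (.leaf 0) (.leaf 0))) (.node (.node (.leaf 0) (.leaf 0)) (.node (.leaf 0) (.leaf 0)))) (.node (.node (.node (.leaf 0) (.leaf 0)) (.node (.leaf 0) (.leaf 0))) (.node (.node (.leaf 0) (.leaf 0)) (.node (.leaf 0) (.leaf 0))))))))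

def k4Wit_12 : H52.TCert.Tr := .node (.node (.node (.node (.node (.node (.node (.node (.leaf 0) (.leaf 0)) (.node (.leaf 0) (.leaf 0))) (.node (.node (.leaf 0) (.leaf 0)) (.node (.leaf 1) (.leaf 1)))) (.node (.node (.node (.leaf 1) (.leaf 0)) (.node (.leaf 0) (.leaf 0))) (.node (.node (.leaf 0) (.leaf 0)) (.node (.leaf 0) (.leaf 0))))) (.node (.node (.node (.node (.leaf 0) (.leaf 0)) (.node (.leaf 0) (.leaf 0))) (.node (.node (.leaf 0) (.leaf 0)) (.node (.leaf 0) (.leaf 0)))) (.node (.node (.node (.leaf 0) (.leaf 0)) (.node (.leaf 0) (.leaf 0))) (.node (.node (.leaf 0) (.leaf 0)) (.node (.leaf 0) (.leaf 0)))))) (.node (.node (.node (.node (.node (.leaf 0) (.leaf 0)) (.node (.leaf 0) (.leaf 0))) (.node (.node (.leaf 0) (.leaf 0)) (.node (.leaf 0) (.leaf 0)))) (.node (.node (.node (.leaf 0) (.leaf 0)) (.node (.leaf 0) (.leaf 0))) (.node (.node (.leaf 0) (.leaf 0)) (.node (.leaf 1) (.leaf 0))))) (.node (.node (.node (.node (.leaf 0) (.leaf 0)) (.node (.leaf 0) (.leaf 0))) (.node (.node (.leaf 1) (.leaf 0)) (.node (.leaf 0) (.leaf 0)))) (.node (.node (.node (.leaf 0) (.leaf 0))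 (.node (.leaf 0) (.leaf 0))) (.node (.node (.leaf 0) (.leaf 0)) (.node (.leaf 0) (.leaf 0))))))) (.node (.node (.node (.node (.node (.node (.leaf 0) (.leaf 0)) (.node (.leaf 0) (.leaf 0))) (.node (.node (.leaf 0) (.leaf 0)) (.node (.leaf 0) (.leaf 0)))) (.node (.node (.node (.leaf 1) (.leaf 0)) (.node (.leaf 0) (.leaf 0))) (.node (.node (.leaf 0) (.leaf 0)) (.node (.leaf 0) (.leaf 1))))) (.node (.node (.node (.node (.leaf 0) (.leaf 0)) (.node (.leaf 0) (.leaf 0))) (.node (.node (.leaf 0) (.leaf 0)) (.node (.leaf 0) (.leaf 0)))) (.node (.node (.node (.leaf 0) (.leaf 0)) (.node (.leaf 0) (.leaf 0))) (.node (.node (.leaf 0) (.leaf 0)) (.node (.leaf 0) (.leaf 0)))))) (.node (.node (.node (.node (.node (.leaf 0) (.leaf 0)) (.node (.leaf 0) (.leaf 0))) (.node (.node (.leaf 0) (.leaf 0)) (.node (.leaf 0) (.leaf 0)))) (.node (.node (.node (.leaf 0) (.leaf 0)) (.node (.leaf 0) (.leaf 0))) (.node (.node (.leaf 0) (.leaf 0)) (.node (.leaf 0) (.leaf 0))))) (.node (.node (.node (.node (.leaf 0) (.leaf 0)) (.node (.leaf 0) (.leaf 0))) (.node (.node (.leaf 0) (.leaf 0)) (.node (.leaf 0)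 (.leaf 0)))) (.node (.node (.node (.leaf 0) (.leaf 0)) (.node (.leaf 0) (.leaf 0))) (.node (.node (.leaf 0) (.leaf 0)) (.node (.leaf 1) (.leaf 0)))))))) (.node (.node (.node (.node (.node (.node (.node (.leaf 0) (.leaf 0)) (.node (.leaf 0) (.leaf 0))) (.node (.node (.leaf 0) (.leaf 0)) (.node (.leaf 0) (.leaf 0)))) (.node (.node (.node (.leaf 0) (.leaf 0)) (.node (.leaf 0) (.leaf 0))) (.node (.node (.leaf 0) (.leaf 0)) (.node (.leaf 0) (.leaf 0))))) (.node (.node (.node (.node (.leaf 0) (.leaf 0)) (.node (.leaf 0) (.leaf 0))) (.node (.node (.leaf 0) (.leaf 0)) (.node (.leaf 0) (.leaf 0)))) (.node (.node (.node (.leaf 0) (.leaf 0)) (.node (.leaf 0) (.leaf 0))) (.node (.node (.leaf 0) (.leaf 0)) (.node (.leaf 0) (.leaf 0)))))) (.node (.node (.node (.node (.node (.leaf 0) (.leaf 0)) (.node (.leaf 0) (.leaf 0))) (.node (.node (.leaf 0) (.leaf 0)) (.node (.leaf 0) (.leaf 0)))) (.node (.node (.node (.leaf 0) (.leaf 0)) (.node (.leaf 0) (.leaf 0))) (.node (.node (.leaf 5) (.leaf 0)) (.node (.leaf 0) (.leaf 0))))) (.node (.node (.node (.node (.leaf 1) (.leaf 0)) (.node (.leaf 0) (.leaf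 0))) (.node (.node (.leaf 0) (.leaf 1)) (.node (.leaf 0) (.leaf 1)))) (.node (.node (.node (.leaf 0) (.leaf 0)) (.node (.leaf 0) (.leaf 0))) (.node (.node (.leaf 0) (.leaf 1)) (.node (.leaf 0) (.leaf 0))))))) (.node (.node (.node (.node (.node (.node (.leaf 0) (.leaf 0)) (.node (.leaf 0) (.leaf 0))) (.node (.node (.leaf 0) (.leaf 0)) (.node (.leaf 0) (.leaf 0)))) (.node (.node (.node (.leaf 0) (.leaf 0)) (.node (.leaf 0) (.leaf 0))) (.node (.node (.leaf 0) (.leaf 0)) (.node (.leaf 1) (.leaf 0))))) (.node (.node (.node (.node (.leaf 0) (.leaf 0)) (.node (.leaf 0) (.leaf 0))) (.node (.node (.leaf 0) (.leaf 0)) (.node (.leaf 0) (.leaf 5)))) (.node (.node (.node (.leaf 0) (.leaf 0)) (.node (.leaf 0) (.leaf 0))) (.node (.node (.leaf 0) (.leaf 0)) (.node (.leaf 0) (.leaf 0)))))) (.node (.node (.node (.node (.node (.leaf 0) (.leaf 5)) (.node (.leaf 0) (.leaf 0))) (.node (.node (.leaf 0) (.leaf 0)) (.node (.leaf 0) (.leaf 0)))) (.node (.node (.node (.leaf 0) (.leaf 0)) (.node (.leaf 0) (.leaf 0))) (.node (.node (.leaf 0) (.leaf 0)) (.node (.leaf 0) (.leaf 0))))) (.node (.node (.node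 (.node (.leaf 0) (.leaf 0)) (.node (.leaf 0) (.leaf 0))) (.node (.node (.leaf 0) (.leaf 0)) (.node (.leaf 0) (.leaf 0)))) (.node (.node (.node (.leaf 0) (.leaf 0)) (.node (.leaf 0) (.leaf 0))) (.node (.node (.leaf 0) (.leaf 0)) (.node (.leaf 0) (.leaf 0))))))))

def k4Wit_13 : H52.TCert.Tr := .node (.node (.node (.node (.node (.node (.node (.node (.leaf 0) (.leaf 0)) (.node (.leaf 0) (.leaf 0))) (.node (.node (.leaf 0) (.leaf 0)) (.node (.leaf 0) (.leaf 0)))) (.node (.node (.node (.leaf 0) (.leaf 0)) (.node (.leaf 5) (.leaf 0))) (.node (.node (.leaf 0) (.leaf 0)) (.node (.leaf 0) (.leaf 0))))) (.node (.node (.node (.node (.leaf 0) (.leaf 0)) (.node (.leaf 0) (.leaf 0))) (.node (.node (.leaf 0) (.leaf 0)) (.node (.leaf 0) (.leaf 0)))) (.node (.node (.node (.leaf 0) (.leaf 1)) (.node (.leaf 0) (.leaf 0))) (.node (.node (.leaf 0) (.leaf 0)) (.node (.leaf 0) (.leaf 0)))))) (.node (.node (.node (.node (.node (.leaf 0) (.leaf 0)) (.node (.leaf 0) (.leaf 0))) (.node (.node (.leaf 0) (.leaf 0)) (.node (.leaf 1) (.leaf 0)))) (.node (.node (.node (.leaf 0) (.leaf 0)) (.node (.leaf 0)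 (.leaf 0))) (.node (.node (.leaf 0) (.leaf 0)) (.node (.leaf 0) (.leaf 0))))) (.node (.node (.node (.node (.leaf 0) (.leaf 0)) (.node (.leaf 0) (.leaf 0))) (.node (.node (.leaf 0) (.leaf 0)) (.node (.leaf 0) (.leaf 0)))) (.node (.node (.node (.leaf 0) (.leaf 0)) (.node (.leaf 0) (.leaf 0))) (.node (.node (.leaf 0) (.leaf 5)) (.node (.leaf 0) (.leaf 0))))))) (.node (.node (.node (.node (.node (.node (.leaf 0) (.leaf 0)) (.node (.leaf 0) (.leaf 0))) (.node (.node (.leaf 0) (.leaf 1)) (.node (.leaf 0) (.leaf 0)))) (.node (.node (.node (.leaf 1) (.leaf 0)) (.node (.leaf 0) (.leaf 0))) (.node (.node (.leaf 0) (.leaf 0)) (.node (.leaf 0) (.leaf 0))))) (.node (.node (.node (.node (.leaf 0) (.leaf 0)) (.node (.leaf 0) (.leaf 0))) (.node (.node (.leaf 0) (.leaf 0)) (.node (.leaf 0) (.leaf 0)))) (.node (.node (.node (.leaf 0) (.leaf 0)) (.node (.leaf 0) (.leaf 0))) (.node (.node (.leaf 0) (.leaf 0)) (.node (.leaf 0) (.leaf 0)))))) (.node (.node (.node (.node (.node (.leaf 0) (.leaf 0)) (.node (.leaf 0) (.leaf 0))) (.node (.node (.leaf 0) (.leaf 0)) (.node (.leaf 0) (.leaf 0)))) (.node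 (.node (.node (.leaf 0) (.leaf 0)) (.node (.leaf 0) (.leaf 0))) (.node (.node (.leaf 0) (.leaf 0)) (.node (.leaf 0) (.leaf 0))))) (.node (.node (.node (.node (.leaf 0) (.leaf 0)) (.node (.leaf 0) (.leaf 0))) (.node (.node (.leaf 0) (.leaf 0)) (.node (.leaf 0) (.leaf 0)))) (.node (.node (.node (.leaf 0) (.leaf 0)) (.node (.leaf 0) (.leaf 0))) (.node (.node (.leaf 0) (.leaf 0)) (.node (.leaf 0) (.leaf 0)))))))) (.node (.node (.node (.node (.node (.node (.node (.leaf 0) (.leaf 0)) (.node (.leaf 0) (.leaf 0))) (.node (.node (.leaf 0) (.leaf 0)) (.node (.leaf 0) (.leaf 0)))) (.node (.node (.node (.leaf 0) (.leaf 0)) (.node (.leaf 0) (.leaf 0))) (.node (.node (.leaf 0) (.leaf 0)) (.node (.leaf 0) (.leaf 0))))) (.node (.node (.node (.node (.leaf 0) (.leaf 0)) (.node (.leaf 1) (.leaf 0))) (.node (.node (.leaf 0) (.leaf 0)) (.node (.leaf 0) (.leaf 0)))) (.node (.node (.node (.leaf 0) (.leaf 0)) (.node (.leaf 0) (.leaf 0))) (.node (.node (.leaf 0) (.leaf 0)) (.node (.leaf 0) (.leaf 0)))))) (.node (.node (.node (.node (.node (.leaf 0) (.leaf 0)) (.node (.leaf 0) (.leaf 0))) (.node (.node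 (.leaf 0) (.leaf 0)) (.node (.leaf 0) (.leaf 0)))) (.node (.node (.node (.leaf 0) (.leaf 0)) (.node (.leaf 0) (.leaf 0))) (.node (.node (.leaf 0) (.leaf 0)) (.node (.leaf 0) (.leaf 0))))) (.node (.node (.node (.node (.leaf 0) (.leaf 0)) (.node (.leaf 0) (.leaf 0))) (.node (.node (.leaf 0) (.leaf 0)) (.node (.leaf 0) (.leaf 0)))) (.node (.node (.node (.leaf 0) (.leaf 0)) (.node (.leaf 0) (.leaf 0))) (.node (.node (.leaf 0) (.leaf 0)) (.node (.leaf 0) (.leaf 0))))))) (.node (.node (.node (.node (.node (.node (.leaf 0) (.leaf 0)) (.node (.leaf 5) (.leaf 0))) (.node (.node (.leaf 0) (.leaf 0)) (.node (.leaf 0) (.leaf 0)))) (.node (.node (.node (.leaf 0) (.leaf 0)) (.node (.leaf 0) (.leaf 0))) (.node (.node (.leaf 0) (.leaf 0)) (.node (.leaf 0) (.leaf 0))))) (.node (.node (.node (.node (.leaf 0) (.leaf 0)) (.node (.leaf 0) (.leaf 0))) (.node (.node (.leaf 0) (.leaf 0)) (.node (.leaf 0) (.leaf 0)))) (.node (.node (.node (.leaf 0) (.leaf 0)) (.node (.leaf 0) (.leaf 0))) (.node (.node (.leaf 0) (.leaf 0)) (.node (.leaf 0) (.leaf 0)))))) (.node (.node (.node (.node (.node (.leaf 0)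 (.leaf 0)) (.node (.leaf 0) (.leaf 0))) (.node (.node (.leaf 0) (.leaf 0)) (.node (.leaf 0) (.leaf 0)))) (.node (.node (.node (.leaf 0) (.leaf 0)) (.node (.leaf 0) (.leaf 0))) (.node (.node (.leaf 2) (.leaf 0)) (.node (.leaf 0) (.leaf 0))))) (.node (.node (.node (.node (.leaf 0) (.leaf 0)) (.node (.leaf 0) (.leaf 0))) (.node (.node (.leaf 0) (.leaf 0)) (.node (.leaf 0) (.leaf 0)))) (.node (.node (.node (.leaf 1) (.leaf 0)) (.node (.leaf 1) (.leaf 0))) (.node (.node (.leaf 0) (.leaf 0)) (.node (.leaf 0) (.leaf 0))))))))

def k4Wit_14 : H52.TCert.Tr := .node (.node (.node (.node (.node (.node (.node (.node (.leaf 0) (.leaf 0)) (.node (.leaf 0) (.leaf 5))) (.node (.node (.leaf 0) (.leaf 0)) (.node (.leaf 0) (.leaf 0)))) (.node (.node (.node (.leaf 0) (.leaf 0)) (.node (.leaf 0) (.leaf 0))) (.node (.node (.leaf 0) (.leaf 0)) (.node (.leaf 0) (.leaf 0))))) (.node (.node (.node (.node (.leaf 0) (.leaf 0)) (.node (.leaf 0) (.leaf 0))) (.node (.node (.leaf 0) (.leaf 0)) (.node (.leaf 0) (.leaf 0)))) (.node (.node (.node (.leaf 0) (.leaf 0)) (.node (.leaf 0) (.leaf 0))) (.node (.node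 (.leaf 1) (.leaf 0)) (.node (.leaf 0) (.leaf 0)))))) (.node (.node (.node (.node (.node (.leaf 0) (.leaf 0)) (.node (.leaf 0) (.leaf 0))) (.node (.node (.leaf 0) (.leaf 0)) (.node (.leaf 0) (.leaf 1)))) (.node (.node (.node (.leaf 0) (.leaf 0)) (.node (.leaf 0) (.leaf 0))) (.node (.node (.leaf 0) (.leaf 0)) (.node (.leaf 0) (.leaf 0))))) (.node (.node (.node (.node (.leaf 0) (.leaf 0)) (.node (.leaf 0) (.leaf 0))) (.node (.node (.leaf 0) (.leaf 0)) (.node (.leaf 0) (.leaf 0)))) (.node (.node (.node (.leaf 5) (.leaf 0)) (.node (.leaf 0) (.leaf 0))) (.node (.node (.leaf 0) (.leaf 0)) (.node (.leaf 0) (.leaf 1))))))) (.node (.node (.node (.node (.node (.node (.leaf 0) (.leaf 0)) (.node (.leaf 0) (.leaf 0))) (.node (.node (.leaf 0) (.leaf 0)) (.node (.leaf 0) (.leaf 0)))) (.node (.node (.node (.leaf 0) (.leaf 0)) (.node (.leaf 0) (.leaf 0))) (.node (.node (.leaf 0) (.leaf 0)) (.node (.leaf 0) (.leaf 0))))) (.node (.node (.node (.node (.leaf 0) (.leaf 0)) (.node (.leaf 0) (.leaf 0))) (.node (.node (.leaf 0) (.leaf 5)) (.node (.leaf 0) (.leaf 0)))) (.node (.node (.node (.leaf 0)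 (.leaf 0)) (.node (.leaf 0) (.leaf 0))) (.node (.node (.leaf 0) (.leaf 0)) (.node (.leaf 0) (.leaf 0)))))) (.node (.node (.node (.node (.node (.leaf 0) (.leaf 0)) (.node (.leaf 0) (.leaf 0))) (.node (.node (.leaf 0) (.leaf 0)) (.node (.leaf 0) (.leaf 0)))) (.node (.node (.node (.leaf 0) (.leaf 0)) (.node (.leaf 0) (.leaf 0))) (.node (.node (.leaf 0) (.leaf 0)) (.node (.leaf 5) (.leaf 0))))) (.node (.node (.node (.node (.leaf 0) (.leaf 0)) (.node (.leaf 0) (.leaf 0))) (.node (.node (.leaf 0) (.leaf 0)) (.node (.leaf 0) (.leaf 0)))) (.node (.node (.node (.leaf 0) (.leaf 0)) (.node (.leaf 0) (.leaf 0))) (.node (.node (.leaf 0) (.leaf 1)) (.node (.leaf 0) (.leaf 0)))))))) (.node (.node (.node (.node (.node (.node (.node (.leaf 0) (.leaf 0)) (.node (.leaf 0) (.leaf 0))) (.node (.node (.leaf 0) (.leaf 0)) (.node (.leaf 0) (.leaf 0)))) (.node (.node (.node (.leaf 0) (.leaf 0)) (.node (.leaf 0) (.leaf 0))) (.node (.node (.leaf 0) (.leaf 0)) (.node (.leaf 0) (.leaf 0))))) (.node (.node (.node (.node (.leaf 0) (.leaf 0)) (.node (.leaf 0) (.leaf 0))) (.node (.node (.leaf 0) (.leaf 0))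 (.node (.leaf 0) (.leaf 0)))) (.node (.node (.node (.leaf 0) (.leaf 0)) (.node (.leaf 0) (.leaf 0))) (.node (.node (.leaf 0) (.leaf 0)) (.node (.leaf 1) (.leaf 5)))))) (.node (.node (.node (.node (.node (.leaf 0) (.leaf 0)) (.node (.leaf 0) (.leaf 0))) (.node (.node (.leaf 1) (.leaf 0)) (.node (.leaf 0) (.leaf 0)))) (.node (.node (.node (.leaf 0) (.leaf 1)) (.node (.leaf 0) (.leaf 0))) (.node (.node (.leaf 0) (.leaf 0)) (.node (.leaf 0) (.leaf 1))))) (.node (.node (.node (.node (.leaf 1) (.leaf 0)) (.node (.leaf 0) (.leaf 0))) (.node (.node (.leaf 0) (.leaf 0)) (.node (.leaf 0) (.leaf 0)))) (.node (.node (.node (.leaf 0) (.leaf 0)) (.node (.leaf 0) (.leaf 5))) (.node (.node (.leaf 0) (.leaf 0)) (.node (.leaf 1) (.leaf 0))))))) (.node (.node (.node (.node (.node (.node (.leaf 0) (.leaf 1)) (.node (.leaf 0) (.leaf 0))) (.node (.node (.leaf 0) (.leaf 0)) (.node (.leaf 0) (.leaf 0)))) (.node (.node (.node (.leaf 0) (.leaf 5)) (.node (.leaf 0) (.leaf 0))) (.node (.node (.leaf 0) (.leaf 0)) (.node (.leaf 0) (.leaf 1))))) (.node (.node (.node (.node (.leaf 1) (.leaf 1)) (.node (.leaf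 0) (.leaf 0))) (.node (.node (.leaf 0) (.leaf 0)) (.node (.leaf 0) (.leaf 0)))) (.node (.node (.node (.leaf 0) (.leaf 0)) (.node (.leaf 0) (.leaf 0))) (.node (.node (.leaf 0) (.leaf 0)) (.node (.leaf 0) (.leaf 0)))))) (.node (.node (.node (.node (.node (.leaf 5) (.leaf 0)) (.node (.leaf 0) (.leaf 0))) (.node (.node (.leaf 0) (.leaf 0)) (.node (.leaf 0) (.leaf 0)))) (.node (.node (.node (.leaf 0) (.leaf 0)) (.node (.leaf 0) (.leaf 0))) (.node (.node (.leaf 0) (.leaf 0)) (.node (.leaf 0) (.leaf 0))))) (.node (.node (.node (.node (.leaf 0) (.leaf 0)) (.node (.leaf 0) (.leaf 0))) (.node (.node (.leaf 0) (.leaf 0)) (.node (.leaf 0) (.leaf 0)))) (.node (.node (.node (.leaf 1) (.leaf 0)) (.node (.leaf 0) (.leaf 0))) (.node (.node (.leaf 0) (.leaf 0)) (.node (.leaf 0) (.leaf 0))))))))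

def k4Wit_15 : H52.TCert.Tr := .node (.node (.node (.node (.node (.node (.node (.node (.leaf 0) (.leaf 0)) (.node (.leaf 0) (.leaf 0))) (.node (.node (.leaf 0) (.leaf 0)) (.node (.leaf 0) (.leaf 0)))) (.node (.node (.node (.leaf 0) (.leaf 0)) (.node (.leaf 0) (.leaf 0))) (.node (.node (.leaf 0) (.leaf 0)) (.node (.leaf 0) (.leaf 0))))) (.node (.node (.node (.node (.leaf 0) (.leaf 0)) (.node (.leaf 0) (.leaf 0))) (.node (.node (.leaf 0) (.leaf 0)) (.node (.leaf 0) (.leaf 0)))) (.node (.node (.node (.leaf 0) (.leaf 0)) (.node (.leaf 0) (.leaf 0))) (.node (.node (.leaf 0) (.leaf 0)) (.node (.leaf 0) (.leaf 0)))))) (.node (.node (.node (.node (.node (.leaf 0) (.leaf 0)) (.node (.leaf 0) (.leaf 0))) (.node (.node (.leaf 0) (.leaf 0)) (.node (.leaf 0) (.leaf 0)))) (.node (.node (.node (.leaf 0) (.leaf 1)) (.node (.leaf 0) (.leaf 0))) (.node (.node (.leaf 0) (.leaf 0)) (.node (.leaf 0) (.leaf 0))))) (.node (.node (.node (.node (.leaf 1) (.leaf 0)) (.node (.leaf 2) (.leaf 1))) (.node (.node (.leaf 0) (.leaf 0)) (.node (.leaf 0) (.leaf 0)))) (.node (.node (.node (.leaf 1) (.leaf 0))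 (.node (.leaf 0) (.leaf 0))) (.node (.node (.leaf 0) (.leaf 0)) (.node (.leaf 0) (.leaf 0))))))) (.node (.node (.node (.node (.node (.node (.leaf 0) (.leaf 0)) (.node (.leaf 0) (.leaf 0))) (.node (.node (.leaf 0) (.leaf 1)) (.node (.leaf 0) (.leaf 0)))) (.node (.node (.node (.leaf 0) (.leaf 0)) (.node (.leaf 0) (.leaf 1))) (.node (.node (.leaf 0) (.leaf 0)) (.node (.leaf 0) (.leaf 0))))) (.node (.node (.node (.node (.leaf 0) (.leaf 0)) (.node (.leaf 0) (.leaf 0))) (.node (.node (.leaf 0) (.leaf 0)) (.node (.leaf 0) (.leaf 0)))) (.node (.node (.node (.leaf 0) (.leaf 0)) (.node (.leaf 0) (.leaf 0))) (.node (.node (.leaf 0) (.leaf 0)) (.node (.leaf 5) (.leaf 0)))))) (.node (.node (.node (.node (.node (.leaf 0) (.leaf 0)) (.node (.leaf 0) (.leaf 0))) (.node (.node (.leaf 0) (.leaf 0)) (.node (.leaf 1) (.leaf 0)))) (.node (.node (.node (.leaf 0) (.leaf 0)) (.node (.leaf 0) (.leaf 0))) (.node (.node (.leaf 0) (.leaf 0)) (.node (.leaf 0) (.leaf 5))))) (.node (.node (.node (.node (.leaf 0) (.leaf 0)) (.node (.leaf 1) (.leaf 0))) (.node (.node (.leaf 0) (.leaf 0)) (.node (.leaf 0)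 (.leaf 0)))) (.node (.node (.node (.leaf 0) (.leaf 0)) (.node (.leaf 0) (.leaf 0))) (.node (.node (.leaf 0) (.leaf 0)) (.node (.leaf 0) (.leaf 0)))))))) (.node (.node (.node (.node (.node (.node (.node (.leaf 0) (.leaf 0)) (.node (.leaf 0) (.leaf 0))) (.node (.node (.leaf 0) (.leaf 0)) (.node (.leaf 0) (.leaf 0)))) (.node (.node (.node (.leaf 0) (.leaf 0)) (.node (.leaf 0) (.leaf 0))) (.node (.node (.leaf 0) (.leaf 0)) (.node (.leaf 0) (.leaf 0))))) (.node (.node (.node (.node (.leaf 0) (.leaf 0)) (.node (.leaf 0) (.leaf 0))) (.node (.node (.leaf 0) (.leaf 0)) (.node (.leaf 1) (.leaf 0)))) (.node (.node (.node (.leaf 0) (.leaf 0)) (.node (.leaf 0) (.leaf 5))) (.node (.node (.leaf 0) (.leaf 0)) (.node (.leaf 0) (.leaf 0)))))) (.node (.node (.node (.node (.node (.leaf 0) (.leaf 0)) (.node (.leaf 0) (.leaf 0))) (.node (.node (.leaf 0) (.leaf 0)) (.node (.leaf 0) (.leaf 0)))) (.node (.node (.node (.leaf 0) (.leaf 0)) (.node (.leaf 0) (.leaf 0))) (.node (.node (.leaf 0) (.leaf 0)) (.node (.leaf 0) (.leaf 0))))) (.node (.node (.node (.node (.leaf 0) (.leaf 0)) (.node (.leaf 0) (.leaf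 0))) (.node (.node (.leaf 0) (.leaf 0)) (.node (.leaf 0) (.leaf 0)))) (.node (.node (.node (.leaf 0) (.leaf 0)) (.node (.leaf 0) (.leaf 0))) (.node (.node (.leaf 0) (.leaf 0)) (.node (.leaf 0) (.leaf 0))))))) (.node (.node (.node (.node (.node (.node (.leaf 0) (.leaf 0)) (.node (.leaf 0) (.leaf 0))) (.node (.node (.leaf 0) (.leaf 0)) (.node (.leaf 0) (.leaf 2)))) (.node (.node (.node (.leaf 0) (.leaf 0)) (.node (.leaf 0) (.leaf 0))) (.node (.node (.leaf 0) (.leaf 5)) (.node (.leaf 0) (.leaf 0))))) (.node (.node (.node (.node (.leaf 0) (.leaf 0)) (.node (.leaf 0) (.leaf 0))) (.node (.node (.leaf 0) (.leaf 0)) (.node (.leaf 0) (.leaf 0)))) (.node (.node (.node (.leaf 0) (.leaf 0)) (.node (.leaf 0) (.leaf 0))) (.node (.node (.leaf 0) (.leaf 0)) (.node (.leaf 0) (.leaf 0)))))) (.node (.node (.node (.node (.node (.leaf 0) (.leaf 1)) (.node (.leaf 0) (.leaf 0))) (.node (.node (.leaf 0) (.leaf 0)) (.node (.leaf 0) (.leaf 0)))) (.node (.node (.node (.leaf 0) (.leaf 0)) (.node (.leaf 0) (.leaf 0))) (.node (.node (.leaf 0) (.leaf 0)) (.node (.leaf 0) (.leaf 0))))) (.node (.node (.node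 (.node (.leaf 0) (.leaf 0)) (.node (.leaf 0) (.leaf 0))) (.node (.node (.leaf 0) (.leaf 0)) (.node (.leaf 1) (.leaf 0)))) (.node (.node (.node (.leaf 0) (.leaf 0)) (.node (.leaf 0) (.leaf 0))) (.node (.node (.leaf 0) (.leaf 1)) (.node (.leaf 0) (.leaf 0))))))))

def k4Wit_16 : H52.TCert.Tr := .node (.node (.node (.node (.node (.node (.node (.node (.leaf 1) (.leaf 0)) (.node (.leaf 0) (.leaf 0))) (.node (.node (.leaf 0) (.leaf 0)) (.node (.leaf 0) (.leaf 0)))) (.node (.node (.node (.leaf 0) (.leaf 0)) (.node (.leaf 0) (.leaf 0))) (.node (.node (.leaf 0) (.leaf 2)) (.node (.leaf 0) (.leaf 0))))) (.node (.node (.node (.node (.leaf 0) (.leaf 0)) (.node (.leaf 0) (.leaf 0))) (.node (.node (.leaf 0) (.leaf 0)) (.node (.leaf 0) (.leaf 0)))) (.node (.node (.node (.leaf 0) (.leaf 0)) (.node (.leaf 0) (.leaf 0))) (.node (.node (.leaf 5) (.leaf 0)) (.node (.leaf 0) (.leaf 0)))))) (.node (.node (.node (.node (.node (.leaf 0) (.leaf 0)) (.node (.leaf 0) (.leaf 0))) (.node (.node (.leaf 0) (.leaf 0)) (.node (.leaf 0) (.leaf 0)))) (.node (.node (.node (.leaf 5) (.leaf 0)) (.node (.leaf 0)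 (.leaf 0))) (.node (.node (.leaf 1) (.leaf 0)) (.node (.leaf 0) (.leaf 0))))) (.node (.node (.node (.node (.leaf 0) (.leaf 0)) (.node (.leaf 0) (.leaf 0))) (.node (.node (.leaf 0) (.leaf 0)) (.node (.leaf 0) (.leaf 0)))) (.node (.node (.node (.leaf 0) (.leaf 0)) (.node (.leaf 0) (.leaf 0))) (.node (.node (.leaf 0) (.leaf 0)) (.node (.leaf 0) (.leaf 0))))))) (.node (.node (.node (.node (.node (.node (.leaf 0) (.leaf 0)) (.node (.leaf 0) (.leaf 0))) (.node (.node (.leaf 0) (.leaf 0)) (.node (.leaf 0) (.leaf 0)))) (.node (.node (.node (.leaf 0) (.leaf 0)) (.node (.leaf 0) (.leaf 0))) (.node (.node (.leaf 0) (.leaf 1)) (.node (.leaf 0) (.leaf 0))))) (.node (.node (.node (.node (.leaf 0) (.leaf 0)) (.node (.leaf 0) (.leaf 0))) (.node (.node (.leaf 0) (.leaf 0)) (.node (.leaf 0) (.leaf 0)))) (.node (.node (.node (.leaf 0) (.leaf 0)) (.node (.leaf 0) (.leaf 2))) (.node (.node (.leaf 0) (.leaf 0)) (.node (.leaf 0) (.leaf 0)))))) (.node (.node (.node (.node (.node (.leaf 0) (.leaf 0)) (.node (.leaf 0) (.leaf 0))) (.node (.node (.leaf 0) (.leaf 0)) (.node (.leaf 0) (.leaf 0)))) (.node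 (.node (.node (.leaf 0) (.leaf 0)) (.node (.leaf 0) (.leaf 0))) (.node (.node (.leaf 0) (.leaf 0)) (.node (.leaf 0) (.leaf 0))))) (.node (.node (.node (.node (.leaf 0) (.leaf 0)) (.node (.leaf 1) (.leaf 1))) (.node (.node (.leaf 0) (.leaf 0)) (.node (.leaf 0) (.leaf 0)))) (.node (.node (.node (.leaf 0) (.leaf 0)) (.node (.leaf 5) (.leaf 0))) (.node (.node (.leaf 0) (.leaf 0)) (.node (.leaf 0) (.leaf 0)))))))) (.node (.node (.node (.node (.node (.node (.node (.leaf 0) (.leaf 0)) (.node (.leaf 0) (.leaf 0))) (.node (.node (.leaf 0) (.leaf 0)) (.node (.leaf 0) (.leaf 0)))) (.node (.node (.node (.leaf 0) (.leaf 0)) (.node (.leaf 0) (.leaf 0))) (.node (.node (.leaf 1) (.leaf 0)) (.node (.leaf 1) (.leaf 0))))) (.node (.node (.node (.node (.leaf 0) (.leaf 0)) (.node (.leaf 0) (.leaf 0))) (.node (.node (.leaf 0) (.leaf 0)) (.node (.leaf 0) (.leaf 0)))) (.node (.node (.node (.leaf 0) (.leaf 0)) (.node (.leaf 0) (.leaf 0))) (.node (.node (.leaf 0) (.leaf 0)) (.node (.leaf 1) (.leaf 1)))))) (.node (.node (.node (.node (.node (.leaf 5) (.leaf 0)) (.node (.leaf 0) (.leaf 0))) (.node (.node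 (.leaf 0) (.leaf 0)) (.node (.leaf 0) (.leaf 0)))) (.node (.node (.node (.leaf 0) (.leaf 0)) (.node (.leaf 0) (.leaf 0))) (.node (.node (.leaf 0) (.leaf 1)) (.node (.leaf 0) (.leaf 0))))) (.node (.node (.node (.node (.leaf 0) (.leaf 0)) (.node (.leaf 0) (.leaf 0))) (.node (.node (.leaf 0) (.leaf 0)) (.node (.leaf 0) (.leaf 0)))) (.node (.node (.node (.leaf 0) (.leaf 0)) (.node (.leaf 0) (.leaf 0))) (.node (.node (.leaf 0) (.leaf 0)) (.node (.leaf 0) (.leaf 0))))))) (.node (.node (.node (.node (.node (.node (.leaf 0) (.leaf 0)) (.node (.leaf 0) (.leaf 0))) (.node (.node (.leaf 5) (.leaf 0)) (.node (.leaf 0) (.leaf 0)))) (.node (.node (.node (.leaf 5) (.leaf 0)) (.node (.leaf 0) (.leaf 0))) (.node (.node (.leaf 0) (.leaf 0)) (.node (.leaf 0) (.leaf 0))))) (.node (.node (.node (.node (.leaf 0) (.leaf 0)) (.node (.leaf 0) (.leaf 0))) (.node (.node (.leaf 1) (.leaf 1)) (.node (.leaf 0) (.leaf 0)))) (.node (.node (.node (.leaf 0) (.leaf 0)) (.node (.leaf 0) (.leaf 0))) (.node (.node (.leaf 0) (.leaf 0)) (.node (.leaf 0) (.leaf 0)))))) (.node (.node (.node (.node (.node (.leaf 0)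 (.leaf 0)) (.node (.leaf 0) (.leaf 0))) (.node (.node (.leaf 0) (.leaf 0)) (.node (.leaf 0) (.leaf 0)))) (.node (.node (.node (.leaf 0) (.leaf 0)) (.node (.leaf 0) (.leaf 0))) (.node (.node (.leaf 0) (.leaf 0)) (.node (.leaf 0) (.leaf 0))))) (.node (.node (.node (.node (.leaf 1) (.leaf 0)) (.node (.leaf 0) (.leaf 0))) (.node (.node (.leaf 0) (.leaf 0)) (.node (.leaf 0) (.leaf 0)))) (.node (.node (.node (.leaf 0) (.leaf 0)) (.node (.leaf 0) (.leaf 0))) (.node (.node (.leaf 0) (.leaf 0)) (.node (.leaf 0) (.leaf 0))))))))

def k4Wit_17 : H52.TCert.Tr := .node (.node (.node (.node (.node (.node (.node (.node (.leaf 0) (.leaf 0)) (.node (.leaf 0) (.leaf 0))) (.node (.node (.leaf 0) (.leaf 0)) (.node (.leaf 0) (.leaf 0)))) (.node (.node (.node (.leaf 0) (.leaf 0)) (.node (.leaf 0) (.leaf 0))) (.node (.node (.leaf 0) (.leaf 0)) (.node (.leaf 0) (.leaf 0))))) (.node (.node (.node (.node (.leaf 0) (.leaf 0)) (.node (.leaf 0) (.leaf 1))) (.node (.node (.leaf 0) (.leaf 5)) (.node (.leaf 0) (.leaf 0)))) (.node (.node (.node (.leaf 0) (.leaf 0)) (.node (.leaf 0) (.leaf 0))) (.node (.node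 (.leaf 0) (.leaf 0)) (.node (.leaf 0) (.leaf 0)))))) (.node (.node (.node (.node (.node (.leaf 0) (.leaf 0)) (.node (.leaf 0) (.leaf 0))) (.node (.node (.leaf 0) (.leaf 0)) (.node (.leaf 0) (.leaf 0)))) (.node (.node (.node (.leaf 0) (.leaf 5)) (.node (.leaf 0) (.leaf 0))) (.node (.node (.leaf 0) (.leaf 0)) (.node (.leaf 1) (.leaf 0))))) (.node (.node (.node (.node (.leaf 0) (.leaf 0)) (.node (.leaf 0) (.leaf 0))) (.node (.node (.leaf 0) (.leaf 0)) (.node (.leaf 0) (.leaf 0)))) (.node (.node (.node (.leaf 0) (.leaf 0)) (.node (.leaf 0) (.leaf 0))) (.node (.node (.leaf 0) (.leaf 0)) (.node (.leaf 0) (.leaf 0))))))) (.node (.node (.node (.node (.node (.node (.leaf 0) (.leaf 0)) (.node (.leaf 0) (.leaf 0))) (.node (.node (.leaf 0) (.leaf 0)) (.node (.leaf 0) (.leaf 0)))) (.node (.node (.node (.leaf 1) (.leaf 0)) (.node (.leaf 0) (.leaf 0))) (.node (.node (.leaf 0) (.leaf 0)) (.node (.leaf 0) (.leaf 0))))) (.node (.node (.node (.node (.leaf 0) (.leaf 0)) (.node (.leaf 0) (.leaf 0))) (.node (.node (.leaf 0) (.leaf 0)) (.node (.leaf 0) (.leaf 0)))) (.node (.node (.node (.leaf 0)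 (.leaf 0)) (.node (.leaf 0) (.leaf 0))) (.node (.node (.leaf 0) (.leaf 0)) (.node (.leaf 0) (.leaf 0)))))) (.node (.node (.node (.node (.node (.leaf 0) (.leaf 0)) (.node (.leaf 0) (.leaf 0))) (.node (.node (.leaf 0) (.leaf 0)) (.node (.leaf 0) (.leaf 0)))) (.node (.node (.node (.leaf 0) (.leaf 0)) (.node (.leaf 0) (.leaf 1))) (.node (.node (.leaf 0) (.leaf 0)) (.node (.leaf 0) (.leaf 1))))) (.node (.node (.node (.node (.leaf 2) (.leaf 0)) (.node (.leaf 0) (.leaf 0))) (.node (.node (.leaf 0) (.leaf 0)) (.node (.leaf 0) (.leaf 0)))) (.node (.node (.node (.leaf 0) (.leaf 0)) (.node (.leaf 0) (.leaf 5))) (.node (.node (.leaf 0) (.leaf 0)) (.node (.leaf 0) (.leaf 0)))))))) (.node (.node (.node (.node (.node (.node (.node (.leaf 0) (.leaf 0)) (.node (.leaf 0) (.leaf 0))) (.node (.node (.leaf 0) (.leaf 0)) (.node (.leaf 1) (.leaf 0)))) (.node (.node (.node (.leaf 0) (.leaf 0)) (.node (.leaf 5) (.leaf 0))) (.node (.node (.leaf 0) (.leaf 0)) (.node (.leaf 0) (.leaf 0))))) (.node (.node (.node (.node (.leaf 0) (.leaf 0)) (.node (.leaf 0) (.leaf 0))) (.node (.node (.leaf 5) (.leaf 0))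 (.node (.leaf 0) (.leaf 0)))) (.node (.node (.node (.leaf 0) (.leaf 0)) (.node (.leaf 0) (.leaf 0))) (.node (.node (.leaf 0) (.leaf 0)) (.node (.leaf 0) (.leaf 0)))))) (.node (.node (.node (.node (.node (.leaf 5) (.leaf 0)) (.node (.leaf 0) (.leaf 0))) (.node (.node (.leaf 0) (.leaf 0)) (.node (.leaf 0) (.leaf 0)))) (.node (.node (.node (.leaf 0) (.leaf 0)) (.node (.leaf 0) (.leaf 0))) (.node (.node (.leaf 0) (.leaf 0)) (.node (.leaf 0) (.leaf 0))))) (.node (.node (.node (.node (.leaf 0) (.leaf 1)) (.node (.leaf 0) (.leaf 0))) (.node (.node (.leaf 0) (.leaf 0)) (.node (.leaf 0) (.leaf 0)))) (.node (.node (.node (.leaf 0) (.leaf 0)) (.node (.leaf 0) (.leaf 0))) (.node (.node (.leaf 0) (.leaf 0)) (.node (.leaf 0) (.leaf 0))))))) (.node (.node (.node (.node (.node (.node (.leaf 0) (.leaf 5)) (.node (.leaf 0) (.leaf 0))) (.node (.node (.leaf 0) (.leaf 0)) (.node (.leaf 0) (.leaf 0)))) (.node (.node (.node (.leaf 0) (.leaf 0)) (.node (.leaf 0) (.leaf 0))) (.node (.node (.leaf 0) (.leaf 0)) (.node (.leaf 0) (.leaf 0))))) (.node (.node (.node (.node (.leaf 1) (.leaf 0)) (.node (.leaf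 0) (.leaf 0))) (.node (.node (.leaf 0) (.leaf 0)) (.node (.leaf 0) (.leaf 5)))) (.node (.node (.node (.leaf 0) (.leaf 0)) (.node (.leaf 0) (.leaf 0))) (.node (.node (.leaf 0) (.leaf 0)) (.node (.leaf 0) (.leaf 0)))))) (.node (.node (.node (.node (.node (.leaf 0) (.leaf 0)) (.node (.leaf 0) (.leaf 0))) (.node (.node (.leaf 0) (.leaf 0)) (.node (.leaf 0) (.leaf 0)))) (.node (.node (.node (.leaf 0) (.leaf 0)) (.node (.leaf 0) (.leaf 0))) (.node (.node (.leaf 0) (.leaf 0)) (.node (.leaf 0) (.leaf 0))))) (.node (.node (.node (.node (.leaf 0) (.leaf 0)) (.node (.leaf 0) (.leaf 0))) (.node (.node (.leaf 0) (.leaf 0)) (.node (.leaf 0) (.leaf 0)))) (.node (.node (.node (.leaf 0) (.leaf 0)) (.node (.leaf 0) (.leaf 0))) (.node (.node (.leaf 0) (.leaf 0)) (.node (.leaf 0) (.leaf 0))))))))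

def k4Wit_18 : H52.TCert.Tr := .node (.node (.node (.node (.node (.node (.node (.node (.leaf 0) (.leaf 0)) (.node (.leaf 0) (.leaf 1))) (.node (.node (.leaf 0) (.leaf 0)) (.node (.leaf 5) (.leaf 0)))) (.node (.node (.node (.leaf 0) (.leaf 0)) (.node (.leaf 0) (.leaf 0))) (.node (.node (.leaf 0) (.leaf 0)) (.node (.leaf 0) (.leaf 0))))) (.node (.node (.node (.node (.leaf 0) (.leaf 0)) (.node (.leaf 0) (.leaf 0))) (.node (.node (.leaf 0) (.leaf 0)) (.node (.leaf 0) (.leaf 0)))) (.node (.node (.node (.leaf 0) (.leaf 0)) (.node (.leaf 0) (.leaf 0))) (.node (.node (.leaf 0) (.leaf 0)) (.node (.leaf 0) (.leaf 0)))))) (.node (.node (.node (.node (.node (.leaf 0) (.leaf 0)) (.node (.leaf 0) (.leaf 0))) (.node (.node (.leaf 1) (.leaf 0)) (.node (.leaf 0) (.leaf 0)))) (.node (.node (.node (.leaf 0) (.leaf 0)) (.node (.leaf 0) (.leaf 0))) (.node (.node (.leaf 0) (.leaf 0)) (.node (.leaf 0) (.leaf 0))))) (.node (.node (.node (.node (.leaf 0) (.leaf 0)) (.node (.leaf 0) (.leaf 0))) (.node (.node (.leaf 0) (.leaf 0)) (.node (.leaf 0) (.leaf 1)))) (.node (.node (.node (.leaf 0) (.leaf 0))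 (.node (.leaf 0) (.leaf 0))) (.node (.node (.leaf 0) (.leaf 0)) (.node (.leaf 0) (.leaf 0))))))) (.node (.node (.node (.node (.node (.node (.leaf 0) (.leaf 0)) (.node (.leaf 0) (.leaf 0))) (.node (.node (.leaf 0) (.leaf 0)) (.node (.leaf 0) (.leaf 0)))) (.node (.node (.node (.leaf 0) (.leaf 0)) (.node (.leaf 1) (.leaf 0))) (.node (.node (.leaf 0) (.leaf 0)) (.node (.leaf 0) (.leaf 1))))) (.node (.node (.node (.node (.leaf 0) (.leaf 0)) (.node (.leaf 0) (.leaf 0))) (.node (.node (.leaf 0) (.leaf 0)) (.node (.leaf 0) (.leaf 0)))) (.node (.node (.node (.leaf 0) (.leaf 0)) (.node (.leaf 0) (.leaf 1))) (.node (.node (.leaf 0) (.leaf 0)) (.node (.leaf 0) (.leaf 0)))))) (.node (.node (.node (.node (.node (.leaf 0) (.leaf 0)) (.node (.leaf 5) (.leaf 0))) (.node (.node (.leaf 0) (.leaf 0)) (.node (.leaf 0) (.leaf 0)))) (.node (.node (.node (.leaf 0) (.leaf 0)) (.node (.leaf 0) (.leaf 0))) (.node (.node (.leaf 0) (.leaf 0)) (.node (.leaf 0) (.leaf 0))))) (.node (.node (.node (.node (.leaf 0) (.leaf 0)) (.node (.leaf 0) (.leaf 0))) (.node (.node (.leaf 0) (.leaf 0)) (.node (.leaf 0)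 (.leaf 0)))) (.node (.node (.node (.leaf 0) (.leaf 0)) (.node (.leaf 0) (.leaf 0))) (.node (.node (.leaf 0) (.leaf 0)) (.node (.leaf 0) (.leaf 0)))))))) (.node (.node (.node (.node (.node (.node (.node (.leaf 0) (.leaf 0)) (.node (.leaf 0) (.leaf 0))) (.node (.node (.leaf 0) (.leaf 0)) (.node (.leaf 0) (.leaf 0)))) (.node (.node (.node (.leaf 0) (.leaf 0)) (.node (.leaf 0) (.leaf 0))) (.node (.node (.leaf 0) (.leaf 0)) (.node (.leaf 1) (.leaf 1))))) (.node (.node (.node (.node (.leaf 0) (.leaf 0)) (.node (.leaf 0) (.leaf 0))) (.node (.node (.leaf 0) (.leaf 0)) (.node (.leaf 0) (.leaf 0)))) (.node (.node (.node (.leaf 0) (.leaf 1)) (.node (.leaf 0) (.leaf 0))) (.node (.node (.leaf 0) (.leaf 0)) (.node (.leaf 0) (.leaf 0)))))) (.node (.node (.node (.node (.node (.leaf 0) (.leaf 0)) (.node (.leaf 0) (.leaf 0))) (.node (.node (.leaf 0) (.leaf 0)) (.node (.leaf 0) (.leaf 0)))) (.node (.node (.node (.leaf 0) (.leaf 0)) (.node (.leaf 0) (.leaf 0))) (.node (.node (.leaf 0) (.leaf 0)) (.node (.leaf 0) (.leaf 0))))) (.node (.node (.node (.node (.leaf 0) (.leaf 0)) (.node (.leaf 0) (.leaf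 0))) (.node (.node (.leaf 0) (.leaf 0)) (.node (.leaf 1) (.leaf 0)))) (.node (.node (.node (.leaf 0) (.leaf 0)) (.node (.leaf 0) (.leaf 0))) (.node (.node (.leaf 0) (.leaf 0)) (.node (.leaf 0) (.leaf 1))))))) (.node (.node (.node (.node (.node (.node (.leaf 0) (.leaf 0)) (.node (.leaf 0) (.leaf 0))) (.node (.node (.leaf 0) (.leaf 0)) (.node (.leaf 0) (.leaf 1)))) (.node (.node (.node (.leaf 0) (.leaf 0)) (.node (.leaf 0) (.leaf 0))) (.node (.node (.leaf 0) (.leaf 0)) (.node (.leaf 0) (.leaf 0))))) (.node (.node (.node (.node (.leaf 0) (.leaf 0)) (.node (.leaf 0) (.leaf 0))) (.node (.node (.leaf 0) (.leaf 0)) (.node (.leaf 0) (.leaf 0)))) (.node (.node (.node (.leaf 0) (.leaf 0)) (.node (.leaf 0) (.leaf 0))) (.node (.node (.leaf 0) (.leaf 0)) (.node (.leaf 0) (.leaf 0)))))) (.node (.node (.node (.node (.node (.leaf 0) (.leaf 0)) (.node (.leaf 2) (.leaf 0))) (.node (.node (.leaf 0) (.leaf 0)) (.node (.leaf 0) (.leaf 0)))) (.node (.node (.node (.leaf 0) (.leaf 0)) (.node (.leaf 0) (.leaf 0))) (.node (.node (.leaf 0) (.leaf 0)) (.node (.leaf 0) (.leaf 0))))) (.node (.node (.node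 (.node (.leaf 0) (.leaf 0)) (.node (.leaf 0) (.leaf 0))) (.node (.node (.leaf 1) (.leaf 0)) (.node (.leaf 0) (.leaf 0)))) (.node (.node (.node (.leaf 0) (.leaf 0)) (.node (.leaf 0) (.leaf 0))) (.node (.node (.leaf 0) (.leaf 0)) (.node (.leaf 0) (.leaf 0))))))))

def k4Wit_19 : H52.TCert.Tr := .node (.node (.node (.node (.node (.node (.node (.node (.leaf 0) (.leaf 0)) (.node (.leaf 0) (.leaf 0))) (.node (.node (.leaf 0) (.leaf 0)) (.node (.leaf 0) (.leaf 0)))) (.node (.node (.node (.leaf 0) (.leaf 0)) (.node (.leaf 0) (.leaf 0))) (.node (.node (.leaf 0) (.leaf 0)) (.node (.leaf 0) (.leaf 0))))) (.node (.node (.node (.node (.leaf 0) (.leaf 0)) (.node (.leaf 0) (.leaf 0))) (.node (.node (.leaf 0) (.leaf 0)) (.node (.leaf 0) (.leaf 0)))) (.node (.node (.node (.leaf 0) (.leaf 0)) (.node (.leaf 0) (.leaf 0))) (.node (.node (.leaf 0) (.leaf 0)) (.node (.leaf 0) (.leaf 0)))))) (.node (.node (.node (.node (.node (.leaf 0) (.leaf 0)) (.node (.leaf 0) (.leaf 0))) (.node (.node (.leaf 0) (.leaf 0)) (.node (.leaf 0) (.leaf 0)))) (.node (.node (.node (.leaf 0) (.leaf 0)) (.node (.leaf 0)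 (.leaf 0))) (.node (.node (.leaf 0) (.leaf 1)) (.node (.leaf 0) (.leaf 0))))) (.node (.node (.node (.node (.leaf 0) (.leaf 0)) (.node (.leaf 0) (.leaf 0))) (.node (.node (.leaf 0) (.leaf 0)) (.node (.leaf 0) (.leaf 0)))) (.node (.node (.node (.leaf 0) (.leaf 0)) (.node (.leaf 1) (.leaf 0))) (.node (.node (.leaf 0) (.leaf 0)) (.node (.leaf 0) (.leaf 0))))))) (.node (.node (.node (.node (.node (.node (.leaf 0) (.leaf 0)) (.node (.leaf 0) (.leaf 0))) (.node (.node (.leaf 0) (.leaf 0)) (.node (.leaf 0) (.leaf 0)))) (.node (.node (.node (.leaf 0) (.leaf 0)) (.node (.leaf 1) (.leaf 5))) (.node (.node (.leaf 0) (.leaf 0)) (.node (.leaf 0) (.leaf 0))))) (.node (.node (.node (.node (.leaf 0) (.leaf 0)) (.node (.leaf 0) (.leaf 0))) (.node (.node (.leaf 0) (.leaf 0)) (.node (.leaf 0) (.leaf 0)))) (.node (.node (.node (.leaf 0) (.leaf 0)) (.node (.leaf 0) (.leaf 0))) (.node (.node (.leaf 0) (.leaf 0)) (.node (.leaf 0) (.leaf 0)))))) (.node (.node (.node (.node (.node (.leaf 0) (.leaf 0)) (.node (.leaf 0) (.leaf 0))) (.node (.node (.leaf 0) (.leaf 0)) (.node (.leaf 0) (.leaf 1)))) (.node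 (.node (.node (.leaf 0) (.leaf 0)) (.node (.leaf 0) (.leaf 0))) (.node (.node (.leaf 0) (.leaf 0)) (.node (.leaf 0) (.leaf 0))))) (.node (.node (.node (.node (.leaf 0) (.leaf 0)) (.node (.leaf 0) (.leaf 0))) (.node (.node (.leaf 0) (.leaf 0)) (.node (.leaf 0) (.leaf 0)))) (.node (.node (.node (.leaf 0) (.leaf 0)) (.node (.leaf 0) (.leaf 0))) (.node (.node (.leaf 0) (.leaf 0)) (.node (.leaf 0) (.leaf 0)))))))) (.node (.node (.node (.node (.node (.node (.node (.leaf 0) (.leaf 0)) (.node (.leaf 0) (.leaf 0))) (.node (.node (.leaf 0) (.leaf 0)) (.node (.leaf 0) (.leaf 2)))) (.node (.node (.node (.leaf 0) (.leaf 0)) (.node (.leaf 0) (.leaf 0))) (.node (.node (.leaf 0) (.leaf 0)) (.node (.leaf 0) (.leaf 0))))) (.node (.node (.node (.node (.leaf 0) (.leaf 0)) (.node (.leaf 1) (.leaf 0))) (.node (.node (.leaf 0) (.leaf 0)) (.node (.leaf 0) (.leaf 0)))) (.node (.node (.node (.leaf 0) (.leaf 0)) (.node (.leaf 0) (.leaf 0))) (.node (.node (.leaf 0) (.leaf 0)) (.node (.leaf 0) (.leaf 0)))))) (.node (.node (.node (.node (.node (.leaf 0) (.leaf 0)) (.node (.leaf 0) (.leaf 0))) (.node (.node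 (.leaf 0) (.leaf 0)) (.node (.leaf 0) (.leaf 0)))) (.node (.node (.node (.leaf 0) (.leaf 0)) (.node (.leaf 1) (.leaf 0))) (.node (.node (.leaf 0) (.leaf 0)) (.node (.leaf 0) (.leaf 0))))) (.node (.node (.node (.node (.leaf 0) (.leaf 0)) (.node (.leaf 0) (.leaf 1))) (.node (.node (.leaf 0) (.leaf 0)) (.node (.leaf 0) (.leaf 0)))) (.node (.node (.node (.leaf 1) (.leaf 0)) (.node (.leaf 0) (.leaf 0))) (.node (.node (.leaf 0) (.leaf 0)) (.node (.leaf 0) (.leaf 0))))))) (.node (.node (.node (.node (.node (.node (.leaf 0) (.leaf 0)) (.node (.leaf 0) (.leaf 0))) (.node (.node (.leaf 0) (.leaf 0)) (.node (.leaf 0) (.leaf 0)))) (.node (.node (.node (.leaf 0) (.leaf 0)) (.node (.leaf 0) (.leaf 0))) (.node (.node (.leaf 0) (.leaf 0)) (.node (.leaf 0) (.leaf 0))))) (.node (.node (.node (.node (.leaf 0) (.leaf 0)) (.node (.leaf 0) (.leaf 0))) (.node (.node (.leaf 0) (.leaf 0)) (.node (.leaf 0) (.leaf 0)))) (.node (.node (.node (.leaf 1) (.leaf 0)) (.node (.leaf 0) (.leaf 0))) (.node (.node (.leaf 0) (.leaf 0)) (.node (.leaf 0) (.leaf 0)))))) (.node (.node (.node (.node (.node (.leaf 0)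 (.leaf 0)) (.node (.leaf 0) (.leaf 0))) (.node (.node (.leaf 1) (.leaf 0)) (.node (.leaf 0) (.leaf 0)))) (.node (.node (.node (.leaf 0) (.leaf 0)) (.node (.leaf 0) (.leaf 0))) (.node (.node (.leaf 0) (.leaf 0)) (.node (.leaf 0) (.leaf 0))))) (.node (.node (.node (.node (.leaf 0) (.leaf 0)) (.node (.leaf 0) (.leaf 0))) (.node (.node (.leaf 0) (.leaf 0)) (.node (.leaf 0) (.leaf 0)))) (.node (.node (.node (.leaf 0) (.leaf 0)) (.node (.leaf 0) (.leaf 0))) (.node (.node (.leaf 0) (.leaf 0)) (.node (.leaf 0) (.leaf 0))))))))

def k4Wit_20 : H52.TCert.Tr := .node (.node (.node (.node (.node (.node (.node (.node (.leaf 0) (.leaf 0)) (.node (.leaf 0) (.leaf 0))) (.node (.node (.leaf 0) (.leaf 0)) (.node (.leaf 0) (.leaf 0)))) (.node (.node (.node (.leaf 0) (.leaf 0)) (.node (.leaf 0) (.leaf 0))) (.node (.node (.leaf 0) (.leaf 1)) (.node (.leaf 0) (.leaf 0))))) (.node (.node (.node (.node (.leaf 0) (.leaf 0)) (.node (.leaf 0) (.leaf 0))) (.node (.node (.leaf 1) (.leaf 1)) (.node (.leaf 0) (.leaf 0)))) (.node (.node (.node (.leaf 0) (.leaf 0)) (.node (.leaf 0) (.leaf 0))) (.node (.node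 (.leaf 0) (.leaf 0)) (.node (.leaf 0) (.leaf 0)))))) (.node (.node (.node (.node (.node (.leaf 0) (.leaf 0)) (.node (.leaf 0) (.leaf 1))) (.node (.node (.leaf 0) (.leaf 0)) (.node (.leaf 0) (.leaf 0)))) (.node (.node (.node (.leaf 0) (.leaf 0)) (.node (.leaf 0) (.leaf 0))) (.node (.node (.leaf 0) (.leaf 0)) (.node (.leaf 0) (.leaf 0))))) (.node (.node (.node (.node (.leaf 0) (.leaf 0)) (.node (.leaf 0) (.leaf 0))) (.node (.node (.leaf 0) (.leaf 0)) (.node (.leaf 0) (.leaf 0)))) (.node (.node (.node (.leaf 0) (.leaf 0)) (.node (.leaf 0) (.leaf 0))) (.node (.node (.leaf 0) (.leaf 0)) (.node (.leaf 0) (.leaf 0))))))) (.node (.node (.node (.node (.node (.node (.leaf 0) (.leaf 0)) (.node (.leaf 0) (.leaf 0))) (.node (.node (.leaf 0) (.leaf 0)) (.node (.leaf 0) (.leaf 1)))) (.node (.node (.node (.leaf 0) (.leaf 0)) (.node (.leaf 0) (.leaf 0))) (.node (.node (.leaf 0) (.leaf 0)) (.node (.leaf 0) (.leaf 0))))) (.node (.node (.node (.node (.leaf 0) (.leaf 0)) (.node (.leaf 0) (.leaf 0))) (.node (.node (.leaf 0) (.leaf 0)) (.node (.leaf 0) (.leaf 0)))) (.node (.node (.node (.leaf 0)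 (.leaf 0)) (.node (.leaf 0) (.leaf 0))) (.node (.node (.leaf 0) (.leaf 0)) (.node (.leaf 0) (.leaf 0)))))) (.node (.node (.node (.node (.node (.leaf 0) (.leaf 0)) (.node (.leaf 0) (.leaf 0))) (.node (.node (.leaf 0) (.leaf 0)) (.node (.leaf 0) (.leaf 1)))) (.node (.node (.node (.leaf 0) (.leaf 0)) (.node (.leaf 0) (.leaf 0))) (.node (.node (.leaf 0) (.leaf 0)) (.node (.leaf 0) (.leaf 0))))) (.node (.node (.node (.node (.leaf 0) (.leaf 0)) (.node (.leaf 0) (.leaf 0))) (.node (.node (.leaf 0) (.leaf 0)) (.node (.leaf 0) (.leaf 0)))) (.node (.node (.node (.leaf 0) (.leaf 0)) (.node (.leaf 0) (.leaf 0))) (.node (.node (.leaf 0) (.leaf 1)) (.node (.leaf 0) (.leaf 1)))))))) (.node (.node (.node (.node (.node (.node (.node (.leaf 0) (.leaf 0)) (.node (.leaf 0) (.leaf 0))) (.node (.node (.leaf 0) (.leaf 0)) (.node (.leaf 0) (.leaf 0)))) (.node (.node (.node (.leaf 0) (.leaf 0)) (.node (.leaf 0) (.leaf 0))) (.node (.node (.leaf 0) (.leaf 0)) (.node (.leaf 0) (.leaf 0))))) (.node (.node (.node (.node (.leaf 0) (.leaf 0)) (.node (.leaf 0) (.leaf 0))) (.node (.node (.leaf 0) (.leaf 5))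 (.node (.leaf 0) (.leaf 0)))) (.node (.node (.node (.leaf 0) (.leaf 0)) (.node (.leaf 0) (.leaf 0))) (.node (.node (.leaf 0) (.leaf 0)) (.node (.leaf 0) (.leaf 0)))))) (.node (.node (.node (.node (.node (.leaf 0) (.leaf 0)) (.node (.leaf 0) (.leaf 0))) (.node (.node (.leaf 0) (.leaf 0)) (.node (.leaf 0) (.leaf 0)))) (.node (.node (.node (.leaf 0) (.leaf 0)) (.node (.leaf 0) (.leaf 0))) (.node (.node (.leaf 1) (.leaf 0)) (.node (.leaf 0) (.leaf 0))))) (.node (.node (.node (.node (.leaf 0) (.leaf 0)) (.node (.leaf 0) (.leaf 0))) (.node (.node (.leaf 0) (.leaf 0)) (.node (.leaf 0) (.leaf 0)))) (.node (.node (.node (.leaf 0) (.leaf 0)) (.node (.leaf 0) (.leaf 0))) (.node (.node (.leaf 0) (.leaf 0)) (.node (.leaf 0) (.leaf 0))))))) (.node (.node (.node (.node (.node (.node (.leaf 0) (.leaf 0)) (.node (.leaf 0) (.leaf 0))) (.node (.node (.leaf 0) (.leaf 0)) (.node (.leaf 0) (.leaf 0)))) (.node (.node (.node (.leaf 0) (.leaf 0)) (.node (.leaf 0) (.leaf 0))) (.node (.node (.leaf 0) (.leaf 0)) (.node (.leaf 0) (.leaf 0))))) (.node (.node (.node (.node (.leaf 0) (.leaf 0)) (.node (.leaf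 0) (.leaf 0))) (.node (.node (.leaf 0) (.leaf 0)) (.node (.leaf 0) (.leaf 0)))) (.node (.node (.node (.leaf 0) (.leaf 0)) (.node (.leaf 0) (.leaf 0))) (.node (.node (.leaf 0) (.leaf 0)) (.node (.leaf 0) (.leaf 0)))))) (.node (.node (.node (.node (.node (.leaf 0) (.leaf 0)) (.node (.leaf 0) (.leaf 0))) (.node (.node (.leaf 0) (.leaf 0)) (.node (.leaf 0) (.leaf 0)))) (.node (.node (.node (.leaf 0) (.leaf 0)) (.node (.leaf 0) (.leaf 0))) (.node (.node (.leaf 0) (.leaf 0)) (.node (.leaf 0) (.leaf 0))))) (.node (.node (.node (.node (.leaf 0) (.leaf 0)) (.node (.leaf 0) (.leaf 1))) (.node (.node (.leaf 1) (.leaf 0)) (.node (.leaf 0) (.leaf 0)))) (.node (.node (.node (.leaf 0) (.leaf 0)) (.node (.leaf 0) (.leaf 0))) (.node (.node (.leaf 0) (.leaf 0)) (.node (.leaf 0) (.leaf 0))))))))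

def k4Wit_21 : H52.TCert.Tr := .node (.node (.node (.node (.node (.node (.node (.node (.leaf 0) (.leaf 0)) (.node (.leaf 0) (.leaf 0))) (.node (.node (.leaf 0) (.leaf 0)) (.node (.leaf 0) (.leaf 5)))) (.node (.node (.node (.leaf 0) (.leaf 0)) (.node (.leaf 0) (.leaf 0))) (.node (.node (.leaf 0) (.leaf 0)) (.node (.leaf 0) (.leaf 0))))) (.node (.node (.node (.node (.leaf 0) (.leaf 0)) (.node (.leaf 0) (.leaf 0))) (.node (.node (.leaf 0) (.leaf 0)) (.node (.leaf 0) (.leaf 0)))) (.node (.node (.node (.leaf 0) (.leaf 0)) (.node (.leaf 0) (.leaf 0))) (.node (.node (.leaf 1) (.leaf 0)) (.node (.leaf 0) (.leaf 0)))))) (.node (.node (.node (.node (.node (.leaf 0) (.leaf 0)) (.node (.leaf 0) (.leaf 0))) (.node (.node (.leaf 0) (.leaf 0)) (.node (.leaf 0) (.leaf 0)))) (.node (.node (.node (.leaf 0) (.leaf 0)) (.node (.leaf 0) (.leaf 0))) (.node (.node (.leaf 0) (.leaf 0)) (.node (.leaf 1) (.leaf 0))))) (.node (.node (.node (.node (.leaf 0) (.leaf 0)) (.node (.leaf 0) (.leaf 0))) (.node (.node (.leaf 0) (.leaf 0)) (.node (.leaf 0) (.leaf 0)))) (.node (.node (.node (.leaf 0) (.leaf 0))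 (.node (.leaf 0) (.leaf 0))) (.node (.node (.leaf 0) (.leaf 0)) (.node (.leaf 0) (.leaf 0))))))) (.node (.node (.node (.node (.node (.node (.leaf 0) (.leaf 0)) (.node (.leaf 0) (.leaf 0))) (.node (.node (.leaf 0) (.leaf 0)) (.node (.leaf 0) (.leaf 0)))) (.node (.node (.node (.leaf 0) (.leaf 0)) (.node (.leaf 0) (.leaf 0))) (.node (.node (.leaf 0) (.leaf 0)) (.node (.leaf 0) (.leaf 0))))) (.node (.node (.node (.node (.leaf 0) (.leaf 0)) (.node (.leaf 0) (.leaf 0))) (.node (.node (.leaf 0) (.leaf 0)) (.node (.leaf 0) (.leaf 0)))) (.node (.node (.node (.leaf 0) (.leaf 0)) (.node (.leaf 0) (.leaf 0))) (.node (.node (.leaf 0) (.leaf 0)) (.node (.leaf 0) (.leaf 0)))))) (.node (.node (.node (.node (.node (.leaf 0) (.leaf 0)) (.node (.leaf 0) (.leaf 0))) (.node (.node (.leaf 0) (.leaf 0)) (.node (.leaf 0) (.leaf 0)))) (.node (.node (.node (.leaf 0) (.leaf 0)) (.node (.leaf 0) (.leaf 1))) (.node (.node (.leaf 0) (.leaf 0)) (.node (.leaf 1) (.leaf 0))))) (.node (.node (.node (.node (.leaf 0) (.leaf 0)) (.node (.leaf 0) (.leaf 0))) (.node (.node (.leaf 0) (.leaf 0)) (.node (.leaf 0)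 (.leaf 0)))) (.node (.node (.node (.leaf 0) (.leaf 0)) (.node (.leaf 0) (.leaf 0))) (.node (.node (.leaf 0) (.leaf 0)) (.node (.leaf 0) (.leaf 0)))))))) (.node (.node (.node (.node (.node (.node (.node (.leaf 0) (.leaf 0)) (.node (.leaf 0) (.leaf 0))) (.node (.node (.leaf 0) (.leaf 0)) (.node (.leaf 0) (.leaf 0)))) (.node (.node (.node (.leaf 0) (.leaf 0)) (.node (.leaf 0) (.leaf 0))) (.node (.node (.leaf 0) (.leaf 0)) (.node (.leaf 0) (.leaf 0))))) (.node (.node (.node (.node (.leaf 0) (.leaf 0)) (.node (.leaf 0) (.leaf 0))) (.node (.node (.leaf 0) (.leaf 0)) (.node (.leaf 0) (.leaf 0)))) (.node (.node (.node (.leaf 0) (.leaf 0)) (.node (.leaf 0) (.leaf 0))) (.node (.node (.leaf 0) (.leaf 1)) (.node (.leaf 0) (.leaf 0)))))) (.node (.node (.node (.node (.node (.leaf 0) (.leaf 0)) (.node (.leaf 0) (.leaf 0))) (.node (.node (.leaf 0) (.leaf 0)) (.node (.leaf 0) (.leaf 0)))) (.node (.node (.node (.leaf 0) (.leaf 0)) (.node (.leaf 0) (.leaf 0))) (.node (.node (.leaf 0) (.leaf 0)) (.node (.leaf 0) (.leaf 0))))) (.node (.node (.node (.node (.leaf 0) (.leaf 0)) (.node (.leaf 0) (.leaf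 0))) (.node (.node (.leaf 0) (.leaf 0)) (.node (.leaf 0) (.leaf 1)))) (.node (.node (.node (.leaf 0) (.leaf 0)) (.node (.leaf 0) (.leaf 0))) (.node (.node (.leaf 0) (.leaf 0)) (.node (.leaf 0) (.leaf 0))))))) (.node (.node (.node (.node (.node (.node (.leaf 0) (.leaf 0)) (.node (.leaf 0) (.leaf 0))) (.node (.node (.leaf 0) (.leaf 0)) (.node (.leaf 0) (.leaf 0)))) (.node (.node (.node (.leaf 0) (.leaf 1)) (.node (.leaf 0) (.leaf 0))) (.node (.node (.leaf 0) (.leaf 0)) (.node (.leaf 0) (.leaf 0))))) (.node (.node (.node (.node (.leaf 0) (.leaf 0)) (.node (.leaf 0) (.leaf 0))) (.node (.node (.leaf 0) (.leaf 0)) (.node (.leaf 0) (.leaf 0)))) (.node (.node (.node (.leaf 0) (.leaf 0)) (.node (.leaf 0) (.leaf 0))) (.node (.node (.leaf 0) (.leaf 0)) (.node (.leaf 0) (.leaf 1)))))) (.node (.node (.node (.node (.node (.leaf 0) (.leaf 0)) (.node (.leaf 0) (.leaf 0))) (.node (.node (.leaf 0) (.leaf 0)) (.node (.leaf 0) (.leaf 0)))) (.node (.node (.node (.leaf 0) (.leaf 0)) (.node (.leaf 0) (.leaf 0))) (.node (.node (.leaf 0) (.leaf 0)) (.node (.leaf 1) (.leaf 1))))) (.node (.node (.node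 (.node (.leaf 0) (.leaf 0)) (.node (.leaf 0) (.leaf 0))) (.node (.node (.leaf 0) (.leaf 0)) (.node (.leaf 0) (.leaf 0)))) (.node (.node (.node (.leaf 0) (.leaf 0)) (.node (.leaf 0) (.leaf 0))) (.node (.node (.leaf 0) (.leaf 0)) (.node (.leaf 0) (.leaf 0))))))))

def k4Wit_22 : H52.TCert.Tr := .node (.node (.node (.node (.node (.node (.node (.node (.leaf 1) (.leaf 0)) (.node (.leaf 0) (.leaf 0))) (.node (.node (.leaf 0) (.leaf 0)) (.node (.leaf 0) (.leaf 0)))) (.node (.node (.node (.leaf 0) (.leaf 0)) (.node (.leaf 0) (.leaf 0))) (.node (.node (.leaf 5) (.leaf 0)) (.node (.leaf 0) (.leaf 0))))) (.node (.node (.node (.node (.leaf 0) (.leaf 0)) (.node (.leaf 0) (.leaf 0))) (.node (.node (.leaf 0) (.leaf 0)) (.node (.leaf 0) (.leaf 0)))) (.node (.node (.node (.leaf 0) (.leaf 0)) (.node (.leaf 5) (.leaf 0))) (.node (.node (.leaf 0) (.leaf 0)) (.node (.leaf 0) (.leaf 0)))))) (.node (.node (.node (.node (.node (.leaf 0) (.leaf 0)) (.node (.leaf 0) (.leaf 0))) (.node (.node (.leaf 0) (.leaf 0)) (.node (.leaf 0) (.leaf 0)))) (.node (.node (.node (.leaf 1) (.leaf 0)) (.node (.leaf 0)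 (.leaf 0))) (.node (.node (.leaf 0) (.leaf 0)) (.node (.leaf 0) (.leaf 0))))) (.node (.node (.node (.node (.leaf 1) (.leaf 0)) (.node (.leaf 0) (.leaf 1))) (.node (.node (.leaf 0) (.leaf 0)) (.node (.leaf 0) (.leaf 0)))) (.node (.node (.node (.leaf 0) (.leaf 0)) (.node (.leaf 5) (.leaf 0))) (.node (.node (.leaf 0) (.leaf 1)) (.node (.leaf 0) (.leaf 0))))))) (.node (.node (.node (.node (.node (.node (.leaf 0) (.leaf 0)) (.node (.leaf 0) (.leaf 0))) (.node (.node (.leaf 0) (.leaf 0)) (.node (.leaf 0) (.leaf 0)))) (.node (.node (.node (.leaf 1) (.leaf 0)) (.node (.leaf 0) (.leaf 0))) (.node (.node (.leaf 0) (.leaf 0)) (.node (.leaf 0) (.leaf 0))))) (.node (.node (.node (.node (.leaf 0) (.leaf 0)) (.node (.leaf 0) (.leaf 0))) (.node (.node (.leaf 0) (.leaf 0)) (.node (.leaf 0) (.leaf 2)))) (.node (.node (.node (.leaf 0) (.leaf 0)) (.node (.leaf 0) (.leaf 0))) (.node (.node (.leaf 0) (.leaf 0)) (.node (.leaf 0) (.leaf 0)))))) (.node (.node (.node (.node (.node (.leaf 0) (.leaf 0)) (.node (.leaf 0) (.leaf 0))) (.node (.node (.leaf 0) (.leaf 0)) (.node (.leaf 1) (.leaf 0)))) (.node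 (.node (.node (.leaf 0) (.leaf 0)) (.node (.leaf 0) (.leaf 0))) (.node (.node (.leaf 0) (.leaf 0)) (.node (.leaf 0) (.leaf 0))))) (.node (.node (.node (.node (.leaf 1) (.leaf 0)) (.node (.leaf 0) (.leaf 0))) (.node (.node (.leaf 0) (.leaf 0)) (.node (.leaf 0) (.leaf 0)))) (.node (.node (.node (.leaf 0) (.leaf 0)) (.node (.leaf 0) (.leaf 0))) (.node (.node (.leaf 0) (.leaf 0)) (.node (.leaf 0) (.leaf 0)))))))) (.node (.node (.node (.node (.node (.node (.node (.leaf 0) (.leaf 0)) (.node (.leaf 1) (.leaf 0))) (.node (.node (.leaf 0) (.leaf 0)) (.node (.leaf 0) (.leaf 0)))) (.node (.node (.node (.leaf 0) (.leaf 0)) (.node (.leaf 0) (.leaf 0))) (.node (.node (.leaf 0) (.leaf 0)) (.node (.leaf 0) (.leaf 0))))) (.node (.node (.node (.node (.leaf 0) (.leaf 0)) (.node (.leaf 0) (.leaf 0))) (.node (.node (.leaf 0) (.leaf 0)) (.node (.leaf 0) (.leaf 0)))) (.node (.node (.node (.leaf 0) (.leaf 1)) (.node (.leaf 0) (.leaf 0))) (.node (.node (.leaf 0) (.leaf 0)) (.node (.leaf 2) (.leaf 0)))))) (.node (.node (.node (.node (.node (.leaf 1) (.leaf 0)) (.node (.leaf 0) (.leaf 0))) (.node (.node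 (.leaf 0) (.leaf 0)) (.node (.leaf 2) (.leaf 1)))) (.node (.node (.node (.leaf 0) (.leaf 0)) (.node (.leaf 0) (.leaf 0))) (.node (.node (.leaf 0) (.leaf 0)) (.node (.leaf 0) (.leaf 0))))) (.node (.node (.node (.node (.leaf 0) (.leaf 5)) (.node (.leaf 0) (.leaf 0))) (.node (.node (.leaf 0) (.leaf 0)) (.node (.leaf 1) (.leaf 0)))) (.node (.node (.node (.leaf 0) (.leaf 0)) (.node (.leaf 1) (.leaf 0))) (.node (.node (.leaf 0) (.leaf 0)) (.node (.leaf 0) (.leaf 0))))))) (.node (.node (.node (.node (.node (.node (.leaf 0) (.leaf 0)) (.node (.leaf 0) (.leaf 0))) (.node (.node (.leaf 0) (.leaf 1)) (.node (.leaf 0) (.leaf 0)))) (.node (.node (.node (.leaf 0) (.leaf 0)) (.node (.leaf 0) (.leaf 0))) (.node (.node (.leaf 0) (.leaf 0)) (.node (.leaf 0) (.leaf 0))))) (.node (.node (.node (.node (.leaf 0) (.leaf 0)) (.node (.leaf 0) (.leaf 0))) (.node (.node (.leaf 0) (.leaf 0)) (.node (.leaf 1) (.leaf 0)))) (.node (.node (.node (.leaf 0) (.leaf 0)) (.node (.leaf 0) (.leaf 1))) (.node (.node (.leaf 0) (.leaf 0)) (.node (.leaf 0) (.leaf 0)))))) (.node (.node (.node (.node (.node (.leaf 0)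 (.leaf 0)) (.node (.leaf 0) (.leaf 0))) (.node (.node (.leaf 0) (.leaf 0)) (.node (.leaf 0) (.leaf 0)))) (.node (.node (.node (.leaf 0) (.leaf 0)) (.node (.leaf 0) (.leaf 0))) (.node (.node (.leaf 0) (.leaf 0)) (.node (.leaf 0) (.leaf 0))))) (.node (.node (.node (.node (.leaf 0) (.leaf 0)) (.node (.leaf 2) (.leaf 0))) (.node (.node (.leaf 1) (.leaf 0)) (.node (.leaf 0) (.leaf 1)))) (.node (.node (.node (.leaf 0) (.leaf 0)) (.node (.leaf 0) (.leaf 0))) (.node (.node (.leaf 0) (.leaf 0)) (.node (.leaf 0) (.leaf 1))))))))

def k4Wit_23 : H52.TCert.Tr := .node (.node (.node (.node (.node (.node (.node (.node (.leaf 0) (.leaf 0)) (.node (.leaf 0) (.leaf 0))) (.node (.node (.leaf 0) (.leaf 0)) (.node (.leaf 0) (.leaf 0)))) (.node (.node (.node (.leaf 0) (.leaf 0)) (.node (.leaf 0) (.leaf 1))) (.node (.node (.leaf 0) (.leaf 0)) (.node (.leaf 0) (.leaf 0))))) (.node (.node (.node (.node (.leaf 0) (.leaf 0)) (.node (.leaf 0) (.leaf 0))) (.node (.node (.leaf 0) (.leaf 0)) (.node (.leaf 0) (.leaf 0)))) (.node (.node (.node (.leaf 0) (.leaf 0)) (.node (.leaf 0) (.leaf 0))) (.node (.node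 (.leaf 0) (.leaf 0)) (.node (.leaf 0) (.leaf 0)))))) (.node (.node (.node (.node (.node (.leaf 0) (.leaf 0)) (.node (.leaf 0) (.leaf 0))) (.node (.node (.leaf 0) (.leaf 0)) (.node (.leaf 0) (.leaf 0)))) (.node (.node (.node (.leaf 0) (.leaf 0)) (.node (.leaf 1) (.leaf 0))) (.node (.node (.leaf 0) (.leaf 0)) (.node (.leaf 0) (.leaf 0))))) (.node (.node (.node (.node (.leaf 0) (.leaf 0)) (.node (.leaf 0) (.leaf 0))) (.node (.node (.leaf 1) (.leaf 0)) (.node (.leaf 0) (.leaf 0)))) (.node (.node (.node (.leaf 0) (.leaf 0)) (.node (.leaf 0) (.leaf 0))) (.node (.node (.leaf 0) (.leaf 0)) (.node (.leaf 0) (.leaf 5))))))) (.node (.node (.node (.node (.node (.node (.leaf 0) (.leaf 0)) (.node (.leaf 0) (.leaf 0))) (.node (.node (.leaf 0) (.leaf 0)) (.node (.leaf 0) (.leaf 0)))) (.node (.node (.node (.leaf 0) (.leaf 1)) (.node (.leaf 0) (.leaf 0))) (.node (.node (.leaf 0) (.leaf 0)) (.node (.leaf 0) (.leaf 0))))) (.node (.node (.node (.node (.leaf 0) (.leaf 0)) (.node (.leaf 0) (.leaf 0))) (.node (.node (.leaf 0) (.leaf 5)) (.node (.leaf 0) (.leaf 0)))) (.node (.node (.node (.leaf 0)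 (.leaf 0)) (.node (.leaf 0) (.leaf 0))) (.node (.node (.leaf 0) (.leaf 0)) (.node (.leaf 0) (.leaf 0)))))) (.node (.node (.node (.node (.node (.leaf 0) (.leaf 0)) (.node (.leaf 0) (.leaf 0))) (.node (.node (.leaf 1) (.leaf 0)) (.node (.leaf 0) (.leaf 0)))) (.node (.node (.node (.leaf 0) (.leaf 0)) (.node (.leaf 0) (.leaf 0))) (.node (.node (.leaf 0) (.leaf 0)) (.node (.leaf 0) (.leaf 0))))) (.node (.node (.node (.node (.leaf 0) (.leaf 0)) (.node (.leaf 0) (.leaf 0))) (.node (.node (.leaf 0) (.leaf 0)) (.node (.leaf 0) (.leaf 0)))) (.node (.node (.node (.leaf 0) (.leaf 0)) (.node (.leaf 0) (.leaf 0))) (.node (.node (.leaf 1) (.leaf 0)) (.node (.leaf 0) (.leaf 0)))))))) (.node (.node (.node (.node (.node (.node (.node (.leaf 0) (.leaf 0)) (.node (.leaf 0) (.leaf 0))) (.node (.node (.leaf 0) (.leaf 0)) (.node (.leaf 0) (.leaf 0)))) (.node (.node (.node (.leaf 1) (.leaf 0)) (.node (.leaf 0) (.leaf 0))) (.node (.node (.leaf 0) (.leaf 0)) (.node (.leaf 0) (.leaf 0))))) (.node (.node (.node (.node (.leaf 0) (.leaf 0)) (.node (.leaf 1) (.leaf 0))) (.node (.node (.leaf 0) (.leaf 0))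 (.node (.leaf 1) (.leaf 0)))) (.node (.node (.node (.leaf 0) (.leaf 0)) (.node (.leaf 0) (.leaf 0))) (.node (.node (.leaf 0) (.leaf 0)) (.node (.leaf 0) (.leaf 0)))))) (.leaf 0)) (.leaf 0))

def k4Wit : H52.TCert.Tr := .node (.node (.node (.node (.node (k4Wit_0) (k4Wit_1)) (.node (k4Wit_2) (k4Wit_3))) (.node (.node (k4Wit_4) (k4Wit_5)) (.node (k4Wit_6) (k4Wit_7)))) (.node (.node (.node (k4Wit_8) (k4Wit_9)) (.node (k4Wit_10) (k4Wit_11))) (.node (.node (k4Wit_12) (k4Wit_13)) (.node (k4Wit_14) (k4Wit_15))))) (.node (.node (.node (.node (k4Wit_16) (k4Wit_17)) (.node (k4Wit_18) (k4Wit_19))) (.node (.node (k4Wit_20) (k4Wit_21)) (.node (k4Wit_22) (k4Wit_23)))) (.node (.node (.node (.leaf 0) (.leaf 0)) (.node (.leaf 0) (.leaf 0))) (.node (.node (.leaf 0) (.leaf 0)) (.node (.leaf 0) (.leaf 0)))))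

/-- involution positions -/
def k4Inv : List ℕ := [30, 90, 108, 117, 966, 995, 1014, 1050, 1094, 1164, 1243, 1355, 1377, 1545, 1737, 1762, 1801, 1873, 2034, 2329, 3244, 3287, 3297, 3338, 3389, 3522, 3587, 3640, 3669, 3694, 3743, 3771, 3785, 3808, 3934, 3951, 3995, 4045, 4124, 4136, 4218, 4256, 4292, 4296, 4373, 4393, 4475, 4490, 4500, 4512, 4545, 4567, 4614, 4706, 4939, 5269, 5383, 5644, 5658, 5690, 5809, 5951, 5973]

/-- elements of a cell stabiliser -/
def k4E : Enum where
  num := 6048
  move := [[0, 0, 0, 1, 4, 0, 1, 4, 0, 2, 2, 0, 3, 3, 6, 4, 4, 7], [2, 2, 0, 3, 3, 2, 0, 3, 0, 4, 5, 1, 5, 0, 4, 1, 4, 0, 2, 0, 3, 8, 0, 8, 3, 0, 2]]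
  pre := []
  seed := []
  par := k4Par
  code := k4Code
  srt := k4Srt
  depth := 13
  fuel := 6048

end H65.LyPerm.Data
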