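import Cfsg.Agent.H65.LyPerm.Lists
import Cfsg.Agent.H65.LyPerm.ConjData
import Cfsg.Agent.H65.LyPerm.Stab2Data
import Cfsg.Agent.H65.LyPerm.Stab3Data
import Cfsg.Agent.H65.LyPerm.Stab4Data

/-!
The centraliser of `t = a ^ 4` has order at most `2772 · 14400`, from the certified lists and the
decomposition of the 8835156 cosets into five cells.
-/

set_option autoImplicit false
set_option maxRecDepth 100000

namespace H65.LyPerm

open Data
open H77.HN (evw Rep)

/-- the inverse letter -/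
def ivl (l : ℕ) : ℕ := if l % 2 = 0 then l + 1 else l - 1

/-- what the kernel checks provide for a table -/
structure TableFacts (T : ℕ → ℕ → ℕ) (F : List ℕ) : Prop where
  k2 : SubCert k2E T [0, 66, 193, 194, 195] k2Next k2Wit k2Inv
  k3 : SubCert k3E T [0, 66, 193, 194, 195] k3Next k3Wit k3Inv
  k4 : SubCert k4E T [0, 66, 193, 194, 195] k4Next k4Wit k4Inv
  fix : ∀ p < 19530, ∃ lo m, lo ≤ p ∧ p < lo + m ∧ fixOK T [0, 0, 0, 0] F lo m = true
  fix_len : F.length ≤ 66
  cj_codes : ∀ k < 1375, ∃ lo m, lo ≤ k ∧ k < lo + m ∧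
    conjE.codesOK T [0, 66, 193, 194, 195] lo m = true
  cj_fix : ∀ k < 1375, ∃ lo m, lo ≤ k ∧ k < lo + m ∧ fixWords conjE T 0 lo m = true
  cj_srt : conjE.srtOK = true

theorem conjE_shape : conjShape conjE ivl = true := by decide +kernel

theorem conjE_num : conjE.num = 1375 := rfl

theorem conjE_seed : conjE.seed = [0, 0, 0, 0] := rfl

theorem k_nums : k2E.num = 2880 ∧ k3E.num = 1008 ∧ k4E.num = 6048 := ⟨rfl, rfl, rfl⟩

theorem inv_lens : k2Inv.length = 211 ∧ k3Inv.length = 105 ∧ k4Inv.length = 63 := by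
  decide +kernel

theorem conjE_pre_lt : (conjE.pre.all fun w => w.all fun l => decide (l < 22)) = true := by
  decide +kernel

variable {N : Type*} [Group N] [Finite N] {gen : ℕ → N} {T : ℕ → ℕ → ℕ} {F : List ℕ}

/-- the centraliser in the subgroup -/
theorem cent_N_le (hT : TableFacts T F) (R : Rep gen 19530 T)
    (hB : R.IsBase [0, 66, 193, 194, 195]) (hinv : ∀ l < 22, gen (ivl l) = (gen l)⁻¹)
    (hfix0 : Nat.card (R.fixPt ⟨0, by omega⟩) = 300000) :
    Nat.card (Subgroup.centralizer ({evw gen [0, 0, 0, 0]} : Set N)) ≤ 14400 := by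
  have hiv : ∀ w ∈ conjE.pre, ∀ l ∈ w, gen (ivl l) = (gen l)⁻¹ := by
    intro w hw l hl
    have h := conjE_pre_lt
    simp only [List.all_eq_true, decide_eq_true_eq] at h
    exact hinv l (h w hw l hl)
  have h1 := cent_le_of_list R hB ⟨0, by omega⟩ hiv conjE_shape hT.cj_codes hT.cj_fix hT.cj_srt
  rw [conjE_num, conjE_seed, hfix0] at h1
  have h2 := fixCos_fixPt_le R ⟨0, by omega⟩ hT.fix
  have h3 := hT.fix_len
  have h4 : Nat.card (fixCos (R.fixPt ⟨0, by omega⟩) (evw gen [0, 0, 0, 0])) * 300000 ≤ 66 * 300000 :=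
    Nat.mul_le_mul_right _ (h2.trans h3)
  omega

/-- the five cells -/
def cell (R : Rep gen 19530 T) : Fin 5 → Subgroup N
  | 0 => ⊤
  | 1 => R.fixPt ⟨0, by omega⟩
  | 2 => moveGrp gen k2E
  | 3 => moveGrp gen k3E
  | 4 => moveGrp gen k4E

theorem index_of_card {K : Subgroup N} {c i : ℕ} (hN : Nat.card N = 5859000000)
    (hK : Nat.card K = c) (hc : c * i = 5859000000) (hpos : 0 < c) : K.index = i := by
  have h := K.card_mul_index
  rw [hK, hN, ← hc] at h
  exact Nat.eq_of_mul_eq_mul_left hpos h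

theorem cell_index_sum (hT : TableFacts T F) (R : Rep gen 19530 T)
    (hB : R.IsBase [0, 66, 193, 194, 195]) (hN : Nat.card N = 5859000000)
    (hfix0 : Nat.card (R.fixPt ⟨0, by omega⟩) = 300000) :
    ∑ i, (cell R i).index = 8835156 := by
  rw [Fin.sum_univ_five]
  simp only [cell, Subgroup.index_top]
  rw [index_of_card hN hfix0 (i := 19530) (by norm_num) (by norm_num),
    index_of_card hN ((hT.k2.card_eq R hB (by norm_num)).trans k_nums.1) (i := 2034375)
      (by norm_num) (by norm_num),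
    index_of_card hN ((hT.k3.card_eq R hB (by norm_num)).trans k_nums.2.1) (i := 5812500)
      (by norm_num) (by norm_num),
    index_of_card hN ((hT.k4.card_eq R hB (by norm_num)).trans k_nums.2.2) (i := 968750)
      (by norm_num) (by norm_num)]

/-- the centraliser in the whole group -/
theorem cent_G_le {G : Type*} [Group G] [Finite G] (hT : TableFacts T F) (R : Rep gen 19530 T)
    (hB : R.IsBase [0, 66, 193, 194, 195]) (hinv : ∀ l < 22, gen (ivl l) = (gen l)⁻¹)
    (hN : Nat.card N = 5859000000) (hfix0 : Nat.card (R.fixPt ⟨0, by omega⟩) = 300000)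
    (ι : N →* G) (hι : Function.Injective ι) (hidx : ι.range.index = 8835156)
    (q : Fin 5 → G ⧸ ι.range) (hfix : ∀ i, ∀ k ∈ cell R i, ι k • q i = q i)
    (hcov : ∀ y : G ⧸ ι.range, ∃ i n, ι n • q i = y)
    (ht2 : evw gen [0, 0, 0, 0] * evw gen [0, 0, 0, 0] = 1) (ht1 : evw gen [0, 0, 0, 0] ≠ 1) :
    Nat.card (Subgroup.centralizer ({ι (evw gen [0, 0, 0, 0])} : Set G)) ≤ 39916800 := by
  have hC := cent_N_le hT R hB hinv hfix0
  have hsum := fix_le_sum ι 5 (cell R) q hfix hcov
    (by rw [cell_index_sum hT R hB hN hfix0, hidx]) (evw gen [0, 0, 0, 0])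
  rw [Fin.sum_univ_five] at hsum
  have f0 : Nat.card (fixCos (cell R 0) (evw gen [0, 0, 0, 0])) ≤ 1 := by
    refine le_trans (Nat.card_le_card_of_injective (fun x => x.1) Subtype.val_injective) ?_
    rw [← Subgroup.index_eq_card]
    simp [cell]
  have f1 : Nat.card (fixCos (cell R 1) (evw gen [0, 0, 0, 0])) ≤ 66 :=
    (fixCos_fixPt_le R _ hT.fix).trans hT.fix_len
  have f2 : Nat.card (fixCos (cell R 2) (evw gen [0, 0, 0, 0])) ≤ 1055 := by
    have h := hT.k2.fix_le R hB (by norm_num) ht2 ht1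
    rw [k_nums.1, inv_lens.1] at h
    have := Nat.mul_le_mul_left 211 hC
    simp only [cell]
    omega
  have f3 : Nat.card (fixCos (cell R 3) (evw gen [0, 0, 0, 0])) ≤ 1500 := by
    have h := hT.k3.fix_le R hB (by norm_num) ht2 ht1
    rw [k_nums.2.1, inv_lens.2.1] at h
    have := Nat.mul_le_mul_left 105 hC
    simp only [cell]
    omega
  have f4 : Nat.card (fixCos (cell R 4) (evw gen [0, 0, 0, 0])) ≤ 150 := by
    have h := hT.k4.fix_le R hB (by norm_num) ht2 ht1
    rw [k_nums.2.2, inv_lens.2.2] at h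
    have := Nat.mul_le_mul_left 63 hC
    simp only [cell]
    omega
  refine (cent_le_fix_mul ι hι _).trans ?_
  refine (Nat.mul_le_mul (show _ ≤ 2772 by omega) hC).trans ?_
  norm_num

end H65.LyPerm
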