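import Cfsg.Agent.H68.Ly.Fast

/-!
A long word of packed matrices is checked in two halves through a stated middle product.
-/

set_option autoImplicit false

namespace H65.LyPerm

open H68.Ly (fz fz_eq runR sumK sumK_eq isOneR cmask idN redWith)

theorem runR_exists (cm m : ℕ) : ∀ (w : List (List ℕ)) (X : ℕ),
    ∃ Z, ∀ k, runR cm m w X k = k Z := by
  intro w
  induction w with
  | nil => intro X; exact ⟨X, fun k => rfl⟩
  | cons R w ih =>
    intro X
    obtain ⟨Z, hZ⟩ := ih (redWith m (0 + ∑ j ∈ Finset.range R.length,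
      ((X >>> (0 + 32 * j)) &&& cm) * R.getD j 0))
    refine ⟨Z, fun k => ?_⟩
    show sumK cm X R 0 0 (fun z => fz (redWith m z) fun z' => runR cm m w z' k) = _
    rw [sumK_eq, fz_eq]
    exact hZ k

theorem runR_append (cm m : ℕ) : ∀ (u v : List (List ℕ)) (X : ℕ) (k : ℕ → Bool),
    runR cm m (u ++ v) X k = runR cm m u X fun Y => runR cm m v Y k := by
  intro u
  induction u with
  | nil => intro v X k; rfl
  | cons R u ih =>
    intro v X k
    show sumK cm X R 0 0 (fun z => fz (redWith m z) fun z' => runR cm m (u ++ v) z' k) =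
      sumK cm X R 0 0 (fun z => fz (redWith m z) fun z' => runR cm m u z' fun Y => runR cm m v Y k)
    simp only [ih]

/-- the word takes the packed matrix `a` to `b` -/
noncomputable def runTo (w : List (List ℕ)) (a b : ℕ) : Bool :=
  fz cmask fun cm => fz (H60.PackMat.rep (111 * 111) 65535) fun m => fz a fun i =>
    runR cm m w i fun Y => Nat.beq Y b

theorem isOneR_append {u v : List (List ℕ)} {mid : ℕ} (h1 : runTo u idN mid = true)
    (h2 : runTo v mid idN = true) : isOneR (u ++ v) = true := by
  simp only [runTo, fz_eq] at h1 h2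
  simp only [isOneR, fz_eq]
  rw [runR_append]
  obtain ⟨Z, hZ⟩ := runR_exists cmask (H60.PackMat.rep (111 * 111) 65535) u idN
  rw [hZ] at h1 ⊢
  have e : Z = mid := Nat.eq_of_beq_eq_true h1
  subst e
  exact h2

end H65.LyPerm
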