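import Cfsg.Agent.H65.LyPerm.CarDefs
import Cfsg.Agent.H65.LyPerm.CarSplit
import Cfsg.Agent.H65.LyPerm.CarMid

/-! The base word. -/

set_option autoImplicit false
set_option maxRecDepth 100000
set_option maxHeartbeats 0
set_option Elab.async false

namespace H65.LyPerm

open H68.Ly (tab tabOK toM invWord rows isOneR packTab rows_eq isOneR_spec Mat)
open Data

theorem base_fst : runTo ((carBase.take carCut).map rows) H68.Ly.idN carMid = true := by decide +kernel

theorem base_snd :
    runTo ((carBase.drop carCut).map rows ++ [carRows 0, carRows 0]) carMid H68.Ly.idN = true := by
  decide +kernel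

theorem base_val : isOneR (carBase.map rows ++ [carRows 0, carRows 0]) = true := by
  have h := isOneR_append base_fst base_snd
  rwa [← List.append_assoc, ← List.map_append, List.take_append_drop] at h

end H65.LyPerm
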