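import Cfsg.Agent.H65.LyPerm.CarDefs

/-! Conjugation words, third part. -/

set_option autoImplicit false
set_option maxRecDepth 100000
set_option maxHeartbeats 0
set_option Elab.async false

namespace H65.LyPerm

open H68.Ly (tab tabOK toM invWord rows isOneR packTab rows_eq isOneR_spec Mat)
open Data

theorem conj7 : conjChk 7 = true := by decide +kernel
theorem conj8 : conjChk 8 = true := by decide +kernel

end H65.LyPerm
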