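import Cfsg.Agent.H65.LyPerm.CarDefs

/-! Powers, commutation and pair relations. -/

set_option autoImplicit false
set_option maxRecDepth 100000
set_option maxHeartbeats 0
set_option Elab.async false

namespace H65.LyPerm

open H68.Ly (tab tabOK toM invWord rows isOneR packTab rows_eq isOneR_spec Mat)
open Data

theorem cube_val : (List.range 9).all (fun i => isOneR [carRows i, carRows i, carRows i]) = true := by
  decide +kernel

theorem t_sq_val : isOneR (tW.map rows ++ tW.map rows) = true := by decide +kernel

theorem comm_val : (List.range 9).all commChk = true := by decide +kernel

theorem pair0 : pairChk 0 = true := by decide +kernel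
theorem pair1 : pairChk 1 = true := by decide +kernel
theorem pair2 : pairChk 2 = true := by decide +kernel
theorem pair3 : pairChk 3 = true := by decide +kernel
theorem pair4 : pairChk 4 = true := by decide +kernel
theorem pair5 : pairChk 5 = true := by decide +kernel
theorem pair6 : pairChk 6 = true := by decide +kernel
theorem pair7 : pairChk 7 = true := by decide +kernel
theorem pair8 : pairChk 8 = true := by decide +kernel

end H65.LyPerm
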