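import Cfsg.Agent.H65.LyPerm.CarBase
import Cfsg.Agent.H65.LyPerm.CarConjA
import Cfsg.Agent.H65.LyPerm.CarConjB
import Cfsg.Agent.H65.LyPerm.CarConjC
import Cfsg.Agent.H65.LyPerm.CarPair

/-!
The nine elements of order three satisfy Carmichael's relations modulo `a ^ 4`, as matrices.
-/

set_option autoImplicit false

namespace H65.LyPerm

theorem conj_val {i : ℕ} (hi : i < 9) : conjChk i = true := by
  interval_cases i
  exacts [conj0, conj1, conj2, conj3, conj4, conj5, conj6, conj7, conj8]

theorem pair_val {i : ℕ} (hi : i < 9) : pairChk i = true := by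
  interval_cases i
  exacts [pair0, pair1, pair2, pair3, pair4, pair5, pair6, pair7, pair8]

end H65.LyPerm
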