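import Mathlib

/-! Generated: nine elements of order three centralising `a ^ 4` in the 111-dimensional
representation, with their words. -/

set_option autoImplicit false
set_option maxRecDepth 100000

namespace H65.LyPerm.Data

noncomputable def carTab0 : List (List ℕ) := [[3,0,0,0,0,2,4,0,4,0,4,4,1,4,1,4,4,3,3,2,4,1,1,1,2,4,4,2,4,1,4,0,3,0,1,0,0,1,4,4,4,1,4,0,2,1,4,0,4,3,0,4,1,3,3,3,0,1,2,1,3,0,1,1,3,4,0,4,2,2,0,2,4,3,4,3,4,2,1,4,0,3,3,2,3,0,4,1,0,2,3,4,1,1,1,4,2,1,3,2,3,2,3,2,4,1,0,0,0,1,4],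
[1,1,0,0,0,3,2,4,4,3,3,3,1,0,2,4,4,3,2,3,3,0,1,3,0,4,1,3,4,1,4,0,0,0,2,1,1,0,3,2,3,1,2,4,3,0,4,0,4,1,1,0,3,2,1,4,1,1,2,0,2,2,0,4,4,1,3,0,3,0,3,2,3,3,3,0,1,1,3,4,0,4,4,4,3,1,2,4,3,3,2,1,3,3,3,1,1,2,4,2,1,3,2,2,0,3,0,0,0,1,0],
[0,0,3,4,2,0,0,0,0,0,0,1,0,0,0,2,3,4,1,0,1,1,0,1,1,4,1,1,1,4,3,0,4,2,1,2,3,1,4,3,2,3,4,1,0,3,1,1,0,2,4,4,1,0,1,0,2,3,0,0,3,3,2,3,2,0,0,0,3,4,0,1,0,1,1,3,3,4,3,4,0,2,0,1,4,2,0,0,0,3,0,3,0,2,4,3,4,1,3,4,4,2,4,0,0,0,3,1,0,0,0],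
[0,0,1,3,1,0,0,0,0,0,0,0,1,3,4,0,0,1,4,2,3,4,4,1,4,2,2,0,1,4,0,4,0,3,0,1,3,2,1,1,2,3,2,0,3,1,2,0,1,1,2,4,3,2,1,0,2,0,3,3,0,0,2,2,1,4,0,4,3,4,2,1,4,0,0,0,3,1,2,4,1,2,2,3,3,2,0,4,0,4,2,0,1,2,4,0,2,3,2,1,0,3,1,1,0,0,4,1,1,0,0],
[0,0,2,4,3,0,0,0,0,0,0,2,2,4,0,3,1,1,1,4,0,4,4,0,1,1,1,4,0,4,2,2,1,2,2,2,1,4,1,3,4,0,1,1,1,4,4,1,2,3,4,1,1,0,4,4,3,1,1,4,4,0,2,3,2,1,1,4,1,3,0,2,0,1,1,2,0,2,3,0,3,0,4,0,4,3,0,2,3,4,2,1,1,3,4,2,1,0,4,1,4,1,4,0,0,0,0,4,4,0,0],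
[1,2,0,0,0,1,3,1,3,2,2,2,3,0,3,3,3,4,0,3,1,0,0,1,1,1,1,3,2,0,3,4,2,0,3,2,0,1,3,3,0,3,3,0,3,1,0,2,2,3,3,3,2,0,1,4,0,2,0,0,3,3,4,2,0,0,0,1,0,2,3,2,2,1,2,0,3,4,2,2,4,3,2,2,1,2,1,2,2,1,4,4,4,4,4,2,3,4,2,1,4,2,0,3,0,4,0,0,0,2,0],
[4,0,0,0,0,3,1,0,2,1,3,2,1,0,1,1,4,3,2,4,1,1,3,0,1,1,4,1,1,0,1,3,1,2,3,2,2,3,1,2,3,0,0,0,4,3,4,2,4,0,3,4,3,3,1,2,1,1,0,0,4,1,0,0,2,1,3,2,4,2,3,2,4,0,1,4,1,4,4,1,3,0,1,0,3,3,0,3,4,1,4,2,0,4,4,3,1,4,0,2,0,0,2,3,1,4,0,0,0,1,4],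
[0,1,1,0,4,1,2,4,4,2,2,1,3,0,0,3,4,0,2,3,4,2,0,0,1,0,3,3,3,3,3,1,1,3,0,3,0,4,1,0,4,1,1,3,3,1,3,1,3,2,3,3,2,2,2,0,0,0,4,3,4,1,2,1,0,1,4,3,1,0,4,3,1,3,2,0,3,3,2,2,2,3,0,0,4,2,0,0,1,1,2,0,1,1,1,3,2,2,3,4,2,2,2,1,1,2,4,0,1,0,0],
[4,4,3,2,3,2,2,0,4,0,2,2,4,0,4,0,4,4,4,3,4,2,0,4,2,1,0,1,3,1,4,4,3,2,2,3,1,3,2,3,3,2,3,0,3,4,2,4,2,0,2,1,1,4,0,3,2,3,4,0,4,1,3,4,0,3,2,4,0,4,0,4,1,0,2,0,0,3,2,3,3,2,1,0,4,1,2,0,2,4,1,4,2,3,3,1,3,3,1,3,4,1,0,2,3,3,3,2,2,4,2],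
[1,4,0,0,0,1,3,3,4,3,2,1,4,0,3,3,3,1,3,3,2,1,4,0,1,1,1,4,2,4,1,3,3,3,2,3,2,1,1,2,1,3,4,0,4,4,1,1,2,1,4,2,0,3,2,0,0,4,3,4,4,0,0,2,4,1,2,4,4,0,2,4,2,0,1,1,3,2,3,0,0,2,0,0,4,0,0,3,2,1,0,2,2,1,0,2,0,4,1,4,2,2,4,0,4,2,4,4,1,3,3],
[2,0,1,4,4,0,0,3,2,4,4,2,3,2,1,4,2,1,1,4,4,0,1,0,0,3,0,0,2,2,1,1,4,4,3,3,4,0,2,1,3,1,1,3,0,4,1,4,3,1,0,0,4,4,3,0,4,2,1,0,4,1,1,3,4,4,2,1,4,0,3,4,0,3,3,0,2,2,1,1,4,2,0,3,1,4,1,4,0,1,3,1,3,4,4,0,3,3,2,2,1,3,2,0,2,3,4,2,4,3,1],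
[1,1,1,1,3,2,0,3,0,4,1,4,2,3,3,2,0,4,3,1,2,2,0,2,3,4,4,0,3,1,4,1,1,1,4,3,4,2,2,1,2,3,1,3,0,2,1,0,0,4,0,2,2,2,4,0,3,0,4,2,0,1,0,0,2,0,3,0,4,1,2,3,1,4,3,4,2,2,1,3,4,2,4,0,3,0,2,1,2,2,0,2,2,4,3,3,1,0,2,1,2,0,1,1,4,1,0,1,2,2,3],
[1,3,0,0,4,0,3,1,2,2,4,3,4,2,4,0,2,4,1,0,3,2,4,1,2,1,3,1,1,4,2,0,0,0,3,3,3,0,1,1,3,0,1,0,2,4,0,2,1,0,1,2,0,2,4,2,2,1,1,4,1,3,2,1,3,4,2,0,2,4,3,1,1,4,3,3,4,2,3,4,3,1,1,3,0,2,2,0,2,2,4,4,2,3,1,0,4,0,3,4,0,1,0,0,1,2,0,0,2,0,0],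
[1,0,2,3,0,2,4,4,1,0,0,0,1,0,2,0,2,2,3,1,4,4,0,2,1,2,0,2,0,2,2,0,3,3,1,3,1,0,0,3,3,4,1,1,1,0,0,4,1,3,3,2,4,0,4,0,2,1,1,1,2,3,1,3,3,0,3,4,4,2,2,1,4,0,3,0,4,2,4,3,0,4,0,2,1,4,1,0,2,1,4,1,0,1,3,1,4,2,4,2,2,1,3,4,2,2,0,1,2,1,2],
[0,3,0,4,4,4,0,3,2,4,2,1,3,0,0,4,2,4,0,0,2,1,3,1,0,2,0,4,1,0,2,1,0,0,2,2,1,3,1,0,1,3,2,4,4,0,2,4,0,3,1,2,1,4,2,2,3,3,4,1,2,1,4,4,1,0,0,4,2,2,0,4,1,4,0,0,2,4,4,3,3,0,0,0,3,1,4,0,3,0,0,4,0,3,0,3,3,3,3,1,2,2,2,0,4,4,4,2,3,1,4],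
[1,3,2,2,1,1,3,4,2,2,1,1,2,1,4,1,2,3,4,0,1,2,0,2,1,4,0,2,0,4,4,3,1,3,3,0,2,1,2,1,1,1,0,4,1,3,2,2,1,3,2,1,0,4,1,2,0,1,3,3,0,2,2,4,1,4,2,4,0,1,3,3,1,0,3,3,1,1,0,4,3,3,1,4,1,2,3,3,3,0,3,1,4,2,0,1,3,4,0,0,0,4,0,0,3,4,1,2,3,1,0],
[2,0,3,4,2,2,2,2,0,4,4,2,4,1,1,4,4,0,3,0,0,3,4,0,4,1,0,4,2,4,0,1,0,1,1,0,1,0,4,2,3,1,3,0,3,4,0,4,4,3,0,0,4,2,3,0,1,4,0,1,1,0,4,2,3,4,1,3,0,2,0,0,4,1,1,1,1,2,4,3,4,1,1,2,0,2,1,2,3,4,0,2,0,3,1,3,1,2,3,0,4,3,4,2,4,4,3,2,3,2,3],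
[0,3,4,4,4,3,0,4,4,3,0,3,4,0,4,2,1,1,0,3,3,3,4,0,4,0,1,3,2,2,4,2,0,1,2,3,2,0,3,3,1,4,3,3,1,4,3,0,4,0,3,4,0,3,0,3,2,3,4,0,2,1,4,3,1,1,2,4,1,4,3,0,0,0,2,3,3,3,1,2,1,2,0,0,3,1,0,3,3,2,2,1,4,4,3,2,1,4,4,3,3,2,4,4,1,1,1,3,1,2,3],
[3,4,1,4,1,1,3,3,0,0,3,0,3,4,0,3,2,0,4,0,0,3,3,4,2,4,4,0,4,0,1,3,3,3,0,2,1,1,2,4,3,3,4,4,4,1,0,2,4,4,2,3,4,0,1,0,0,1,2,0,3,1,1,2,4,1,1,4,0,1,3,0,3,1,4,2,4,2,3,3,2,2,1,0,4,4,4,2,1,4,0,1,4,1,2,4,1,4,3,4,3,1,0,1,3,0,4,4,1,3,4],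
[4,0,2,3,0,3,1,3,1,3,1,4,3,1,2,0,3,0,0,4,3,2,3,0,3,0,2,3,0,0,3,3,1,0,3,2,1,0,1,0,0,0,2,0,3,0,3,0,0,1,1,2,1,3,1,4,2,0,1,1,4,2,1,4,3,3,0,1,0,2,1,3,0,4,4,3,3,3,0,0,4,1,3,3,2,1,0,1,1,4,4,4,1,2,1,0,1,1,4,3,3,2,1,0,2,2,4,4,2,0,0],
[4,1,0,0,4,1,2,4,2,0,1,2,3,3,2,2,1,4,1,4,3,0,2,1,2,3,2,4,2,4,2,4,1,1,0,0,4,0,0,1,0,0,3,0,2,4,3,4,2,3,4,3,4,3,1,3,1,1,1,3,2,1,2,0,2,0,2,0,4,2,3,1,4,1,2,3,1,3,4,2,4,3,0,2,2,3,1,1,1,4,3,2,0,2,0,4,3,4,4,2,1,1,3,0,1,0,3,1,4,3,3],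
[0,2,0,4,4,1,0,2,1,0,2,1,1,4,0,2,2,2,0,1,2,2,3,4,1,2,4,3,0,1,3,3,4,1,0,4,0,1,1,3,0,1,3,1,3,0,3,2,4,2,4,1,4,1,4,1,2,2,3,4,1,2,0,3,4,0,0,1,3,2,4,2,1,1,4,0,3,3,1,1,4,3,2,2,0,4,4,2,3,2,3,3,0,3,3,0,3,1,3,2,0,1,0,0,1,1,4,3,1,4,1],
[2,0,3,3,0,4,3,1,4,3,3,1,2,4,2,4,1,2,0,1,1,0,4,3,2,2,4,0,1,4,2,0,4,2,0,4,1,0,2,3,4,1,4,2,3,2,3,4,4,0,2,1,4,4,0,3,0,2,2,3,0,1,2,4,2,0,1,2,3,0,1,0,4,2,4,4,0,1,0,4,0,3,1,4,4,3,0,1,3,1,2,0,4,0,4,4,0,0,0,3,3,2,4,3,1,2,4,3,1,3,2],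
[0,3,3,4,0,1,4,0,4,3,1,0,2,3,2,4,1,3,2,2,1,3,4,4,0,0,3,4,1,1,0,3,0,0,1,3,4,4,0,2,1,3,4,4,1,0,1,4,0,4,1,2,0,3,4,0,2,2,1,4,0,0,0,3,1,1,0,2,3,0,0,2,4,1,0,4,4,2,3,4,4,0,0,3,3,0,1,3,0,1,1,1,1,1,4,4,2,4,1,3,2,3,4,2,0,4,0,0,2,1,4],
[4,2,3,1,3,0,2,3,0,4,4,4,4,3,4,4,1,2,1,0,1,2,1,3,4,1,2,1,4,4,0,4,2,1,0,2,4,3,0,3,0,2,4,0,2,0,4,1,0,4,0,2,4,4,1,0,2,3,4,0,0,0,2,4,3,2,4,2,4,1,1,3,3,0,0,3,2,3,4,2,3,1,2,0,3,4,1,4,3,0,2,1,2,2,2,4,2,4,2,4,0,2,3,3,4,0,0,1,1,2,3],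
[0,1,3,1,2,4,4,1,4,1,1,4,4,2,0,1,1,1,0,4,2,3,4,2,4,4,3,0,0,1,4,4,4,3,3,0,4,3,1,3,2,3,0,3,4,1,4,1,4,3,0,1,3,2,1,2,4,0,4,2,0,0,0,1,0,3,3,1,0,4,1,3,2,4,1,1,1,0,0,3,2,1,3,1,0,4,4,0,2,4,0,1,3,4,2,2,0,2,1,3,2,0,2,1,0,4,1,0,1,2,1],
[2,3,0,1,2,3,4,3,4,3,0,2,1,4,0,0,0,0,0,1,2,1,1,0,1,2,2,1,2,0,2,1,4,2,0,4,2,2,3,3,0,4,0,4,4,2,3,2,2,3,3,0,3,3,1,3,4,3,3,1,3,3,4,1,3,4,3,2,3,3,4,4,4,2,2,0,4,1,1,1,4,1,3,2,2,2,4,0,0,4,3,2,1,4,2,0,1,3,0,4,4,2,1,2,3,0,0,3,0,4,0],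
[3,2,1,1,4,0,2,1,3,0,2,1,3,3,4,0,0,2,1,3,0,1,2,3,3,0,4,4,4,4,1,3,4,1,3,3,1,2,0,2,0,0,3,2,3,3,1,0,3,3,0,1,3,3,4,4,2,0,2,3,2,4,1,1,0,4,4,4,1,2,4,4,2,2,1,1,0,1,0,2,2,4,3,3,2,2,4,3,2,1,0,0,3,4,4,4,3,4,2,4,0,3,2,4,0,2,1,3,4,1,2],
[2,3,0,2,3,2,0,1,0,4,4,1,1,4,4,0,3,0,1,2,0,2,2,4,0,1,0,4,2,4,1,2,3,1,2,3,4,0,3,1,1,1,4,4,1,4,4,1,2,2,4,3,2,3,3,0,2,3,3,1,3,4,0,0,1,4,4,0,3,2,1,4,4,0,0,2,4,0,4,2,0,2,2,2,0,4,2,0,0,1,2,2,1,3,4,0,3,4,3,3,4,4,1,2,0,2,3,0,1,4,0],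
[4,0,3,1,0,4,0,4,2,4,4,0,0,2,2,1,3,3,4,3,4,2,2,0,2,2,3,3,1,2,1,4,0,3,0,0,4,3,0,4,0,1,0,4,0,4,0,1,1,3,2,4,1,1,3,3,3,2,0,0,2,2,3,4,1,2,0,0,0,2,4,4,0,0,3,0,0,2,3,2,2,1,2,3,4,3,4,4,0,1,4,3,2,0,3,1,4,3,1,4,0,3,1,3,1,0,1,3,4,0,2],
[4,1,0,3,0,1,1,4,2,4,4,2,0,4,3,4,4,1,3,4,2,1,4,4,1,0,2,1,4,3,4,1,1,4,0,0,1,2,2,1,1,1,0,0,3,2,1,2,2,0,3,2,1,4,4,4,2,4,1,1,2,0,2,1,3,0,3,2,1,0,2,4,2,4,2,0,1,1,1,4,0,4,2,2,3,3,2,0,0,3,1,3,2,2,0,2,2,3,3,2,3,1,1,1,3,0,3,4,0,0,0],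
[3,2,1,4,3,3,3,1,2,4,3,4,4,3,2,2,1,1,4,4,3,4,1,2,2,2,2,1,3,3,4,2,0,3,0,3,0,3,3,4,2,0,3,2,4,4,2,0,3,4,4,0,4,1,4,0,3,1,4,3,2,4,3,4,3,0,4,0,2,1,2,4,3,1,4,4,3,1,3,2,1,4,2,3,0,2,1,0,4,4,0,1,3,1,3,0,0,1,3,1,3,4,3,2,3,1,0,2,2,0,2],
[3,1,1,1,0,0,2,1,4,3,2,3,4,1,4,4,3,3,1,1,3,0,2,2,3,0,1,1,0,0,2,1,4,1,3,4,4,2,2,4,0,4,3,3,4,2,1,0,4,1,4,1,0,0,0,3,4,1,0,2,4,0,4,2,3,1,0,4,1,0,1,4,3,0,0,1,2,4,4,2,4,2,2,3,4,2,2,0,4,4,1,0,1,2,4,4,0,2,3,3,3,2,2,1,0,2,3,3,4,3,1],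
[4,1,2,3,0,3,2,2,4,1,4,4,1,1,0,1,3,0,1,0,3,3,0,4,3,0,1,1,4,2,3,1,1,3,0,0,2,4,2,1,0,0,0,4,2,2,4,1,4,1,1,2,1,0,4,1,3,2,1,1,3,0,3,1,2,0,4,2,0,0,2,1,0,3,0,1,2,1,4,4,0,1,4,4,3,4,4,4,0,2,2,4,4,3,1,0,3,3,0,2,4,1,4,1,2,0,4,2,2,4,4],
[2,3,4,1,3,0,2,0,4,0,4,1,3,2,1,2,2,0,1,1,3,2,2,3,2,3,3,0,1,1,4,1,1,2,2,1,2,0,3,2,0,0,0,2,1,1,0,2,2,2,1,0,4,2,2,3,1,1,3,3,3,4,0,3,0,3,1,3,2,1,0,3,2,1,4,4,4,0,4,4,0,2,0,1,2,2,1,4,1,3,4,3,4,3,1,0,4,3,2,2,3,0,1,0,0,3,2,4,2,4,4],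
[4,1,1,4,4,2,2,3,1,1,1,2,0,4,0,0,2,4,2,1,2,2,2,4,1,2,1,0,4,2,0,4,1,4,3,2,2,1,1,0,4,4,0,2,1,3,0,1,3,2,0,2,4,3,1,1,4,2,4,4,3,3,2,3,0,2,3,4,0,3,3,1,0,3,0,0,2,2,1,3,4,1,2,0,1,0,2,2,1,2,4,1,3,4,2,1,4,4,3,4,2,4,3,3,2,0,4,3,1,4,4],
[0,3,0,0,3,2,2,2,4,0,1,1,0,2,1,0,3,1,3,3,2,2,2,4,3,2,1,4,1,4,3,0,4,1,4,3,4,0,2,1,4,3,0,3,3,0,2,4,0,3,2,4,0,0,0,4,4,2,2,1,4,0,0,4,2,1,1,0,2,4,1,2,1,3,0,2,0,1,3,0,1,2,0,1,4,0,4,2,3,4,3,3,3,4,0,3,4,0,1,4,1,3,1,0,2,2,0,3,1,0,0],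
[3,0,1,0,1,0,1,3,0,3,2,4,0,1,1,1,3,3,0,3,2,0,3,4,4,1,0,1,0,1,4,2,3,0,3,4,2,0,4,2,1,0,0,3,3,4,3,4,3,4,0,1,0,0,0,0,2,3,3,2,1,2,3,0,3,2,3,3,4,0,3,4,2,2,2,4,3,1,3,4,2,2,0,3,1,4,2,0,1,1,3,2,0,0,2,1,0,2,3,2,2,1,2,1,1,1,3,1,3,1,0],
[3,4,2,3,2,1,4,3,3,0,2,1,4,0,4,2,1,1,4,3,1,3,2,0,4,4,0,2,4,1,0,4,3,2,2,2,2,4,1,2,0,3,0,2,3,0,1,4,3,1,0,1,4,4,0,4,0,2,2,0,4,3,4,3,2,1,3,0,1,3,3,3,4,2,3,3,2,1,3,3,4,1,0,4,1,0,3,1,3,2,4,2,0,4,0,2,4,4,2,0,2,0,2,2,4,0,3,0,1,0,1],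
[1,2,1,4,4,4,2,1,4,4,1,2,4,2,1,0,1,2,0,2,2,1,4,2,2,2,0,3,4,4,1,0,4,4,0,4,4,2,1,1,4,4,0,0,3,1,3,0,3,4,0,2,4,1,0,3,0,0,3,2,1,3,4,2,2,2,4,2,0,2,1,1,1,0,3,3,4,2,1,3,4,1,1,0,4,4,4,2,3,3,4,3,1,1,2,0,2,1,1,4,4,3,4,3,3,2,4,3,1,0,0],
[1,2,4,1,1,1,2,3,0,2,1,3,2,4,1,4,4,0,4,4,3,0,1,1,0,0,3,2,2,0,0,0,3,2,2,1,0,0,3,3,3,1,2,4,0,2,1,4,4,1,0,0,1,2,4,2,3,2,1,1,2,2,2,1,1,0,1,3,2,3,1,1,2,4,2,0,0,2,3,1,2,2,0,1,4,0,1,2,0,4,4,3,1,2,1,2,3,2,3,0,0,1,2,4,4,0,4,0,2,1,0],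
[1,1,0,4,0,2,4,4,1,1,0,1,2,4,0,2,2,1,4,2,2,2,2,2,4,2,3,4,1,3,4,0,2,4,0,3,2,4,2,3,0,4,2,3,4,1,2,2,0,0,2,1,4,1,2,2,3,1,3,0,4,1,1,0,1,1,3,2,2,1,0,1,4,0,3,2,2,0,2,2,4,1,4,0,2,0,3,0,3,4,4,2,1,0,1,4,1,2,0,3,3,0,2,4,1,1,0,3,3,1,0],
[3,1,3,4,4,0,2,2,4,0,4,4,0,4,1,1,2,4,1,2,1,1,0,2,1,4,0,1,3,2,3,2,4,3,2,1,0,2,1,2,4,2,4,1,2,1,2,2,4,1,4,3,3,3,4,4,0,4,4,4,0,4,3,0,1,1,4,4,0,4,0,3,3,1,2,2,2,0,1,1,4,2,4,4,4,1,1,1,0,0,1,0,0,4,1,3,4,4,3,1,4,2,2,1,4,1,2,1,3,4,0],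
[4,2,4,2,4,2,0,0,3,4,0,2,1,3,3,1,1,0,0,1,0,3,2,4,2,1,1,1,1,4,0,0,0,0,3,3,2,1,0,4,3,1,1,4,0,2,4,1,0,4,2,1,0,4,2,1,3,4,0,0,3,0,4,2,0,0,2,2,4,2,1,4,3,0,3,2,4,2,0,2,4,2,1,4,0,2,4,0,1,4,3,2,1,1,4,1,1,3,3,1,2,4,1,0,4,3,4,2,4,3,0],
[2,1,4,4,3,3,3,0,1,4,1,4,3,2,4,3,0,1,3,4,3,4,0,0,0,4,0,3,1,3,1,0,2,3,2,1,1,3,3,2,1,3,2,3,1,1,3,0,3,0,0,1,0,0,0,4,4,1,0,2,0,2,3,1,3,0,3,4,0,3,0,4,0,2,1,2,2,3,2,2,2,3,2,0,0,2,2,1,1,1,2,2,2,4,2,3,3,4,3,1,2,2,3,2,3,1,1,2,1,4,3],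
[0,1,3,1,3,2,1,1,2,1,3,3,0,4,4,2,4,0,1,1,2,0,2,4,4,4,2,4,1,0,4,0,4,3,3,4,3,1,0,1,0,2,1,0,0,2,2,4,1,1,0,1,1,3,0,2,2,3,2,3,2,1,0,3,4,2,0,0,3,2,2,1,3,0,1,2,0,2,3,3,4,2,4,1,0,0,2,4,3,1,4,0,2,1,3,3,2,2,4,0,3,2,1,0,4,2,0,2,0,1,2],
[1,4,0,2,2,3,2,4,3,0,0,0,0,3,4,2,1,2,3,3,3,1,3,4,2,2,3,0,2,0,4,3,2,3,1,1,2,2,4,3,2,2,0,2,3,3,2,2,4,1,3,3,0,0,3,0,0,2,0,2,3,2,2,2,2,2,3,0,4,4,3,4,2,1,1,4,2,2,3,3,0,2,3,2,3,1,3,1,3,3,1,2,4,1,2,1,0,3,1,2,0,0,3,2,4,4,3,0,0,1,3],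
[0,0,3,3,4,2,3,1,3,4,2,4,3,3,4,3,1,1,0,2,4,4,4,2,3,1,0,1,0,4,3,3,1,4,4,3,3,1,4,4,4,4,0,2,3,4,0,3,0,2,0,0,2,3,0,2,2,4,2,4,2,1,2,4,2,3,3,4,0,2,3,2,1,1,3,0,4,1,1,1,4,4,4,3,0,3,1,0,4,0,1,2,2,2,0,2,3,0,2,3,1,2,3,1,1,4,0,1,0,4,3],
[3,2,1,2,2,1,1,4,2,0,0,3,2,2,0,4,3,1,2,3,0,1,2,2,0,0,1,2,0,4,3,2,0,4,2,0,1,4,4,4,4,2,4,2,2,1,1,1,4,0,0,4,2,4,3,2,4,0,4,1,0,2,3,0,4,1,2,0,2,0,4,0,2,1,0,1,3,2,0,0,0,4,4,0,0,2,2,3,3,1,3,4,2,2,1,0,0,2,3,2,4,3,0,2,0,0,1,3,0,3,3],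
[1,3,4,3,4,2,4,1,0,0,4,0,1,2,1,4,2,1,3,2,2,2,3,3,3,3,2,4,3,0,1,3,4,4,1,4,4,0,4,0,1,4,3,0,2,4,3,0,2,3,3,0,3,1,4,4,1,2,3,4,4,3,4,0,3,3,2,0,1,2,0,1,3,1,1,1,4,3,2,4,3,0,3,4,2,1,1,0,4,3,3,0,0,2,4,1,3,3,0,4,1,0,0,2,0,4,4,4,3,0,3],
[4,1,3,2,1,1,2,0,4,1,3,0,2,0,0,0,3,2,0,4,3,1,1,1,1,2,4,0,3,4,1,2,0,1,0,1,2,3,3,2,3,2,4,3,0,1,3,3,0,3,2,0,1,2,3,3,4,4,0,3,2,4,1,4,0,0,4,4,4,1,3,4,1,2,2,4,0,2,2,4,4,4,1,1,1,2,2,4,2,4,1,4,0,1,0,1,1,1,4,4,4,1,0,2,3,2,0,1,4,3,4],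
[4,1,3,1,4,3,1,2,2,2,4,0,0,3,0,3,0,0,2,3,4,4,4,1,4,4,1,1,0,1,4,2,2,3,4,3,2,3,4,3,1,1,1,2,4,4,0,3,1,4,4,4,0,2,1,3,3,0,1,2,1,0,0,0,1,0,4,0,0,3,0,3,1,1,1,1,2,3,3,0,4,1,2,0,2,0,1,1,1,4,3,1,0,0,3,0,0,4,2,1,4,3,1,2,0,4,4,0,3,4,3],
[1,3,4,2,0,3,0,3,1,3,3,1,1,3,0,3,3,1,0,1,1,4,4,1,4,2,4,3,1,0,0,0,0,4,4,3,2,4,4,4,1,3,2,4,0,4,4,1,4,0,2,1,4,1,2,4,3,1,1,3,1,0,3,4,1,0,3,3,2,3,3,2,4,4,0,1,4,2,4,1,1,1,1,0,2,3,2,3,3,0,4,1,3,0,1,2,1,0,1,1,4,2,3,0,0,0,2,0,4,2,4],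
[0,1,3,1,1,3,3,0,3,0,4,3,1,3,3,2,0,4,4,4,2,3,4,3,2,0,0,2,1,0,1,1,0,2,1,1,0,1,0,4,4,0,2,2,0,3,2,2,2,4,0,1,3,4,1,2,4,1,2,3,0,4,1,0,4,0,3,3,3,2,2,3,0,4,3,4,2,4,4,1,2,3,4,0,3,3,3,2,1,2,0,3,3,4,2,3,3,3,4,4,2,3,2,2,2,0,1,2,4,0,0],
[2,1,2,4,4,0,0,3,0,1,2,4,3,3,4,3,3,1,2,4,2,0,2,3,2,4,3,2,2,4,0,4,0,3,0,3,1,1,3,4,0,2,0,4,4,3,4,0,2,1,2,0,4,2,0,2,1,4,3,3,0,3,0,4,3,1,0,2,1,0,4,4,2,0,1,4,3,1,0,2,0,0,4,2,4,1,0,2,3,3,0,1,1,2,1,3,4,1,0,3,3,1,0,1,3,4,1,0,3,2,0],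
[3,1,1,2,2,4,2,3,1,4,1,2,2,2,4,3,3,3,4,0,0,2,0,4,0,4,4,1,4,3,4,0,4,2,0,4,4,2,0,4,2,3,3,1,1,2,2,2,3,1,0,2,1,2,2,0,3,1,2,3,0,0,0,3,1,1,2,0,0,3,0,3,1,0,2,2,3,1,0,1,3,0,3,2,3,3,4,0,3,1,3,4,2,2,4,2,3,4,1,4,1,3,0,0,4,3,2,3,3,3,4],
[1,1,2,3,4,4,0,2,1,1,1,2,3,2,0,1,3,0,0,3,3,0,0,3,3,4,4,4,2,2,2,2,1,2,0,0,2,3,0,0,2,3,2,0,4,2,1,4,4,1,1,2,3,4,0,1,2,0,4,1,2,0,4,4,2,2,3,2,4,1,3,3,2,3,4,2,3,3,3,4,1,2,4,3,3,4,3,2,2,0,0,3,2,3,4,3,2,3,2,0,3,2,4,3,3,2,2,0,4,0,2],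
[1,4,2,0,1,1,4,4,1,4,1,4,1,4,2,3,4,1,3,3,3,3,3,0,4,4,0,2,3,3,3,3,4,4,2,2,3,2,4,1,1,4,2,0,0,1,3,1,4,3,4,1,4,0,2,4,2,0,2,4,2,2,1,1,1,2,4,2,0,3,3,0,3,3,2,3,1,1,0,0,4,3,0,1,2,0,2,3,2,1,3,4,0,2,0,2,4,4,4,1,3,1,3,2,1,3,0,2,1,0,2],
[2,3,1,0,1,3,3,4,1,4,2,2,0,3,4,4,1,4,1,2,0,0,0,0,2,4,4,3,4,3,3,3,1,3,4,0,2,0,2,0,3,4,3,3,1,3,3,1,0,2,2,3,0,1,3,2,2,1,0,0,0,2,0,3,0,4,1,1,1,3,3,3,4,4,0,1,1,2,0,4,4,4,0,1,3,2,1,0,0,2,2,2,1,0,0,1,4,4,4,2,1,3,4,4,0,2,0,0,4,2,3],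
[0,3,4,2,0,0,2,3,2,3,4,3,0,0,4,1,0,0,0,1,1,4,4,0,2,4,0,4,0,4,0,2,1,2,2,4,2,0,0,4,1,0,0,1,4,0,3,0,1,2,2,1,0,0,3,1,3,3,2,1,4,3,2,0,0,0,2,1,3,3,1,0,0,0,3,0,1,0,1,4,2,2,1,4,2,1,3,3,4,2,1,2,1,0,4,2,0,1,2,4,4,1,2,2,1,1,4,4,4,3,1],
[4,0,1,3,2,4,4,3,0,0,1,0,1,0,3,3,2,1,1,0,2,2,2,3,4,0,4,2,4,0,4,3,3,1,1,1,2,4,4,3,0,1,3,3,4,2,4,4,3,3,1,1,0,4,2,4,0,1,3,3,2,2,0,2,4,4,4,2,1,0,0,3,3,1,0,3,1,3,2,4,0,0,2,3,2,4,4,4,4,0,0,0,1,2,4,4,3,0,2,3,1,4,1,1,4,2,4,2,4,0,2],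
[4,0,0,0,4,1,3,1,0,1,2,4,2,2,1,4,1,3,4,2,0,4,3,0,3,1,3,1,2,0,2,4,4,4,3,0,2,2,1,3,3,3,3,2,0,4,0,2,4,4,1,0,0,4,2,3,4,3,1,0,4,4,3,0,4,0,2,2,3,1,0,2,2,4,0,2,2,4,0,2,3,3,2,2,2,0,3,2,1,1,3,4,0,0,0,2,2,3,4,3,4,2,1,3,2,2,3,0,2,4,3],
[4,1,1,2,2,4,0,1,1,4,0,1,4,0,3,0,2,0,1,0,0,2,3,1,4,4,4,0,2,3,3,4,1,3,1,1,0,0,2,1,2,3,2,0,4,3,2,1,2,1,3,3,4,1,2,0,2,2,1,3,2,4,4,3,3,4,1,0,0,3,0,2,0,1,2,1,0,4,4,2,0,3,0,1,1,1,1,1,4,1,3,1,0,1,1,4,1,1,2,1,1,1,0,2,3,1,3,2,0,2,2],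
[3,2,1,4,1,2,4,1,4,1,1,4,4,2,4,1,0,0,2,1,0,3,1,4,4,0,1,0,3,4,4,1,2,3,2,0,0,2,3,2,3,2,0,0,1,1,1,2,4,4,3,0,0,0,3,0,0,3,1,4,0,2,1,3,2,3,3,4,1,0,4,0,3,0,0,4,0,2,2,4,0,4,4,1,4,1,2,4,2,2,2,2,1,3,1,1,1,2,0,3,3,0,0,3,1,4,2,3,4,2,4],
[0,1,2,4,0,1,0,0,1,2,1,0,0,3,0,3,1,1,0,3,1,1,3,2,2,0,3,0,3,2,3,4,0,4,3,3,0,2,0,2,0,4,2,4,3,4,3,1,0,1,2,1,0,4,2,4,2,3,1,1,3,3,4,2,1,3,4,3,1,0,3,4,1,3,2,0,3,0,1,2,2,2,0,4,2,4,0,0,1,0,2,2,1,4,4,4,3,0,1,2,4,2,0,4,2,1,1,3,0,4,4],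
[0,1,1,3,2,2,2,1,0,0,4,4,3,3,2,1,2,0,3,4,2,1,1,4,0,0,4,4,4,4,0,3,0,4,2,0,3,4,2,2,4,1,1,2,1,3,2,1,2,2,3,3,2,4,0,2,0,3,3,4,4,0,0,4,4,0,2,3,3,2,0,4,0,3,0,2,1,1,0,2,2,0,1,3,3,1,2,1,3,1,0,2,4,0,1,3,3,1,2,2,3,0,3,4,3,0,4,3,3,4,0],
[2,0,3,3,2,2,3,0,0,0,0,2,3,0,3,4,0,2,4,0,2,2,3,0,4,0,2,3,3,2,4,0,2,3,2,0,2,3,0,1,3,4,0,2,0,0,1,1,4,0,1,1,3,4,3,3,4,3,0,0,4,3,1,0,1,4,3,4,1,4,0,4,2,4,3,0,1,4,4,2,3,3,4,3,0,4,0,1,0,3,0,3,4,1,1,0,3,4,0,2,3,4,3,0,4,3,3,3,4,1,2],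
[0,2,2,3,3,4,4,1,1,1,4,0,3,1,1,1,3,1,2,4,3,4,2,2,0,2,4,1,3,2,1,2,2,2,1,3,0,4,2,1,3,2,4,2,3,4,2,0,2,4,4,0,0,0,4,3,2,0,4,0,1,3,4,3,0,0,4,1,1,3,0,2,4,1,4,3,0,4,1,1,0,3,0,1,3,4,2,4,0,1,1,4,1,0,1,3,2,1,0,1,0,0,3,4,0,3,3,2,3,2,1],
[3,0,0,0,2,2,2,1,0,1,4,0,3,2,4,4,4,4,0,2,1,3,3,1,1,2,2,3,1,1,3,2,0,4,4,4,1,1,2,3,4,3,2,4,4,3,2,1,4,0,2,0,3,4,4,4,2,4,2,1,4,3,4,3,1,0,1,3,1,2,0,0,2,4,2,1,4,1,3,2,4,1,0,0,0,2,3,4,0,2,1,3,0,3,4,1,4,4,2,1,3,1,1,2,4,2,3,0,1,2,4],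
[2,1,0,2,4,4,2,2,1,3,0,2,0,4,3,0,1,1,2,2,3,1,3,2,4,4,4,2,0,4,0,0,4,0,3,4,4,4,2,0,4,1,0,1,4,3,1,1,2,2,2,4,4,0,2,3,0,4,3,2,3,4,2,0,2,4,0,0,4,1,1,4,2,1,1,0,4,3,3,0,0,3,1,0,4,0,4,2,0,0,0,0,1,0,2,4,3,3,4,4,1,1,4,4,3,3,0,2,1,4,3],
[3,4,2,2,0,3,1,0,1,0,2,0,2,4,1,2,3,4,1,0,2,4,1,2,0,2,3,1,1,2,2,0,0,0,4,2,0,4,0,4,2,3,2,1,1,1,0,2,0,2,1,3,4,3,2,0,0,2,1,4,2,3,4,1,2,0,1,0,0,3,1,3,4,3,0,1,2,1,4,2,3,2,4,3,1,2,4,4,1,0,1,2,4,4,4,2,3,0,3,2,2,4,0,0,4,0,2,2,3,4,4],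
[4,1,2,4,3,1,3,0,2,2,1,1,4,4,2,3,0,2,1,2,1,0,2,4,0,2,4,4,2,2,3,4,2,2,3,3,2,3,2,4,2,0,1,4,3,1,3,3,4,4,3,2,4,0,4,2,0,2,3,1,0,4,2,1,3,3,0,1,0,1,3,1,4,3,0,1,4,4,4,3,2,4,4,0,1,3,1,3,4,3,0,2,4,2,4,1,0,3,2,2,3,4,2,0,3,0,4,0,3,1,1],
[4,4,4,2,3,2,3,1,2,3,2,1,4,3,1,3,0,1,3,1,4,4,2,4,1,3,1,3,0,3,0,0,4,1,3,1,2,1,3,2,3,3,1,0,4,0,3,4,1,4,1,1,3,3,0,1,2,1,3,3,0,3,3,0,3,3,1,3,4,1,0,3,0,4,3,3,2,1,2,4,0,1,2,1,4,0,4,4,3,3,4,4,1,4,1,1,3,3,4,2,2,4,2,4,2,4,1,0,2,2,1],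
[1,1,3,0,3,4,3,2,2,1,1,1,3,3,1,3,4,0,1,0,2,3,3,1,4,0,2,4,4,2,1,0,1,3,3,3,0,1,4,1,1,2,3,2,3,3,3,0,3,0,4,1,4,4,2,4,1,4,3,4,4,2,1,3,2,2,1,2,2,2,3,4,4,2,1,3,1,0,2,3,3,4,0,2,1,1,4,3,4,4,3,2,0,3,4,2,2,2,0,2,1,2,2,4,1,0,2,0,3,1,3],
[3,4,1,0,2,2,4,4,2,3,0,0,2,1,1,0,4,1,1,0,1,0,2,4,2,4,2,4,3,0,4,3,0,0,3,3,3,2,3,2,3,1,2,4,1,2,3,1,1,1,2,0,2,4,4,1,1,1,0,2,2,1,3,4,3,3,0,1,1,0,4,2,0,0,2,4,4,3,2,4,4,3,4,2,1,4,1,4,4,3,4,3,4,0,3,1,2,4,4,3,4,4,0,2,4,4,1,3,0,1,3],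
[1,0,1,2,4,4,2,3,3,1,2,4,0,1,2,2,1,0,3,1,4,2,2,2,4,3,0,2,1,2,4,1,3,0,4,0,4,0,0,3,4,0,3,2,2,1,0,1,0,0,1,0,1,1,4,0,3,4,0,1,1,0,1,4,0,4,0,1,2,4,0,0,0,3,2,0,0,4,0,1,2,3,4,3,1,4,2,1,4,0,0,3,3,2,1,3,1,3,1,0,0,0,4,4,3,0,2,3,0,1,4],
[1,1,1,3,2,4,4,3,3,3,4,4,2,0,1,0,1,4,3,0,3,3,2,2,2,1,4,4,2,1,4,3,2,0,2,4,3,1,3,3,3,2,3,0,1,4,2,1,2,2,2,1,4,2,2,2,3,0,0,3,1,1,2,2,2,2,4,2,0,0,1,4,2,2,3,3,1,0,1,2,0,1,2,3,2,2,3,0,2,2,4,2,0,3,4,2,1,3,0,0,0,4,3,3,0,2,1,0,1,0,2],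
[2,1,2,0,0,4,4,4,3,3,3,4,1,3,0,0,4,1,1,2,4,0,3,3,0,1,2,3,2,4,0,4,2,2,4,3,0,1,4,2,2,1,0,2,1,1,0,1,2,3,0,1,0,3,4,2,4,0,3,4,0,1,1,1,3,0,4,4,2,4,2,2,4,4,0,1,4,3,0,2,3,0,0,1,3,0,1,2,0,3,1,2,4,4,2,1,3,0,1,0,0,2,3,4,3,2,0,1,4,2,0],
[4,4,3,4,1,1,0,4,2,0,1,2,2,2,4,1,1,2,3,4,1,1,0,2,1,3,3,1,1,1,2,0,1,1,0,2,4,1,3,2,4,2,3,1,3,2,1,2,0,0,2,2,1,4,3,3,0,0,0,1,1,4,2,0,4,1,3,2,2,1,3,0,0,2,3,4,1,0,3,0,2,1,2,4,1,2,3,1,3,3,1,2,2,4,2,3,2,4,1,0,1,4,1,1,1,0,4,1,4,4,3],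
[2,0,1,0,0,2,1,3,2,0,4,1,0,0,1,0,0,0,0,4,4,4,0,0,2,4,3,1,4,4,1,4,2,0,4,4,2,2,1,2,1,0,1,3,2,0,1,3,4,2,3,2,1,0,4,1,1,2,3,2,3,2,3,2,3,3,1,2,3,4,0,4,0,3,1,0,4,3,3,1,2,1,2,3,1,1,1,3,0,1,1,0,0,0,2,4,2,3,3,2,4,1,2,2,0,0,3,0,1,4,4],
[3,0,2,2,0,4,4,2,4,2,1,1,2,1,0,0,1,4,2,4,4,3,0,0,2,0,1,2,2,2,0,2,4,0,1,0,4,0,4,2,1,0,4,0,2,1,3,1,0,4,1,1,0,4,3,1,0,0,1,2,4,2,2,0,3,4,2,4,4,1,4,2,2,3,3,3,1,3,2,0,0,3,1,3,1,4,0,4,3,3,1,1,0,3,4,4,4,3,2,3,1,3,1,0,1,4,2,1,3,2,2],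
[4,0,2,0,3,4,0,1,1,4,4,2,0,0,1,1,0,4,1,3,4,0,2,2,1,4,0,4,3,2,3,0,3,2,1,2,3,0,3,2,0,3,2,4,2,2,0,4,1,1,0,0,1,0,3,4,3,3,1,3,3,3,1,1,4,1,0,2,3,0,2,1,4,0,3,4,4,0,0,3,1,3,4,1,3,3,3,1,4,2,3,2,0,1,1,1,2,0,2,3,2,1,1,2,4,3,4,1,0,1,3],
[2,0,3,0,1,0,0,1,3,0,1,4,3,4,1,2,3,0,3,2,1,2,0,1,3,3,2,4,3,1,3,0,2,2,1,2,3,0,1,1,2,3,3,3,1,1,2,2,4,3,0,2,2,1,0,4,1,0,2,4,1,0,0,0,2,4,4,1,2,4,4,3,0,3,1,4,0,1,3,2,2,1,0,3,3,0,2,2,4,2,1,3,0,1,3,2,4,2,1,3,3,3,0,1,0,0,4,3,4,1,1],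
[4,4,0,1,3,3,4,0,2,3,2,4,1,3,4,1,1,4,4,1,1,1,0,3,0,3,3,3,4,3,4,4,4,1,4,4,1,3,0,0,4,3,4,0,0,1,1,0,0,0,0,4,2,4,2,3,2,2,1,4,0,0,3,4,1,2,1,0,1,0,1,1,1,0,0,4,1,2,1,2,0,2,1,3,2,2,4,3,0,2,4,4,3,2,4,0,3,2,0,1,3,2,1,3,3,0,3,4,2,2,0],
[4,4,1,2,2,2,0,3,1,4,1,3,3,2,2,4,2,3,0,1,4,1,3,3,4,1,4,1,1,0,3,1,4,4,4,2,3,4,2,0,3,3,0,0,3,1,2,3,1,1,3,2,4,0,4,0,3,4,0,0,2,4,3,4,0,2,2,1,3,2,3,3,1,1,1,1,4,4,1,3,4,4,3,4,0,0,1,1,4,4,0,0,2,1,4,3,1,4,4,2,2,0,2,4,3,1,1,4,3,0,4],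
[1,2,0,2,3,3,4,0,4,3,2,2,1,3,1,2,2,2,4,3,4,3,0,1,1,0,0,0,1,2,2,2,1,1,1,3,0,4,4,1,4,3,2,1,4,2,4,3,1,1,1,3,1,1,4,1,1,2,4,2,0,1,0,0,3,2,3,2,4,1,2,3,0,0,1,3,3,2,0,1,3,3,1,0,1,3,4,3,1,4,4,3,2,2,1,4,3,2,0,1,1,1,4,0,3,3,1,1,4,4,0],
[1,4,4,4,3,2,4,1,1,0,1,1,2,1,0,2,4,3,3,1,1,1,1,2,3,3,4,4,0,4,4,1,3,0,4,2,2,2,2,3,0,0,0,2,3,1,0,3,3,2,4,3,2,4,3,0,3,4,4,3,1,1,2,4,3,3,1,2,3,1,2,4,4,4,0,0,4,2,4,2,0,4,0,1,0,4,0,0,0,2,2,0,2,3,4,3,0,2,0,2,2,4,1,0,0,4,1,3,0,1,1],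
[1,2,4,1,4,1,1,4,4,3,3,0,2,3,0,4,4,3,1,2,0,4,0,1,1,4,2,3,3,3,3,4,2,0,2,3,0,4,4,0,2,2,2,1,2,4,1,0,0,2,2,4,0,1,4,4,3,0,0,4,1,4,1,1,1,0,2,0,0,3,3,3,4,0,0,3,4,0,1,2,0,2,2,1,0,4,0,4,3,0,1,1,3,1,4,3,1,1,2,0,1,3,0,4,2,0,4,1,2,2,4],
[0,0,1,2,1,2,0,1,0,4,2,0,4,1,3,4,4,4,4,0,2,2,0,2,2,4,4,1,1,3,0,0,4,0,3,0,2,2,4,2,4,0,4,3,1,1,0,1,3,3,1,0,1,3,2,3,4,0,4,0,4,4,1,3,0,3,3,3,0,2,1,2,1,1,1,2,2,0,3,0,0,4,0,0,1,4,2,1,3,3,0,3,4,3,2,4,3,2,3,4,0,3,0,0,2,2,4,0,0,1,0],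
[4,1,0,3,4,0,2,0,0,0,3,1,4,3,0,4,3,1,3,2,4,0,2,0,4,4,0,1,2,1,3,4,0,1,1,3,3,0,4,0,3,2,1,2,0,0,2,3,3,1,4,1,3,3,0,3,3,3,0,4,4,0,2,2,3,4,2,1,1,2,3,4,4,1,3,3,4,4,0,1,0,2,3,1,2,4,4,1,2,0,3,2,3,3,3,1,3,1,4,3,4,1,4,0,4,1,4,0,2,4,4],
[0,2,1,0,2,0,2,4,0,0,3,3,3,0,1,2,2,4,1,3,0,3,0,0,3,3,3,2,0,4,3,0,4,4,4,4,2,3,3,3,3,0,0,4,0,1,0,4,1,2,0,1,3,0,2,0,2,0,0,0,1,1,4,0,1,3,2,2,1,2,2,2,0,2,4,2,4,4,3,0,4,3,3,4,2,4,1,0,2,0,1,4,3,1,0,2,2,4,3,1,4,4,0,2,4,4,4,0,3,3,3],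
[2,2,2,3,1,3,0,1,3,0,2,3,3,4,0,0,1,2,3,4,1,1,2,1,3,1,4,1,4,0,3,4,2,0,1,2,1,1,4,3,2,2,4,2,0,1,2,4,3,3,4,2,0,1,1,4,3,4,1,1,2,4,2,0,2,3,4,3,3,2,3,1,0,2,2,3,0,1,0,0,2,2,4,3,2,0,4,1,1,2,0,0,4,0,2,3,0,1,0,2,0,4,3,1,4,2,3,1,1,4,1],
[2,4,1,2,0,2,1,2,1,4,4,2,3,1,0,1,3,1,2,0,1,1,1,2,2,3,4,1,4,1,4,2,3,3,0,0,4,2,4,4,2,1,1,4,3,3,2,3,0,4,3,0,2,2,1,0,0,2,4,2,0,4,4,4,2,3,2,1,1,2,3,0,4,3,0,2,2,2,2,0,1,4,0,0,2,2,1,1,0,1,3,1,0,1,1,3,2,3,2,1,1,1,0,4,0,2,2,4,0,3,3],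
[2,3,4,4,1,1,3,3,2,2,4,1,4,1,1,0,1,3,2,4,2,0,3,2,4,1,2,4,4,3,0,4,0,3,1,1,0,3,0,3,2,0,4,4,0,2,2,2,2,1,3,0,1,2,2,4,3,1,3,0,0,2,3,3,2,1,3,4,2,4,0,3,2,3,0,1,4,3,3,0,4,3,1,4,4,4,4,1,3,0,2,2,1,2,1,0,2,1,3,2,3,3,1,1,4,0,0,2,2,2,3],
[4,2,2,4,1,2,4,4,1,0,4,0,1,4,0,0,3,3,4,1,4,0,2,3,1,4,2,1,4,3,3,1,0,0,4,4,3,3,2,2,2,4,4,1,2,3,0,2,3,4,4,0,1,2,2,3,3,0,4,1,4,0,1,4,1,2,1,4,0,1,0,2,4,2,0,3,3,3,3,0,4,3,3,2,0,1,4,2,0,4,4,2,4,3,3,1,1,1,4,3,3,0,4,3,1,1,3,2,1,1,4],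
[3,2,2,3,3,1,2,1,4,2,0,3,1,4,4,0,4,2,3,4,0,0,0,3,0,3,4,2,0,2,2,2,2,4,3,3,1,4,4,4,4,4,3,4,4,4,2,2,1,4,4,3,1,3,2,2,3,3,0,3,4,3,4,0,3,1,4,1,3,2,0,4,4,1,0,3,2,3,4,0,3,2,2,0,4,4,4,0,1,0,1,3,0,2,4,0,3,2,1,4,0,3,4,3,2,2,3,0,2,3,1],
[2,2,4,4,1,0,0,2,3,1,1,1,2,0,0,4,1,0,1,2,4,1,2,1,4,1,2,4,1,2,4,2,4,3,4,4,3,2,4,0,3,3,2,2,3,4,3,0,2,4,4,4,4,0,1,1,4,4,1,4,1,3,2,4,1,3,1,2,3,0,2,0,4,0,0,4,3,4,2,2,0,3,3,3,2,2,4,0,0,4,0,4,0,0,1,0,0,3,2,3,3,0,1,0,0,2,4,0,2,0,2],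
[0,0,0,0,2,3,0,3,3,0,0,3,3,3,3,2,1,2,3,1,1,4,0,1,1,2,3,1,3,3,2,4,0,3,3,3,1,1,3,1,4,4,4,0,2,2,3,2,3,3,1,4,2,0,2,3,2,2,0,4,3,0,3,0,4,3,3,0,2,1,1,4,0,4,2,0,2,2,3,1,0,3,3,4,2,4,4,3,1,2,3,1,4,0,4,3,1,0,2,2,0,2,4,0,0,2,4,3,0,1,0],
[4,4,1,1,3,4,3,3,3,2,4,4,3,3,4,3,0,3,4,3,4,2,4,3,0,3,3,4,2,2,1,1,2,2,2,1,1,4,0,0,2,3,2,1,0,2,2,3,4,3,1,1,3,1,2,0,1,1,1,1,0,3,0,0,3,1,4,1,4,4,1,2,4,3,1,0,1,2,4,0,0,2,1,3,3,3,1,0,2,4,3,1,3,3,2,0,0,0,0,4,0,0,2,1,2,3,0,2,2,3,1],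
[0,2,0,0,1,1,3,1,2,1,0,2,3,4,0,3,4,0,0,1,1,0,3,3,3,2,0,2,2,3,0,4,3,3,3,3,2,0,3,3,1,4,4,2,1,1,0,0,3,3,4,0,4,3,2,1,1,3,4,1,4,1,3,4,2,2,1,4,2,4,1,3,4,3,4,2,4,4,2,1,3,1,2,3,4,4,3,0,0,4,1,3,1,2,4,4,4,4,1,3,0,3,2,2,0,4,3,0,1,2,2],
[0,2,2,3,0,1,4,2,3,0,2,3,0,4,0,4,1,0,3,0,3,3,3,2,4,1,1,3,4,0,2,4,4,1,2,2,0,0,4,3,4,3,0,2,0,2,2,2,4,4,4,1,2,3,3,2,2,1,0,0,4,3,4,2,3,3,0,1,4,0,2,0,0,0,3,2,3,0,3,2,4,4,3,1,1,1,4,1,0,3,3,1,4,0,1,1,4,3,2,2,2,0,0,2,3,1,3,1,3,4,0],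
[1,3,4,0,0,0,1,1,0,2,4,3,1,3,4,4,1,1,2,3,3,3,3,3,2,3,2,4,0,0,0,0,1,0,0,4,0,1,2,2,2,1,0,2,4,2,3,2,0,2,1,0,3,4,3,0,1,4,1,4,2,4,4,0,4,1,4,3,4,2,3,4,0,4,2,4,1,2,1,0,0,4,0,4,2,1,1,4,4,1,2,2,2,4,0,1,0,4,4,4,3,4,0,0,3,0,3,1,3,4,2],
[1,4,3,2,4,4,4,4,3,1,3,2,4,0,3,3,3,0,3,3,1,4,0,3,0,1,1,4,3,1,3,2,3,4,4,3,0,0,0,2,4,3,2,0,3,4,1,1,2,0,4,3,3,2,3,4,3,2,4,4,4,2,1,2,1,2,3,2,0,3,4,2,2,2,2,2,3,0,0,2,2,2,1,4,2,2,2,4,4,0,2,1,1,4,0,1,0,3,1,2,3,1,3,3,0,0,4,3,1,4,4],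
[3,3,0,0,1,0,1,2,2,3,1,0,1,0,3,3,2,4,4,4,2,3,2,0,2,3,2,0,4,0,1,1,2,4,4,1,1,1,2,2,0,4,4,0,4,3,4,4,1,4,4,4,4,3,3,1,4,0,0,3,0,0,0,4,0,4,0,4,2,0,2,1,4,3,0,4,0,2,1,2,1,4,2,0,3,0,2,4,0,1,4,3,4,2,3,1,1,2,3,3,1,3,2,1,1,0,3,4,2,4,3],
[0,0,0,0,0,0,0,2,1,3,4,4,1,3,3,2,0,2,2,3,0,3,1,3,0,2,0,3,3,3,2,1,4,3,1,2,1,2,0,3,2,2,2,2,3,4,1,2,4,4,3,0,2,3,3,1,3,0,3,2,4,0,2,2,1,2,1,1,4,4,3,3,2,0,4,1,4,2,3,3,1,4,2,3,4,4,3,1,3,1,2,0,3,2,3,2,0,0,2,3,1,0,3,3,4,0,0,0,0,3,0],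
[0,0,0,0,0,0,0,0,2,0,3,4,1,0,4,1,3,0,1,4,2,0,2,4,4,4,4,3,2,1,1,2,4,0,1,0,2,1,1,1,0,2,3,4,4,3,1,0,4,4,0,1,4,2,2,0,4,2,0,0,4,4,2,3,4,0,3,3,4,4,3,3,1,2,0,3,1,4,2,2,2,2,1,4,2,1,0,2,4,1,0,1,1,3,2,0,1,3,2,0,1,1,3,2,3,2,0,0,0,1,4],
[0,0,2,0,0,0,0,0,0,0,0,2,4,0,1,3,1,1,4,3,1,2,4,3,3,4,4,3,3,4,2,2,1,4,2,0,2,3,2,4,3,2,4,1,2,0,0,2,4,3,1,1,4,2,2,3,4,1,3,0,2,0,4,2,1,2,2,4,4,3,1,2,1,4,0,1,2,3,0,2,3,1,4,3,4,0,0,0,1,2,4,4,3,2,2,1,3,1,2,1,1,1,4,2,0,0,4,4,0,0,0],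
[0,0,0,2,0,0,0,0,0,0,0,1,1,4,3,3,0,2,2,2,4,1,2,4,4,2,0,0,0,1,2,3,1,3,1,3,2,0,4,3,2,1,0,0,3,2,1,1,1,4,0,2,4,1,4,0,2,0,3,4,0,2,2,4,3,0,2,3,4,3,4,4,3,4,0,1,3,3,0,0,2,3,1,4,1,4,0,3,2,3,0,4,2,2,0,0,4,4,3,2,4,1,2,3,0,0,4,4,2,0,0],
[0,0,0,0,2,0,0,0,0,0,0,1,2,1,3,1,4,4,4,0,3,2,3,4,1,4,1,1,2,0,4,0,2,3,1,3,1,0,3,2,1,0,0,4,0,4,4,2,2,3,2,2,0,1,2,3,3,4,0,1,3,2,2,1,3,3,2,1,4,2,2,3,3,4,1,0,2,4,4,3,0,3,1,3,3,0,1,3,2,2,2,1,4,4,0,4,0,3,1,4,1,1,4,0,0,0,4,0,2,0,0],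
[0,0,0,0,0,0,0,1,3,2,1,1,4,2,2,3,0,3,3,2,0,2,2,4,0,3,3,4,2,2,3,3,2,4,4,3,2,1,0,2,4,1,3,3,2,2,3,1,1,1,2,0,1,4,2,0,1,0,0,3,1,0,1,3,4,3,3,1,2,1,1,0,3,0,3,4,1,3,4,2,3,2,1,4,3,2,4,3,2,4,3,0,4,3,0,2,1,0,1,2,4,0,4,2,1,0,0,0,0,1,0],
[0,0,0,0,0,0,0,0,1,0,2,1,4,0,1,4,4,0,4,1,1,0,0,2,1,1,4,4,3,4,4,1,2,0,4,0,3,3,4,4,3,1,2,1,1,4,3,0,1,1,0,2,2,4,0,1,0,1,0,0,1,1,1,2,1,1,4,1,4,1,0,0,4,3,1,2,4,1,1,3,1,1,3,2,3,3,0,1,1,4,0,2,3,0,3,3,0,4,2,0,4,4,4,3,1,2,0,0,0,1,2]]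

noncomputable def carTab1 : List (List ℕ) := [[2,1,0,0,0,3,1,3,3,4,2,4,1,4,2,3,3,0,2,1,3,4,0,2,1,0,4,0,1,3,3,2,0,1,1,0,4,3,2,4,4,0,1,3,1,3,2,0,4,3,4,4,1,4,2,3,1,2,1,1,4,0,0,0,3,4,3,4,2,3,3,1,3,2,0,4,0,1,3,1,2,1,1,0,0,1,3,3,3,3,2,3,3,3,4,4,1,2,0,0,4,4,3,1,4,0,0,0,0,0,2],
[1,2,0,0,0,2,0,4,2,0,3,3,3,2,4,4,1,3,0,1,4,0,4,1,3,3,3,0,0,1,4,2,0,4,2,1,4,0,3,2,0,0,3,0,1,1,4,4,2,4,3,1,0,1,1,2,3,4,0,3,4,4,4,1,2,1,1,2,3,4,4,3,1,3,4,0,3,3,1,0,2,3,0,3,0,0,2,3,3,4,0,4,4,2,0,1,3,1,4,2,3,2,4,3,2,3,0,0,0,3,2],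
[0,0,3,4,2,0,0,0,0,0,0,0,4,4,4,1,1,1,4,2,0,1,1,3,0,2,3,2,2,2,4,2,0,4,0,2,4,2,1,3,2,3,2,1,3,0,4,1,4,1,4,3,3,2,2,1,2,1,1,4,4,0,4,4,3,0,4,0,3,2,2,1,4,2,3,4,0,0,0,3,3,1,3,1,0,2,1,0,0,1,0,1,2,4,3,2,4,0,0,1,3,0,3,3,0,0,3,1,0,0,0],
[0,0,1,3,1,0,0,0,0,0,0,2,3,0,1,0,0,2,3,1,1,3,1,3,4,3,0,2,2,0,0,0,3,1,2,1,1,1,2,3,0,0,4,1,4,2,1,4,3,2,3,2,0,3,3,0,4,0,4,0,4,3,0,0,0,4,4,0,0,0,1,3,1,1,3,4,0,0,3,3,0,1,2,4,3,2,0,0,4,2,1,3,2,3,2,2,1,1,4,2,3,3,0,3,0,0,4,1,1,0,0],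
[0,0,2,4,3,0,0,0,0,0,0,1,2,1,4,2,4,4,2,0,2,0,1,0,0,2,4,2,0,3,3,4,4,3,1,1,3,3,1,3,0,3,3,0,0,4,1,3,2,1,2,2,3,3,0,3,1,4,4,1,4,3,1,3,2,4,0,3,0,4,4,2,4,2,4,4,2,2,0,0,1,0,4,4,2,2,2,1,0,2,3,1,1,2,1,1,1,2,2,4,3,1,1,0,0,0,0,4,4,0,0],
[4,3,0,0,0,4,0,0,1,0,1,0,1,1,1,4,4,3,2,4,2,4,4,4,0,1,4,1,1,2,4,4,2,0,0,1,4,4,0,3,4,0,1,1,4,1,4,4,4,4,2,0,3,1,3,4,0,1,0,4,3,1,3,1,3,3,4,3,4,2,4,3,4,1,4,1,0,4,1,1,4,2,1,3,0,4,2,3,4,3,3,1,3,1,0,0,0,3,4,2,0,1,1,3,2,3,0,0,0,2,3],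
[1,4,0,0,0,3,3,2,2,1,1,0,0,0,3,4,4,3,0,3,3,3,1,4,0,2,0,1,3,3,4,3,0,3,0,3,2,2,0,4,3,4,0,1,3,1,4,4,0,3,3,0,3,1,2,3,3,1,0,0,2,2,0,0,1,4,1,3,3,2,4,1,2,3,4,0,3,4,2,3,3,2,4,0,0,2,2,1,3,3,1,2,3,1,2,2,1,2,1,2,1,3,2,3,2,0,0,0,0,0,4],
[0,3,4,0,3,3,4,4,0,3,2,3,0,1,0,1,3,0,1,2,2,4,3,1,3,0,2,3,1,2,2,4,0,0,4,1,3,1,3,4,0,4,4,0,3,3,4,2,0,0,2,2,1,3,0,3,3,0,0,3,0,0,3,2,0,1,0,3,1,0,1,2,1,0,4,4,4,1,0,0,2,2,4,3,3,4,0,0,2,3,0,4,1,4,2,2,2,4,4,1,1,0,1,3,3,1,1,1,0,4,2],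
[0,4,2,1,0,2,2,2,0,1,0,3,4,3,3,1,3,0,3,4,4,1,2,4,1,1,0,0,3,4,3,0,0,2,2,2,2,3,2,1,1,0,2,1,4,2,4,3,3,2,4,0,3,3,1,0,4,2,4,0,0,2,0,0,1,4,4,2,2,4,2,1,0,1,0,4,2,2,2,0,3,2,0,3,3,0,2,1,4,2,3,0,2,0,3,1,3,0,3,4,1,1,4,4,3,0,4,4,4,3,0],
[4,4,2,4,1,4,4,3,3,0,0,3,3,0,3,2,4,3,1,2,3,3,2,2,3,1,1,1,4,4,2,3,0,1,2,4,4,3,3,2,4,0,3,1,2,3,3,3,0,0,0,1,3,1,1,0,1,0,0,3,1,3,0,0,3,1,0,0,4,3,2,4,4,3,1,1,0,0,0,1,0,1,1,3,0,2,4,2,3,0,2,1,3,4,1,2,1,1,1,3,2,1,3,0,1,4,0,3,2,0,1],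
[1,0,1,3,3,2,0,1,0,1,2,4,4,0,4,4,1,4,4,3,1,2,0,4,2,0,0,4,1,3,0,3,0,4,4,2,1,3,2,1,1,0,1,0,2,2,4,3,2,2,2,2,2,0,1,4,3,2,4,0,1,1,1,2,4,0,1,4,4,2,1,0,0,4,4,3,1,2,0,4,1,2,4,1,1,4,4,2,0,1,2,3,3,0,0,4,1,0,4,2,0,2,2,3,3,2,2,4,0,3,0],
[3,1,2,0,2,3,4,2,1,4,0,2,4,2,4,4,2,2,2,2,4,2,3,2,3,3,4,3,2,3,2,2,0,4,3,3,0,0,1,0,1,4,3,2,0,3,2,2,0,0,1,3,2,1,2,0,4,3,4,3,4,4,3,4,0,0,2,3,2,0,0,3,4,1,2,0,3,3,4,3,1,1,4,3,2,0,2,2,3,1,1,2,3,1,1,4,4,2,1,1,1,4,1,3,0,3,0,4,0,2,2],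
[3,0,4,0,4,3,1,3,4,3,3,4,1,3,2,3,0,3,2,4,3,3,4,0,2,2,0,0,3,1,1,2,3,4,3,2,4,3,0,3,3,0,1,0,0,0,3,4,1,1,2,4,2,2,3,4,1,4,1,1,2,1,3,2,3,4,1,4,0,1,0,1,3,4,3,0,2,0,0,0,2,3,4,4,1,1,4,3,4,4,0,0,4,3,2,0,4,2,4,4,1,3,1,1,2,3,2,0,1,2,0],
[0,0,4,3,0,3,2,4,2,0,2,3,1,1,0,3,0,1,2,4,3,2,4,2,0,0,0,4,0,3,1,2,4,3,3,3,1,1,1,2,3,1,1,3,3,3,1,1,3,4,4,1,4,2,2,0,2,4,0,3,1,2,4,1,3,2,1,3,3,3,3,2,1,1,3,4,0,0,4,0,2,3,3,2,1,2,4,2,2,1,0,2,2,3,0,1,3,1,1,4,0,3,1,4,0,1,1,0,0,2,4],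
[0,1,0,0,2,0,4,1,4,4,1,2,4,0,4,1,1,2,0,3,3,3,3,3,1,4,1,0,4,4,2,2,2,1,4,4,2,1,1,2,3,1,2,1,1,1,2,2,1,0,0,0,0,1,2,0,0,0,2,1,1,0,2,3,4,2,1,3,1,1,0,0,2,2,2,3,1,1,3,4,3,4,2,1,0,1,3,1,3,0,4,1,0,4,0,3,1,1,2,1,4,1,0,3,3,3,3,2,0,2,2],
[1,1,0,3,3,2,3,2,1,4,0,3,3,0,4,1,3,4,1,0,0,4,2,0,4,2,0,0,0,0,4,4,0,0,2,2,0,0,4,4,3,0,3,4,4,1,3,3,2,3,3,3,3,4,0,0,4,4,4,1,3,3,0,2,4,3,1,0,0,1,1,0,2,3,0,4,0,3,3,2,1,1,4,1,0,3,0,2,3,0,0,3,2,0,1,2,4,2,3,4,4,0,4,3,2,1,3,1,0,4,2],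
[3,1,2,1,4,1,0,1,3,4,3,0,4,3,3,0,4,0,4,0,4,4,2,0,4,0,0,0,3,2,2,0,1,2,0,3,2,4,3,2,2,1,3,4,0,0,1,4,0,2,0,4,3,0,0,3,4,1,3,0,1,2,0,3,3,1,1,0,1,3,4,2,3,2,4,0,2,2,3,2,2,3,1,1,0,3,3,2,3,4,0,1,1,2,0,4,2,3,1,1,3,2,2,2,1,4,2,4,2,1,1],
[1,0,1,1,0,4,3,3,2,4,2,1,4,0,4,4,4,1,1,2,2,4,4,3,2,1,0,3,2,2,0,4,2,4,1,4,4,1,2,3,3,2,3,4,0,2,3,4,0,2,0,0,4,0,3,2,1,0,4,1,2,2,0,0,4,0,2,4,3,2,0,1,0,3,4,4,4,0,4,2,0,3,3,4,0,2,1,4,3,2,1,4,1,2,2,4,3,3,1,0,1,3,1,2,0,1,0,3,4,1,4],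
[1,1,1,2,0,4,0,0,2,3,2,2,2,4,0,4,2,0,1,4,3,0,1,3,0,1,4,2,2,3,2,4,2,1,0,0,0,1,2,4,3,4,4,0,3,0,2,0,0,3,0,0,3,0,2,2,2,2,0,4,4,3,2,2,1,1,2,4,2,1,3,0,4,2,3,4,3,1,3,1,1,4,4,0,2,2,0,3,0,2,1,2,0,0,0,1,0,4,2,4,1,3,0,3,4,0,1,0,2,4,3],
[0,3,1,2,0,4,2,0,2,0,1,3,2,0,4,3,4,4,0,0,1,3,0,2,2,3,0,2,3,2,3,3,4,0,4,0,1,2,2,0,1,2,4,1,4,0,3,3,0,0,3,0,1,3,3,0,0,3,3,4,1,0,2,4,3,3,0,1,3,3,4,2,4,1,3,3,3,0,4,0,2,0,2,4,0,1,0,0,2,1,2,1,0,1,1,2,4,1,1,2,2,2,4,2,4,2,4,4,0,0,3],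
[3,4,3,3,3,0,0,2,4,3,1,1,3,2,1,1,1,4,4,2,4,2,3,1,2,4,0,2,2,2,4,2,4,0,1,1,0,3,0,4,3,0,0,2,3,1,1,1,1,3,0,3,2,3,4,4,4,0,2,4,0,2,3,4,2,2,3,3,0,1,3,1,0,4,3,1,1,0,3,3,3,3,1,0,3,0,1,4,0,3,0,1,4,0,1,1,2,4,4,0,1,0,1,3,3,1,1,4,0,4,3],
[1,1,2,1,2,4,2,0,4,0,1,3,1,4,4,3,0,4,4,1,3,2,3,3,3,3,1,1,1,1,2,3,3,2,0,2,2,1,4,4,3,1,1,2,0,3,4,4,0,2,3,4,3,1,0,1,0,0,3,4,3,1,2,0,4,2,3,3,0,1,1,0,2,3,4,3,4,2,0,3,2,2,2,0,0,2,1,1,2,4,0,3,4,1,4,3,4,0,3,2,0,2,2,1,4,2,1,3,4,4,1],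
[1,0,1,1,4,0,0,3,2,1,1,2,0,3,4,0,2,0,4,1,1,0,1,0,2,1,1,3,3,3,2,3,4,0,0,4,0,3,2,4,3,3,2,3,1,0,2,1,2,2,2,2,0,3,1,0,3,0,0,3,2,0,0,0,4,3,0,3,0,2,4,3,0,1,1,0,0,3,0,4,2,4,2,2,2,4,3,3,3,2,0,3,3,0,2,3,1,4,3,3,3,1,2,4,1,1,4,1,2,2,0],
[1,3,2,2,3,2,2,2,0,2,1,2,2,2,1,4,0,2,0,3,0,1,2,0,4,3,3,0,0,2,3,3,4,0,1,2,2,0,0,0,0,2,4,2,0,1,1,2,0,3,2,2,3,4,4,2,1,1,1,0,1,2,2,0,1,1,1,4,4,0,4,0,3,3,2,4,3,3,3,3,2,1,2,0,1,0,1,0,2,0,1,3,4,1,3,2,0,3,2,0,1,0,0,3,3,0,3,1,4,4,2],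
[1,4,4,1,3,1,4,3,2,2,3,4,1,1,4,0,4,3,2,0,2,0,4,0,0,0,2,0,3,3,4,4,1,0,3,3,1,1,1,4,4,2,2,3,3,0,0,4,4,3,3,4,4,3,4,1,3,2,0,3,3,0,4,2,2,0,3,2,2,0,3,2,2,2,3,0,4,0,4,0,3,0,1,4,4,3,3,0,4,4,3,4,0,1,3,3,3,4,2,4,3,3,4,2,2,3,2,2,0,0,2],
[1,2,4,0,2,3,3,4,1,3,4,0,3,2,4,2,2,2,2,2,1,2,4,2,3,3,0,2,0,2,1,2,3,0,1,2,0,0,0,1,4,3,2,4,0,3,2,1,2,1,4,1,0,1,3,2,1,0,0,0,3,3,2,1,0,4,3,3,1,0,2,2,2,3,2,4,3,2,0,1,1,0,1,1,1,4,4,1,4,2,0,2,2,1,3,0,4,1,3,4,4,2,0,3,3,1,0,4,0,3,0],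
[2,4,4,1,2,1,3,3,4,0,2,0,0,1,3,4,2,4,3,4,4,4,4,3,0,1,1,4,0,4,1,3,0,0,2,1,4,4,3,0,3,4,4,2,0,2,1,0,0,2,0,1,2,4,3,2,1,1,1,1,4,2,3,2,4,1,2,0,1,3,2,3,4,3,1,4,2,2,4,1,3,0,2,1,0,4,2,2,3,4,2,0,1,0,0,0,2,2,4,3,0,1,0,1,3,4,1,2,1,1,0],
[0,4,2,4,4,1,1,1,1,2,0,0,3,3,4,3,1,0,3,1,3,0,3,4,1,3,2,0,0,0,2,4,0,4,2,0,0,4,0,4,1,1,4,2,0,1,0,3,2,3,4,3,0,2,1,4,1,0,0,0,4,1,0,4,0,3,2,3,0,1,1,1,2,1,3,1,2,2,2,3,0,3,1,0,2,1,0,1,4,4,3,0,4,1,3,4,3,1,0,4,1,3,2,2,0,2,2,3,0,2,3],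
[0,4,1,1,3,3,0,3,1,2,2,2,0,4,3,0,4,1,4,2,1,0,0,3,2,0,2,0,0,1,1,0,2,4,2,3,4,2,2,3,0,3,4,1,2,3,3,3,4,4,4,3,2,1,2,2,4,4,0,1,4,3,3,4,1,0,3,4,3,1,0,2,1,1,0,2,0,1,2,4,3,2,3,0,0,1,2,0,0,0,1,0,3,0,2,3,2,1,3,4,4,3,4,1,1,4,3,3,4,2,4],
[2,4,1,3,4,4,4,0,2,2,1,3,2,1,4,1,1,3,1,4,4,3,0,3,4,3,0,2,3,1,3,3,1,2,1,1,2,1,2,4,1,0,0,0,2,3,0,0,3,2,3,3,3,2,1,1,2,4,2,4,4,3,2,1,0,1,1,3,1,0,1,4,2,0,1,2,1,4,4,4,4,1,2,3,2,0,1,2,0,3,3,4,3,4,2,4,3,3,2,4,3,4,1,1,4,1,3,1,2,1,0],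
[3,1,1,3,2,3,1,4,2,0,0,3,4,0,3,3,1,3,3,2,2,2,2,4,4,0,3,1,2,3,1,2,4,4,3,4,3,2,1,4,0,0,1,4,4,0,3,0,1,3,2,4,0,3,0,3,4,3,0,2,1,1,4,2,1,3,3,1,4,4,2,0,4,4,3,4,0,2,1,2,0,3,3,1,2,0,2,2,1,1,2,1,0,2,0,2,2,3,4,3,1,0,4,1,3,1,2,3,0,2,1],
[3,4,3,1,0,2,4,1,3,0,2,3,4,4,3,4,2,0,1,1,3,0,1,4,0,1,2,4,2,0,1,2,3,1,2,1,3,1,3,2,1,3,4,2,0,2,1,2,4,2,3,0,0,1,2,4,3,0,1,3,1,2,3,4,3,0,4,0,4,2,1,4,4,4,4,1,4,1,1,4,3,1,2,3,0,4,2,4,1,1,3,2,0,4,3,1,2,2,1,3,0,3,0,0,2,3,4,2,1,4,0],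
[0,2,1,0,0,0,3,0,1,3,3,0,2,2,4,0,4,2,4,3,3,3,4,0,3,1,3,0,2,4,3,0,4,0,2,0,1,1,1,1,2,4,1,3,4,1,3,2,1,4,2,1,4,0,2,3,0,1,0,4,4,3,2,0,1,1,4,3,4,0,1,1,4,3,4,2,2,1,2,4,0,4,0,2,3,1,1,2,3,3,1,3,4,1,3,0,4,0,4,0,0,3,0,4,1,1,0,2,3,4,1],
[0,3,3,1,4,3,3,1,4,4,0,1,1,0,0,2,1,2,1,2,0,1,2,2,3,0,2,1,1,2,1,3,4,3,2,4,4,2,3,4,0,1,3,2,2,3,4,2,2,1,4,4,0,4,3,1,0,0,0,2,4,4,0,0,0,3,0,1,4,2,3,1,0,3,2,3,1,3,4,3,3,4,0,3,3,2,3,0,3,2,3,3,4,2,4,1,4,0,0,4,3,1,0,4,2,3,2,2,3,4,4],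
[2,0,3,4,1,0,2,2,3,3,0,1,0,2,1,2,2,3,4,1,2,2,0,3,4,4,0,3,4,0,4,0,4,3,3,1,4,2,2,3,1,4,3,4,3,1,4,2,4,4,2,4,1,2,2,0,4,4,1,3,0,1,2,4,1,4,1,4,4,0,3,3,0,3,0,4,3,0,1,3,2,2,4,0,1,4,4,3,3,4,1,0,1,3,4,0,2,2,2,1,3,4,2,2,3,4,4,1,3,3,0],
[1,1,2,1,1,3,3,0,4,3,3,4,4,3,0,2,1,1,3,0,3,4,0,0,4,4,1,1,1,2,0,4,2,1,1,1,2,2,1,2,0,2,2,3,0,1,4,1,3,3,1,2,0,3,4,1,0,2,0,3,4,1,2,4,4,1,3,1,3,1,4,0,3,1,4,3,0,3,3,2,1,1,2,0,4,0,1,1,3,4,2,2,0,4,1,1,4,4,2,4,3,0,0,0,4,2,4,0,2,1,1],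
[2,1,1,2,0,2,4,4,0,0,1,3,1,0,2,3,0,3,2,3,0,4,4,4,3,2,4,3,1,2,0,0,1,3,0,4,3,0,3,3,2,2,3,0,1,4,3,2,3,0,1,3,4,1,1,3,1,4,4,1,2,4,1,4,2,2,0,0,1,1,4,0,1,4,1,2,1,0,1,1,1,2,2,3,0,0,0,4,2,3,1,1,3,4,3,3,0,0,2,4,2,3,2,4,1,4,2,0,3,3,4],
[4,0,0,0,1,3,1,3,4,4,0,0,2,0,0,2,1,4,2,0,1,2,0,3,0,2,3,1,2,1,2,0,0,2,4,3,4,2,1,0,4,4,1,1,1,2,4,0,2,3,3,2,0,2,2,3,1,1,2,2,4,3,0,4,0,4,0,0,2,1,0,2,0,2,1,3,1,4,2,4,2,2,3,2,3,3,1,2,0,0,2,3,1,2,3,3,3,1,3,4,3,1,2,0,4,1,3,3,2,3,1],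
[0,2,2,0,4,4,0,2,3,3,3,1,2,3,3,4,3,1,4,1,4,2,3,2,3,4,2,0,3,4,4,2,1,3,3,1,1,4,1,0,4,2,1,2,4,2,2,3,0,1,0,0,1,4,2,3,0,0,4,4,2,1,0,4,0,3,0,1,0,0,1,1,0,4,1,3,1,3,3,1,3,3,1,1,3,4,0,3,0,0,2,1,0,4,2,2,4,2,0,3,1,2,3,3,0,0,3,2,0,0,0],
[2,0,3,0,4,2,1,3,1,3,0,1,4,2,4,2,2,4,4,0,4,3,0,3,1,4,4,4,0,2,4,1,2,4,4,1,4,3,2,1,3,2,1,4,0,1,3,1,3,3,0,1,0,0,0,4,3,4,4,4,4,2,0,0,3,2,3,1,2,1,2,1,2,4,4,0,1,4,2,4,0,3,0,1,3,4,1,1,2,1,1,1,4,2,4,2,0,0,3,0,0,3,4,3,4,2,2,3,2,2,3],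
[0,1,1,3,3,1,1,2,3,3,2,4,4,1,3,0,2,3,2,2,1,0,2,0,3,3,3,3,4,3,1,4,3,3,3,1,1,4,3,2,4,0,3,3,1,2,3,3,1,0,0,2,4,2,0,3,2,0,1,1,2,0,4,3,3,3,3,0,4,1,2,4,1,0,2,1,2,0,1,4,1,2,3,1,2,1,0,3,3,1,1,0,2,4,2,1,2,0,0,3,2,4,1,2,2,2,3,4,2,4,2],
[0,1,3,4,2,4,1,1,2,0,3,3,2,2,4,2,0,4,1,2,0,3,2,0,3,3,3,4,4,2,0,2,1,2,3,4,1,2,1,0,4,1,3,2,0,4,3,1,2,3,0,1,3,3,2,1,2,0,4,1,3,2,3,1,1,0,3,1,3,4,4,1,1,0,2,4,0,1,1,3,0,3,3,0,2,3,0,1,0,3,3,0,2,0,2,1,4,2,3,1,2,3,3,1,3,0,4,3,4,0,2],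
[0,1,1,1,3,3,3,0,2,1,4,1,3,2,4,4,4,3,1,2,2,1,1,2,2,0,0,0,3,2,2,4,1,3,4,0,0,0,4,4,4,1,0,4,1,2,0,4,3,1,0,3,1,4,0,4,1,4,0,0,0,2,1,3,2,3,2,3,0,0,2,2,4,4,2,2,1,2,3,1,3,0,0,2,0,4,3,1,3,1,1,4,1,1,3,4,2,3,0,1,3,2,1,2,0,3,1,3,2,1,4],
[0,0,0,1,0,4,4,4,4,4,1,3,0,1,0,1,1,3,1,4,2,4,4,0,0,4,1,0,3,2,4,2,2,2,2,4,2,4,3,3,1,3,3,2,3,1,3,1,2,0,1,0,2,2,4,4,1,2,1,1,2,0,4,3,1,4,2,1,0,2,1,0,2,4,1,2,2,3,3,1,1,0,2,1,4,1,0,0,1,4,0,3,2,0,3,1,3,2,0,3,0,3,3,3,0,4,2,2,1,4,2],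
[1,2,4,3,2,3,3,0,0,3,2,4,2,4,4,4,3,2,1,4,0,3,4,2,0,1,3,4,2,0,1,1,2,2,1,2,0,3,4,2,4,0,4,1,0,0,3,3,1,3,0,2,4,2,0,1,1,1,0,0,3,0,4,4,3,4,0,3,3,4,0,0,2,0,4,2,1,1,3,4,2,0,2,1,2,1,0,3,1,1,0,4,1,3,4,3,3,4,1,0,2,1,3,4,3,1,4,4,2,3,1],
[3,0,3,3,2,2,1,1,3,3,3,4,0,3,4,4,4,4,2,3,0,2,2,4,4,2,2,1,4,1,4,1,1,3,3,0,0,3,0,3,3,4,0,0,0,0,3,3,0,4,4,1,4,1,2,3,3,0,1,3,2,1,2,1,4,1,2,0,3,2,1,3,2,1,0,3,3,2,3,4,0,2,2,3,1,1,4,2,1,4,0,3,3,1,3,1,1,0,4,2,0,2,2,3,4,2,4,1,3,0,2],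
[2,3,0,4,2,4,3,1,1,4,1,2,0,0,3,0,3,4,4,2,1,4,4,1,0,4,3,2,2,4,0,2,1,2,4,0,0,1,0,3,3,1,0,4,0,2,4,0,0,3,4,3,0,3,2,1,1,2,1,3,3,4,0,0,0,4,4,0,3,3,2,2,0,3,1,1,4,2,4,2,4,0,0,4,1,0,4,1,1,3,3,4,2,3,1,2,1,3,2,3,1,0,1,4,3,2,1,3,2,0,2],
[0,4,3,3,4,2,3,4,2,2,4,0,0,2,2,2,3,4,2,1,2,0,1,0,3,0,1,2,1,3,2,0,1,1,4,2,3,4,4,2,1,4,4,4,0,4,0,0,0,1,3,4,2,1,4,1,0,3,1,0,1,0,0,1,2,1,4,4,1,2,1,3,0,1,2,3,0,3,3,2,2,1,0,2,1,2,2,4,4,3,4,1,4,3,0,4,1,2,4,4,2,1,3,4,2,4,0,0,0,4,3],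
[3,1,0,0,2,1,4,2,0,2,2,4,1,0,1,4,0,2,4,0,1,4,2,4,4,4,1,2,0,3,1,3,1,2,2,2,1,0,0,0,2,4,2,2,3,4,1,3,1,0,2,2,0,0,4,1,0,0,3,0,0,3,2,1,3,3,0,3,0,1,4,4,4,4,3,4,3,4,2,2,0,3,0,1,1,4,4,3,0,3,4,2,1,0,3,3,2,3,2,4,2,2,3,4,3,4,1,0,0,3,3],
[1,3,2,1,3,3,1,1,3,2,4,4,3,2,0,0,4,1,1,1,4,3,2,0,3,2,4,2,2,2,4,1,3,4,3,4,0,0,1,1,4,4,1,0,3,1,4,1,1,1,1,4,0,0,4,1,0,1,3,3,2,3,4,3,2,0,1,4,3,1,2,3,4,1,2,3,4,2,1,2,4,3,1,1,0,2,2,1,2,0,4,1,3,1,0,3,4,2,1,1,0,4,3,3,0,4,0,0,2,1,1],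
[1,3,0,2,3,1,1,3,1,0,2,3,1,0,1,1,2,3,4,1,4,0,2,3,4,2,4,0,1,2,0,2,4,1,4,2,4,0,3,2,4,1,4,4,4,0,4,3,0,4,2,3,0,1,0,1,3,0,3,0,3,2,4,4,2,1,2,2,4,1,2,1,4,0,3,1,1,3,1,3,4,1,0,1,0,1,1,0,1,4,3,3,0,4,2,0,3,1,3,1,3,0,4,2,0,0,1,0,1,0,4],
[0,2,1,3,1,4,0,3,2,1,4,2,3,0,4,1,2,2,1,2,1,2,2,1,4,4,3,1,0,2,2,3,1,1,4,3,4,0,2,2,0,4,2,4,1,3,0,0,0,1,1,0,0,2,0,1,1,2,0,2,3,2,4,0,2,1,3,0,4,0,3,3,0,1,4,4,4,0,2,1,1,0,3,3,4,2,0,4,0,1,3,4,4,0,1,1,1,4,2,4,3,0,2,2,4,0,2,0,1,4,3],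
[4,2,0,1,3,1,0,4,4,1,0,0,0,0,1,3,2,4,4,2,0,3,1,2,0,2,2,1,1,1,4,0,4,3,3,4,3,3,4,4,0,3,4,1,2,0,0,2,0,4,4,4,4,4,3,2,1,0,3,1,0,4,4,2,3,4,4,0,1,3,4,0,0,4,0,4,1,3,0,1,3,2,4,1,4,3,0,1,2,4,1,0,3,4,4,1,1,4,4,0,3,0,3,3,4,1,3,4,2,0,0],
[3,3,2,2,1,1,4,3,1,2,0,1,1,4,0,1,1,2,0,2,3,1,0,2,0,3,1,1,4,1,2,1,4,4,0,3,3,1,2,2,2,4,1,2,4,3,2,2,0,0,2,3,4,1,2,1,4,1,1,4,4,2,4,4,1,1,2,1,1,0,2,2,2,4,3,0,2,0,1,3,1,4,1,3,0,4,0,2,3,0,1,4,4,0,1,2,0,4,0,3,4,3,0,1,1,3,0,1,1,0,3],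
[1,3,1,0,1,4,1,2,4,1,4,3,4,1,1,3,3,4,1,0,3,1,0,3,3,0,2,3,3,2,0,1,1,4,0,4,4,4,4,1,3,4,1,2,0,3,4,2,0,4,4,0,4,1,0,2,3,4,3,3,0,1,1,4,4,0,4,4,0,4,4,0,0,4,3,2,3,4,1,4,3,3,2,3,1,1,1,0,2,2,0,0,1,1,1,2,1,4,2,2,0,0,0,2,3,2,1,1,2,3,0],
[4,2,0,2,3,0,0,2,3,1,4,0,4,0,0,0,1,3,2,1,2,4,3,0,3,0,1,1,1,2,2,2,3,2,1,4,0,0,2,3,3,1,0,2,2,3,2,4,0,0,3,3,4,2,2,3,2,4,4,4,0,1,4,0,1,2,2,3,0,0,2,3,3,3,4,2,3,1,3,1,4,0,1,3,0,2,1,3,2,3,4,2,0,1,4,0,1,0,4,1,2,0,3,0,2,1,2,0,3,4,3],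
[4,0,0,4,2,4,3,3,0,3,3,0,0,3,1,3,2,0,2,3,2,0,2,0,2,4,4,0,2,4,3,3,1,3,2,4,4,0,3,2,3,1,4,3,0,4,0,2,0,4,3,0,4,1,4,1,2,1,0,0,4,0,1,3,1,0,3,3,4,4,2,2,3,4,2,2,4,2,4,3,4,0,1,1,4,2,0,0,4,0,3,0,0,2,0,1,2,2,3,4,0,2,4,0,2,0,2,2,3,1,4],
[4,2,2,4,3,3,0,2,1,0,2,4,2,4,0,1,4,4,0,4,3,0,3,3,3,4,2,3,2,1,4,0,2,1,0,2,2,2,2,2,4,4,1,0,3,1,3,0,4,1,0,3,2,0,3,1,3,3,1,2,0,1,4,0,2,4,2,2,4,2,3,4,2,3,0,1,0,1,0,2,1,2,4,0,1,0,2,0,0,4,2,4,2,1,0,4,3,2,3,4,1,3,1,0,4,4,0,4,2,3,4],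
[0,3,4,2,3,1,0,4,3,4,2,2,1,2,2,1,2,4,2,3,2,3,1,4,4,4,0,3,2,0,3,3,0,1,1,4,3,0,4,1,4,4,0,3,2,1,4,0,2,0,1,0,0,0,0,1,4,2,3,0,2,2,3,3,0,0,2,0,4,1,0,2,4,0,2,3,2,3,3,4,2,1,3,3,0,3,1,1,2,3,1,4,1,2,3,4,2,3,0,4,4,4,1,4,3,0,3,3,4,3,2],
[2,0,1,2,4,3,2,3,4,4,3,3,3,4,4,1,2,4,3,0,1,0,1,0,4,4,2,4,0,0,0,0,2,2,3,4,3,1,3,2,0,4,0,2,4,2,3,0,0,3,0,1,2,3,4,4,3,1,3,2,3,3,0,3,0,4,1,2,3,0,4,1,3,4,2,3,2,4,1,4,3,0,4,2,2,3,3,2,0,2,4,2,4,2,1,3,3,2,0,3,3,2,1,3,3,1,3,2,4,4,4],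
[3,1,0,2,4,1,1,3,3,0,3,3,2,4,0,1,4,0,2,4,4,0,0,1,2,0,1,4,4,0,3,1,1,1,3,0,2,3,0,1,2,2,1,4,0,4,0,3,4,0,0,1,3,2,0,2,4,1,2,3,2,1,2,1,4,0,3,2,0,2,1,0,1,0,3,3,3,3,3,4,4,1,2,0,0,4,1,1,3,0,2,3,4,0,1,2,1,3,1,1,1,2,3,3,3,0,2,1,0,4,3],
[2,1,4,4,2,3,4,3,0,1,1,3,2,3,4,0,0,2,3,0,0,4,2,4,4,0,0,3,1,4,1,1,3,3,1,1,4,3,4,3,3,1,2,2,1,2,3,0,1,0,2,4,2,1,2,3,3,2,3,0,4,3,2,4,3,4,2,2,4,3,4,3,1,3,4,3,3,4,0,4,1,2,2,1,0,3,0,0,1,0,3,2,2,0,2,1,0,2,4,4,1,4,1,2,3,3,2,1,0,0,4],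
[3,4,1,2,3,0,2,2,4,4,2,2,3,2,3,1,0,3,0,1,1,4,4,3,2,3,1,0,0,4,3,2,4,4,3,0,0,4,2,2,2,1,3,1,4,2,3,1,2,2,0,2,3,1,2,2,1,2,3,3,1,3,4,4,3,0,1,2,0,4,3,4,1,3,3,3,4,2,1,3,4,4,3,3,2,4,0,1,0,4,2,4,2,0,2,4,0,1,1,1,2,0,0,2,3,2,2,1,1,2,1],
[3,2,4,3,4,0,4,0,4,2,4,3,3,0,3,1,0,1,2,0,3,2,1,2,0,0,1,3,0,4,1,0,1,0,4,3,2,2,4,2,4,2,4,2,2,0,4,1,1,0,0,3,2,2,4,1,4,2,0,2,1,2,3,3,1,4,3,0,0,0,0,0,4,0,2,1,0,2,4,4,3,3,1,0,2,3,3,2,3,4,4,3,3,2,0,0,1,0,4,1,0,0,2,4,1,2,4,4,2,4,0],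
[1,0,4,1,1,1,2,2,1,4,3,1,3,4,4,2,2,3,1,2,0,1,1,0,3,3,0,2,0,2,1,4,2,2,2,2,0,0,2,3,1,4,2,3,3,2,2,4,1,4,3,0,4,2,3,0,2,2,2,1,1,4,2,2,1,3,3,4,0,4,1,4,3,4,1,3,0,1,0,1,4,4,0,3,4,0,4,2,4,4,2,0,0,1,3,1,4,3,0,1,3,2,2,4,4,2,2,0,2,4,0],
[4,4,3,3,2,1,0,3,2,2,2,3,0,2,1,2,3,2,1,2,4,1,3,3,4,4,4,1,3,1,0,2,1,2,4,4,3,1,3,3,2,4,2,2,1,3,3,1,3,1,1,0,3,4,0,1,0,1,2,3,1,2,2,0,3,1,4,3,2,2,2,0,1,1,1,3,2,0,1,3,2,2,1,4,4,0,4,0,0,3,1,4,4,0,4,0,1,3,3,1,1,4,3,2,3,2,3,2,2,2,2],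
[1,4,1,0,1,0,3,0,1,4,3,2,4,3,1,3,2,1,3,2,0,1,2,3,0,3,2,3,4,1,1,0,2,2,0,2,4,1,2,0,0,0,0,2,3,3,0,0,0,0,2,3,1,0,0,0,1,0,4,4,4,1,2,3,3,3,1,1,2,2,2,3,0,2,1,0,2,2,2,0,3,2,2,4,3,1,4,2,2,2,0,4,2,1,0,1,0,4,4,1,1,4,2,4,2,2,2,0,2,0,0],
[0,4,4,0,4,1,0,2,3,3,1,1,1,2,0,1,0,0,1,4,3,0,1,4,0,4,3,3,3,0,4,1,1,0,3,4,0,1,1,0,4,0,3,2,0,4,0,2,3,2,0,1,2,2,1,1,0,2,1,2,0,1,0,0,0,1,2,3,3,3,3,0,3,0,1,3,1,3,2,3,1,3,0,0,4,1,2,1,3,3,3,3,2,4,0,2,3,1,1,2,2,4,1,0,1,0,3,0,1,0,0],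
[0,1,0,1,3,4,3,1,1,0,2,2,2,1,4,3,1,3,0,3,0,0,4,1,2,1,3,2,4,1,0,1,4,1,2,0,4,2,3,4,1,3,2,2,3,3,0,4,0,3,3,2,3,0,0,0,3,1,0,0,4,3,1,2,0,2,4,3,4,3,4,2,0,2,1,1,3,1,3,0,4,0,2,4,2,1,2,0,0,0,4,3,4,2,0,3,4,3,2,1,4,4,1,3,1,2,2,1,1,1,1],
[0,1,0,0,0,2,4,3,0,0,1,4,3,0,3,0,2,3,3,3,2,0,0,4,0,2,1,4,1,1,3,1,1,2,3,0,1,3,1,3,1,4,2,2,3,1,3,1,2,3,2,2,3,2,1,3,3,2,1,4,3,2,2,1,2,1,1,4,3,2,2,4,1,3,2,1,0,0,1,2,3,3,1,0,1,4,0,1,1,2,0,0,0,3,1,0,0,1,2,2,0,4,1,0,4,0,3,0,0,4,4],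
[0,3,0,0,2,0,0,3,3,1,1,3,0,3,4,1,2,4,1,1,2,3,2,1,1,0,2,3,3,3,3,0,2,4,3,0,0,3,3,2,3,4,0,3,3,0,1,3,0,1,2,1,2,4,3,2,3,2,2,0,2,4,4,1,1,3,1,4,4,4,0,2,3,1,2,1,0,3,3,4,2,3,1,3,4,1,0,0,4,0,2,1,0,0,3,4,3,0,1,3,3,4,3,3,0,4,0,0,2,4,0],
[0,4,0,0,3,1,1,1,1,3,4,1,0,0,3,0,1,4,4,0,0,0,4,3,2,2,2,4,1,4,0,3,0,0,0,1,3,2,4,4,2,0,4,2,1,4,1,1,2,3,1,4,2,0,3,3,0,3,3,2,2,3,3,1,0,0,3,2,4,1,3,3,3,2,4,3,2,1,1,1,2,1,0,4,1,4,4,3,1,3,3,3,0,1,1,2,2,0,4,4,3,2,0,1,3,3,0,1,4,2,4],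
[1,0,3,0,2,4,3,1,4,1,1,4,4,0,3,2,4,3,1,3,4,4,3,3,4,2,1,4,1,3,4,2,1,2,1,0,1,2,4,3,2,2,1,2,0,4,4,2,4,4,4,0,3,2,3,2,3,1,4,3,4,2,1,2,4,0,0,4,1,1,3,0,4,1,4,1,3,1,2,2,0,3,3,4,3,0,3,3,0,4,3,2,3,4,0,3,4,3,1,2,4,2,3,4,1,3,0,0,0,2,1],
[4,4,0,0,1,1,0,3,1,3,1,0,4,2,4,0,3,2,4,3,2,0,2,1,4,2,0,1,2,4,4,2,4,0,0,0,3,4,1,1,1,4,4,4,2,0,0,1,4,2,4,2,3,4,4,2,2,4,3,0,0,1,3,4,3,1,3,2,3,2,4,3,3,0,4,3,3,4,3,2,3,1,4,4,1,4,3,4,4,0,0,4,0,1,2,1,0,1,3,0,4,3,4,2,0,3,1,1,2,4,1],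
[0,2,1,4,4,3,3,0,0,0,3,4,0,0,4,3,0,4,1,4,0,0,1,3,0,3,2,0,0,1,4,2,0,3,2,3,0,2,2,2,2,4,1,2,3,2,4,0,4,1,2,2,3,4,3,3,4,0,2,4,0,3,0,4,1,1,2,4,1,2,0,0,4,0,1,1,4,0,1,3,3,3,0,1,1,0,2,1,3,0,1,1,2,0,0,2,2,1,1,1,2,0,2,4,2,0,0,0,4,4,4],
[0,3,1,4,2,2,0,4,1,1,3,1,1,4,1,0,0,1,3,3,3,2,2,3,0,1,0,4,3,2,4,2,3,4,1,1,1,0,0,4,0,0,2,1,4,1,2,3,2,0,2,3,0,0,2,4,2,0,4,3,1,2,1,0,3,3,3,2,0,1,1,4,1,2,2,4,2,3,3,3,2,4,4,2,1,1,2,3,1,3,4,1,2,0,3,1,3,3,4,3,0,2,4,4,3,2,3,2,1,1,3],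
[3,3,2,2,1,2,1,0,0,0,0,0,2,2,1,4,4,0,2,0,4,2,2,4,1,3,3,2,3,3,3,3,0,3,1,0,1,2,3,0,3,0,3,2,2,1,2,4,1,3,2,3,2,0,4,3,4,2,1,2,2,0,1,0,3,2,0,3,4,1,2,1,1,0,0,1,2,1,0,4,4,4,0,3,3,0,0,3,2,3,1,1,0,0,0,0,2,3,4,2,4,0,0,0,3,2,0,4,1,2,0],
[3,1,0,0,1,4,3,0,2,2,4,4,2,3,0,0,1,4,0,1,3,2,4,4,3,0,3,2,1,2,0,2,0,0,0,4,1,0,2,1,3,2,4,2,1,0,1,1,4,1,3,2,2,2,3,4,1,0,3,3,2,1,1,0,2,2,1,3,3,4,0,2,2,4,3,4,4,0,2,0,4,1,3,4,4,3,1,0,0,3,0,2,0,4,3,2,1,3,0,3,4,3,2,1,4,3,3,4,4,0,3],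
[1,3,1,3,2,3,4,4,3,2,4,2,2,4,2,4,4,4,2,0,2,2,1,2,3,4,0,3,3,4,4,0,0,0,3,2,3,3,0,0,2,3,1,3,4,0,4,2,4,4,2,0,4,1,2,2,2,0,3,2,4,0,1,3,0,3,1,3,4,2,3,4,3,4,4,3,2,3,3,4,0,3,1,1,3,4,2,1,2,3,4,0,3,4,0,4,0,4,0,2,3,0,3,1,4,1,2,1,2,2,3],
[2,3,4,0,0,1,2,0,1,1,4,3,3,4,3,1,3,2,1,4,3,1,1,2,3,4,1,4,3,4,3,2,1,2,0,0,1,3,2,3,2,1,0,1,2,3,2,0,3,0,4,1,2,1,1,3,2,2,0,3,2,0,3,1,1,2,2,1,4,1,1,3,0,4,1,0,2,1,0,0,0,3,3,2,4,4,2,0,1,2,0,4,1,2,4,4,0,1,0,2,0,2,2,2,4,0,4,1,3,4,0],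
[3,4,2,2,3,4,2,1,2,2,0,3,0,4,3,4,1,1,4,2,2,2,1,0,3,3,4,1,2,1,3,1,3,3,0,2,4,4,4,1,3,2,1,0,2,3,1,1,0,1,3,4,1,4,0,2,2,0,4,4,1,1,3,3,2,4,3,4,3,0,1,0,2,2,0,1,4,1,1,4,0,1,1,3,3,1,4,2,4,3,4,2,2,2,4,3,1,1,2,0,3,0,0,2,2,2,3,3,0,3,4],
[0,4,3,3,0,3,4,3,2,1,2,2,4,1,3,0,2,0,3,4,4,2,2,3,1,0,0,1,0,4,4,0,4,4,3,0,1,1,0,1,4,4,4,3,2,1,1,0,1,1,4,1,4,4,0,4,2,1,3,1,3,2,4,4,1,4,0,2,2,3,3,2,4,2,1,1,0,0,2,0,1,3,2,3,4,1,3,2,3,1,2,0,1,3,1,1,0,4,1,4,4,1,2,3,1,2,4,1,0,4,2],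
[1,2,3,1,2,3,2,3,1,0,2,1,4,0,3,0,0,4,2,1,1,2,2,0,2,3,2,2,4,0,4,1,2,4,0,4,1,3,0,1,3,3,2,2,3,2,3,2,0,4,0,0,4,1,3,4,1,1,3,3,1,0,4,4,2,2,1,0,3,3,1,4,2,2,4,1,4,0,4,4,0,0,1,0,0,3,2,1,1,0,4,2,1,3,0,2,2,3,2,3,1,2,3,0,0,3,2,2,0,4,4],
[4,3,0,4,3,1,2,3,0,0,0,4,4,1,1,1,3,1,4,3,0,0,4,3,1,0,0,2,2,1,0,4,1,1,0,1,2,4,4,2,1,0,2,4,4,4,2,4,1,2,4,4,4,2,1,0,4,3,0,2,0,2,2,0,3,4,1,3,1,4,0,0,0,3,1,2,4,4,0,3,4,0,4,3,1,3,4,0,2,1,3,0,2,4,1,3,3,2,2,1,0,0,4,1,2,3,4,1,3,4,3],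
[0,1,3,4,1,1,2,4,2,3,2,2,1,0,3,3,2,0,0,0,3,0,1,1,1,2,4,2,3,0,4,2,0,4,0,0,2,2,2,3,3,2,0,1,3,4,2,2,1,0,1,3,3,0,3,1,1,0,0,0,1,2,2,3,1,1,0,3,3,0,2,3,2,1,0,3,4,4,4,2,2,3,4,1,1,0,4,0,1,1,1,0,4,4,2,4,1,2,2,0,0,3,1,1,0,2,2,1,2,0,1],
[0,4,2,2,2,3,4,1,2,4,1,4,0,2,3,1,4,4,4,0,3,3,1,2,3,4,1,4,2,1,2,0,4,2,3,4,0,2,0,3,0,1,3,2,4,0,4,0,2,2,1,4,1,3,1,0,0,3,3,3,2,3,3,2,2,3,3,2,0,2,0,1,1,1,4,3,0,2,0,2,2,1,4,2,2,4,4,3,3,2,4,4,4,3,2,2,2,1,3,2,1,0,4,0,1,4,1,3,4,4,3],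
[3,4,0,1,2,2,0,3,2,3,4,1,2,2,2,1,0,1,2,0,3,4,2,4,1,3,4,3,3,3,3,2,2,3,3,3,2,0,2,0,2,3,1,0,0,3,2,3,2,3,3,0,3,3,1,2,1,3,1,0,3,4,1,4,2,4,1,0,1,4,0,0,0,0,1,0,0,4,4,4,1,1,3,2,2,1,0,0,2,3,0,4,1,1,4,0,0,1,1,3,2,3,2,0,3,0,1,4,3,3,4],
[0,2,2,4,2,3,2,0,4,2,4,3,1,2,1,3,1,0,4,3,2,4,0,0,3,3,0,1,2,1,0,4,1,4,0,0,4,1,3,3,1,2,2,0,0,1,4,2,4,3,2,0,2,1,3,2,4,0,1,4,1,1,2,2,4,3,4,0,2,0,4,0,1,2,0,4,0,4,3,2,4,4,3,4,0,3,3,2,3,1,0,3,3,0,2,0,3,0,4,2,3,3,3,2,2,4,3,3,1,2,1],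
[2,4,3,3,3,0,2,1,3,4,3,0,1,4,2,1,1,4,1,4,3,4,3,0,3,0,0,0,4,3,4,1,0,3,0,4,1,4,2,2,4,2,1,4,0,1,2,0,1,3,4,4,4,0,4,0,0,1,1,0,3,4,3,2,4,3,1,3,3,0,2,1,1,0,3,3,1,1,4,3,1,2,3,3,1,3,4,3,4,1,3,3,3,0,4,0,0,2,1,1,1,3,3,1,1,3,1,1,1,2,4],
[0,3,0,0,1,2,4,2,1,3,2,4,3,1,2,2,4,1,3,0,2,3,4,2,3,3,2,0,2,1,2,0,4,4,1,0,4,1,4,2,4,2,4,4,1,0,3,0,1,3,1,1,1,2,3,3,3,3,0,2,4,1,1,1,2,3,2,2,4,3,0,4,1,4,4,4,4,4,1,1,0,3,0,3,2,4,1,2,1,4,2,2,3,4,0,3,1,0,1,1,2,2,0,3,4,2,0,2,4,0,4],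
[1,0,0,2,0,3,0,4,1,4,3,4,2,2,1,4,4,4,3,3,3,2,3,3,1,1,0,1,0,4,2,2,0,0,4,0,3,0,4,1,3,4,0,2,4,2,1,0,1,2,3,4,1,2,4,3,0,0,3,2,3,3,2,2,3,0,4,2,3,4,1,0,3,0,0,0,1,3,0,0,4,4,2,3,3,0,4,2,2,0,4,1,4,2,3,2,1,2,4,0,0,4,0,2,1,2,2,0,3,2,3],
[1,2,0,3,3,1,1,4,4,4,1,3,3,4,0,3,1,1,1,1,4,0,2,2,0,2,2,1,0,1,2,1,4,3,0,1,3,2,4,3,1,2,1,0,4,2,4,2,4,0,0,1,2,1,0,0,3,0,0,2,3,3,3,3,4,3,1,4,4,0,2,1,1,3,3,3,3,3,2,1,3,2,0,2,1,2,1,4,4,4,3,1,2,3,3,4,2,0,2,1,2,3,4,4,3,3,0,2,3,3,1],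
[0,2,4,4,3,4,0,2,1,1,0,3,0,3,3,3,1,2,3,2,2,3,4,4,0,4,1,4,0,2,2,4,4,1,0,0,4,3,0,0,2,3,3,0,2,4,0,3,4,1,0,1,4,1,2,1,1,3,1,4,0,3,0,2,3,4,1,2,3,2,3,1,3,4,2,4,3,0,1,2,0,0,0,4,1,2,1,0,0,2,0,4,1,1,0,1,2,1,3,1,1,2,3,2,1,2,0,3,1,1,0],
[4,4,0,4,2,2,3,3,0,1,1,0,4,0,2,4,4,0,1,4,2,1,1,2,2,0,0,4,1,3,4,2,0,0,2,3,0,1,4,3,2,1,3,2,0,3,0,3,0,1,1,3,0,3,2,0,2,0,0,0,1,3,1,0,1,2,3,1,3,3,0,2,1,3,2,1,3,1,3,0,1,1,3,0,4,4,4,4,0,3,0,0,3,3,0,0,4,0,4,0,0,4,4,4,2,1,1,3,2,0,3],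
[4,1,3,0,3,3,4,3,1,0,3,4,1,3,0,4,2,0,0,2,1,4,2,0,2,3,4,4,0,2,3,2,2,4,1,1,2,0,2,0,1,4,4,2,4,4,0,2,0,4,1,3,2,1,3,4,3,4,1,2,3,3,0,2,3,1,0,3,1,4,0,3,1,4,3,0,2,1,2,0,1,0,2,1,3,2,4,0,2,0,0,4,4,4,2,4,1,3,2,2,4,1,3,4,4,0,1,0,1,3,4],
[4,1,3,0,4,2,1,0,4,2,3,0,2,4,2,2,3,0,1,4,1,3,2,1,4,0,1,2,2,2,0,1,3,1,0,3,3,1,1,0,0,2,2,0,0,1,1,1,3,2,0,0,4,1,1,0,1,1,1,1,3,1,1,0,3,1,0,2,2,2,0,4,0,0,0,1,4,3,4,1,0,0,3,3,4,2,2,0,2,4,4,3,0,0,0,1,1,2,3,4,2,1,0,1,4,4,1,1,1,4,4],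
[3,1,1,1,4,2,4,0,3,1,1,2,3,3,2,2,0,1,3,2,3,1,3,0,2,3,4,3,1,3,4,1,1,2,1,0,4,4,4,1,0,0,1,1,2,2,4,0,4,0,2,3,2,1,0,3,4,1,0,0,0,2,0,0,2,1,0,3,2,1,0,4,0,3,3,2,1,0,1,4,1,0,1,2,0,3,4,3,4,2,0,4,1,3,3,0,4,2,0,0,1,2,4,2,4,3,2,4,0,2,0],
[0,2,1,4,2,1,2,4,4,1,0,2,0,0,3,2,0,2,1,3,3,2,4,4,2,2,4,3,4,3,3,0,1,2,3,2,2,2,4,4,0,3,1,4,1,0,2,1,3,3,4,2,3,0,0,3,0,1,2,4,2,3,0,3,3,0,4,4,4,2,4,1,0,3,2,1,0,0,4,1,1,1,4,2,1,2,0,2,0,0,2,2,3,1,4,2,1,1,2,2,2,4,0,3,3,3,0,3,3,4,4],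
[1,4,1,2,1,3,4,2,4,3,3,0,2,0,3,4,2,2,2,0,1,3,1,4,3,3,0,3,0,1,4,4,0,1,4,3,0,2,0,0,3,1,4,3,2,0,1,1,0,0,3,0,2,0,0,0,1,1,0,0,1,0,1,0,1,3,4,1,4,0,0,2,3,3,2,0,4,2,3,1,1,3,1,1,4,1,2,3,3,0,0,0,3,4,3,2,2,0,2,3,0,3,4,4,2,0,3,0,2,0,3],
[2,0,3,2,0,2,3,4,2,4,2,3,1,1,0,1,4,1,0,3,3,1,2,0,0,2,0,2,4,4,1,0,0,4,4,0,4,2,3,2,1,0,1,0,3,0,3,4,3,0,0,1,3,4,2,1,1,4,4,0,4,2,3,1,2,2,2,2,4,0,0,3,1,2,3,3,0,1,3,3,4,3,0,3,2,0,3,2,0,1,0,4,4,4,2,2,1,3,0,1,1,4,2,3,4,4,4,4,1,2,2],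
[1,1,3,0,4,4,2,4,2,2,2,3,2,2,3,3,2,3,0,4,1,3,0,3,3,2,3,3,2,1,2,0,1,3,1,3,3,0,4,4,1,2,3,3,2,3,0,4,1,4,1,2,3,4,2,1,1,2,4,4,4,3,3,0,1,4,4,1,1,1,4,2,4,2,1,3,2,3,2,4,1,1,4,1,1,0,2,0,0,0,1,1,3,0,1,4,2,4,2,0,3,4,2,4,2,3,2,2,2,1,0],
[4,4,0,1,2,3,4,1,4,2,0,2,4,2,1,4,1,1,0,3,0,0,1,2,0,4,1,3,1,1,2,2,0,0,3,3,0,2,2,1,2,3,1,4,1,2,2,0,0,1,0,1,2,0,2,1,2,0,1,2,1,2,1,1,3,2,2,3,2,0,4,0,0,1,2,1,1,0,3,3,2,3,1,0,4,2,4,3,3,3,3,4,3,4,0,2,0,1,1,1,4,0,0,3,0,4,4,2,0,2,1],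
[1,1,2,3,0,3,3,3,2,3,4,3,2,0,0,1,3,1,0,1,2,2,0,1,3,2,1,2,4,2,0,2,3,1,3,0,3,1,2,4,0,3,1,2,2,2,3,0,2,1,1,4,3,1,1,2,0,2,2,0,4,1,0,0,3,0,3,1,0,1,2,0,2,0,2,3,1,3,3,0,2,1,4,2,3,0,4,2,2,2,4,4,3,0,1,2,1,4,0,0,3,3,4,3,0,0,1,0,2,1,1],
[2,4,1,1,2,1,4,3,2,2,4,2,2,1,2,0,4,1,2,2,4,1,4,4,0,1,1,4,1,1,3,3,3,1,4,3,0,0,2,0,1,3,4,1,1,0,0,0,3,4,1,0,2,3,2,4,2,2,1,2,1,1,1,1,1,2,3,2,0,1,4,3,2,2,4,0,0,4,3,3,0,2,2,0,0,1,4,1,2,1,4,2,1,2,2,3,2,4,1,3,2,3,1,0,0,1,3,1,1,1,1],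
[0,0,0,0,0,0,0,3,4,4,2,3,2,4,4,0,3,1,1,0,2,3,0,2,2,0,4,2,4,4,0,1,1,0,2,2,0,3,3,0,3,3,1,1,0,4,4,0,3,1,2,0,0,0,4,3,1,2,1,1,2,3,4,0,1,1,1,4,3,3,3,1,1,1,1,1,3,3,2,4,1,1,0,1,0,1,2,2,3,4,3,0,0,0,1,1,1,3,3,4,3,2,1,0,2,0,0,0,0,3,0],
[0,0,0,0,0,0,0,0,3,0,4,1,4,4,1,4,4,1,4,1,1,4,4,3,0,1,4,4,2,4,4,1,0,2,4,1,1,2,0,4,4,1,3,1,1,4,0,3,1,4,4,0,3,4,4,1,2,1,1,1,0,4,2,1,1,1,4,1,4,0,4,2,4,2,2,1,4,0,1,2,1,4,2,0,4,3,2,0,3,1,1,0,2,2,1,2,0,4,1,4,0,1,3,4,2,4,0,0,0,3,1],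
[0,0,2,0,0,0,0,0,0,0,0,1,0,1,0,2,4,0,0,2,4,3,3,4,0,2,0,2,1,1,3,4,0,2,1,3,3,2,2,0,2,3,1,4,3,3,1,3,0,0,3,1,2,1,1,3,0,4,3,1,1,1,3,4,2,4,1,4,0,3,4,2,0,3,3,3,4,2,2,4,1,3,4,2,4,4,4,0,2,3,1,2,2,4,4,1,4,4,2,0,2,1,4,2,0,0,4,4,0,0,0],
[0,0,0,2,0,0,0,0,0,0,0,4,1,1,0,0,4,1,2,3,1,4,4,0,3,3,4,3,3,0,0,2,4,2,4,2,3,0,0,3,1,0,0,2,2,2,2,2,1,4,4,3,2,2,2,0,1,4,2,1,0,0,3,1,3,2,4,1,0,4,3,3,0,3,4,4,4,1,1,2,3,0,4,1,1,2,3,3,1,3,4,1,2,1,1,2,3,1,0,1,0,4,2,2,0,0,4,4,2,0,0],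
[0,0,0,0,2,0,0,0,0,0,0,0,2,2,2,3,3,4,4,1,0,3,4,1,2,3,3,0,3,2,2,2,1,2,0,3,1,0,3,2,0,2,0,0,4,4,4,0,2,0,3,4,2,4,3,3,2,3,4,2,4,0,0,4,2,1,1,1,1,3,2,0,2,0,1,4,4,0,1,2,3,2,4,2,3,1,0,1,0,1,2,0,4,1,0,3,2,0,3,4,1,4,1,2,0,0,4,0,2,0,0],
[0,0,0,0,0,0,0,2,1,3,4,1,4,3,3,0,2,2,2,0,3,1,4,3,4,0,1,3,3,3,0,4,4,0,4,4,4,2,1,0,3,2,2,2,0,1,1,0,1,2,4,2,0,2,1,4,1,3,0,2,4,1,1,0,2,0,4,3,4,1,0,0,2,2,0,2,1,1,3,3,4,4,0,4,1,4,3,3,1,3,1,2,0,4,2,4,3,2,2,3,1,4,4,0,1,0,0,0,0,2,0],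
[0,0,0,0,0,0,0,0,2,0,3,2,3,3,2,3,1,2,3,2,4,3,2,2,0,2,3,1,4,3,3,4,0,3,3,2,3,3,0,3,1,4,1,2,2,1,0,2,2,3,3,2,2,0,2,0,4,4,0,2,0,3,3,2,2,3,1,3,3,0,3,0,3,4,2,2,3,0,4,4,4,1,3,0,3,2,3,0,1,2,2,2,3,3,3,4,2,1,3,3,0,2,2,3,2,3,0,0,0,4,1]]

noncomputable def carTab2 : List (List ℕ) := [[0,0,0,0,0,2,0,0,0,0,3,4,3,1,0,2,0,1,0,1,3,3,1,1,3,0,1,1,3,2,2,3,0,2,1,0,4,2,1,2,2,4,2,0,1,3,4,1,2,2,0,4,3,4,0,4,2,0,0,4,1,0,4,3,0,0,2,4,3,0,1,2,0,1,0,2,2,1,0,3,3,3,4,0,2,3,0,2,4,3,4,4,4,1,3,0,4,2,0,4,2,4,4,2,1,1,0,0,0,1,1],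
[0,0,0,0,0,1,3,0,0,0,2,4,0,3,4,2,1,3,2,3,4,2,1,0,1,3,3,4,1,2,2,4,3,2,1,4,3,3,1,1,1,1,2,0,3,1,4,0,0,0,2,0,2,3,3,2,0,4,2,2,1,4,3,4,3,3,4,0,3,4,0,0,1,2,1,0,3,3,2,1,4,0,0,3,4,3,1,1,1,2,1,0,3,1,3,0,4,1,1,2,4,3,3,4,1,4,0,0,0,1,3],
[0,0,2,4,2,0,0,0,0,0,0,2,0,4,3,0,3,2,1,2,2,1,3,1,0,0,1,3,3,2,0,2,3,0,2,1,1,4,0,1,2,4,2,1,3,4,2,1,0,4,1,0,4,4,3,1,3,3,3,4,4,2,1,1,0,1,4,3,2,0,3,1,3,4,3,1,3,3,0,2,3,2,4,4,4,2,2,2,3,4,4,4,0,4,0,4,4,2,2,2,3,4,0,2,0,0,2,3,0,0,0],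
[0,0,1,2,1,0,0,0,0,0,0,2,3,3,4,4,0,0,1,0,4,0,2,3,1,3,3,2,2,4,1,3,4,3,2,4,3,0,2,3,1,2,4,3,0,2,3,3,3,3,2,3,4,2,2,0,3,0,0,3,1,4,0,4,2,1,3,4,3,2,4,2,4,2,4,2,0,4,3,3,2,1,0,3,0,4,1,0,3,2,0,3,0,3,0,0,4,4,4,0,1,3,3,3,0,0,3,1,0,0,0],
[0,0,2,4,2,0,0,0,0,0,0,3,1,3,0,2,2,2,1,1,2,3,4,2,0,1,3,1,0,4,3,1,0,0,3,2,4,3,4,2,0,0,1,4,4,1,3,3,1,1,4,0,2,3,0,3,3,2,3,3,3,0,2,0,0,4,2,4,0,2,1,1,0,2,0,3,4,4,3,0,4,4,3,3,0,3,0,1,1,0,2,0,4,3,3,0,3,2,4,2,3,1,1,2,0,0,1,0,0,0,0],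
[4,0,0,0,0,4,0,4,2,0,1,4,0,2,1,2,1,3,3,1,1,0,3,3,3,0,1,0,4,1,2,3,4,2,1,4,0,4,4,3,4,1,3,1,1,3,1,2,0,2,3,0,1,2,3,4,2,4,1,3,2,1,0,1,3,2,4,3,4,0,1,0,4,3,3,4,4,3,1,4,3,4,2,3,3,4,3,1,1,3,3,3,4,1,0,4,0,4,1,2,2,2,0,0,1,4,0,0,0,3,1],
[2,1,0,0,0,2,1,0,4,0,4,4,1,2,1,2,0,4,2,4,1,2,1,3,0,4,4,0,0,0,2,3,1,4,1,1,4,3,1,2,3,3,2,1,4,0,1,1,4,1,4,4,3,0,0,3,4,0,2,3,1,2,1,4,3,1,3,2,0,2,2,3,4,0,2,4,2,0,1,0,3,4,3,4,1,1,1,0,4,4,4,4,3,2,1,4,3,4,3,1,4,2,3,0,3,2,0,0,0,0,0],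
[1,3,0,2,1,1,0,3,2,0,0,0,3,3,3,1,3,1,2,2,3,0,0,0,1,1,0,1,0,1,4,2,1,2,3,4,0,3,3,1,2,1,1,2,2,0,1,4,1,4,0,0,3,4,0,1,4,4,1,1,1,2,3,1,3,3,3,3,0,0,0,4,3,1,2,1,1,0,3,4,1,0,2,0,4,2,0,2,3,1,2,1,1,1,3,2,4,3,4,2,2,4,3,2,0,2,3,2,4,0,0],
[4,2,3,4,1,1,2,0,1,0,0,1,1,3,3,1,4,2,1,3,2,3,4,1,0,3,0,2,1,2,4,1,2,1,0,3,4,1,0,0,2,4,2,1,2,1,1,2,1,1,2,4,0,3,3,2,2,3,3,1,4,4,2,3,1,3,2,0,0,2,0,3,2,4,2,1,1,2,1,1,2,3,1,3,1,1,1,4,4,0,1,3,0,1,0,4,2,2,2,1,4,3,2,2,2,0,2,2,4,2,1],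
[0,4,2,4,4,4,1,4,3,1,0,3,2,1,1,3,3,1,3,2,1,2,4,4,3,1,0,3,4,4,0,1,0,1,2,2,1,4,0,4,1,3,3,3,0,3,3,4,0,2,2,2,3,3,2,2,3,2,4,4,3,0,1,0,4,2,0,0,1,1,2,1,3,1,0,1,4,4,4,4,0,1,1,4,2,3,1,0,4,4,4,4,1,0,1,2,1,0,0,2,1,2,2,4,1,2,3,4,1,4,0],
[3,1,3,4,1,2,0,2,4,4,2,0,2,0,0,2,1,1,1,1,0,3,4,0,0,3,4,0,1,4,0,4,3,3,2,3,3,2,4,1,3,0,4,2,1,4,2,2,4,3,2,4,2,0,1,2,0,3,0,0,3,0,1,4,1,1,3,3,2,1,1,3,2,3,3,3,2,0,2,4,4,0,1,4,4,0,4,1,0,3,4,2,0,0,3,1,4,4,0,3,1,2,1,1,3,0,2,0,2,4,4],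
[0,0,4,3,3,3,2,4,0,0,0,4,1,3,4,1,0,1,4,4,3,1,0,4,3,0,3,3,0,3,0,3,2,0,3,1,3,4,4,4,4,2,0,4,4,3,3,1,4,0,3,4,2,0,0,4,4,2,2,0,4,4,4,2,3,3,1,2,4,4,2,3,2,1,4,3,0,0,0,2,1,0,2,4,2,1,2,3,4,2,1,0,2,0,1,4,4,2,4,2,2,0,4,1,2,2,1,3,2,3,0],
[2,2,0,2,3,0,4,4,3,2,3,1,0,3,3,3,0,1,2,4,3,2,4,4,1,1,4,1,4,3,1,4,1,3,2,0,3,2,2,4,0,2,2,4,4,2,0,4,3,4,0,2,1,3,4,1,4,3,1,4,3,0,1,1,3,4,1,3,1,0,4,0,1,1,3,0,4,2,4,2,4,2,0,0,2,0,3,4,1,2,1,0,2,3,2,3,0,4,3,2,3,2,3,3,1,2,1,3,2,1,3],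
[0,2,0,0,3,0,1,2,3,4,3,4,3,2,2,0,1,3,0,1,4,0,3,4,2,1,2,1,0,1,4,0,4,2,0,1,4,4,4,3,3,1,2,1,0,2,4,0,0,2,2,0,1,1,3,1,1,3,3,4,0,1,2,2,2,4,2,4,4,4,0,4,1,3,3,2,2,0,3,3,3,1,3,1,3,3,3,4,3,3,2,3,2,3,2,1,2,2,4,3,2,2,3,4,4,1,4,4,0,2,2],
[3,2,1,3,1,2,4,3,3,1,3,0,1,1,3,2,1,0,3,1,3,3,4,2,2,0,1,0,4,4,0,3,0,2,1,3,4,3,0,4,1,4,3,4,3,3,1,1,3,0,3,0,2,3,3,1,3,2,1,0,2,0,4,4,1,1,0,1,3,2,1,0,4,0,1,0,3,3,3,4,0,1,0,0,0,4,2,0,0,0,3,4,3,1,1,0,2,3,4,0,2,3,1,3,2,2,0,4,1,3,1],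
[2,3,1,1,3,0,2,3,2,4,4,1,2,3,2,4,4,2,4,0,4,1,3,1,1,2,0,2,4,1,3,4,1,4,4,2,2,1,0,3,3,3,0,4,0,1,3,1,4,3,0,3,1,3,2,3,4,2,1,1,2,0,1,1,0,0,4,2,1,3,1,2,3,0,2,3,4,2,2,4,2,3,1,1,0,3,1,3,1,0,1,2,3,1,3,1,1,0,3,0,2,0,0,1,3,0,2,3,1,0,2],
[2,0,0,0,0,2,3,4,1,1,1,4,4,3,1,1,1,0,2,0,2,0,2,0,0,3,2,4,4,3,0,4,2,4,1,3,3,1,1,2,0,1,2,3,3,3,0,3,1,2,0,3,4,1,3,2,0,0,1,2,2,2,4,0,4,0,4,2,0,3,3,4,3,1,4,4,2,1,0,1,1,1,1,3,2,0,2,0,1,2,0,1,1,0,2,3,4,0,0,1,2,4,1,3,1,0,4,4,2,2,2],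
[3,2,3,1,3,1,4,2,3,1,2,4,1,4,2,2,0,2,4,4,1,4,3,1,1,3,0,0,2,4,1,2,0,4,0,2,4,3,0,4,4,1,2,1,0,4,1,4,2,4,4,0,1,1,1,2,0,3,0,3,4,4,2,3,4,1,0,2,1,2,4,1,2,2,1,2,4,0,1,0,4,0,0,4,1,1,1,4,0,0,0,1,0,0,2,2,2,2,4,2,4,1,4,3,3,2,4,4,4,3,4],
[1,2,1,1,1,1,1,2,1,2,3,4,4,1,2,0,2,1,0,4,3,2,3,3,1,0,3,0,4,0,1,4,2,4,0,4,0,4,2,1,1,1,0,2,4,4,4,3,3,4,0,1,2,1,4,2,4,1,3,1,3,2,1,1,1,2,0,4,4,3,3,3,2,4,2,4,1,3,1,2,1,4,0,1,0,4,0,0,2,2,4,3,1,1,2,1,1,0,3,2,4,1,2,2,0,4,2,1,3,0,1],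
[3,3,2,3,1,0,4,4,2,0,1,2,0,1,1,4,0,1,2,1,2,4,2,0,4,0,0,1,1,3,1,0,4,3,1,3,0,0,3,4,2,0,3,2,1,3,4,3,2,0,0,4,4,2,2,0,1,1,4,4,2,1,3,2,0,2,3,0,4,0,2,2,4,4,1,3,0,1,4,4,2,3,3,3,3,2,3,3,3,0,1,1,0,0,2,2,3,1,1,0,4,1,0,0,4,2,2,3,1,0,4],
[3,3,3,1,1,2,0,2,4,4,0,4,0,1,1,4,4,1,1,0,3,2,0,0,2,2,4,2,1,4,1,3,1,0,1,0,3,2,4,1,1,0,4,2,2,1,4,1,3,0,0,3,0,2,3,0,1,4,4,4,1,3,3,0,3,0,2,3,0,1,3,2,2,4,4,3,4,0,0,4,2,2,4,0,3,0,3,4,0,4,1,1,2,1,0,3,1,3,1,0,4,0,2,2,3,2,3,0,2,4,4],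
[3,0,4,4,3,3,4,4,1,0,0,3,1,4,1,3,3,2,3,0,4,3,3,2,0,4,4,0,0,2,1,2,4,4,1,0,0,0,3,2,3,1,3,0,3,2,2,2,1,4,1,3,2,2,4,4,3,4,1,1,3,4,1,1,1,0,2,3,0,4,0,1,0,2,4,4,1,4,0,4,4,0,0,3,4,1,3,3,3,2,1,0,4,3,0,0,4,1,0,3,2,3,0,1,3,4,1,2,3,4,2],
[2,0,1,2,3,2,2,2,1,1,0,2,3,4,3,3,3,4,2,2,4,1,2,3,3,3,1,2,2,3,4,4,1,3,2,2,4,4,3,4,0,1,3,3,3,0,4,4,0,0,3,3,0,3,3,3,1,0,0,0,3,4,3,1,3,4,3,3,4,2,4,2,1,0,2,3,2,4,0,4,3,0,1,3,1,0,3,2,2,0,4,2,4,3,4,4,4,1,3,1,4,3,0,1,4,3,3,1,3,0,4],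
[2,0,3,1,0,4,0,2,1,1,1,4,1,1,3,0,2,0,0,0,2,4,0,4,0,3,4,3,0,3,0,1,3,4,4,1,4,1,4,4,2,3,3,3,2,0,0,2,1,0,3,0,1,1,4,2,4,1,3,0,2,4,4,3,4,2,3,1,4,2,1,3,1,1,0,3,3,4,1,1,0,3,0,4,4,3,4,1,3,2,3,3,4,4,2,2,1,4,3,3,3,1,0,2,4,3,1,2,3,2,1],
[2,2,4,4,0,4,3,4,0,4,3,4,4,3,4,3,0,0,2,3,1,0,4,0,2,1,1,0,3,0,0,2,4,0,1,4,4,1,3,1,0,0,1,1,0,4,3,2,3,2,3,2,1,1,2,3,1,0,1,4,3,0,3,2,1,4,1,2,3,2,3,0,2,0,3,3,3,1,4,3,1,0,4,0,1,3,1,3,4,1,1,1,0,3,3,0,1,2,0,1,1,2,2,4,0,0,1,1,3,2,3],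
[4,0,0,2,0,2,4,0,4,4,1,2,0,2,1,4,1,4,0,3,2,1,0,3,2,2,3,1,4,0,4,0,0,3,3,4,4,4,3,3,3,3,1,0,1,4,2,4,3,4,1,2,0,0,0,3,4,4,4,3,2,2,1,3,2,1,3,0,3,3,0,0,4,4,4,1,1,2,4,3,2,4,3,1,3,4,3,2,4,2,2,2,2,3,1,4,4,3,0,0,0,0,2,4,0,2,2,2,0,0,2],
[1,4,0,1,4,0,1,4,0,2,3,4,2,4,2,4,2,3,1,2,2,2,2,4,0,3,3,3,3,4,4,4,0,2,4,4,4,4,3,0,2,2,0,1,2,3,4,3,4,2,0,1,3,1,0,4,2,2,2,2,2,3,2,1,1,2,3,3,4,3,0,0,3,3,4,1,2,2,3,2,3,0,2,3,2,0,4,4,4,0,0,4,0,0,4,0,2,0,4,4,1,1,4,4,2,0,1,2,2,3,4],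
[1,3,4,0,1,0,2,1,0,0,4,1,0,0,3,2,0,1,2,1,1,2,4,3,4,1,1,2,2,1,4,1,0,3,3,0,1,1,1,4,3,4,2,0,3,0,3,4,1,1,1,1,0,4,1,3,3,4,3,2,1,4,3,0,1,3,4,0,2,2,3,2,1,4,2,3,0,1,4,2,3,0,3,2,1,1,4,3,2,1,1,4,4,0,2,1,1,4,0,0,2,0,1,0,3,1,4,3,4,4,2],
[2,0,4,1,2,1,4,2,3,3,4,2,2,3,2,1,0,3,0,3,1,0,1,0,1,0,1,3,0,0,0,4,0,2,1,4,2,3,4,4,2,4,3,2,3,4,1,4,0,2,4,3,1,3,0,3,4,1,0,2,4,2,0,3,4,1,2,2,2,3,4,1,0,0,0,3,2,2,4,2,1,2,1,4,1,0,0,1,3,4,4,1,2,1,4,0,0,4,2,4,4,4,1,4,4,2,3,4,1,1,2],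
[4,1,3,0,2,4,0,0,1,1,3,0,0,3,0,4,4,3,2,2,3,4,3,4,1,3,1,4,2,1,0,2,1,2,4,2,3,3,0,1,4,0,4,4,4,3,4,1,3,2,3,0,2,1,0,0,2,3,0,0,3,4,4,0,2,2,2,1,1,1,0,1,4,3,1,1,3,3,1,2,3,2,1,3,1,0,3,0,3,4,4,3,0,4,4,4,2,3,3,2,3,2,4,1,0,1,2,2,0,1,4],
[3,2,0,3,1,3,4,2,1,3,3,3,2,0,1,3,1,1,2,2,1,0,1,0,2,3,3,4,1,2,1,3,0,2,0,2,3,0,4,1,1,3,1,3,1,2,2,2,4,1,2,1,4,2,2,3,1,3,0,1,3,4,2,2,1,3,0,4,1,4,0,4,0,3,2,3,1,1,1,0,0,1,4,1,3,3,0,3,1,4,0,0,0,3,0,3,3,3,0,4,3,4,3,1,0,4,3,0,3,0,4],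
[3,1,0,2,4,2,1,2,2,3,1,0,0,3,2,0,0,1,1,1,4,4,2,1,2,0,2,4,2,1,4,1,0,2,3,2,2,0,1,2,4,1,2,4,0,3,0,4,4,1,1,2,0,0,0,2,0,3,4,2,3,2,1,0,2,1,3,3,3,1,2,3,1,3,0,0,4,4,2,0,3,2,2,2,0,2,0,1,2,2,4,3,0,4,2,2,4,3,1,4,4,2,2,4,0,4,3,2,0,2,1],
[3,2,1,0,3,0,4,1,0,1,1,4,3,0,2,4,4,3,0,4,0,1,0,1,1,2,2,1,4,0,1,1,3,1,4,1,3,1,0,2,4,4,2,3,2,0,1,1,3,0,3,0,1,3,0,0,0,0,1,3,3,1,3,3,0,0,0,1,3,4,1,0,1,2,1,4,3,4,1,2,0,1,0,0,4,3,3,1,2,0,0,2,4,3,0,4,1,2,4,1,1,4,3,2,2,4,0,4,2,4,1],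
[1,4,2,0,0,1,4,1,4,3,3,2,3,0,3,3,2,2,1,1,3,3,4,3,0,2,2,3,0,3,3,3,2,0,1,2,4,2,0,1,0,1,2,2,0,3,0,2,1,1,4,4,1,1,1,2,3,2,1,0,1,1,4,0,4,1,2,2,2,1,2,0,0,4,1,3,0,0,0,3,2,0,2,3,0,2,1,1,0,0,3,0,1,3,3,4,3,0,1,4,4,2,0,0,1,0,1,4,2,1,3],
[2,3,3,4,2,3,2,0,3,2,4,0,1,1,2,2,0,3,3,4,4,0,1,1,3,0,4,4,4,0,1,4,3,4,3,3,3,1,4,1,3,4,0,0,1,3,1,2,2,2,1,1,1,0,3,4,4,0,1,0,4,4,4,0,3,0,2,2,3,2,1,0,4,2,4,2,1,4,0,2,4,3,0,1,1,0,3,3,1,1,2,3,0,0,1,2,0,3,3,1,1,0,4,4,3,1,3,4,3,1,4],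
[3,0,3,4,3,0,4,4,1,4,2,2,1,2,1,1,2,3,3,2,3,0,4,3,2,3,1,2,1,2,2,1,2,2,3,3,4,0,1,0,4,4,2,0,0,0,2,4,2,2,0,3,1,1,2,2,4,2,1,2,3,4,4,1,4,2,2,3,3,3,4,4,2,1,0,0,2,0,1,2,1,0,0,3,1,1,0,3,4,2,4,0,3,0,1,3,2,4,1,1,1,2,0,3,4,0,3,3,1,4,0],
[2,4,4,4,1,2,4,4,4,0,2,0,0,1,2,1,2,4,4,1,4,4,3,4,0,4,2,3,0,3,1,3,3,4,0,2,4,1,3,4,4,2,3,4,4,2,2,0,1,1,1,3,0,0,2,0,0,4,1,3,1,1,4,2,3,1,4,4,1,3,1,0,4,0,1,3,3,3,1,2,4,0,1,4,1,2,4,2,2,1,4,4,4,1,1,4,1,2,0,2,3,1,3,2,4,2,0,2,2,1,0],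
[3,1,3,1,1,1,2,1,0,2,0,0,3,3,2,3,2,1,4,0,0,2,1,4,1,4,4,3,4,2,3,4,1,3,0,1,2,2,3,3,4,0,4,0,3,1,2,0,2,3,0,4,4,4,2,0,0,3,2,2,3,3,0,1,1,2,4,2,4,4,1,2,0,2,4,0,2,2,2,3,2,2,2,4,1,0,2,0,1,2,0,1,2,2,1,2,3,4,4,0,1,4,2,4,0,3,1,1,1,2,4],
[0,1,3,2,2,0,2,2,0,2,4,4,3,4,4,3,0,3,3,3,4,3,4,2,3,4,3,1,4,2,4,2,2,2,2,3,3,0,0,2,3,1,3,0,1,0,3,3,0,3,1,1,0,3,0,0,3,3,4,2,2,2,0,4,2,1,4,3,2,3,3,2,4,3,4,0,4,3,4,1,4,1,4,3,2,1,0,4,4,1,2,3,4,1,0,4,3,0,2,0,4,0,0,4,1,4,2,3,4,1,2],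
[0,3,1,4,1,1,4,3,2,1,4,0,1,4,2,0,0,2,1,3,4,0,2,3,1,4,0,2,0,4,3,1,2,3,4,2,3,3,1,2,3,1,2,3,4,0,1,3,1,3,1,1,2,2,2,3,2,2,4,1,2,2,3,2,3,2,0,1,3,0,3,0,1,2,0,3,0,4,0,0,2,3,1,1,4,0,0,2,4,3,0,0,3,0,0,3,1,1,4,2,2,4,2,4,4,4,3,4,3,3,3],
[3,0,4,4,4,1,4,1,1,4,2,3,2,0,2,0,1,0,3,2,1,2,4,1,3,1,2,4,4,1,0,0,2,0,3,2,0,2,2,2,3,3,0,4,0,4,0,2,0,2,1,2,0,3,3,2,4,2,2,4,4,3,4,4,0,3,4,1,1,2,0,0,1,3,0,1,2,2,3,4,0,2,4,0,2,1,4,0,1,2,0,2,1,0,4,0,0,3,3,0,0,3,4,3,0,2,0,0,2,3,4],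
[0,0,2,3,3,3,0,1,3,3,3,0,2,2,4,2,3,1,3,4,3,0,4,0,1,0,0,2,0,0,2,2,2,0,0,3,2,4,4,1,2,4,0,3,1,0,4,4,2,3,2,2,3,2,2,4,0,3,1,4,0,2,0,0,1,4,0,0,4,0,1,4,0,0,0,2,4,4,0,4,3,1,0,4,3,4,3,3,3,3,4,2,2,0,2,0,3,3,4,1,3,0,2,4,0,4,4,1,1,3,4],
[3,0,1,1,1,4,0,1,1,0,3,2,3,0,0,3,4,2,4,3,0,2,2,0,2,0,0,2,2,4,0,1,2,2,4,2,0,4,3,3,0,3,1,3,0,1,0,3,1,4,1,4,1,2,3,3,1,2,1,3,3,2,1,1,4,3,3,2,0,0,2,1,4,1,1,0,3,4,0,1,2,4,0,1,3,2,4,2,4,1,3,1,0,4,3,3,0,0,1,4,3,3,1,4,0,2,3,1,3,4,0],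
[3,1,1,2,0,4,3,3,3,2,1,0,4,2,0,3,2,2,2,1,2,4,2,0,3,0,2,0,0,1,0,3,2,1,2,3,4,2,4,0,3,1,3,1,4,1,4,3,2,3,1,0,2,4,4,3,2,4,0,1,1,0,3,1,1,4,1,1,1,3,2,3,4,3,3,0,1,2,4,0,1,1,2,1,1,2,3,2,0,1,3,2,0,3,3,1,0,2,3,3,3,0,1,2,4,0,0,2,2,0,1],
[1,4,2,3,3,4,2,1,0,0,0,4,1,2,0,1,3,1,0,2,2,1,3,3,1,4,1,1,2,0,3,3,0,4,1,3,4,0,1,2,2,1,2,1,1,3,2,2,4,4,3,4,0,4,1,4,4,0,3,4,1,2,0,0,1,4,0,1,0,1,2,1,1,1,1,4,1,0,4,1,2,2,3,4,2,3,3,4,1,0,1,1,3,3,4,2,4,4,4,0,0,4,1,2,1,2,0,2,4,2,2],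
[3,1,0,1,0,4,4,2,2,2,3,0,3,1,2,0,1,3,4,4,2,2,1,1,3,3,2,2,0,3,1,4,2,2,2,2,1,1,2,1,1,2,1,3,1,4,1,4,1,2,2,2,1,0,2,3,3,1,1,3,3,0,2,4,1,2,0,4,1,0,2,2,1,3,0,1,0,1,1,4,0,3,4,3,1,0,1,0,4,2,1,3,1,3,3,0,2,2,0,3,3,0,0,0,4,4,3,0,2,0,3],
[3,1,0,1,0,3,3,2,2,3,2,2,2,2,4,1,0,0,2,1,1,3,0,2,0,0,4,2,2,4,3,3,2,0,3,4,4,0,4,2,2,2,2,3,2,4,3,1,2,1,4,1,2,3,3,4,4,1,1,2,3,1,2,2,0,3,2,0,0,3,3,1,0,0,2,4,3,4,3,0,2,0,0,0,2,3,0,4,3,1,1,1,4,3,4,1,0,1,3,2,4,2,1,1,3,0,3,0,1,0,1],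
[2,1,2,4,0,3,1,4,3,1,1,4,4,3,3,1,0,3,1,3,2,1,2,1,2,4,2,4,3,2,4,1,3,2,4,2,0,2,3,2,1,0,3,3,3,2,4,4,4,3,4,2,2,2,0,4,2,1,1,1,4,4,3,1,4,0,3,2,1,3,3,3,3,4,4,4,3,4,4,3,3,3,2,4,1,4,1,3,0,1,1,0,2,2,1,4,3,2,2,1,2,4,1,1,4,1,2,3,3,2,4],
[3,1,2,3,4,1,1,3,0,1,4,1,2,1,4,2,3,3,1,3,4,1,2,2,3,1,2,3,2,1,1,1,0,2,2,1,1,1,1,4,3,4,4,4,3,4,4,0,4,2,0,2,0,3,3,3,3,3,3,0,0,2,0,0,2,1,1,0,2,0,0,2,2,3,3,4,2,1,4,0,1,4,0,3,1,2,0,3,0,3,2,3,4,1,2,4,0,0,4,1,0,3,0,0,4,0,1,2,4,0,1],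
[2,1,4,4,2,3,0,2,0,1,1,2,0,1,4,3,0,0,1,4,3,0,1,1,2,2,0,4,3,0,0,1,2,2,3,3,1,3,3,3,3,1,0,0,1,2,3,1,2,4,4,1,1,1,4,3,1,3,4,0,4,3,1,0,2,1,3,0,1,3,2,1,1,4,4,4,0,3,3,3,2,1,0,4,1,1,2,1,3,2,4,3,2,3,4,2,3,3,3,3,0,1,2,2,1,0,4,3,3,4,2],
[2,1,4,4,1,0,3,1,1,0,1,1,3,1,1,2,3,3,0,1,4,4,0,1,3,0,1,2,1,3,2,2,2,1,0,1,0,2,3,3,2,1,4,2,2,3,1,3,3,2,4,4,1,3,2,0,2,2,3,3,4,1,3,1,4,0,0,4,3,4,4,0,2,3,4,1,3,0,4,3,0,0,3,3,1,4,0,3,1,3,0,2,2,1,2,1,0,2,2,1,3,1,4,1,1,2,2,1,3,3,1],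
[1,4,3,2,1,2,0,0,0,4,2,3,4,1,1,2,2,2,3,1,3,0,1,1,0,2,1,2,4,0,0,0,3,0,3,0,3,0,1,1,4,4,3,4,1,4,4,3,1,4,2,4,1,0,4,4,4,3,4,3,3,3,3,4,3,3,0,1,1,4,0,1,4,3,1,0,2,3,2,2,2,0,3,4,1,3,4,3,1,0,0,3,1,2,2,1,2,4,2,0,0,2,0,3,1,2,3,4,1,2,3],
[0,4,0,0,1,1,0,4,3,0,2,0,3,1,4,3,4,2,4,2,2,2,2,4,1,3,1,2,4,3,0,4,0,2,1,0,3,2,2,2,4,4,0,3,4,3,1,3,3,1,2,1,2,3,4,0,3,3,0,0,2,4,1,3,3,1,3,0,4,3,3,3,3,3,1,3,1,1,4,2,3,1,4,0,0,1,1,4,0,0,1,3,2,2,4,4,0,2,4,0,0,1,2,0,0,4,3,1,3,4,0],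
[2,0,2,2,4,0,4,1,0,4,1,0,1,0,4,0,3,0,1,1,3,4,2,2,0,0,3,3,4,1,3,3,0,3,0,2,3,3,1,4,0,2,1,1,0,4,2,0,4,3,0,1,2,3,2,1,4,3,4,4,3,2,0,0,3,1,4,4,3,4,1,2,4,2,1,2,2,4,0,0,0,3,0,0,4,1,2,0,2,2,0,4,1,4,4,2,0,3,2,3,1,0,0,2,3,4,2,0,0,2,0],
[1,2,2,1,0,1,1,4,1,0,0,0,0,2,4,4,1,0,2,3,4,1,4,1,3,0,2,2,4,0,1,1,1,0,3,1,3,3,1,0,4,4,4,4,2,0,3,0,2,3,2,4,3,0,3,0,3,2,1,0,0,1,4,0,2,2,3,3,2,1,0,1,4,3,1,1,4,4,0,3,3,3,2,0,3,4,3,2,0,0,1,3,2,2,3,3,1,2,0,3,4,1,2,2,2,3,4,0,0,2,0],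
[1,2,4,2,0,0,1,3,1,2,1,2,3,1,1,3,3,1,2,3,0,4,1,2,1,4,4,4,3,3,2,4,3,2,4,1,2,4,2,3,1,1,3,3,4,3,3,3,1,3,3,1,4,1,0,3,1,3,2,3,0,2,1,4,4,4,3,2,4,0,3,4,0,1,2,1,4,0,2,4,1,0,2,1,0,4,2,0,4,0,3,4,3,0,3,0,1,2,2,2,0,1,0,4,2,2,3,0,0,2,2],
[2,1,1,3,0,3,4,0,0,4,2,2,2,1,2,2,3,4,0,2,1,0,1,2,3,1,3,4,4,4,2,3,1,3,3,0,1,0,3,4,0,0,4,1,4,1,0,4,4,4,3,3,0,3,1,3,2,2,0,2,1,2,3,3,2,1,2,2,3,1,1,3,2,4,3,3,4,3,3,1,4,4,3,1,4,4,2,0,4,3,4,2,3,4,2,0,1,0,3,1,1,0,0,1,3,2,0,2,4,3,0],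
[3,4,1,3,0,3,0,0,3,3,0,0,2,4,2,3,4,4,2,2,0,0,1,4,4,2,4,3,4,1,3,1,0,2,0,1,3,3,4,4,3,0,4,1,2,3,1,4,1,4,2,3,2,4,1,1,2,4,1,1,4,2,0,0,4,3,2,3,1,4,4,2,4,2,1,1,2,0,0,0,3,3,2,1,3,0,1,2,2,4,2,3,4,1,0,2,3,1,2,4,4,2,0,2,1,0,1,1,4,2,4],
[3,1,0,2,1,0,4,1,2,1,4,3,1,4,1,3,1,4,3,0,1,4,4,2,4,2,3,2,3,3,0,4,3,4,1,4,1,1,2,3,3,2,0,4,0,1,3,4,0,4,4,4,3,2,3,3,0,4,3,2,2,1,0,0,3,3,2,3,2,0,2,1,2,1,1,3,4,0,1,4,1,3,4,3,4,4,4,3,0,2,2,0,3,2,4,3,2,2,4,0,2,0,3,2,1,4,1,0,3,1,3],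
[1,4,3,1,0,2,1,4,2,4,3,3,3,0,4,3,0,4,0,0,2,0,2,2,1,3,3,1,2,3,3,0,4,3,3,4,2,2,3,3,1,0,0,0,4,4,1,0,3,3,2,0,3,2,2,2,4,0,4,1,4,0,0,2,3,0,4,1,1,2,3,0,0,3,0,3,3,4,3,4,4,4,0,1,3,0,4,4,2,0,3,2,3,2,2,4,3,4,0,0,1,3,4,3,1,2,1,3,1,2,2],
[4,0,2,4,0,3,1,1,0,3,4,1,1,4,0,2,4,3,2,1,1,3,2,4,0,3,2,4,1,0,3,1,3,1,4,2,3,2,3,0,3,4,3,1,0,2,3,1,3,0,0,4,1,3,2,2,3,0,0,3,2,3,3,2,1,2,3,1,1,0,4,0,1,1,4,4,3,3,2,1,2,3,4,1,3,2,1,2,3,4,4,2,2,4,4,4,0,4,0,1,3,0,0,4,3,2,1,2,3,4,0],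
[0,3,3,3,0,3,3,1,1,4,1,4,2,4,3,0,1,4,3,2,0,1,0,3,1,1,0,0,3,1,0,3,4,4,4,4,3,1,0,2,2,2,4,1,4,3,0,3,2,1,4,0,1,0,4,2,3,3,0,1,1,4,2,4,2,1,3,2,3,2,1,1,0,3,3,0,1,2,4,4,4,3,1,1,4,4,2,1,4,2,4,1,2,0,3,3,3,2,2,3,3,0,0,1,2,0,0,4,2,2,3],
[0,4,4,2,1,1,1,0,3,4,2,3,3,4,0,3,4,2,3,1,0,1,4,1,2,0,3,4,0,3,0,3,3,3,1,3,1,0,2,0,4,2,2,3,3,2,4,3,3,1,4,0,0,0,1,0,0,2,3,0,4,0,0,3,1,1,0,0,0,0,3,0,2,1,2,0,0,2,2,0,0,0,1,0,1,1,4,2,3,0,2,1,0,0,4,3,3,0,4,3,2,4,1,3,0,0,0,1,4,2,3],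
[0,4,2,2,3,3,0,2,3,1,0,1,2,4,3,1,2,2,0,2,3,2,0,1,4,3,3,1,4,1,3,0,4,4,4,3,2,1,3,1,2,4,0,2,4,3,0,0,1,3,3,0,0,3,1,1,4,2,1,4,1,2,2,4,3,1,1,0,2,3,1,3,2,3,3,3,4,1,4,4,3,2,3,0,2,0,1,4,0,1,1,2,4,1,4,0,2,4,1,0,2,1,3,2,4,4,3,4,0,3,4],
[2,2,1,2,4,3,4,1,4,1,4,0,2,2,4,4,2,0,4,2,2,4,3,1,4,2,4,1,1,2,4,2,3,4,4,2,4,3,3,3,4,2,4,1,1,4,0,3,1,1,4,4,3,3,1,3,0,1,2,4,0,2,1,0,2,3,2,3,0,4,0,2,3,1,1,3,3,1,4,4,3,1,1,2,1,1,1,0,0,4,1,4,4,4,1,1,4,1,3,1,3,0,3,0,4,2,2,1,1,3,2],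
[1,3,0,2,3,1,3,2,4,0,2,0,4,0,1,2,2,2,3,3,1,1,4,4,3,1,2,4,3,1,4,3,0,3,0,3,0,1,0,3,0,3,4,1,3,2,2,2,2,4,2,3,3,3,4,4,2,2,1,3,3,3,3,2,3,0,0,3,1,4,4,4,0,3,3,1,3,3,3,3,2,1,2,4,0,3,1,4,2,3,1,1,3,2,3,3,0,4,2,0,3,1,4,1,4,1,4,2,1,0,0],
[2,3,4,1,1,2,0,3,0,1,0,0,3,2,3,1,4,4,3,0,3,4,1,3,1,1,2,2,4,2,3,4,1,0,0,4,2,1,4,2,4,1,3,3,0,3,3,0,1,4,2,2,4,1,0,3,0,2,3,4,3,3,0,3,4,2,0,3,4,4,3,4,1,0,0,2,4,1,3,3,1,4,0,3,1,4,4,2,1,3,0,0,3,0,4,4,4,0,3,0,0,4,4,0,0,2,3,0,2,3,1],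
[4,0,3,1,4,3,2,0,0,2,1,2,0,3,3,0,2,4,1,1,3,2,1,1,0,2,0,4,2,1,4,0,4,2,1,3,3,3,2,4,4,4,0,3,0,4,4,3,1,1,0,0,2,0,1,0,3,4,3,2,2,2,1,3,2,3,2,0,4,3,2,0,3,4,3,4,4,1,3,2,1,1,1,0,2,4,1,4,4,0,1,3,1,0,1,3,3,0,2,4,4,2,1,3,2,3,0,3,4,2,3],
[3,1,0,3,1,2,3,1,1,1,1,3,4,1,4,0,0,4,2,0,4,1,1,1,4,3,2,0,0,0,1,4,4,2,0,2,2,0,4,1,2,3,0,4,0,1,4,0,2,0,2,0,2,1,0,0,2,2,4,1,4,0,2,1,4,4,2,1,1,4,1,2,2,3,1,4,2,1,0,0,2,1,0,0,3,2,4,4,1,3,3,2,1,1,1,0,1,0,3,1,3,4,2,0,3,2,3,0,2,4,2],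
[1,3,1,4,3,0,4,3,1,3,4,2,2,3,3,3,3,3,2,0,3,3,4,4,0,0,0,2,3,4,4,2,1,4,0,4,0,1,4,0,3,3,2,4,2,2,2,1,2,0,4,1,4,0,1,1,3,4,4,4,2,0,4,3,3,4,1,4,3,3,4,0,0,2,2,3,4,0,1,3,4,4,3,0,0,1,1,2,1,4,1,2,0,1,1,3,1,1,4,4,1,4,3,3,3,2,1,4,1,0,1],
[1,2,0,4,4,2,2,2,2,4,1,1,4,4,3,3,4,0,2,1,1,0,0,3,2,0,4,3,3,0,3,4,4,0,3,2,0,2,0,1,3,1,1,3,1,2,2,0,0,0,3,0,2,1,0,1,2,3,4,4,2,4,0,2,3,4,0,1,1,4,4,2,1,2,4,1,0,1,1,1,2,3,2,1,1,3,3,2,0,0,3,2,3,3,0,3,2,3,4,2,3,4,0,4,2,0,2,3,2,0,4],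
[2,3,4,2,2,2,4,1,3,1,0,3,2,4,4,2,0,0,3,2,4,4,2,1,0,0,1,2,3,1,1,1,3,2,2,3,0,2,3,1,3,2,3,2,1,4,4,4,0,0,2,1,1,0,0,2,2,4,0,3,1,3,4,1,1,0,1,3,4,1,3,3,4,1,4,0,0,4,0,2,1,2,3,0,4,0,1,3,4,0,3,1,1,0,4,2,4,2,3,0,3,0,2,3,3,1,4,4,2,3,1],
[0,0,2,3,4,0,0,3,3,2,0,0,2,1,1,4,3,0,1,3,3,1,1,2,3,0,2,0,1,4,3,2,3,1,4,4,4,3,3,3,1,3,1,2,0,3,1,1,2,2,3,0,3,2,1,0,0,3,2,3,2,1,4,4,3,2,3,2,1,4,2,2,4,1,2,4,3,2,4,2,1,1,2,1,3,2,2,0,1,1,2,4,4,2,3,3,3,1,4,1,1,4,4,2,4,1,3,2,3,3,1],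
[2,1,3,1,1,3,3,4,2,4,4,3,1,4,3,2,4,1,3,1,4,4,1,0,3,1,2,0,1,1,2,4,2,1,1,2,2,2,3,4,2,2,3,4,3,3,2,2,2,2,3,2,2,1,4,1,0,2,1,1,1,1,2,1,2,0,2,3,3,1,2,2,2,3,4,3,4,4,4,0,3,0,4,0,1,4,3,2,3,3,0,1,1,4,1,2,2,2,0,0,2,1,3,4,2,0,4,4,1,1,2],
[3,2,1,4,4,4,3,3,2,4,4,4,1,0,0,1,3,3,1,2,0,2,2,1,3,1,4,3,3,4,0,1,1,2,0,4,1,4,0,2,0,3,1,1,3,2,2,0,3,3,4,4,4,4,1,0,3,2,1,1,3,4,4,3,3,0,0,1,2,0,0,4,0,0,3,2,4,1,4,3,1,4,2,3,1,0,2,0,0,0,1,2,1,3,2,4,3,0,4,0,4,0,0,0,0,0,4,0,1,4,0],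
[3,0,0,0,1,2,3,3,3,1,4,4,4,2,3,2,1,0,3,2,2,3,4,3,3,3,4,3,0,4,1,3,2,4,1,3,1,1,4,0,0,4,2,4,4,4,3,3,0,2,1,1,3,0,0,2,2,3,0,0,2,0,1,4,2,3,4,1,0,1,3,1,3,0,2,3,1,1,1,4,1,1,0,0,2,0,4,2,3,0,3,1,4,2,0,2,0,1,4,3,2,3,1,2,3,3,2,1,2,4,3],
[4,4,1,3,4,1,3,3,0,1,0,4,0,1,2,4,3,3,2,1,3,3,1,3,3,0,1,4,0,1,2,1,2,3,2,3,3,3,0,3,3,2,1,2,0,4,3,3,4,1,4,4,4,1,1,2,1,1,0,2,2,0,0,0,2,1,3,3,1,3,0,2,4,0,3,0,4,2,4,2,2,4,2,3,3,4,1,0,0,3,0,2,0,3,1,0,4,3,4,1,4,3,3,3,2,3,2,4,3,2,3],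
[0,1,1,2,2,1,4,4,3,1,1,1,2,1,2,0,3,3,3,0,1,2,2,0,3,2,3,2,4,2,4,3,1,0,2,1,2,0,3,3,3,1,1,0,0,1,0,1,2,1,2,3,4,2,4,4,3,0,1,1,1,2,3,0,4,1,4,4,2,4,3,4,4,0,1,3,0,4,2,0,2,2,1,2,3,4,2,1,1,4,1,0,1,3,3,2,1,3,1,0,3,4,2,2,1,0,1,1,0,2,1],
[3,1,0,3,4,1,0,3,0,4,3,1,0,0,1,2,4,4,1,0,1,4,4,0,4,2,3,2,1,2,2,0,0,0,4,1,0,0,4,3,0,4,2,1,3,1,3,2,3,0,3,1,2,1,2,4,4,0,4,1,3,1,4,2,1,0,4,1,1,2,2,1,1,0,2,3,0,2,3,3,0,3,2,1,3,3,4,4,1,2,1,0,1,4,2,4,1,0,4,1,0,1,2,4,3,3,4,1,0,1,2],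
[0,0,2,0,3,2,4,0,2,2,3,4,4,3,1,2,3,3,4,4,3,3,3,1,2,1,3,2,4,2,0,1,1,2,2,1,0,0,3,2,0,1,2,4,3,2,0,3,2,1,4,3,2,4,0,4,1,2,2,0,1,0,0,0,2,4,2,4,2,2,4,4,2,4,1,3,4,0,1,0,1,2,1,3,4,2,4,4,4,3,2,4,1,2,2,0,2,0,0,0,4,1,2,4,3,0,1,1,1,2,3],
[0,1,3,4,3,4,4,1,1,4,1,0,1,1,4,0,2,2,4,1,3,1,3,2,4,0,0,4,2,1,0,0,4,1,2,2,0,0,4,2,3,0,2,3,4,3,0,3,4,4,3,0,1,3,3,4,0,1,4,1,4,3,1,0,1,2,0,3,2,2,4,2,1,2,0,2,2,1,0,4,0,4,1,2,0,3,0,2,1,2,1,3,1,3,0,3,4,1,2,0,1,1,1,3,4,4,0,2,2,3,1],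
[0,0,4,1,3,0,3,0,3,1,0,2,1,3,4,0,4,3,3,4,3,3,4,0,0,4,3,4,0,4,3,2,4,4,1,4,1,0,1,3,1,2,2,3,1,4,4,2,3,3,1,2,3,3,2,3,1,0,0,4,1,2,0,3,0,2,3,4,0,3,1,0,0,3,4,1,0,3,1,3,0,0,4,2,0,4,3,2,0,1,1,4,2,0,0,0,2,1,1,2,0,3,2,3,0,1,0,2,2,0,1],
[4,3,2,1,1,3,3,1,1,1,2,2,1,1,2,1,2,2,3,2,2,3,2,1,2,4,3,0,0,3,1,1,4,1,0,2,0,3,3,1,3,4,0,1,3,0,4,4,0,1,2,2,0,1,3,4,4,4,0,4,4,3,4,1,3,4,2,3,2,3,1,1,0,0,4,2,4,0,4,4,0,0,2,1,2,0,3,2,0,1,4,0,2,0,2,4,2,4,1,4,4,0,0,2,3,2,1,4,3,1,0],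
[1,4,2,1,0,3,0,1,2,4,2,3,3,0,3,3,3,0,4,3,2,2,0,4,4,4,4,3,2,2,1,2,2,0,2,3,3,2,1,2,3,0,0,0,4,3,2,3,4,0,0,4,2,3,0,0,3,2,4,1,0,1,4,3,1,0,1,0,3,3,0,1,3,3,0,3,1,0,0,4,4,2,3,3,0,1,3,4,4,3,0,0,3,4,1,4,2,0,1,0,0,3,4,1,0,4,2,1,0,2,4],
[2,3,1,2,0,1,4,3,0,2,0,4,0,3,1,2,0,2,3,0,3,4,2,2,3,3,1,0,1,0,1,3,1,3,3,0,0,0,3,1,1,3,0,0,0,0,2,2,4,4,2,0,2,0,1,3,3,0,2,4,0,3,2,3,1,1,4,2,4,1,1,2,2,1,2,4,1,2,4,2,4,3,0,2,3,4,3,4,1,4,4,2,2,4,2,2,4,4,2,0,3,1,3,2,2,1,2,4,0,0,0],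
[4,4,2,0,3,2,3,3,4,3,3,2,2,4,2,1,1,3,2,0,0,1,2,3,0,2,3,4,4,1,2,0,3,3,4,2,2,2,1,4,2,3,4,2,1,2,1,2,0,3,3,1,4,0,1,4,2,4,2,4,0,3,1,0,3,4,1,0,1,1,4,2,1,3,3,2,3,1,3,1,4,0,3,1,3,0,0,4,2,3,1,1,1,4,4,0,2,4,1,4,2,3,3,3,0,4,1,3,4,3,0],
[2,3,1,1,3,2,0,0,4,1,2,4,3,2,4,2,2,3,0,2,1,3,1,4,3,2,4,1,4,4,4,0,3,3,2,2,2,2,1,3,2,3,1,0,4,1,2,4,1,4,2,4,4,4,1,1,2,2,1,2,3,2,3,0,2,1,1,3,3,2,2,1,2,2,0,3,3,0,0,4,1,2,0,4,1,3,3,2,3,2,1,4,3,4,2,1,0,1,2,3,0,0,3,1,2,2,4,2,4,3,2],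
[0,3,1,4,3,4,2,0,4,2,0,0,4,4,2,0,1,1,4,4,0,0,1,1,3,4,0,2,3,4,4,4,4,4,3,2,1,4,1,3,1,1,1,1,4,3,2,3,0,2,3,4,3,2,0,3,0,3,4,0,1,3,4,2,0,2,1,1,0,3,0,4,1,2,3,0,4,4,2,1,3,2,0,1,2,2,4,1,4,4,3,4,4,2,4,1,4,3,1,0,4,2,4,2,1,4,4,3,3,3,4],
[3,1,1,3,1,3,1,1,0,2,1,0,4,3,4,1,1,0,1,1,2,2,4,0,4,0,1,1,3,0,0,0,2,1,4,2,4,1,0,3,3,4,2,0,3,0,3,2,3,0,0,3,3,3,4,0,3,1,3,2,0,4,4,2,0,2,1,1,3,4,1,0,3,0,1,3,2,3,2,1,0,3,1,2,0,1,3,3,2,4,2,2,3,3,0,2,2,2,2,3,2,1,1,3,2,4,1,2,2,1,1],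
[1,4,4,3,3,1,3,3,1,1,3,2,3,0,2,2,0,4,0,2,3,2,2,3,1,3,4,0,3,3,0,3,4,2,4,0,4,3,2,3,1,0,1,1,4,4,3,0,0,4,3,4,1,4,0,3,1,3,1,2,4,1,4,0,2,3,1,4,1,0,0,3,2,4,4,4,2,2,0,2,4,0,3,2,2,2,4,2,0,2,0,4,0,0,0,1,1,3,4,0,1,3,1,3,1,4,3,1,4,2,2],
[1,0,3,3,3,2,0,1,1,1,3,2,0,4,0,0,4,3,1,4,2,0,0,1,1,4,4,4,0,4,4,0,4,3,4,0,3,0,0,2,4,3,1,4,3,4,2,1,3,1,1,4,1,3,3,4,3,0,2,3,3,2,2,4,3,4,2,1,0,4,2,4,4,3,2,2,2,4,3,1,2,2,3,1,4,3,4,1,0,1,2,1,4,2,1,2,2,4,3,2,0,0,3,4,1,1,1,0,2,2,0],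
[0,4,3,3,2,4,4,0,2,1,4,1,4,2,1,1,3,2,1,0,4,0,0,3,0,0,3,3,3,1,2,3,2,0,3,2,2,3,4,0,2,1,2,3,0,1,1,0,1,1,0,3,2,2,0,1,2,0,2,1,4,1,4,3,1,4,4,1,0,2,3,4,2,2,2,2,3,3,3,0,4,4,1,4,3,0,0,0,3,2,2,4,0,1,1,4,0,0,1,2,0,3,4,4,2,1,1,3,3,3,2],
[0,3,4,3,2,3,2,1,2,0,3,4,3,2,3,0,1,3,4,1,0,1,0,0,1,0,2,2,0,1,2,0,1,2,1,1,2,1,4,2,3,1,2,0,3,1,4,0,0,3,2,4,1,4,1,0,0,0,3,2,2,4,4,4,0,2,2,2,0,0,1,0,2,4,3,2,2,4,1,1,1,2,3,4,3,4,4,4,3,3,3,1,3,2,0,0,4,0,4,1,2,3,1,4,2,0,2,3,2,3,0],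
[0,4,4,4,0,3,3,3,0,1,2,3,1,0,0,1,1,4,0,0,2,2,3,3,4,0,2,1,3,4,0,4,4,0,2,2,0,3,3,2,3,0,1,4,2,3,2,0,4,4,0,0,1,3,4,3,3,0,3,2,1,1,1,3,3,3,0,1,3,1,3,4,0,3,2,1,1,0,4,0,3,2,0,4,2,4,3,2,0,4,3,3,4,1,1,0,1,0,2,4,0,1,1,4,1,0,4,4,2,4,0],
[4,0,0,2,3,4,0,4,4,2,3,4,4,2,4,1,4,2,3,0,0,4,2,1,3,0,2,0,0,0,2,4,3,4,3,0,4,4,0,1,3,1,1,0,1,3,3,2,1,3,3,1,4,0,4,4,4,1,3,1,1,1,0,2,1,3,2,0,1,2,1,0,0,1,3,2,1,3,2,0,0,3,2,3,4,3,1,3,2,4,4,0,3,4,3,4,1,2,1,4,0,2,2,3,3,3,0,3,4,2,2],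
[1,0,3,4,3,0,3,2,4,2,2,0,4,3,0,2,1,0,4,1,0,3,0,4,4,3,0,0,4,0,2,0,4,2,4,3,0,4,0,2,0,2,3,3,4,0,1,3,0,3,1,3,4,3,4,0,1,3,1,3,4,3,2,4,0,3,2,4,0,2,3,3,4,2,0,3,2,0,2,2,0,0,2,3,1,1,0,1,1,0,4,4,3,2,4,4,1,0,4,0,4,0,2,3,1,4,2,0,4,1,4],
[1,2,1,3,0,4,4,3,1,3,3,2,3,0,3,1,2,0,3,0,2,0,1,4,2,2,4,2,0,1,1,1,3,4,0,2,2,3,1,2,3,3,3,4,2,2,3,0,3,3,0,1,3,2,4,3,3,2,2,1,4,2,1,0,0,2,1,0,4,4,4,2,1,0,1,4,3,2,3,0,0,2,2,0,0,4,1,0,4,1,0,2,2,2,4,4,2,4,3,4,3,1,2,4,0,0,3,2,4,3,2],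
[2,1,0,2,1,1,4,0,1,0,2,3,1,3,2,2,1,4,2,3,0,4,0,2,0,2,3,4,0,1,1,3,0,4,4,0,0,1,4,2,1,1,4,0,0,0,2,0,4,1,4,2,2,1,4,3,4,1,2,1,0,4,0,1,0,0,0,1,0,2,1,3,4,3,2,4,1,2,2,0,3,1,0,0,3,4,0,3,2,4,3,4,0,0,3,3,1,4,2,4,2,0,0,3,4,0,3,2,2,4,3],
[2,4,1,0,2,1,0,4,3,2,4,4,3,3,3,2,2,0,3,2,4,1,1,1,2,2,2,0,2,3,0,2,3,1,2,0,0,1,1,4,4,1,2,0,4,2,1,1,3,0,1,0,3,3,3,0,0,2,2,1,3,0,0,2,3,3,2,4,0,1,2,4,0,2,1,2,1,4,4,2,1,3,2,0,4,2,2,0,0,1,1,4,2,4,2,0,2,2,3,3,4,1,4,1,4,4,0,2,0,2,4],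
[1,3,0,2,0,2,3,3,2,2,3,2,2,2,1,1,4,3,3,1,3,2,2,1,0,3,0,4,1,4,4,2,2,1,3,0,3,4,2,0,2,3,2,1,2,1,4,1,0,2,4,3,3,2,4,3,4,4,3,4,3,0,1,2,0,4,3,4,4,1,4,3,2,4,3,1,1,3,2,2,0,1,2,4,4,1,0,0,1,0,0,1,4,2,3,3,3,0,0,4,2,3,4,1,1,3,2,1,0,0,1],
[4,3,4,2,3,0,0,2,4,4,0,2,4,2,4,2,0,1,4,1,1,4,0,2,0,2,1,3,2,3,0,4,2,2,3,0,4,3,4,3,2,4,3,1,2,2,2,2,3,0,0,4,4,0,1,0,1,0,2,1,0,3,4,3,4,4,2,3,3,0,4,2,3,0,0,4,2,0,2,0,3,0,3,4,2,3,0,1,4,4,1,4,2,2,2,1,3,3,2,2,0,3,0,4,2,2,4,0,3,2,3],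
[4,0,2,4,1,0,4,3,1,1,2,3,4,4,4,0,0,1,0,3,1,1,1,3,0,4,0,0,2,1,3,3,1,4,0,3,0,4,0,3,3,2,4,1,0,0,3,4,2,1,2,0,3,1,2,4,1,1,2,4,0,0,1,0,2,3,0,0,2,0,2,1,0,2,4,0,4,0,4,1,4,3,1,2,0,2,2,1,3,0,2,1,2,3,4,4,2,4,2,2,1,1,4,0,2,2,1,0,0,3,4],
[4,0,2,2,2,1,1,2,1,1,1,0,3,0,1,3,2,0,4,2,3,1,3,1,4,3,0,3,3,2,4,4,2,4,0,3,3,1,2,2,4,1,0,3,2,2,2,3,1,0,2,3,3,3,0,2,3,0,1,0,3,0,0,3,4,4,1,1,2,3,1,1,1,4,4,0,0,4,4,4,0,4,0,4,3,2,0,2,3,4,1,3,0,3,4,2,3,1,4,3,3,3,3,1,2,0,0,3,2,1,2],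
[0,4,0,1,3,2,0,2,2,2,1,2,2,1,4,3,0,1,2,3,0,2,4,1,2,0,4,1,4,2,3,1,1,4,2,2,3,0,2,1,3,2,0,2,1,3,3,1,1,1,3,4,3,4,1,3,0,1,1,0,2,0,3,3,4,1,3,2,4,1,1,4,0,2,3,0,1,0,2,0,0,0,2,0,4,1,1,1,2,1,1,1,2,2,3,2,4,4,1,1,4,3,1,3,0,4,0,4,4,0,3],
[0,0,0,0,0,0,0,0,0,4,2,1,4,4,4,2,0,1,1,3,0,0,4,0,3,2,4,0,4,4,2,0,0,0,4,0,1,0,2,3,1,0,1,1,3,0,0,0,1,3,1,2,0,1,4,2,1,0,0,1,2,2,0,2,0,2,0,4,4,3,2,0,1,4,2,0,1,3,0,4,0,0,0,0,0,0,0,0,0,2,4,2,0,4,3,2,1,0,0,4,3,3,0,3,3,0,0,0,0,1,0],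
[0,0,0,0,0,0,0,0,0,0,4,3,2,1,3,2,0,4,2,3,0,1,0,0,4,3,0,0,0,2,2,0,0,0,2,4,2,0,1,2,4,0,0,3,3,0,0,0,3,0,1,3,0,3,0,2,1,0,4,4,4,0,0,2,3,2,0,0,0,0,0,4,2,0,1,2,2,0,0,0,0,0,0,0,4,0,0,0,1,0,4,3,0,2,2,1,4,0,0,1,1,0,0,3,4,2,0,0,0,4,0],
[0,0,2,0,0,0,0,0,0,0,0,4,4,4,2,4,1,2,3,3,0,2,0,1,3,1,4,0,0,2,1,2,3,2,4,2,4,0,4,0,1,0,2,3,2,2,3,2,4,4,2,0,3,0,4,4,3,1,0,4,3,2,0,0,1,0,2,3,0,2,0,4,2,4,3,1,3,3,1,0,3,2,0,4,1,2,2,2,2,1,3,0,3,1,3,0,3,0,2,2,0,0,2,3,0,0,4,4,0,0,0],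
[0,0,0,2,0,0,0,0,0,0,0,4,1,0,3,2,4,0,0,2,1,2,1,1,3,4,3,0,3,1,3,0,4,1,4,2,3,1,2,4,4,2,4,4,3,3,0,1,1,0,1,3,4,0,2,0,4,4,2,0,3,4,3,4,2,2,3,3,3,2,4,2,3,2,4,3,4,0,0,2,0,2,1,4,4,2,0,3,2,0,0,1,2,3,2,4,3,1,4,0,0,4,0,3,0,0,4,4,2,0,0],
[0,0,0,0,2,0,0,0,0,0,0,3,0,1,0,2,0,0,2,4,2,2,2,2,0,1,2,2,2,1,3,3,4,0,3,4,2,4,1,0,2,4,3,3,1,1,0,3,0,3,2,4,3,1,1,0,4,0,4,1,2,3,2,0,0,0,3,2,0,1,3,4,0,4,1,2,3,3,2,3,2,4,1,0,2,1,3,3,2,0,3,3,3,4,1,3,1,2,1,0,4,3,3,4,0,0,4,0,2,0,0],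
[0,0,0,0,0,0,0,1,3,3,4,2,3,3,3,4,3,2,2,1,2,0,4,4,1,4,2,4,3,3,4,0,2,2,3,0,4,1,4,1,1,1,2,2,1,0,3,3,2,1,2,0,3,2,2,0,0,2,4,2,4,4,2,4,0,0,0,1,3,2,4,4,2,3,3,0,2,2,4,3,0,2,3,3,2,2,4,1,0,4,3,0,2,1,4,3,0,3,1,3,1,1,3,1,1,0,0,0,0,4,0],
[0,0,0,0,0,0,0,0,1,0,3,1,4,2,1,4,1,3,4,1,4,2,3,4,3,1,1,1,0,4,4,4,1,2,4,3,0,1,2,4,2,4,0,1,1,1,4,3,1,0,2,0,4,2,3,2,4,4,2,3,3,0,0,4,1,4,1,3,1,0,4,1,4,0,0,4,4,0,4,0,4,2,1,1,4,2,2,3,2,0,3,0,1,4,0,1,1,1,3,2,2,0,0,1,1,2,0,0,0,4,3]]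

noncomputable def carTab3 : List (List ℕ) := [[1,0,0,0,0,3,1,1,0,4,2,3,1,1,0,2,2,0,4,4,1,3,4,1,2,4,2,4,0,1,2,0,1,4,2,3,0,2,1,3,2,4,1,2,4,3,1,2,4,4,3,2,3,3,2,4,4,3,2,4,4,1,2,4,3,2,2,2,3,4,1,3,0,4,0,2,2,3,2,0,0,3,1,2,0,1,4,1,4,2,1,3,1,2,0,4,3,4,3,0,1,1,0,4,0,1,0,0,0,2,1],
[1,3,0,0,0,2,0,3,4,0,3,0,2,3,4,4,2,3,4,2,3,0,0,0,4,3,0,3,3,0,4,0,4,1,0,4,1,3,1,4,3,2,1,3,2,2,4,1,3,2,3,0,2,0,3,0,3,3,1,2,3,2,4,1,1,4,2,2,0,4,4,4,1,1,3,0,1,3,0,3,0,0,4,3,4,1,1,4,1,3,2,4,0,2,4,3,3,2,3,2,0,1,4,1,2,4,0,0,0,0,4],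
[0,0,3,4,2,0,0,0,0,0,0,3,3,0,2,3,2,4,0,0,0,2,2,4,2,1,2,0,1,0,2,2,4,1,3,3,3,2,0,3,4,2,4,2,0,3,4,3,3,3,0,1,3,0,2,4,2,2,0,0,0,1,1,2,1,3,1,4,1,3,3,2,2,3,1,0,3,3,1,4,3,3,1,0,4,4,4,1,4,2,0,2,3,4,4,2,2,0,3,4,4,2,4,1,0,0,0,3,4,0,0],
[0,0,1,3,1,0,0,0,0,0,0,2,2,4,3,1,2,1,4,4,2,4,2,1,2,1,4,1,2,1,4,1,2,1,2,1,3,3,1,1,3,2,0,2,1,1,0,3,2,4,4,4,3,3,4,0,4,2,2,4,2,2,3,3,1,1,4,2,0,4,4,0,3,3,0,3,1,0,1,3,4,2,2,0,2,3,2,2,3,1,1,0,3,4,0,0,1,2,1,1,4,2,0,1,0,0,2,4,3,0,0],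
[0,0,2,4,3,0,0,0,0,0,0,3,2,0,2,0,1,3,4,4,3,3,3,2,1,3,0,0,4,1,0,3,0,2,3,3,3,4,1,0,3,2,2,3,1,1,2,1,2,1,2,1,4,0,1,1,1,1,0,0,2,2,0,1,4,3,0,0,3,0,3,0,2,3,2,4,2,3,0,1,2,4,2,4,3,0,3,4,2,0,0,3,2,4,2,4,3,3,1,3,0,4,1,4,0,0,2,3,2,0,0],
[0,3,0,0,0,1,0,2,1,0,4,3,2,3,0,3,0,3,3,4,1,2,1,1,3,1,0,1,0,2,3,1,3,3,2,0,0,1,0,1,4,4,0,1,4,3,0,1,3,3,3,2,2,2,1,2,3,0,1,2,3,1,0,0,3,1,0,4,0,3,0,2,0,0,2,1,0,4,1,0,1,3,2,1,4,2,2,3,0,2,2,0,0,0,4,0,4,4,4,2,1,0,2,0,3,2,0,0,0,2,2],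
[3,1,0,0,0,2,2,1,1,4,4,1,3,2,2,3,0,1,3,3,3,2,1,4,3,4,4,1,2,4,3,1,1,2,4,0,0,2,0,1,4,4,1,3,3,2,1,1,2,3,0,0,1,0,4,1,1,0,2,3,2,3,0,3,1,0,0,3,1,1,3,4,3,2,4,1,1,2,2,2,1,2,4,0,2,3,2,3,4,2,0,0,3,0,4,4,2,2,2,4,2,2,2,2,2,1,0,0,0,3,4],
[4,0,4,3,2,0,1,1,4,4,3,3,0,4,3,0,0,0,1,1,3,4,3,2,4,0,1,4,2,1,0,2,4,3,2,2,4,3,2,2,4,4,4,1,4,0,4,2,4,2,4,0,3,2,2,2,0,4,0,4,4,0,1,2,0,3,0,0,4,1,0,3,0,3,3,2,0,1,3,0,2,3,3,1,4,4,2,1,0,4,0,1,0,1,0,4,4,4,1,1,4,3,1,1,2,4,2,0,2,3,0],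
[4,3,0,4,0,2,2,2,4,4,2,0,0,4,4,4,1,0,3,3,1,3,1,2,4,2,4,4,1,2,0,2,2,1,4,4,0,4,4,1,3,0,4,4,0,1,2,0,1,2,4,2,0,2,2,3,2,4,2,4,1,1,0,0,4,4,1,2,0,1,2,4,4,2,3,2,3,4,3,2,3,1,2,2,1,2,4,0,2,1,2,1,3,0,3,0,4,2,4,4,1,2,4,1,1,3,3,4,0,1,3],
[2,0,0,0,2,3,4,4,3,4,1,4,1,4,2,4,1,2,0,0,4,3,1,4,3,1,1,2,4,3,0,4,0,2,3,1,3,2,0,3,4,3,2,4,2,2,3,2,4,3,4,1,0,4,1,0,0,4,1,4,0,2,0,2,0,1,2,4,1,1,1,1,2,3,1,3,0,3,0,2,2,1,4,1,0,1,1,2,2,0,0,1,2,2,0,3,1,4,1,2,2,3,4,1,3,0,4,2,2,3,3],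
[0,1,3,3,0,2,2,2,0,2,1,4,1,2,4,2,3,4,3,1,3,1,3,4,3,1,4,4,1,3,4,4,1,1,4,0,4,3,0,0,0,1,2,2,3,3,2,3,1,2,1,0,3,0,0,0,1,3,2,3,3,1,3,3,2,4,1,4,2,3,4,3,1,3,2,2,4,3,3,2,4,0,0,4,1,3,2,4,2,3,1,3,2,0,0,4,1,1,1,3,1,3,0,1,4,4,3,4,4,4,0],
[4,1,1,1,3,0,2,3,3,3,3,3,2,2,4,0,4,4,2,3,1,0,4,2,3,2,0,1,4,0,0,4,3,1,3,1,1,0,1,3,0,0,2,0,1,3,2,2,1,2,2,1,1,2,2,4,3,2,2,0,3,3,1,3,0,0,2,4,0,3,1,0,3,2,3,4,2,2,2,2,1,0,4,3,2,1,0,4,0,1,4,3,2,1,1,2,0,2,3,4,1,1,2,1,4,1,2,1,1,3,2],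
[4,3,2,4,3,2,0,0,1,4,0,0,3,0,4,2,2,4,0,4,2,2,0,1,0,1,3,0,4,3,3,4,4,4,2,4,3,0,4,3,2,2,2,3,1,0,3,3,2,0,4,0,0,3,3,3,0,0,4,0,2,3,4,3,1,2,3,4,4,3,1,3,3,3,3,2,2,4,3,2,4,3,1,0,4,1,1,2,2,0,4,1,0,2,1,3,0,4,2,3,4,2,0,0,0,1,1,4,0,4,0],
[4,0,2,4,3,0,0,0,2,1,1,2,3,0,1,4,3,2,1,4,0,3,4,0,2,1,0,1,0,1,0,3,1,1,2,1,3,0,1,3,3,3,0,0,0,2,4,0,1,2,4,2,0,1,4,4,0,3,2,0,2,1,2,1,4,4,4,4,0,1,1,1,3,0,0,1,1,3,2,3,4,3,2,1,3,0,2,2,1,2,1,4,3,3,2,4,2,4,2,1,2,0,4,3,4,1,0,2,0,1,1],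
[0,4,3,2,1,2,2,2,4,0,0,2,1,3,0,0,2,0,0,0,0,0,4,0,3,4,2,1,2,4,0,1,2,1,4,3,3,1,1,0,4,1,2,4,4,2,2,3,0,3,2,1,1,2,1,2,2,4,4,3,3,3,1,1,3,1,4,3,2,3,3,0,3,1,0,3,0,0,1,1,2,0,3,3,2,4,4,1,0,4,1,0,4,4,0,4,2,0,2,2,4,4,3,1,1,1,2,2,2,3,3],
[2,4,2,2,3,3,3,2,0,1,0,3,1,3,1,2,4,1,1,2,2,0,3,3,4,3,1,2,2,1,0,1,4,2,3,0,4,3,1,0,4,0,4,2,2,1,4,2,2,4,3,2,2,0,2,1,3,1,3,4,3,4,1,0,3,3,0,1,2,3,3,2,0,2,4,3,0,2,0,1,3,4,1,0,4,0,3,4,2,3,2,3,4,0,0,2,0,1,2,3,3,2,0,4,1,3,4,3,4,0,4],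
[4,4,4,1,3,1,0,1,3,3,0,3,1,2,2,0,0,2,0,2,0,4,4,2,2,3,1,3,2,3,4,2,3,2,1,3,2,4,1,0,0,1,4,3,2,3,4,1,4,0,0,2,4,3,4,0,1,0,4,4,1,3,0,4,2,0,3,4,0,0,4,1,2,0,3,1,1,4,4,2,4,0,2,3,4,2,0,3,0,1,1,4,4,4,2,1,3,1,4,3,1,4,4,3,2,1,3,1,2,4,3],
[3,0,4,0,2,4,3,1,2,1,4,4,4,4,1,3,1,4,1,3,3,4,3,3,0,2,4,3,0,3,0,1,3,3,3,2,0,4,4,0,1,1,0,4,4,3,2,1,3,3,4,2,0,4,3,2,2,4,4,3,2,2,2,4,2,4,1,4,3,0,0,4,4,3,3,3,2,4,3,1,1,4,3,3,4,3,1,2,3,1,4,1,0,2,3,1,1,3,3,2,2,1,1,1,1,2,0,0,0,4,4],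
[3,4,3,3,4,2,2,3,1,3,2,3,4,2,1,4,2,3,3,3,0,4,4,0,1,3,1,3,2,1,3,3,3,4,0,1,3,4,2,2,3,3,4,4,4,1,3,0,2,1,2,0,3,4,4,4,3,2,1,3,2,3,1,3,0,3,4,3,3,2,0,3,3,1,1,4,0,4,0,0,2,2,1,0,2,2,0,4,2,0,0,3,0,1,3,2,2,2,4,3,0,2,3,2,4,0,0,1,1,4,2],
[3,4,2,3,0,3,3,3,4,1,4,4,0,2,0,4,1,4,0,0,3,3,4,3,0,3,1,0,0,2,2,4,0,2,4,0,3,2,4,4,2,3,0,3,3,0,1,2,1,3,4,1,2,0,4,3,2,0,2,0,4,1,4,2,0,4,2,4,2,1,1,1,2,3,2,4,0,1,4,3,4,1,3,4,3,3,2,0,2,0,1,0,0,4,4,1,4,2,4,4,2,4,1,1,3,3,2,3,1,1,0],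
[4,4,2,1,2,1,0,2,4,3,2,4,3,0,1,4,0,3,2,0,0,0,3,2,0,3,2,0,4,1,2,0,2,3,4,4,2,3,4,4,0,1,3,0,2,2,2,4,4,3,2,2,4,4,2,2,3,2,4,1,0,2,2,0,0,0,2,0,2,2,2,2,0,2,4,1,2,4,0,2,2,0,1,3,2,4,3,4,4,0,4,4,2,1,1,0,4,0,2,2,4,0,1,1,1,0,3,4,0,1,1],
[1,3,2,4,4,2,0,0,4,1,2,2,3,0,3,2,4,1,4,1,1,2,1,3,4,3,4,0,2,4,3,3,1,3,2,0,0,2,1,4,2,2,2,1,3,1,3,1,2,4,3,2,3,2,0,0,0,4,1,4,2,0,2,3,2,2,4,0,2,0,4,2,1,1,2,3,3,2,1,1,3,0,1,0,4,2,4,4,0,3,4,3,4,3,2,3,3,1,1,4,2,3,4,0,1,4,1,3,3,3,4],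
[1,3,1,2,0,0,3,0,1,3,4,4,2,2,1,0,4,1,2,1,2,2,1,3,1,2,0,2,2,4,1,2,3,2,0,2,0,4,2,2,4,0,3,4,2,1,0,2,2,1,1,2,0,0,1,4,1,0,0,0,4,2,0,3,1,1,0,1,4,1,0,1,1,0,4,4,2,2,1,0,2,1,2,1,2,3,4,4,4,3,2,2,2,3,1,1,3,2,2,2,0,2,0,1,1,3,4,0,2,4,3],
[4,1,4,3,2,0,1,3,4,0,1,2,4,1,3,4,2,1,2,1,3,1,1,4,1,3,4,1,3,2,2,1,2,3,2,3,4,2,1,0,4,2,4,3,4,4,4,2,0,4,0,2,4,3,3,1,2,2,0,1,0,2,3,1,0,4,4,4,0,4,4,4,2,2,4,1,3,0,4,1,0,4,4,0,2,0,0,0,4,3,1,2,3,0,4,4,0,4,0,2,0,2,3,3,1,1,1,0,4,4,2],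
[3,0,1,2,1,0,4,0,2,3,2,4,4,2,4,1,0,3,4,1,2,0,2,4,2,4,1,1,1,2,1,4,1,2,0,0,2,1,0,4,4,3,0,0,4,1,2,4,4,0,2,2,1,4,4,2,4,2,0,4,0,4,1,1,3,0,2,3,0,3,4,0,3,4,1,3,3,3,2,0,0,4,0,4,0,4,4,2,1,3,2,2,4,1,2,0,4,0,0,4,0,2,2,3,1,2,0,4,1,3,1],
[4,3,4,4,1,0,0,4,3,0,1,1,3,4,3,2,0,3,0,0,4,2,2,0,0,0,0,1,1,2,2,1,2,3,0,3,0,2,2,3,1,4,0,2,4,3,2,2,0,4,4,1,3,0,4,2,2,4,1,4,3,4,2,2,0,4,0,0,4,2,4,2,2,3,0,0,2,4,2,0,3,1,0,2,3,0,1,4,0,3,0,1,2,3,2,1,0,1,3,0,1,2,1,4,4,2,4,3,3,2,0],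
[4,2,2,2,0,0,0,1,2,0,0,1,3,4,1,4,2,1,4,3,1,2,0,2,2,3,4,2,2,3,3,0,4,0,3,0,0,0,1,0,1,2,4,4,1,4,3,1,0,3,3,0,1,0,1,2,2,0,1,0,0,0,3,3,0,1,1,1,1,2,3,2,3,2,0,3,4,1,1,3,0,3,3,2,2,1,3,4,3,0,2,4,0,2,1,4,1,1,2,0,2,0,0,1,3,4,3,3,0,3,1],
[3,2,2,0,3,1,1,3,3,1,4,3,4,1,0,1,3,1,4,3,0,0,3,1,1,2,1,1,1,1,2,1,2,1,3,2,2,2,3,2,0,3,1,4,4,1,4,1,3,4,2,0,1,1,0,1,2,0,4,0,0,4,1,1,3,1,3,3,4,0,4,1,0,0,2,2,2,0,3,0,4,3,1,0,4,0,4,1,2,1,4,0,1,2,3,0,0,0,2,4,2,3,3,4,1,2,0,0,0,3,0],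
[4,0,0,3,2,2,3,1,2,3,1,2,1,4,4,1,3,0,2,4,0,0,2,1,4,2,1,0,3,3,1,1,2,3,3,3,1,3,3,4,2,3,0,4,3,1,1,2,3,2,4,3,4,3,2,0,3,4,1,3,3,2,3,1,4,2,4,3,3,1,0,3,3,0,3,1,0,1,0,4,0,0,0,3,0,1,0,1,3,2,2,0,3,1,3,4,3,4,2,3,4,1,0,0,2,0,0,3,3,1,0],
[4,2,2,0,3,2,3,0,1,0,1,3,2,4,3,0,3,4,4,0,0,1,4,1,3,0,4,0,3,4,2,4,3,2,1,4,2,1,2,2,2,0,0,2,0,2,3,2,0,0,4,1,1,4,1,4,1,3,4,2,2,2,1,4,1,2,4,3,4,3,1,4,2,3,2,2,2,3,2,0,2,4,3,2,0,2,3,4,4,1,4,4,4,0,4,0,4,2,0,2,1,2,0,0,1,3,3,0,2,3,2],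
[3,2,0,0,1,1,0,0,4,4,2,2,4,1,4,1,2,2,1,4,3,3,2,3,1,1,1,1,0,1,3,2,0,2,1,0,2,3,1,0,4,3,2,0,0,1,2,3,3,1,3,0,1,3,3,2,1,0,3,1,0,4,1,2,2,1,2,2,4,0,1,1,3,0,0,2,3,3,2,2,0,3,3,4,0,0,2,0,4,0,0,2,3,1,4,2,4,3,3,3,1,1,4,4,2,2,3,4,0,3,2],
[1,2,2,1,3,3,1,0,3,4,3,1,3,0,1,1,0,0,2,0,4,1,1,1,3,2,0,2,3,3,3,2,3,0,0,3,0,2,1,1,2,0,0,1,0,3,0,0,0,3,1,1,2,4,1,2,1,4,1,4,0,2,2,1,0,3,4,3,4,0,2,0,1,1,1,3,1,4,3,3,2,1,1,0,3,3,0,2,1,0,4,3,2,1,0,0,1,3,0,0,1,3,0,2,0,1,4,2,3,2,0],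
[3,2,4,1,4,4,3,4,3,3,3,4,2,4,4,2,2,2,4,0,0,0,3,3,2,1,0,4,1,0,2,4,0,1,1,0,3,1,1,4,0,0,3,0,0,0,3,2,3,4,1,1,1,3,1,1,0,0,3,0,2,0,4,1,0,3,0,4,1,0,3,2,2,2,2,4,4,4,4,0,3,4,2,1,4,0,3,2,3,1,1,0,3,3,3,4,3,0,2,0,1,4,0,1,1,1,1,4,3,4,0],
[2,1,2,0,1,0,0,1,0,0,2,1,3,1,2,0,3,1,1,1,1,2,0,1,4,0,4,4,4,2,0,4,1,2,0,0,4,0,2,0,3,4,3,4,4,4,1,1,4,0,0,2,3,1,1,3,3,4,0,2,3,1,0,4,4,4,2,3,3,1,0,2,3,4,0,2,0,4,1,0,1,2,4,1,0,4,1,3,4,3,1,2,4,1,2,1,1,3,3,0,4,4,2,2,4,0,2,0,3,0,0],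
[0,1,0,2,1,3,1,1,1,0,0,2,3,0,1,0,1,1,4,0,2,1,3,1,1,4,4,0,2,3,3,2,4,3,4,2,3,3,4,3,3,1,1,3,1,1,1,1,1,1,4,3,4,4,3,1,0,4,1,0,1,1,3,2,1,1,1,2,0,3,3,4,1,0,4,4,1,3,0,4,0,0,2,2,0,3,4,4,1,1,1,3,4,3,1,2,2,4,2,0,3,0,0,2,3,3,4,2,3,2,0],
[4,3,0,3,2,2,1,2,1,3,1,1,4,3,3,3,0,2,1,2,3,3,2,1,0,0,0,2,2,2,0,3,0,3,0,3,2,0,0,4,0,3,4,1,1,2,0,2,2,1,1,0,4,0,2,3,1,2,2,3,3,0,3,0,4,1,3,4,2,3,2,2,2,4,2,2,2,1,0,2,3,0,3,3,3,4,0,3,0,3,3,3,1,4,0,3,3,2,1,1,3,4,1,2,1,1,3,2,2,3,2],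
[4,4,4,2,0,2,2,1,1,0,0,3,1,3,0,3,2,1,0,4,0,1,2,3,1,1,1,4,3,1,1,1,2,1,4,4,0,3,0,2,3,1,4,1,4,1,2,4,0,1,3,0,2,4,2,4,4,0,2,2,4,4,2,3,1,0,1,1,4,2,0,1,0,0,2,0,1,2,0,3,3,3,4,3,3,1,4,0,1,1,4,3,4,0,4,0,2,4,1,3,4,4,1,0,4,0,2,0,2,4,0],
[0,3,4,3,4,1,0,3,1,2,3,1,2,3,2,2,4,4,2,3,4,2,0,2,2,0,1,0,1,4,2,0,2,3,4,1,2,0,0,1,3,2,2,3,0,2,4,3,0,2,0,2,3,3,1,1,3,2,4,0,1,1,0,1,1,0,2,1,1,4,0,1,1,3,1,3,0,2,0,0,3,1,3,3,1,2,0,1,4,3,4,3,3,1,1,1,2,1,0,3,4,1,3,1,2,1,4,2,3,4,4],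
[2,2,1,1,2,0,3,3,0,0,2,0,2,3,1,3,1,1,4,4,1,2,1,0,1,1,0,2,1,2,2,2,1,0,3,1,1,0,3,4,1,3,4,0,3,2,0,3,2,0,3,3,1,0,3,2,4,1,0,1,1,0,4,4,2,2,3,0,3,3,4,3,4,4,1,1,3,4,3,4,0,0,0,0,0,3,0,1,4,2,0,0,1,1,2,1,0,0,0,2,4,1,1,3,2,2,0,0,1,1,2],
[2,0,4,2,1,3,3,0,1,1,0,4,0,1,1,4,0,0,3,3,4,4,4,3,2,0,3,3,4,4,1,4,1,0,3,4,3,1,1,1,2,0,4,4,1,4,3,1,2,3,0,2,0,4,0,4,3,1,3,3,2,3,2,2,1,1,0,2,2,2,4,3,3,3,2,0,3,2,0,1,3,1,4,1,4,2,0,1,4,3,3,2,2,4,2,2,1,1,2,2,3,3,3,4,4,2,2,4,4,1,2],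
[2,4,3,2,3,3,0,1,0,4,0,3,1,1,4,4,2,2,4,3,2,0,4,4,3,3,2,4,4,4,4,0,2,0,1,4,3,1,3,3,0,4,0,2,3,3,1,4,0,0,2,4,3,1,4,0,0,4,0,0,1,2,1,1,2,0,3,0,0,0,1,1,2,0,4,1,3,0,2,0,0,3,2,3,3,3,1,2,2,4,1,4,3,3,0,4,0,3,4,3,1,0,1,4,1,0,3,0,3,0,0],
[0,0,0,0,4,2,2,0,4,4,1,0,2,3,4,2,4,4,2,3,1,4,1,2,0,4,4,2,3,4,2,2,3,3,0,0,0,4,2,0,0,4,1,4,0,1,4,1,4,3,2,3,1,0,2,3,0,1,4,0,4,4,3,4,2,2,4,2,4,4,3,4,3,0,4,0,1,2,4,1,3,1,2,3,3,2,3,3,4,0,0,4,4,2,3,0,2,4,0,3,1,4,1,4,1,2,4,4,0,4,1],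
[1,1,2,0,0,0,3,1,2,3,4,1,0,2,0,1,1,0,0,2,1,1,2,2,4,3,1,3,1,0,3,0,0,2,0,4,4,1,2,2,0,2,4,0,1,1,2,4,3,2,2,2,3,2,0,2,1,0,0,1,0,3,3,1,1,4,3,3,3,0,1,3,4,1,3,2,2,0,3,0,1,2,1,3,4,3,0,0,4,2,4,4,1,2,2,0,2,3,1,0,3,0,3,3,2,3,0,4,1,0,2],
[1,3,0,1,1,3,4,3,4,0,2,3,3,1,4,3,3,1,0,3,2,3,2,0,4,0,2,0,4,0,4,0,4,0,2,0,1,4,1,3,4,1,0,1,4,1,0,2,2,2,1,1,2,1,0,3,0,4,1,0,1,0,2,0,1,3,3,0,2,3,1,1,0,0,4,3,3,3,1,2,0,4,4,2,2,3,4,0,0,4,4,3,3,0,2,1,2,2,3,4,1,4,3,4,1,4,0,1,3,0,4],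
[3,2,0,4,1,2,1,3,1,4,2,0,0,4,0,2,3,2,2,0,1,2,2,4,2,0,1,0,4,0,0,1,1,2,1,2,4,1,4,0,2,1,2,0,2,4,1,2,0,3,2,1,1,1,3,1,4,0,0,4,0,4,0,3,0,0,3,1,3,4,0,0,1,0,4,2,3,3,1,3,2,4,0,4,1,1,1,3,0,2,1,0,2,4,3,1,3,4,1,0,1,1,4,0,0,3,2,0,0,0,1],
[3,4,2,4,3,1,0,4,1,2,0,1,2,4,1,0,1,3,4,3,2,3,4,4,0,2,0,0,4,2,1,2,3,4,3,0,1,4,1,2,2,3,3,3,1,2,1,0,1,0,0,0,3,4,0,0,1,3,3,0,0,1,3,3,0,1,4,1,1,2,0,2,1,4,0,3,4,0,2,0,0,3,0,0,4,0,0,3,3,2,1,3,4,0,1,1,0,3,2,1,3,2,2,2,3,4,3,3,3,2,2],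
[1,0,3,4,4,2,0,2,1,2,3,3,1,2,1,3,3,1,4,0,1,0,4,3,4,2,4,4,1,3,3,4,1,3,0,2,0,0,4,3,3,3,2,1,1,3,1,1,0,0,1,0,1,1,4,0,2,3,1,0,1,2,0,2,1,0,1,2,2,2,4,0,0,3,2,0,4,3,1,2,1,4,2,1,2,4,2,0,4,3,2,1,3,1,4,1,2,1,3,1,2,0,2,3,3,0,0,0,3,3,1],
[3,0,0,1,2,3,3,3,4,0,3,4,0,2,1,0,2,3,4,3,1,2,3,4,1,0,3,0,1,1,0,3,3,0,2,1,3,2,1,0,4,3,0,1,1,3,3,2,1,0,1,2,1,3,0,2,1,4,4,3,3,1,2,4,2,4,1,0,0,0,4,4,1,4,2,0,4,1,1,2,0,0,2,1,4,2,3,0,3,4,0,2,0,0,2,3,4,3,4,4,1,2,4,4,4,3,1,1,3,1,4],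
[3,3,1,4,4,4,1,1,4,0,0,1,2,0,3,4,2,1,0,3,2,2,1,1,0,2,3,1,4,4,1,3,3,0,0,2,3,4,1,1,4,1,2,4,4,1,0,4,3,0,4,0,1,2,2,1,4,2,2,0,1,2,4,1,4,0,0,4,2,3,2,4,0,0,3,2,0,1,4,2,0,1,4,2,0,4,3,4,4,3,3,2,4,3,0,3,0,1,3,3,4,3,2,3,2,0,0,4,3,1,0],
[2,0,1,0,0,3,2,0,1,3,0,3,2,1,4,3,3,3,4,0,3,3,2,0,1,4,1,3,2,0,3,4,1,0,1,0,3,2,2,1,1,2,2,2,0,2,2,0,4,4,4,2,2,1,4,4,2,0,0,4,3,3,1,3,1,1,2,4,4,3,0,4,3,0,3,0,4,3,1,3,0,0,2,4,4,4,2,4,3,4,2,1,0,3,3,2,4,1,1,2,3,4,0,2,0,0,0,4,4,3,1],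
[0,1,1,3,0,0,0,4,2,0,1,1,4,2,2,3,1,1,1,3,2,4,1,2,3,1,0,2,2,2,4,3,0,2,3,2,3,2,2,2,0,1,2,0,4,4,3,2,2,0,4,1,2,0,0,1,2,4,2,3,3,4,2,4,3,1,0,3,1,1,3,4,4,2,3,3,4,0,0,1,4,2,1,2,3,0,3,0,0,3,2,2,2,3,2,1,4,0,3,4,0,4,2,1,4,3,1,2,0,0,0],
[2,2,3,1,3,3,3,1,2,3,0,1,1,3,3,4,1,2,1,0,4,2,1,2,4,1,3,4,3,0,4,1,0,4,0,0,1,0,0,1,4,1,2,0,1,3,0,0,0,2,2,0,0,3,0,4,1,1,2,1,4,1,0,4,1,3,1,2,3,0,1,3,3,4,3,4,1,4,2,2,4,3,4,2,2,0,2,2,4,2,2,2,2,2,4,0,1,1,4,2,4,3,3,0,1,0,3,3,4,2,4],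
[0,3,3,2,1,0,2,2,0,0,4,2,0,3,0,0,2,2,2,2,1,2,0,3,2,4,2,0,1,4,4,2,1,3,4,1,0,2,2,1,0,2,0,3,3,3,0,0,2,3,1,3,4,2,3,0,3,3,0,0,0,4,3,3,4,4,2,1,2,3,3,2,1,2,4,1,2,3,1,3,4,3,1,1,3,3,4,1,3,1,3,0,0,1,0,2,3,2,4,4,3,1,4,2,3,4,0,4,1,3,0],
[2,3,0,3,0,3,1,3,2,3,2,3,3,3,3,0,4,2,2,3,1,1,2,2,3,1,1,1,0,4,2,2,1,3,3,4,1,2,1,3,2,2,3,2,3,2,1,0,3,0,1,3,0,2,1,1,3,1,3,2,4,0,1,0,2,1,2,0,3,4,1,4,4,0,2,1,1,3,4,1,3,3,0,3,3,0,3,3,0,3,4,1,1,1,4,3,2,2,1,4,3,2,0,0,1,3,2,2,0,1,0],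
[4,3,0,3,0,3,2,4,3,0,0,3,1,4,1,1,2,3,3,3,2,1,2,3,2,1,1,1,0,2,1,4,0,4,4,1,2,2,4,1,4,0,0,3,3,0,0,4,3,1,3,1,3,1,1,0,0,3,2,4,2,3,0,2,1,1,1,3,4,0,1,0,0,2,1,2,1,1,0,1,4,4,0,4,2,4,1,1,4,1,3,2,2,0,1,1,3,3,0,2,4,4,3,2,4,0,4,3,0,2,3],
[0,2,4,0,2,4,4,2,2,4,0,4,1,4,3,2,1,2,3,0,2,3,1,1,2,0,2,4,3,2,2,2,1,0,1,2,1,3,1,4,0,2,4,2,4,2,2,3,0,3,2,3,4,2,2,2,4,0,1,2,4,3,4,2,4,4,1,3,1,0,4,1,1,4,4,4,0,2,1,1,4,4,4,3,1,0,2,0,2,4,4,3,4,4,4,3,1,2,0,2,0,1,1,2,4,1,3,1,0,0,1],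
[3,4,1,0,2,4,4,4,1,2,3,4,0,4,4,2,0,3,3,4,0,1,2,2,3,0,0,0,4,3,0,2,2,3,2,0,3,1,4,4,1,0,2,4,3,4,3,3,2,2,0,3,2,4,4,1,4,4,1,0,2,0,4,0,0,2,2,1,1,1,3,2,2,4,3,4,3,0,1,2,4,1,1,3,0,4,4,4,4,4,2,2,4,0,2,1,3,3,3,3,4,2,4,1,0,0,0,1,1,2,3],
[0,4,1,4,0,1,0,1,1,2,3,1,0,1,3,0,3,2,3,0,2,2,0,3,2,4,4,0,2,1,3,4,4,1,0,0,1,2,2,4,4,0,4,0,4,4,2,1,3,1,2,3,1,0,2,1,2,0,4,3,2,1,0,3,3,4,3,2,0,4,4,1,0,1,1,0,1,0,3,2,1,2,1,1,4,1,2,3,2,2,0,4,1,2,4,2,4,0,4,4,1,2,2,2,4,4,3,4,1,2,3],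
[2,1,3,0,4,3,1,3,3,3,2,3,2,4,4,2,4,3,0,1,2,4,0,0,1,4,3,2,3,4,4,0,4,4,2,2,0,3,0,3,0,4,0,4,2,0,2,4,4,4,2,1,0,4,0,0,0,3,2,1,3,1,1,4,2,4,3,4,4,0,3,1,1,2,1,3,1,3,2,4,0,1,1,1,1,0,2,2,2,0,4,0,2,1,2,1,2,2,2,2,1,2,1,1,4,0,3,3,0,0,1],
[2,4,4,4,1,0,1,0,4,1,0,0,3,3,4,4,0,0,1,1,1,0,3,0,0,2,0,4,1,0,0,3,0,3,4,3,3,3,4,1,4,4,2,0,3,2,4,4,3,1,2,2,3,4,4,1,0,2,2,1,0,2,2,3,4,2,1,2,3,2,1,4,3,3,1,1,3,3,4,3,2,3,2,1,1,2,3,0,3,3,1,1,2,4,3,0,0,2,3,1,3,2,2,0,0,1,0,2,4,3,3],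
[2,3,1,0,2,0,3,1,2,2,0,1,3,1,0,4,0,4,1,1,2,2,4,3,1,2,2,4,1,1,1,1,0,4,0,2,0,1,1,1,3,1,4,3,3,3,4,0,3,3,0,0,0,0,2,2,0,3,3,0,2,1,2,4,3,2,0,1,2,1,4,0,2,4,4,2,2,0,0,0,0,2,3,4,4,3,4,4,0,1,4,2,4,3,3,3,3,1,1,0,3,4,2,1,1,3,1,2,1,3,0],
[3,4,2,0,1,2,3,0,0,1,0,1,2,1,0,4,1,2,3,1,0,2,2,0,2,0,1,3,2,0,1,1,3,4,2,1,0,1,2,2,0,2,4,4,3,1,2,3,2,2,1,4,4,3,1,4,4,1,3,3,3,2,0,1,1,4,2,3,4,1,0,2,0,3,0,4,0,2,4,1,4,1,3,2,3,1,3,2,2,4,4,2,1,3,1,0,2,0,0,2,3,0,3,3,4,3,1,2,3,0,4],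
[0,4,2,0,3,2,0,4,1,2,1,1,3,1,2,3,3,0,3,4,1,4,3,3,1,1,0,0,3,4,1,0,1,1,4,3,3,2,0,2,1,2,0,3,3,1,4,4,2,2,2,2,3,3,4,0,4,4,2,0,1,4,3,1,1,1,0,2,3,3,0,2,1,3,2,1,4,0,4,2,0,1,3,0,0,0,0,1,4,0,0,3,4,1,1,1,1,4,2,4,4,1,4,1,0,3,3,3,3,3,1],
[3,2,4,4,3,4,2,1,0,0,2,1,3,3,0,1,4,0,3,1,4,2,1,2,4,2,2,2,0,1,2,0,0,0,0,3,2,1,2,2,2,0,1,1,3,4,1,1,2,0,1,2,2,2,4,2,0,2,4,2,0,1,2,2,4,1,2,2,4,0,0,0,4,3,3,2,0,2,4,0,0,3,1,2,4,3,3,0,3,1,4,3,3,2,1,4,0,4,4,3,0,2,3,1,3,1,2,3,4,2,4],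
[4,3,4,1,4,2,0,2,1,4,3,4,4,0,4,1,3,4,3,3,2,2,0,3,0,2,4,3,2,0,1,4,4,0,4,0,0,1,3,4,3,1,3,2,2,4,3,4,1,2,0,1,1,0,3,0,3,1,2,4,2,3,1,3,1,4,1,1,1,0,4,3,1,2,3,1,1,4,4,3,3,2,3,0,4,4,3,2,1,2,3,1,3,3,1,3,2,3,2,3,1,1,0,1,1,0,3,1,1,0,4],
[2,3,2,0,4,3,1,2,3,0,4,1,4,4,2,4,2,4,0,0,2,1,1,0,3,1,3,2,1,0,2,4,4,0,2,3,3,3,1,0,3,3,0,3,1,1,3,0,1,1,0,2,4,3,4,0,0,2,3,2,1,1,2,4,4,2,0,0,3,1,3,3,0,0,1,4,4,1,1,2,0,1,2,1,4,3,1,4,0,2,2,2,3,3,4,3,3,1,3,0,3,2,1,0,3,4,0,0,1,4,2],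
[3,4,3,0,0,4,0,2,3,3,4,2,3,0,3,4,0,1,4,2,0,0,2,3,4,1,1,3,0,4,4,3,1,4,1,2,3,4,1,1,2,1,4,0,1,3,1,4,4,1,2,0,1,3,0,3,2,0,1,2,0,4,3,1,0,1,3,0,1,4,4,3,1,0,3,3,2,1,3,1,2,3,0,2,1,1,4,4,4,1,4,3,0,2,3,3,2,3,3,1,1,3,2,2,2,4,1,1,4,0,4],
[1,0,2,2,0,2,0,1,3,1,3,0,3,0,4,0,2,4,3,1,1,4,2,0,0,2,4,0,2,2,0,3,4,1,0,0,1,1,4,4,4,4,0,2,3,2,2,2,4,1,1,0,4,4,3,3,4,3,2,1,2,4,2,1,1,2,3,4,2,3,2,1,2,0,3,1,4,4,1,2,4,3,0,1,4,4,1,1,2,2,1,4,0,4,0,4,2,4,1,1,1,2,4,3,0,4,1,3,1,4,4],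
[0,1,4,2,0,3,0,4,0,3,1,0,3,4,2,2,1,2,3,0,1,4,1,4,2,2,4,0,1,4,0,2,1,3,1,4,1,1,4,1,2,4,4,3,3,1,0,4,3,3,0,1,0,2,3,1,3,1,1,1,0,1,3,2,1,4,0,1,0,1,0,0,1,2,2,1,3,2,3,0,1,1,1,3,4,2,2,4,2,3,1,2,0,2,3,1,0,3,0,4,0,3,1,4,2,0,3,3,0,4,4],
[1,3,0,3,3,3,3,0,0,3,3,4,4,1,4,0,1,1,3,1,1,0,3,3,0,2,3,1,2,0,4,0,3,0,4,3,0,2,4,0,1,1,3,4,1,2,1,4,2,1,2,3,0,4,2,1,1,2,3,4,2,4,4,4,3,1,1,2,2,0,2,0,2,0,1,3,4,3,0,0,2,0,0,0,3,2,0,3,1,4,3,0,2,4,3,4,1,0,2,3,3,2,1,1,3,3,3,3,2,3,0],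
[4,3,3,0,3,3,4,2,0,4,4,3,4,0,3,3,4,3,3,0,2,4,0,1,2,4,1,4,2,2,0,4,3,3,2,1,3,0,0,4,3,1,2,3,1,2,4,2,3,3,2,3,1,1,1,4,3,2,3,0,2,4,1,2,1,1,1,3,3,0,2,0,3,1,3,0,4,2,1,2,1,0,0,1,0,3,0,2,1,0,1,4,2,3,3,3,1,4,4,0,3,1,4,2,2,4,3,1,0,4,0],
[4,2,3,2,4,1,2,4,3,3,1,0,1,1,2,3,2,4,0,2,4,3,4,0,4,0,2,0,2,2,2,0,1,2,3,1,2,2,3,4,1,1,3,0,0,2,2,1,3,4,1,0,3,1,3,1,3,1,0,3,0,0,0,4,1,1,0,1,4,4,0,1,2,0,4,3,2,3,0,1,0,0,4,3,2,4,0,2,4,2,3,0,4,4,3,3,2,2,2,2,2,4,3,1,3,2,1,2,2,2,4],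
[3,3,3,3,0,2,1,3,4,1,1,1,0,2,1,2,1,1,2,3,2,0,0,2,4,1,3,3,0,0,0,1,4,2,2,1,4,0,1,0,3,4,1,1,2,3,4,2,1,3,4,3,4,1,1,0,3,1,3,3,2,0,0,0,2,0,3,2,3,2,1,4,3,2,0,4,3,2,2,0,3,4,0,4,0,0,4,3,4,2,1,3,0,0,2,3,2,1,3,2,0,1,0,4,1,1,0,4,1,3,1],
[2,0,3,2,4,1,0,3,1,3,1,3,2,0,3,4,3,3,2,3,0,1,3,4,4,0,1,0,3,2,4,0,3,2,1,3,1,2,2,0,1,3,3,3,3,3,1,2,1,0,0,1,3,2,2,0,0,0,2,4,1,4,3,4,3,4,0,0,0,0,0,2,2,4,1,2,2,3,3,0,1,4,3,1,2,4,3,4,1,2,3,3,1,1,3,3,3,2,0,3,4,0,3,0,4,3,1,0,4,1,4],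
[4,2,2,1,0,1,0,3,4,2,2,3,0,4,4,2,3,2,1,1,0,0,4,0,4,1,2,0,4,0,1,3,0,0,0,1,0,0,0,3,3,1,4,2,0,3,1,3,0,2,0,1,0,1,2,2,4,2,2,3,0,1,1,2,0,2,2,1,4,3,3,0,1,2,0,1,4,1,4,2,0,2,0,4,2,4,1,4,0,2,4,0,1,1,0,2,1,4,0,0,0,3,3,0,4,0,4,1,2,1,0],
[4,3,4,0,2,0,1,2,3,2,0,3,1,4,2,3,0,1,1,3,1,0,1,0,2,4,3,1,3,1,2,3,0,2,2,2,3,4,2,3,4,3,1,4,3,0,1,3,1,0,2,3,4,2,1,3,1,1,3,0,3,1,2,2,0,3,0,3,2,0,0,1,4,0,0,3,0,4,0,1,1,3,4,3,0,3,2,3,1,1,1,1,3,0,2,1,3,0,3,2,4,3,0,3,4,3,4,1,2,0,4],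
[3,2,2,0,1,4,2,4,1,2,2,3,2,3,4,1,3,1,2,4,2,1,0,3,3,1,3,3,1,4,0,1,2,0,2,1,4,3,2,2,4,1,3,3,2,2,4,3,0,3,4,1,1,0,4,2,0,1,3,1,3,3,3,1,3,1,0,4,3,0,1,1,4,3,1,4,0,2,2,2,2,1,4,3,1,3,1,4,1,1,3,2,4,0,1,4,1,0,4,2,1,1,0,2,2,2,3,3,0,0,4],
[3,2,2,3,4,4,4,0,3,0,1,0,4,3,4,1,2,0,2,1,2,4,0,3,0,4,3,4,0,2,1,4,2,1,1,0,3,0,0,1,4,2,1,1,1,3,0,1,4,3,1,4,4,4,0,4,3,1,2,2,3,2,1,1,1,4,4,4,3,1,0,1,4,1,0,2,2,1,1,1,0,3,4,2,1,2,3,0,0,2,3,2,2,1,2,2,2,1,2,3,3,0,3,3,3,0,1,0,3,1,3],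
[3,0,3,4,0,1,4,4,4,0,1,0,2,0,4,4,2,0,3,4,4,0,3,1,4,0,0,1,3,2,4,2,1,0,1,0,0,2,1,0,3,1,3,0,0,1,2,3,3,4,2,2,0,1,3,1,2,4,1,2,1,4,2,4,4,0,1,4,0,0,0,4,3,2,0,1,0,1,2,1,3,4,2,4,0,4,1,0,2,1,1,4,4,2,4,0,2,4,0,3,2,4,0,1,1,4,2,0,3,0,2],
[0,1,0,4,2,4,2,1,4,2,1,4,0,1,2,2,0,1,0,4,1,1,1,1,4,4,4,3,0,2,2,0,3,1,1,4,3,4,0,2,1,3,1,1,0,1,1,3,0,3,0,0,4,3,2,4,2,0,0,4,1,3,4,1,3,3,4,3,2,0,0,0,2,1,1,0,3,3,2,0,0,2,0,3,0,4,4,0,0,0,1,4,4,2,3,4,2,0,2,3,0,1,3,0,0,3,3,2,1,2,3],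
[2,1,1,0,3,1,1,4,0,2,2,2,0,4,2,0,4,4,1,4,4,1,0,0,3,4,4,4,1,2,4,1,1,1,1,4,2,0,2,0,2,1,4,1,1,4,0,4,4,0,4,4,0,1,3,4,0,2,1,2,0,3,3,4,4,1,0,0,0,1,2,3,4,2,3,0,0,0,4,1,2,4,1,0,0,4,1,3,1,3,0,0,4,0,0,1,3,4,0,1,4,2,1,0,2,3,2,4,3,3,1],
[2,0,3,2,0,4,2,0,1,3,2,3,3,1,1,1,2,3,0,2,0,4,4,4,3,1,1,1,2,4,1,4,1,0,4,3,1,3,2,2,1,1,1,0,1,0,4,2,2,3,2,4,2,3,2,4,2,1,1,2,3,2,0,4,1,4,2,2,2,0,2,2,4,2,4,1,0,3,0,2,0,2,0,3,3,3,0,1,0,0,0,2,1,3,4,1,1,1,2,4,2,0,1,3,0,0,0,2,1,3,1],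
[1,0,3,0,1,2,0,3,1,3,0,2,0,0,3,2,1,4,0,3,2,1,1,3,1,3,0,4,0,2,3,0,1,2,3,4,2,4,3,0,0,2,2,1,4,0,3,2,4,2,0,3,3,1,4,2,2,0,4,2,3,4,2,1,0,4,1,2,1,0,0,0,3,3,4,4,2,4,1,3,3,2,1,4,1,0,4,2,4,3,3,0,2,4,0,2,1,2,4,3,1,2,4,4,4,0,1,2,4,4,0],
[2,0,4,0,2,4,0,4,3,2,0,2,1,3,1,3,1,0,1,3,0,0,0,3,3,2,0,4,4,0,3,3,2,3,3,1,1,3,1,2,1,1,1,1,1,2,0,4,3,2,0,2,2,0,0,1,4,1,4,4,2,4,3,3,4,1,0,0,1,0,2,3,0,1,3,1,4,2,3,2,4,0,1,4,1,1,0,2,4,3,0,1,0,3,2,1,2,1,4,4,0,0,2,4,4,4,2,3,1,3,4],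
[0,1,3,4,1,2,3,2,3,1,0,2,3,4,4,2,4,2,2,4,0,1,0,2,0,2,2,2,1,3,2,3,1,3,3,0,3,1,4,0,1,1,4,2,1,0,0,2,2,4,4,3,2,0,4,1,3,4,3,1,2,0,1,0,4,4,2,1,4,2,3,3,0,1,0,0,2,4,0,2,1,4,3,1,0,3,2,0,2,0,0,2,2,2,4,0,3,3,3,4,4,4,4,4,0,0,3,4,3,4,2],
[3,0,3,1,2,0,4,0,0,0,4,2,4,0,4,3,1,0,0,1,1,4,1,3,3,1,1,0,2,3,0,4,1,0,1,0,4,3,4,1,0,4,0,1,0,0,0,1,4,0,4,0,4,2,1,2,3,1,0,2,1,1,2,1,0,2,2,3,1,4,1,2,2,3,0,4,2,3,1,2,3,2,3,0,4,4,3,4,3,1,3,4,0,0,2,4,1,3,3,1,3,3,1,0,1,4,2,4,1,2,1],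
[1,2,0,4,1,1,4,0,3,2,4,4,4,2,3,3,2,2,2,0,1,3,2,2,3,0,0,2,1,3,4,1,2,4,1,0,2,3,0,1,4,4,3,3,2,4,4,0,0,0,0,3,2,4,1,4,3,1,0,4,1,1,1,2,3,0,0,3,2,4,4,1,1,1,0,4,0,3,0,0,1,2,0,0,4,1,1,1,2,2,0,4,1,2,2,3,4,2,1,1,0,4,0,0,2,2,3,0,3,1,2],
[2,1,0,3,0,0,3,2,4,2,4,2,1,0,3,2,1,2,1,0,1,0,2,4,0,2,3,3,0,2,3,0,0,1,0,1,3,1,1,3,0,1,1,1,0,4,2,0,1,2,4,1,4,2,1,1,4,2,2,3,2,1,1,2,1,1,3,0,3,3,4,1,0,2,2,4,2,2,2,1,2,3,2,2,3,0,0,4,2,4,1,2,0,1,3,4,0,4,3,2,0,2,1,1,3,1,3,1,0,3,2],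
[4,1,0,3,3,4,3,4,3,3,0,0,0,4,3,4,2,3,3,2,4,1,4,1,0,1,3,4,1,0,4,3,1,1,3,1,4,3,2,2,0,2,4,2,4,0,0,4,2,4,3,3,4,4,0,2,2,1,2,0,2,4,0,0,0,1,4,1,4,3,3,4,2,1,0,0,4,4,4,4,0,0,1,3,1,1,1,0,4,3,3,2,3,4,1,0,4,0,0,4,4,1,4,1,2,0,4,2,3,2,0],
[3,0,3,2,1,0,4,2,4,1,4,2,4,1,4,4,4,2,3,4,1,1,3,4,2,3,2,4,3,2,3,0,1,2,1,3,4,0,2,4,0,1,3,2,1,2,0,3,0,0,0,4,1,4,2,1,4,3,0,1,4,3,1,4,2,2,4,2,0,3,4,2,3,4,2,2,2,4,1,3,3,2,4,3,1,4,4,1,3,3,4,2,3,2,2,4,4,1,1,3,4,0,0,3,4,0,2,0,1,4,4],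
[0,3,1,1,3,2,3,0,0,2,4,4,0,4,4,3,0,2,2,1,1,1,4,1,2,1,2,1,0,3,4,1,2,1,4,0,1,0,1,4,0,1,0,4,3,2,0,1,4,0,2,4,1,2,0,4,1,0,1,2,2,2,1,0,0,1,2,0,2,1,1,4,3,0,4,0,0,2,1,1,0,4,1,4,3,3,0,0,4,4,3,4,4,2,3,2,3,2,0,4,2,3,3,2,1,1,2,0,3,2,2],
[3,2,4,0,3,3,0,1,4,1,4,3,0,1,0,2,2,1,3,3,2,4,0,2,3,3,3,2,2,4,2,2,3,0,4,0,2,1,2,4,0,4,3,3,2,1,0,1,4,3,3,0,1,2,3,0,0,1,0,3,0,3,2,3,3,0,1,4,4,3,4,4,1,4,3,3,3,4,2,0,2,2,0,1,2,1,4,2,4,4,0,1,0,4,2,3,4,1,1,1,0,0,0,3,4,1,2,3,1,3,1],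
[0,2,2,1,3,3,3,2,0,1,3,3,2,2,0,2,4,3,3,0,3,2,2,1,0,4,4,4,2,2,1,3,1,2,0,4,3,0,3,3,2,1,2,4,0,3,3,3,3,3,4,2,3,3,2,3,1,3,2,1,1,3,1,2,4,0,2,1,1,4,2,4,3,4,1,1,0,1,2,4,3,1,1,0,0,0,1,4,4,2,2,1,1,0,3,4,1,3,4,0,2,2,2,2,3,2,4,3,0,2,1],
[0,4,4,4,3,0,1,1,1,1,1,4,4,4,3,1,2,3,2,0,2,2,1,2,0,4,3,3,4,0,2,4,1,0,2,1,1,4,4,0,4,3,3,3,4,2,2,2,4,3,2,3,2,0,2,0,0,0,4,4,1,2,1,3,1,4,1,1,4,4,4,4,2,1,0,3,2,2,0,1,3,2,4,3,0,3,2,4,0,4,2,2,0,2,1,2,2,4,2,4,4,4,2,4,1,0,1,0,2,4,4],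
[3,1,4,1,3,1,1,4,3,4,0,0,2,4,2,2,1,1,4,4,1,2,4,2,3,3,2,3,2,3,1,3,2,1,3,0,2,3,4,4,3,2,3,1,1,3,3,4,0,2,4,0,2,0,2,2,0,4,4,4,2,4,2,4,3,2,2,3,0,1,2,1,0,2,3,2,1,2,3,1,3,3,0,0,0,3,3,2,3,3,1,0,3,4,3,1,3,0,1,4,3,2,4,2,1,1,2,1,0,4,1],
[2,1,2,2,3,2,3,1,3,1,4,1,3,2,0,2,0,4,3,4,3,2,3,1,1,1,1,2,3,3,2,1,3,4,2,0,0,2,0,1,4,1,2,3,4,0,1,3,1,0,3,3,3,4,4,1,4,4,4,1,0,0,1,0,3,4,1,1,3,3,0,2,1,2,0,2,2,4,1,1,4,4,1,4,1,3,0,0,2,1,0,0,1,3,2,1,1,1,4,2,4,0,1,2,2,0,3,1,4,0,1],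
[3,4,1,0,2,3,1,1,2,2,0,1,2,2,3,2,3,2,0,2,2,0,2,1,0,1,4,3,2,0,0,3,3,2,0,3,2,3,1,4,4,3,0,3,2,3,1,3,2,0,0,0,1,2,0,1,2,2,4,1,4,4,1,0,0,1,2,4,4,1,4,0,2,1,1,2,2,2,2,1,2,1,0,4,2,1,1,3,0,4,1,1,4,3,0,2,4,4,2,2,1,2,2,0,3,3,3,3,1,2,0],
[4,1,1,1,3,1,3,0,1,0,2,4,0,2,4,2,0,3,1,3,4,0,0,3,3,2,4,3,3,4,4,4,2,4,4,0,4,3,4,3,3,3,3,2,3,2,2,3,3,0,1,4,3,2,1,2,0,3,4,2,0,4,4,2,2,0,1,2,4,2,3,1,2,4,2,3,0,0,3,4,3,2,1,0,2,2,2,3,4,0,4,0,2,0,0,4,0,0,0,2,2,0,0,3,4,4,4,1,3,0,4],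
[4,2,3,3,2,3,2,1,3,3,4,4,0,1,2,0,3,0,1,1,2,1,1,2,2,0,4,0,0,2,4,0,0,0,0,3,3,0,1,2,1,2,4,1,0,2,1,1,2,3,2,0,2,4,2,2,3,3,0,4,3,0,4,0,1,1,2,4,1,3,1,3,2,2,3,0,0,4,0,2,1,0,1,1,2,3,1,4,4,4,3,4,2,0,4,4,1,0,2,0,4,3,2,2,1,1,3,4,2,0,1],
[4,0,3,1,0,2,1,1,4,2,3,0,2,4,2,4,1,4,2,0,4,0,4,2,1,3,3,2,4,3,2,0,0,2,1,3,2,1,3,1,4,4,1,0,2,0,2,3,4,3,2,2,2,3,1,3,1,1,2,3,0,1,1,1,3,0,2,4,2,2,2,4,0,4,0,2,1,2,1,1,4,0,2,0,4,0,1,4,4,1,0,0,4,4,4,2,0,1,4,3,3,2,3,4,2,4,4,4,4,2,0],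
[3,0,4,3,3,3,0,0,1,1,0,1,3,1,3,4,0,1,3,2,0,2,2,0,1,3,3,3,4,2,1,0,2,1,3,1,3,0,4,3,4,3,2,3,2,1,0,1,0,3,3,3,4,2,4,0,0,2,0,0,4,3,1,0,2,3,2,0,2,2,0,1,4,3,4,0,3,2,0,3,4,1,2,1,2,0,1,2,0,4,1,1,1,3,4,3,1,3,1,4,0,1,3,1,2,0,4,0,4,3,2],
[3,2,0,2,1,4,0,1,2,0,1,2,0,3,3,0,3,2,2,3,1,2,4,2,4,2,0,0,2,1,2,3,4,1,0,2,1,2,0,1,3,2,0,4,3,4,0,4,0,0,3,2,2,4,0,1,0,3,2,3,2,4,3,0,0,3,3,0,0,4,1,3,4,2,1,3,4,0,3,4,2,3,3,4,1,2,4,2,1,3,2,4,0,2,1,3,3,2,1,2,0,3,2,2,2,1,1,4,4,2,2],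
[1,2,0,0,3,4,4,1,1,3,4,1,4,3,2,3,1,0,3,1,2,0,1,0,0,0,2,0,4,4,0,0,2,2,2,4,0,4,0,0,3,1,4,0,3,4,3,0,2,3,2,4,1,2,1,4,0,1,0,0,3,3,3,2,4,3,1,4,4,4,3,4,2,4,3,1,4,4,1,3,1,3,4,3,0,1,4,4,3,0,3,0,1,1,2,2,1,1,3,4,0,2,2,0,0,0,2,3,2,2,2],
[2,4,0,1,3,4,0,1,2,3,0,3,2,0,1,0,1,3,3,2,4,1,2,0,4,0,3,1,0,2,4,0,0,0,3,1,1,0,4,4,0,0,4,2,2,0,1,3,1,4,4,0,2,1,1,0,0,2,4,4,3,1,1,1,2,4,0,0,1,1,4,2,4,2,4,4,1,4,0,3,4,0,4,1,3,4,2,4,1,2,3,1,0,4,1,3,3,3,0,0,3,4,1,1,1,1,4,3,1,2,0],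
[0,0,0,0,0,0,0,0,0,4,2,4,1,4,4,4,0,1,1,1,0,2,3,0,4,4,4,0,4,4,4,0,0,0,1,3,2,0,1,1,3,0,1,1,1,0,0,0,4,0,0,3,0,1,1,1,0,0,4,1,2,1,0,4,4,1,0,3,3,3,2,4,1,2,3,4,4,4,0,4,0,0,0,0,4,0,0,0,2,0,0,3,0,4,4,3,4,0,0,4,3,4,0,1,0,0,0,0,0,3,0],
[0,0,0,0,0,0,0,0,0,0,4,0,0,3,0,0,0,2,0,0,0,3,3,0,3,0,4,0,3,0,0,0,0,0,0,2,2,0,2,0,4,0,2,0,0,0,0,0,0,1,3,1,0,3,3,3,2,0,4,2,3,1,0,3,0,2,0,4,4,3,4,3,0,3,0,3,0,3,0,3,0,0,0,0,1,0,0,0,4,4,2,1,0,2,2,4,1,0,2,3,2,4,0,2,0,0,0,0,0,4,2],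
[0,0,2,0,0,0,0,0,0,0,0,2,1,2,4,4,2,4,1,2,1,4,4,2,0,1,1,4,4,3,1,4,2,1,2,2,3,4,3,2,2,1,3,2,3,2,4,3,1,1,4,3,4,2,1,4,4,2,2,2,0,2,0,0,3,2,1,3,3,2,1,1,4,3,4,0,2,2,3,1,1,4,2,4,3,1,1,1,1,3,3,3,2,2,4,0,3,1,2,4,3,3,3,4,0,0,3,4,0,0,0],
[0,0,0,2,0,0,0,0,0,0,0,1,3,1,4,2,1,2,0,1,3,4,1,1,3,4,4,4,2,3,3,2,1,2,1,1,3,2,2,2,4,0,4,0,4,1,2,3,3,1,4,4,4,2,3,4,1,1,2,1,3,4,3,4,1,0,4,3,4,3,4,1,4,3,0,1,3,3,3,3,3,2,3,4,4,4,4,4,2,4,1,4,1,2,1,4,3,3,2,2,3,2,2,1,0,0,4,3,2,0,0],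
[0,0,0,0,2,0,0,0,0,0,0,2,3,2,4,4,2,2,0,1,3,3,3,2,0,0,2,4,4,3,1,4,2,3,2,1,1,2,4,3,1,0,4,0,4,1,2,4,3,2,3,0,3,3,2,3,3,2,4,2,2,1,0,1,4,3,0,2,0,2,2,3,4,1,3,0,0,4,3,1,1,4,2,3,4,4,1,1,3,4,0,1,1,4,0,3,1,3,3,2,2,3,4,3,0,0,4,0,1,0,0],
[0,0,0,0,0,0,0,1,3,2,1,2,3,2,2,2,4,3,3,3,1,1,4,4,2,2,0,4,2,2,2,4,2,3,3,4,2,1,3,3,4,1,3,3,3,1,3,2,2,0,0,3,2,2,1,2,3,1,0,3,1,3,4,2,2,0,4,1,3,0,0,0,3,1,4,2,2,0,4,2,4,2,2,1,3,2,4,2,1,0,0,3,3,2,2,0,4,4,1,2,4,2,1,3,1,0,0,0,0,4,0],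
[0,0,0,0,0,0,0,0,1,0,2,0,0,4,0,0,0,1,0,0,0,4,2,3,4,0,3,0,4,0,0,0,4,1,0,1,0,2,1,0,0,0,1,0,0,0,1,4,0,3,4,1,3,0,2,0,4,0,0,1,4,3,3,4,0,2,0,2,3,0,1,0,0,4,1,4,0,0,0,4,0,4,2,4,3,0,1,2,2,2,1,1,2,0,0,3,0,0,2,4,1,2,2,1,3,4,0,0,0,2,1]]

noncomputable def carTab4 : List (List ℕ) := [[4,1,0,0,0,1,3,3,4,3,0,3,4,0,4,1,1,1,1,4,4,1,2,0,0,1,2,3,0,2,1,4,1,2,2,4,0,1,3,2,3,2,1,4,4,1,3,1,1,0,4,2,0,0,3,4,1,4,1,0,3,4,2,4,2,1,3,2,1,2,3,2,1,0,4,4,4,3,4,0,4,0,2,2,0,1,1,3,3,3,4,1,3,1,4,4,0,1,0,4,0,2,4,1,3,3,0,0,0,4,0],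
[1,2,0,0,0,4,1,3,4,1,4,4,4,0,3,0,3,1,0,4,1,0,1,1,0,4,0,3,2,0,0,4,0,0,1,1,4,2,3,1,4,1,0,0,4,0,4,2,1,1,3,0,2,3,1,0,2,2,1,0,3,1,2,1,2,0,2,1,2,0,1,0,2,0,0,2,3,1,3,2,4,3,2,2,2,3,4,1,2,4,0,4,1,1,1,0,0,4,2,4,2,3,3,4,0,3,0,0,0,0,3],
[0,0,1,1,4,0,0,0,0,0,0,4,4,1,4,1,1,3,2,3,2,0,3,1,3,0,2,0,4,1,4,0,1,4,4,2,4,3,0,3,2,2,2,1,2,2,3,0,4,1,0,2,4,0,4,2,2,1,4,1,4,2,0,2,1,0,0,4,4,1,1,0,4,1,2,2,4,4,3,1,0,2,4,0,4,2,3,3,1,3,3,4,1,3,4,1,3,2,1,3,4,3,3,1,0,0,0,0,3,0,0],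
[0,0,3,0,4,0,0,0,0,0,0,0,3,3,1,2,1,2,3,3,1,0,4,2,2,4,2,3,1,4,3,3,1,0,0,3,4,2,0,0,1,4,1,4,2,1,2,3,3,4,0,3,4,3,4,2,2,1,4,3,1,0,0,1,2,0,3,1,1,0,3,3,1,4,3,4,1,4,0,4,2,4,3,0,4,3,3,1,1,3,0,0,0,1,4,4,0,1,1,2,2,2,3,0,0,0,4,2,4,0,0],
[0,0,2,4,0,0,0,0,0,0,0,3,0,1,2,1,3,3,0,2,1,0,1,3,3,0,4,4,3,2,4,1,4,1,3,4,2,4,1,0,4,0,4,4,3,3,1,1,0,4,1,1,4,4,0,3,1,3,1,1,0,3,2,0,0,0,3,1,2,0,1,2,2,1,0,4,1,2,4,2,4,1,1,3,2,1,3,1,4,3,1,0,4,4,0,0,3,1,0,3,0,3,3,1,0,0,1,1,3,0,0],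
[4,0,0,0,0,1,0,2,3,2,1,0,4,2,2,2,1,2,0,0,1,3,2,0,3,3,4,2,3,3,2,1,1,2,0,3,1,4,0,0,0,0,4,3,0,0,4,3,1,2,1,1,2,0,3,3,2,4,4,3,3,1,0,0,4,2,2,3,0,3,2,4,3,1,2,0,3,0,3,3,1,0,1,3,2,1,3,0,4,3,0,3,3,4,2,4,3,4,2,3,0,1,2,1,2,0,0,0,0,0,3],
[2,3,0,0,0,0,4,4,4,2,0,1,4,4,4,3,3,3,4,2,0,4,2,3,1,0,4,3,2,1,3,3,2,4,4,4,3,2,1,4,1,3,4,3,2,2,1,0,1,0,4,3,3,4,1,0,4,2,0,1,1,2,2,3,3,0,4,4,2,3,3,3,1,0,2,4,0,0,2,2,3,4,1,0,0,3,4,3,2,1,0,0,2,1,0,0,2,0,2,2,0,2,2,1,0,4,0,0,0,3,3],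
[4,0,3,3,3,4,4,4,3,1,0,0,2,1,4,1,3,4,1,4,2,0,0,3,4,4,4,1,0,1,1,4,2,0,1,3,1,4,4,0,3,0,0,3,4,2,2,0,3,0,3,2,1,0,2,1,1,3,0,4,4,0,0,3,3,1,1,0,4,0,0,3,3,4,1,3,4,4,0,2,4,2,3,1,3,0,3,2,1,0,2,0,0,1,1,1,3,4,1,3,0,1,3,4,3,0,4,3,4,3,2],
[3,2,3,1,2,0,4,2,1,2,4,3,2,3,4,4,2,3,3,1,1,1,2,0,2,1,4,3,0,3,0,4,1,2,1,1,3,4,4,2,3,2,1,3,3,1,3,2,3,1,2,1,2,1,1,1,2,0,3,0,2,2,4,2,2,1,4,0,3,1,2,1,3,0,3,1,3,3,2,3,1,2,0,0,4,0,0,2,1,4,2,2,2,1,0,3,0,3,3,2,2,1,4,4,0,3,2,3,0,3,4],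
[2,3,3,2,3,0,2,0,4,2,2,3,4,3,4,2,4,3,3,2,4,4,3,1,4,1,2,4,1,4,3,0,3,2,2,4,3,4,4,3,0,3,0,0,1,3,3,2,2,4,4,0,2,0,1,1,4,4,2,2,3,1,0,2,2,3,0,2,4,1,0,3,3,4,1,1,3,0,1,3,3,3,1,2,3,3,0,0,4,2,1,3,2,0,1,3,0,4,1,3,0,3,1,0,3,3,1,2,0,2,1],
[4,1,4,2,3,4,2,4,2,1,1,4,3,1,3,1,2,0,3,4,1,3,4,3,2,0,0,0,4,4,1,4,4,4,4,2,4,4,4,4,2,3,0,3,0,4,0,3,0,2,1,4,0,4,0,3,2,2,0,4,3,4,1,4,0,1,0,2,1,3,3,0,3,4,2,4,2,3,2,2,3,0,2,3,4,3,3,0,2,1,3,1,0,1,2,4,3,0,4,1,4,3,1,4,2,3,3,3,4,4,4],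
[3,1,4,2,2,3,3,0,4,4,4,1,0,4,1,2,1,1,2,1,1,2,4,1,4,3,0,2,0,1,4,1,3,3,4,3,2,1,3,3,3,1,1,0,1,1,3,3,2,2,0,0,1,4,2,2,1,1,0,0,2,3,3,1,3,2,2,2,2,3,1,1,0,4,0,4,1,0,3,1,1,1,4,1,3,4,3,1,0,3,1,1,4,0,3,2,0,1,3,1,3,0,1,0,3,4,1,0,4,4,3],
[1,3,2,2,4,0,1,1,1,4,3,0,2,1,2,3,0,2,2,3,1,1,3,2,4,2,0,0,0,4,1,0,4,1,1,4,2,1,4,3,3,0,0,0,0,3,2,1,0,1,0,2,1,0,2,4,2,4,4,2,0,1,2,0,4,1,1,1,1,2,1,2,3,0,4,3,2,2,1,0,0,4,3,3,4,2,0,1,1,0,1,4,4,3,3,2,2,3,3,0,3,0,1,2,1,0,0,0,2,2,1],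
[1,3,2,2,4,1,2,1,2,2,1,3,4,4,0,0,4,0,0,2,3,0,3,1,1,1,2,4,2,4,1,3,4,2,0,0,1,3,4,4,2,4,2,4,1,0,4,3,4,3,4,0,2,1,2,4,4,3,0,0,1,1,0,4,1,1,3,1,1,2,0,2,3,4,4,3,3,2,0,0,0,1,4,0,3,2,3,2,0,1,3,1,1,3,0,3,2,0,3,1,4,3,4,4,3,3,0,4,1,3,0],
[3,4,3,1,0,2,0,1,0,1,2,2,2,2,1,4,4,3,0,0,2,0,2,4,1,0,3,1,3,0,3,1,0,1,3,2,0,4,3,4,1,0,2,0,2,2,1,2,4,2,3,2,4,0,3,2,2,2,2,2,3,4,1,3,4,0,0,4,3,0,2,4,0,2,4,2,4,4,1,2,1,3,3,3,1,2,0,4,1,4,3,3,4,3,0,1,3,4,1,0,2,0,1,2,0,1,3,0,1,4,0],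
[2,0,2,3,0,0,4,0,3,1,0,0,2,0,4,4,1,2,3,1,2,2,3,2,3,1,0,3,4,2,1,0,2,1,0,1,1,0,2,4,2,0,3,1,2,1,3,3,4,0,1,2,3,2,4,4,0,2,2,3,2,4,3,3,4,2,1,4,1,3,4,3,1,0,3,4,2,4,1,1,4,4,1,2,4,2,3,2,4,4,3,1,1,3,0,1,4,4,4,3,1,4,1,1,4,0,1,4,1,2,3],
[1,2,4,3,1,3,1,3,2,2,2,3,1,1,1,3,2,3,0,4,3,2,0,4,0,0,1,0,3,3,4,1,2,2,3,2,0,0,1,1,0,0,3,3,1,2,0,2,1,2,1,4,2,3,1,4,2,2,0,2,2,4,2,2,4,1,4,2,1,4,4,1,4,2,4,0,3,2,1,2,3,0,2,4,0,2,3,0,0,3,1,1,3,0,4,1,3,0,1,1,0,1,4,2,1,0,2,3,0,4,4],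
[2,4,1,4,4,1,0,4,1,4,0,2,3,3,4,4,3,0,2,2,0,0,0,3,1,4,4,2,3,0,3,2,0,4,4,4,2,2,1,4,0,1,0,3,0,4,3,1,0,3,3,4,4,1,0,3,1,1,0,2,1,2,1,0,3,3,2,4,3,0,2,3,3,3,1,0,4,4,2,1,4,2,2,4,2,1,2,2,0,3,4,1,4,4,3,4,3,4,1,2,3,2,0,0,0,3,4,4,2,1,2],
[1,0,3,1,3,0,2,2,1,2,2,1,4,1,2,0,2,0,0,0,1,2,4,1,0,4,4,0,1,0,4,4,3,2,0,1,4,0,2,1,0,4,0,4,3,0,4,2,1,1,3,3,4,1,4,2,0,4,0,1,4,2,2,1,3,1,4,0,1,2,1,3,0,2,0,4,4,2,1,3,2,1,3,3,0,2,2,2,1,4,1,1,2,0,2,1,2,3,2,0,2,0,0,2,1,4,2,4,4,3,3],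
[4,4,1,3,4,1,0,1,2,4,1,2,2,0,1,0,1,4,2,4,1,0,4,0,4,4,0,4,2,1,3,0,0,3,3,3,0,1,2,3,4,2,4,2,0,4,3,4,1,4,4,0,3,2,3,1,1,1,3,0,2,3,0,1,4,0,0,1,4,2,0,2,2,3,1,1,2,1,2,4,2,3,3,4,3,0,0,2,3,4,1,1,0,2,1,1,2,4,2,0,0,2,4,4,0,2,2,1,2,2,0],
[1,3,2,4,3,3,2,4,1,4,4,0,0,3,2,2,1,4,1,3,3,2,4,2,2,2,3,3,1,1,3,2,0,0,4,2,1,3,0,4,4,0,2,4,0,3,2,1,3,1,1,1,2,2,2,1,2,1,2,4,2,1,2,4,4,3,0,2,0,4,4,0,3,4,0,0,3,3,2,2,0,4,4,2,4,3,2,2,1,4,2,2,4,3,1,1,1,0,3,2,1,2,2,4,3,2,1,4,1,2,3],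
[2,3,0,0,0,1,4,4,1,3,2,0,2,0,2,2,3,4,3,3,4,0,4,1,0,1,1,3,4,2,0,3,4,0,4,4,1,2,1,3,3,4,1,3,2,1,0,3,1,0,0,2,1,1,1,3,3,4,2,1,2,3,3,2,0,1,3,2,3,2,2,4,2,1,1,0,1,0,1,4,0,2,2,1,3,4,2,4,0,3,2,1,3,0,2,1,4,4,1,0,3,3,4,2,2,4,3,4,1,4,0],
[1,3,2,3,4,4,3,4,1,1,3,4,4,1,4,3,1,3,0,1,0,2,1,2,3,2,2,3,0,3,2,3,0,1,3,1,1,0,2,4,3,4,3,0,0,1,0,4,1,2,4,1,1,0,0,1,2,0,1,1,0,4,1,4,2,2,4,2,4,4,0,3,0,3,0,3,1,4,3,4,2,3,3,4,0,0,4,1,0,3,3,0,1,4,0,4,0,0,1,1,3,0,3,0,4,2,0,2,1,3,3],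
[1,4,2,4,0,4,3,1,3,2,1,3,0,0,1,0,4,1,3,1,2,1,1,1,0,3,2,4,2,0,1,1,4,2,3,3,4,1,1,1,2,3,1,0,2,3,4,4,2,2,1,4,1,2,4,4,2,2,0,2,0,2,1,4,2,4,3,3,1,1,2,4,3,2,2,3,0,3,1,4,3,3,2,1,1,2,4,4,4,1,1,3,0,2,4,2,3,2,1,3,1,0,0,0,1,3,0,2,0,0,1],
[0,3,1,4,3,0,4,4,2,1,1,4,1,1,3,2,2,2,4,4,2,1,1,2,1,1,2,2,0,2,3,0,2,3,4,4,4,3,3,2,0,1,0,3,2,2,0,0,1,4,4,4,4,2,4,2,0,0,2,1,0,0,3,3,0,3,3,2,3,2,0,2,4,2,4,0,4,0,2,4,3,4,1,1,2,3,1,2,2,2,2,3,2,1,4,0,2,0,3,3,0,1,3,0,1,3,2,4,2,1,0],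
[3,0,3,4,1,1,3,3,4,1,4,3,0,0,3,0,2,3,2,3,4,0,4,1,2,4,4,4,3,1,0,0,3,3,1,1,1,0,0,0,0,3,4,4,3,0,3,2,4,3,3,3,0,3,4,0,2,0,3,0,2,3,0,4,3,0,1,3,4,0,2,0,1,3,1,3,1,4,2,4,4,1,4,3,3,4,4,2,1,1,2,3,4,2,3,3,3,4,2,4,1,4,3,4,4,3,1,0,3,3,4],
[1,0,2,2,0,1,2,1,1,4,2,1,1,2,0,4,3,1,1,2,3,3,4,4,1,2,0,1,4,2,1,3,3,2,4,2,2,4,4,1,2,3,1,0,1,3,3,3,2,1,2,3,2,2,0,3,3,4,0,4,3,4,3,4,4,4,3,4,2,1,1,4,2,0,0,2,1,2,2,1,3,2,1,4,3,4,4,3,4,0,3,4,0,1,2,3,2,1,1,3,0,0,1,4,0,1,1,0,1,1,4],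
[3,4,4,2,4,4,4,3,2,3,1,4,4,1,2,4,4,2,1,1,3,4,0,2,2,4,4,2,1,4,1,3,1,2,2,0,4,0,4,0,1,1,0,2,3,4,3,0,0,1,2,0,3,1,1,0,4,0,4,3,4,2,3,4,1,3,3,1,3,1,0,0,0,3,1,3,2,0,0,3,1,4,1,1,1,3,2,1,0,2,4,4,3,3,3,1,3,4,1,4,0,4,1,1,2,1,2,1,2,1,3],
[4,4,4,3,4,3,2,2,4,0,3,1,0,2,2,4,2,4,0,2,4,0,4,4,4,3,4,0,1,1,0,1,4,1,0,1,4,3,1,3,1,0,0,0,3,4,3,0,2,0,1,3,0,1,4,4,0,1,3,4,1,1,0,3,4,1,2,0,1,2,3,2,2,1,0,3,0,4,1,3,2,4,0,2,1,1,0,3,3,4,3,4,1,3,3,0,4,2,4,3,0,3,1,4,0,3,0,4,4,4,2],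
[4,0,0,1,1,0,2,0,3,1,2,2,3,0,3,4,4,4,2,4,4,4,0,4,4,4,0,3,3,3,2,4,4,4,1,1,0,2,0,1,4,0,1,0,2,4,4,1,1,3,2,0,1,1,2,0,3,0,0,2,0,4,0,3,0,3,0,4,3,1,4,3,4,1,1,0,1,0,0,3,4,2,4,1,2,3,4,1,2,4,4,1,3,2,1,0,1,2,1,4,0,1,1,4,4,3,4,1,1,2,1],
[4,0,1,4,0,3,0,0,0,1,4,1,0,3,4,2,0,4,4,0,3,4,2,4,1,1,3,3,2,2,1,3,4,0,2,3,3,3,1,0,3,0,0,2,1,1,1,2,2,1,4,1,0,1,4,1,2,3,0,1,3,3,0,4,2,1,3,0,1,3,1,1,0,0,3,2,0,3,4,0,2,4,1,4,2,3,4,3,1,4,0,0,0,3,3,4,2,1,0,3,4,4,4,3,0,4,2,1,3,4,4],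
[3,1,0,3,3,2,4,0,0,4,3,2,1,4,3,1,0,0,3,2,1,4,4,0,1,4,0,0,2,4,3,0,2,0,3,3,4,1,3,1,1,1,2,3,0,3,4,1,3,2,4,1,1,2,2,2,1,1,0,0,1,3,3,4,4,1,0,2,3,1,3,2,2,0,1,2,0,3,4,1,0,1,3,1,2,4,1,4,3,0,2,4,2,3,2,1,1,3,1,1,2,0,1,4,4,1,2,4,1,1,3],
[3,2,4,4,0,2,4,0,2,0,3,2,0,1,2,2,2,4,3,3,3,3,1,0,4,1,2,2,4,1,1,0,4,2,4,1,4,1,1,0,4,3,0,4,1,2,3,2,2,0,0,2,3,3,3,3,1,0,1,4,3,3,4,2,1,1,3,2,2,2,1,4,2,2,2,4,0,4,4,2,4,4,2,4,1,0,3,1,2,3,0,1,4,3,0,4,3,1,0,4,1,4,1,4,0,2,0,0,4,4,0],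
[3,0,4,2,4,2,0,2,3,3,1,4,4,3,2,1,1,4,1,3,1,4,2,1,3,3,2,4,2,1,0,1,2,3,4,4,0,4,0,4,0,4,4,2,3,1,3,0,2,1,4,4,3,1,1,1,4,3,0,2,3,2,2,4,0,2,4,2,2,2,3,3,4,4,3,2,2,2,2,4,4,2,1,3,2,2,2,2,4,3,0,1,3,0,0,3,3,0,0,1,4,3,4,4,1,1,0,1,3,3,0],
[4,2,3,1,0,1,4,1,1,3,3,3,4,1,0,0,0,0,2,1,0,0,3,3,3,4,3,3,0,2,3,2,0,3,4,1,3,4,1,2,2,0,4,3,2,3,0,3,4,0,1,0,2,2,4,4,2,3,0,0,4,4,1,4,4,1,3,3,0,3,3,2,1,1,4,4,0,4,4,2,4,4,0,1,3,3,3,0,0,2,4,1,2,1,2,4,0,1,4,4,2,1,0,0,3,0,1,4,1,3,2],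
[0,3,3,2,4,2,3,1,0,1,1,2,1,4,2,2,0,2,4,4,0,4,3,1,0,4,3,4,2,3,1,3,1,2,0,4,4,2,4,3,0,2,2,1,4,1,1,3,0,1,0,0,4,3,2,1,0,1,0,3,4,2,0,0,2,0,2,2,4,3,0,2,0,2,4,1,1,2,3,1,1,0,1,4,1,4,3,1,0,1,4,4,0,0,2,0,3,3,3,4,1,4,4,2,1,0,2,1,2,4,3],
[2,2,1,3,0,3,2,0,4,3,0,0,0,0,0,4,1,1,2,0,0,3,3,2,3,2,4,2,4,0,4,1,1,2,0,0,2,0,3,0,2,0,1,2,1,4,4,3,2,1,4,1,3,4,2,4,4,0,0,0,3,0,2,0,3,4,2,1,3,0,0,0,2,0,2,4,3,2,4,0,0,3,3,1,0,3,1,2,4,2,1,3,2,4,3,2,4,3,3,4,1,2,0,2,3,3,0,0,2,4,3],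
[2,2,1,1,0,1,3,0,2,4,3,0,2,2,4,0,2,3,1,4,0,2,4,4,2,1,3,4,0,0,4,1,3,4,4,2,1,3,2,0,1,2,1,2,1,1,1,4,1,4,2,1,4,0,0,3,3,0,3,3,4,0,4,3,0,4,0,4,2,3,4,1,0,1,3,3,0,4,0,1,4,4,4,0,2,2,2,0,0,3,4,3,4,3,4,2,1,4,1,0,1,4,0,1,3,3,0,4,0,1,3],
[3,1,3,4,3,4,1,1,4,2,0,0,3,4,2,2,4,0,2,0,4,1,0,3,4,0,3,2,4,1,4,3,2,3,3,0,3,2,4,4,1,1,3,2,0,1,4,3,1,1,2,3,0,4,2,2,1,2,1,1,2,1,4,4,4,3,4,0,1,2,2,4,0,3,2,2,3,2,1,3,1,2,1,2,0,2,3,2,3,1,2,3,1,2,1,3,1,0,1,0,0,2,3,2,2,1,0,4,2,4,1],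
[0,3,4,4,0,2,3,4,3,3,3,1,2,3,4,2,3,0,4,3,4,3,4,3,0,1,0,4,2,2,1,3,4,2,4,2,4,0,2,0,3,1,0,4,3,3,3,4,3,2,2,3,2,4,1,4,2,4,3,2,3,2,3,4,0,3,4,0,4,1,2,4,1,1,4,3,2,3,1,2,4,2,1,3,2,3,3,2,0,1,1,1,1,4,4,0,2,1,2,1,3,1,1,3,0,4,3,3,2,1,2],
[1,3,4,2,0,0,3,4,0,1,1,3,4,1,1,2,1,0,1,4,0,2,4,2,2,4,2,3,2,1,2,0,0,4,2,1,2,3,2,2,2,0,4,3,3,0,3,2,1,3,2,2,3,4,4,0,4,4,4,0,1,3,3,3,1,3,1,1,0,0,3,0,4,0,0,3,4,4,2,3,1,3,2,0,3,2,2,4,1,3,2,4,1,4,2,1,0,2,4,4,1,4,1,1,4,4,2,4,3,4,3],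
[3,2,3,3,4,3,3,3,3,0,4,0,2,4,1,0,3,0,0,2,0,3,0,2,0,3,4,1,2,1,1,2,2,2,3,0,0,1,1,0,3,1,3,3,3,2,2,0,0,1,0,4,0,3,3,3,3,1,4,2,0,1,3,3,2,1,2,4,1,3,2,0,4,3,4,1,2,3,4,1,4,4,1,2,0,1,2,4,2,3,2,4,0,0,1,2,4,3,3,2,3,2,3,4,4,2,2,3,3,3,2],
[3,1,0,3,2,1,1,2,3,1,1,3,3,3,2,3,0,0,3,0,4,4,2,4,0,1,1,0,0,1,4,3,2,0,0,0,3,4,2,3,4,3,1,0,0,2,3,0,3,4,1,1,0,2,3,1,3,1,4,2,4,1,0,0,3,4,4,3,3,4,3,2,4,4,0,1,0,4,0,2,0,0,4,1,1,4,3,4,3,1,3,3,2,4,3,1,3,3,1,0,1,0,2,3,4,4,1,0,0,3,1],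
[2,1,4,4,3,2,4,3,1,3,2,1,1,4,0,2,0,2,2,2,0,1,0,1,0,0,4,1,1,4,3,4,1,3,0,2,2,2,3,1,0,3,3,4,4,3,4,0,0,2,1,1,1,1,2,4,2,3,0,3,4,1,2,0,4,3,4,3,4,2,4,1,1,2,3,4,4,2,0,2,3,2,3,0,2,3,4,1,2,3,3,0,3,0,4,4,1,0,1,0,4,4,3,3,4,3,3,0,0,4,1],
[2,1,2,2,3,1,0,2,2,4,1,0,3,0,1,0,4,1,1,3,4,1,4,2,2,3,0,0,3,3,0,3,2,1,0,0,1,2,2,0,4,1,0,2,0,3,1,3,1,1,0,0,3,1,4,2,3,4,0,4,3,1,2,1,4,1,2,2,0,4,1,1,0,4,3,2,4,2,2,1,1,4,2,0,4,2,3,4,2,1,0,1,3,0,1,0,3,1,4,0,1,1,1,0,0,3,0,1,0,3,3],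
[1,2,1,3,4,3,4,2,1,4,2,2,3,3,3,4,1,4,3,0,2,4,3,1,3,4,2,0,0,2,1,2,1,3,4,1,2,0,0,4,2,4,3,3,4,2,0,4,4,2,4,1,2,4,3,0,4,0,1,2,1,4,4,4,2,0,0,3,2,2,2,2,3,0,0,1,4,0,2,1,1,1,4,4,3,2,1,0,2,4,3,3,4,0,4,0,1,4,2,2,3,4,0,0,4,3,1,2,1,0,0],
[0,2,3,0,1,0,1,2,1,4,0,2,4,1,4,4,3,0,3,4,3,0,4,1,4,2,3,3,1,3,3,2,2,4,4,1,4,2,0,4,2,0,0,0,4,0,1,0,4,1,0,1,4,1,2,4,4,2,0,0,4,0,0,1,3,2,4,2,2,1,1,0,3,1,1,1,1,1,1,4,3,2,0,4,0,3,1,0,4,0,3,1,3,1,0,4,3,4,4,3,4,0,3,1,0,1,0,1,3,3,1],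
[3,2,2,1,0,0,1,2,3,3,2,0,4,0,0,3,1,3,2,0,1,4,1,4,3,3,2,0,2,2,2,4,1,1,2,0,0,1,0,1,0,0,4,1,4,0,2,4,2,0,3,1,1,1,1,0,3,4,0,1,0,3,0,3,1,2,0,3,3,0,0,4,4,4,4,2,4,0,2,4,3,3,0,0,3,2,3,0,4,3,4,1,2,4,1,4,4,4,4,4,1,2,0,2,1,3,4,4,3,4,4],
[3,2,2,0,0,0,4,3,0,4,3,1,0,4,0,3,4,4,2,4,0,1,3,1,1,3,0,0,2,2,3,0,3,4,0,0,1,4,0,0,2,4,1,1,4,3,3,1,3,3,1,2,0,1,1,3,3,0,3,0,2,1,0,3,2,0,4,3,0,4,3,4,4,2,3,4,0,2,4,2,1,3,4,0,2,2,1,2,1,1,2,0,3,3,4,4,2,4,2,0,2,2,0,3,0,1,1,2,3,1,2],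
[3,3,1,1,0,4,2,4,1,1,4,4,1,0,4,3,1,3,0,4,4,4,0,0,4,2,1,1,2,2,4,3,0,0,0,2,2,4,4,2,1,3,4,0,3,3,3,0,0,1,3,3,0,0,0,3,3,0,1,1,1,4,3,3,3,4,2,4,0,1,1,3,4,2,3,2,4,0,4,3,2,4,1,3,2,4,4,1,0,2,1,0,2,2,3,4,2,2,0,2,0,3,3,3,1,0,4,3,1,2,2],
[2,1,2,2,1,2,4,2,3,0,4,3,2,3,2,0,0,4,4,2,3,0,2,3,2,1,3,4,2,0,4,2,3,1,3,0,2,2,4,3,1,4,4,0,4,1,1,3,2,4,3,3,0,0,0,2,4,3,2,1,2,2,3,4,4,2,1,2,1,4,3,4,1,2,1,1,3,2,1,1,4,1,2,0,1,4,3,2,1,1,3,1,1,2,1,1,1,4,2,0,0,2,2,0,2,4,4,0,3,4,3],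
[1,0,2,0,0,2,2,1,3,4,0,0,2,3,3,0,3,0,0,2,4,2,4,0,3,3,1,0,0,1,2,0,3,1,3,4,2,2,2,1,2,4,4,2,0,1,0,0,0,2,2,3,3,0,0,2,2,2,0,0,0,3,0,4,0,4,2,0,3,2,3,3,4,0,4,2,1,3,3,3,2,1,0,4,2,3,0,0,1,2,1,1,1,0,2,0,1,4,2,1,0,0,3,2,3,4,4,2,4,1,2],
[4,4,2,1,0,2,4,3,3,3,4,0,4,3,2,4,4,0,2,3,3,2,1,0,3,0,0,4,1,0,3,2,4,0,0,3,1,4,1,2,0,1,4,0,4,0,1,3,1,0,1,4,1,0,3,0,3,0,0,2,1,0,4,4,0,2,1,0,3,2,3,1,0,4,0,3,0,2,0,2,0,3,3,4,4,4,2,4,1,2,2,1,1,1,0,4,3,4,2,4,2,2,2,2,1,1,3,4,2,3,1],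
[2,3,1,1,3,4,3,1,0,0,4,4,4,2,0,3,2,3,2,1,4,2,4,2,3,4,2,2,0,1,0,4,4,3,1,2,0,4,3,4,3,2,0,3,2,0,2,1,3,3,0,2,3,0,4,0,1,3,4,0,2,4,2,3,0,3,1,1,3,3,3,4,3,3,3,1,3,4,3,0,3,2,4,4,4,0,4,2,1,3,4,2,4,1,2,4,4,2,4,0,1,2,3,1,4,1,4,0,1,4,2],
[3,4,4,1,0,1,0,1,3,2,1,0,2,4,3,2,0,3,2,0,4,0,3,3,4,2,0,1,0,0,2,1,4,2,1,4,0,3,1,1,3,2,3,4,1,0,4,4,1,2,4,0,1,4,0,2,2,1,1,4,0,3,1,1,0,2,3,2,0,0,4,3,4,1,3,3,0,4,1,2,3,1,1,4,4,3,1,0,1,2,4,1,0,1,1,0,2,1,1,1,4,1,0,2,2,3,2,2,2,4,1],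
[0,0,3,4,4,4,0,3,4,1,2,4,1,2,2,2,3,0,4,1,2,2,0,1,2,2,0,3,3,2,3,4,3,3,2,2,1,1,3,0,2,1,0,2,0,4,2,1,3,2,1,1,2,0,0,4,3,1,4,1,3,0,1,1,2,4,4,0,3,3,3,3,1,1,2,1,4,3,2,4,1,0,1,2,4,3,2,3,0,0,2,4,4,4,4,2,0,4,4,4,1,0,0,0,3,4,1,3,2,3,2],
[4,3,3,4,3,0,2,3,1,0,0,0,2,3,4,1,0,2,1,1,4,0,4,4,2,2,1,4,2,4,4,0,0,2,3,0,2,2,2,2,4,0,4,4,3,2,1,2,2,4,4,2,0,3,2,1,1,2,3,0,4,4,2,3,2,1,0,1,4,2,1,1,3,4,2,1,0,2,3,3,4,2,0,1,3,1,1,2,4,4,3,2,1,3,4,2,3,1,3,1,2,4,2,3,1,1,1,0,2,1,4],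
[2,1,2,3,4,3,0,0,0,0,0,2,2,4,0,2,1,3,1,0,1,4,3,3,1,4,3,1,4,1,3,0,3,2,0,3,4,2,2,2,0,0,4,2,2,4,4,4,4,4,4,3,0,0,4,2,0,0,3,4,3,1,3,4,3,0,0,4,1,3,2,1,3,4,0,3,3,0,3,4,4,2,0,3,0,3,3,0,3,1,3,3,0,3,1,0,1,3,0,2,2,1,1,4,4,3,4,1,3,0,0],
[3,2,0,0,2,4,0,1,0,1,3,3,4,4,2,1,0,3,0,2,4,0,1,2,0,3,0,1,3,0,2,4,2,4,3,0,2,4,0,3,0,2,4,1,2,0,3,0,4,2,3,2,2,1,1,4,0,0,4,2,1,3,3,3,3,3,2,2,1,0,3,1,4,4,1,4,0,2,2,3,3,4,4,3,3,0,4,1,1,4,2,1,0,3,4,0,1,4,4,0,4,0,1,0,4,1,0,0,3,2,4],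
[3,3,0,3,1,0,3,4,4,4,4,4,3,2,2,4,0,3,2,1,1,2,2,1,0,1,2,4,4,0,0,1,0,0,3,2,4,0,0,1,4,4,2,4,3,2,2,1,0,0,4,2,4,3,0,4,2,3,0,0,4,3,2,0,0,0,0,0,2,0,0,3,4,2,3,2,2,2,1,1,1,4,1,3,4,4,1,0,2,4,2,1,2,2,1,0,0,1,3,1,1,4,3,0,3,2,0,1,2,4,3],
[0,0,3,2,4,0,1,2,2,1,4,1,4,4,1,3,4,3,1,4,2,4,4,4,1,1,2,3,4,4,0,4,3,4,1,0,1,2,4,4,3,4,0,4,3,4,4,2,0,0,3,3,3,0,0,4,0,3,0,2,0,4,0,3,4,1,4,2,1,2,0,4,4,2,4,4,0,3,2,3,1,3,4,1,0,1,0,3,3,2,0,2,3,0,2,2,2,0,3,0,4,4,4,2,3,2,4,0,4,4,2],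
[4,2,3,4,2,0,0,1,4,4,2,2,2,0,4,3,0,1,2,1,4,4,1,3,0,4,2,4,1,0,1,1,0,2,3,4,2,2,0,1,2,1,4,0,3,1,3,2,4,4,0,0,4,0,2,4,1,0,0,4,1,1,1,0,0,4,4,4,2,1,4,4,2,0,3,0,2,1,0,3,1,2,4,2,4,4,0,3,2,3,3,3,0,4,1,0,0,1,0,1,1,3,3,3,4,3,0,1,1,2,0],
[1,1,2,4,0,4,1,2,2,3,3,4,2,1,1,2,2,0,3,3,0,4,0,4,4,0,2,0,4,0,1,2,0,1,0,0,1,1,4,0,1,0,1,2,1,2,4,1,3,3,3,2,2,2,3,0,4,3,3,0,4,3,1,0,1,2,2,1,4,4,0,2,3,3,1,4,0,3,4,1,1,3,1,1,1,4,1,0,4,2,3,3,0,4,2,2,2,0,3,4,1,3,3,2,4,4,1,4,4,1,4],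
[1,3,1,3,3,0,2,3,0,1,4,0,0,4,2,1,4,1,3,3,2,1,3,4,4,3,4,0,4,0,2,1,3,0,1,3,0,0,4,1,0,0,1,0,0,4,1,1,2,0,0,0,2,1,0,4,0,2,3,0,4,4,1,3,1,2,1,0,2,0,4,4,3,3,0,1,1,3,2,4,3,4,2,4,1,4,1,4,1,0,2,1,4,1,1,0,3,3,0,4,0,3,0,2,2,2,1,2,2,0,1],
[0,2,4,2,3,1,1,2,2,0,4,3,4,1,0,1,3,2,3,3,3,0,3,0,4,4,3,1,2,4,2,4,4,0,1,2,4,1,2,0,2,3,3,3,4,3,3,3,3,1,0,3,1,0,2,0,1,0,0,1,3,1,0,1,0,4,4,0,3,4,0,1,0,0,0,2,0,0,1,1,2,4,4,2,1,3,4,0,4,0,0,0,4,4,1,2,0,3,1,2,1,4,0,1,4,4,3,2,2,2,1],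
[4,3,0,4,4,0,0,2,2,0,2,1,3,1,2,3,0,0,1,1,1,1,1,1,2,1,0,0,3,2,4,0,4,4,0,1,4,0,4,2,2,0,2,2,0,1,4,3,1,3,4,2,0,2,1,1,1,0,4,1,2,4,0,1,4,2,1,4,4,0,2,0,3,2,1,4,1,2,2,2,3,1,3,1,4,1,4,4,1,0,4,0,0,4,1,3,3,2,3,2,3,2,1,1,2,1,4,1,2,2,1],
[4,4,0,2,0,0,3,1,4,3,2,0,1,2,0,1,1,1,4,1,1,3,1,0,4,3,3,2,1,0,1,0,2,1,1,3,3,1,2,1,3,3,1,3,0,0,4,0,2,1,2,2,4,3,4,4,4,3,2,3,0,0,0,3,4,1,1,3,3,4,1,2,0,4,1,0,0,1,2,4,2,4,3,3,1,1,2,2,1,2,4,4,0,4,0,2,0,4,4,2,3,4,1,3,1,1,3,4,1,3,1],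
[1,0,0,0,4,1,2,4,0,1,1,2,1,0,0,0,4,3,1,1,4,3,1,1,1,4,1,2,0,4,2,0,1,0,3,3,3,4,0,2,3,3,0,3,3,0,0,0,2,4,0,1,1,0,4,2,2,0,0,3,2,3,2,4,0,2,0,1,2,0,0,3,4,1,4,1,2,3,3,2,2,3,3,4,4,2,4,4,2,0,1,4,3,3,3,1,1,1,1,1,3,4,0,4,1,2,2,4,3,2,1],
[0,4,1,0,3,3,2,1,4,3,0,1,2,0,4,1,2,2,4,3,4,1,4,3,3,0,2,2,3,4,0,0,4,0,3,3,2,3,2,3,1,4,3,4,1,4,2,0,0,3,0,0,0,3,4,3,2,0,3,4,1,4,2,1,2,3,0,0,3,0,1,2,0,0,0,1,2,2,2,3,3,2,4,4,3,0,0,0,3,1,2,4,2,3,0,3,1,2,3,3,4,4,1,4,0,3,4,0,0,4,1],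
[3,2,0,2,1,3,2,3,1,1,0,2,3,4,4,0,0,0,1,2,2,1,1,2,4,4,3,0,0,3,2,0,1,4,1,1,3,3,2,1,1,0,4,0,0,2,0,2,0,2,1,3,3,2,1,1,1,2,4,0,4,0,0,2,0,1,1,1,3,0,2,0,4,0,4,3,1,0,3,2,1,0,3,4,1,3,0,0,1,3,2,4,4,4,2,4,4,3,3,2,2,2,1,3,2,3,3,4,1,4,2],
[2,2,0,3,0,2,4,4,4,2,3,3,2,2,1,2,2,0,4,4,2,0,3,3,1,4,4,0,4,1,1,0,2,2,3,3,1,1,3,1,1,4,2,3,2,4,2,4,3,1,4,3,3,2,4,4,4,1,1,3,1,2,1,4,1,3,4,3,4,0,4,4,4,2,4,3,0,4,2,3,1,1,4,4,0,4,0,2,4,4,1,2,0,2,4,1,0,2,4,4,3,0,1,3,0,0,4,2,1,3,0],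
[4,2,4,3,1,4,2,4,4,4,4,4,0,3,4,2,3,0,0,2,4,2,3,2,0,0,3,0,2,0,0,2,1,4,0,1,0,4,2,2,3,3,0,2,3,0,2,3,2,0,3,4,0,2,1,0,3,3,4,3,0,2,0,4,3,4,0,0,3,0,2,3,1,4,0,0,3,4,1,2,4,0,2,0,3,2,0,3,2,4,3,2,4,0,4,0,4,3,3,0,1,3,2,3,2,3,0,0,4,4,3],
[2,0,0,0,0,1,3,0,2,1,1,3,1,0,2,4,4,4,4,3,1,1,4,2,1,1,0,0,1,1,1,2,3,0,3,4,4,3,0,3,2,4,3,3,3,4,4,4,2,0,0,3,2,1,3,1,4,4,4,2,3,4,1,1,3,4,2,4,1,2,3,3,0,2,2,0,3,3,3,3,3,4,4,3,0,2,2,2,3,0,2,3,4,2,1,3,2,2,2,3,4,1,0,0,3,4,2,1,2,2,3],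
[2,4,3,3,0,4,4,1,1,4,3,2,4,1,2,2,4,0,4,3,2,1,4,2,3,0,1,2,2,0,3,1,3,4,1,1,1,3,2,1,1,1,3,1,4,1,4,3,3,4,3,3,1,1,4,2,0,0,3,4,2,2,4,0,2,3,4,0,2,3,3,1,3,1,0,1,3,0,3,4,2,0,0,2,0,1,2,4,3,1,4,0,1,0,3,3,1,3,1,3,3,0,2,4,0,2,2,0,2,2,2],
[0,3,4,2,2,2,4,4,0,2,1,2,1,2,3,0,0,3,2,2,0,3,1,1,3,3,2,2,1,3,1,0,1,2,4,3,1,1,3,1,4,2,2,4,2,3,0,4,2,1,0,0,4,3,2,2,1,2,4,3,4,3,2,0,2,4,4,4,3,1,2,2,1,0,2,0,2,1,2,4,3,0,4,1,3,1,2,0,3,3,0,1,1,4,2,1,0,3,4,1,3,4,2,3,3,3,0,0,0,4,0],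
[0,1,2,2,1,3,1,2,2,3,4,1,0,2,3,4,2,2,3,0,2,0,1,4,4,0,1,3,0,3,2,3,0,2,2,4,0,4,2,4,3,3,4,3,4,1,3,0,3,1,3,1,0,3,2,2,1,1,2,3,2,0,1,1,1,1,3,2,2,1,4,0,3,1,3,2,3,0,4,1,2,0,0,3,3,1,0,1,0,1,0,1,4,2,2,3,3,0,4,0,0,0,1,4,0,0,0,0,2,1,3],
[0,4,2,1,1,4,3,0,2,0,4,3,4,4,1,0,4,3,4,2,0,2,4,2,3,4,4,1,4,2,1,3,3,3,0,4,1,0,1,2,2,2,1,3,4,1,4,4,2,4,2,4,0,2,4,1,3,1,4,1,2,2,2,0,0,2,1,3,4,1,4,3,4,4,0,0,4,2,2,0,1,1,2,1,4,4,2,4,0,4,0,1,2,2,1,0,4,4,3,3,0,2,4,1,1,3,1,0,4,2,2],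
[4,1,2,3,2,3,2,4,4,1,3,3,4,1,4,2,1,0,3,4,1,3,1,0,3,2,0,2,0,3,1,0,1,2,0,3,2,4,2,1,4,0,4,2,1,1,1,0,2,0,0,1,2,3,0,4,1,4,0,2,2,4,2,2,3,0,2,3,4,4,1,0,2,0,4,3,3,1,1,1,2,3,2,3,4,1,2,0,3,1,4,4,3,1,2,0,1,2,1,1,1,2,2,4,1,4,1,2,3,4,2],
[1,4,2,0,1,3,0,2,4,4,2,1,4,4,3,0,2,0,1,0,1,4,2,0,1,2,1,0,0,0,2,2,4,0,3,1,2,1,2,0,4,2,2,2,3,3,2,3,1,2,0,0,2,2,0,3,2,2,4,3,4,0,1,3,2,3,1,1,1,4,0,1,3,4,2,3,3,4,4,0,1,1,0,4,4,0,4,1,0,3,1,4,3,0,0,2,0,2,1,4,1,4,0,0,0,4,2,4,3,2,4],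
[1,3,3,0,4,2,1,4,4,2,0,0,1,3,1,3,2,0,4,4,1,0,3,1,0,4,1,4,3,0,4,4,4,3,3,4,2,4,4,3,1,1,0,1,4,3,0,3,2,0,1,2,0,0,0,4,4,3,2,1,2,4,4,4,2,1,2,2,0,4,1,0,3,4,3,4,2,2,2,3,1,3,4,3,4,2,1,3,0,2,4,4,3,3,0,1,0,2,2,4,1,4,0,1,3,2,4,0,0,3,1],
[1,2,0,3,1,3,0,2,2,3,4,4,0,0,2,2,0,1,4,2,4,1,3,0,0,4,3,3,2,0,2,1,4,1,2,0,0,4,2,3,0,3,2,3,3,3,4,3,3,3,3,0,4,2,1,1,4,3,1,1,0,2,0,3,3,2,1,2,4,2,2,2,2,4,1,2,4,4,2,1,2,2,2,4,4,1,1,2,0,4,0,3,3,4,4,4,0,4,2,4,0,3,2,4,3,2,0,4,0,4,3],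
[4,4,3,4,1,2,1,4,0,2,4,2,0,4,4,4,0,2,2,1,2,1,2,4,3,2,1,0,0,1,4,4,4,0,4,0,2,3,2,2,1,1,0,4,4,3,2,3,3,2,0,2,1,2,4,2,0,2,0,4,4,2,3,4,1,4,1,4,4,4,1,1,2,4,4,0,3,2,0,2,1,3,3,1,4,3,3,1,3,2,2,3,4,4,3,3,4,4,4,2,4,3,2,3,2,3,1,4,3,4,0],
[4,1,2,3,1,0,3,3,2,4,0,4,1,3,1,0,4,1,4,2,1,4,3,2,1,3,1,1,0,2,2,1,0,1,3,0,3,2,4,1,4,2,0,0,4,2,1,0,1,0,2,1,3,1,0,1,1,4,0,0,3,3,3,3,1,2,0,1,1,4,0,0,4,3,1,3,1,4,2,3,3,0,2,1,0,2,1,0,0,0,0,4,2,3,1,4,4,3,3,0,4,3,3,2,4,4,2,1,4,0,0],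
[2,0,0,2,3,2,4,2,3,2,1,3,0,2,2,2,3,2,0,2,1,2,2,2,4,0,1,0,3,1,4,2,1,4,0,1,3,2,0,1,3,0,1,0,1,4,4,1,4,0,1,3,1,4,2,2,1,2,2,2,4,3,2,0,2,0,1,4,2,3,2,0,3,1,0,4,4,0,4,0,1,3,2,1,4,0,3,2,3,0,3,0,2,1,4,0,0,0,2,0,2,4,1,2,4,2,0,1,4,1,1],
[4,2,4,0,3,4,1,0,2,1,3,2,1,2,4,3,3,2,2,3,0,4,3,4,2,0,4,0,1,4,3,0,0,3,0,4,4,0,4,2,2,1,4,2,1,1,0,1,1,1,2,2,4,0,3,0,0,4,3,3,1,0,0,2,2,4,1,1,4,3,4,4,0,1,3,3,3,1,4,4,4,2,2,4,0,1,3,1,4,0,1,0,1,1,4,3,3,1,2,3,4,1,4,1,0,1,3,4,4,2,4],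
[1,3,2,3,2,2,0,3,2,3,3,4,3,3,3,3,0,3,2,4,3,0,0,1,2,2,0,4,4,3,1,0,0,4,4,4,4,3,4,0,2,0,3,2,2,2,0,1,3,3,1,3,2,1,3,1,0,4,1,2,2,3,3,1,1,4,0,0,3,4,1,4,4,3,2,1,2,2,0,2,3,3,1,0,3,4,0,3,2,4,2,4,0,3,1,0,2,1,3,0,3,4,2,3,2,2,3,0,0,4,4],
[2,1,4,1,0,3,4,4,1,1,0,0,0,4,4,2,2,4,3,1,1,4,2,3,3,4,4,3,4,1,0,2,4,3,4,1,2,3,0,4,3,4,4,1,4,2,4,2,1,0,1,4,2,0,0,1,3,0,0,4,3,4,1,3,1,2,3,1,3,3,1,3,1,4,2,3,1,2,2,2,4,0,1,0,3,4,0,2,2,3,1,0,4,0,1,0,4,3,4,0,1,0,3,2,1,3,1,1,0,2,3],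
[0,2,1,1,4,1,3,0,2,3,0,1,2,0,1,0,4,4,2,4,1,2,1,3,1,3,3,4,2,3,3,0,0,2,2,4,4,0,4,4,2,0,2,4,1,4,4,3,1,2,0,3,4,0,4,1,3,3,3,0,4,2,0,3,0,2,1,3,0,3,0,0,4,1,2,2,0,2,1,4,2,0,4,2,1,4,1,4,4,4,0,4,3,1,3,3,2,2,0,2,3,1,3,3,0,2,4,4,3,4,0],
[0,3,1,3,3,2,1,0,1,0,2,0,3,3,4,3,4,0,3,4,1,0,0,2,2,1,2,1,0,2,2,4,2,1,3,3,0,2,3,3,3,3,0,0,0,4,0,0,1,0,1,0,3,2,0,2,0,3,2,4,2,4,4,1,2,1,0,3,1,2,0,1,1,3,2,4,0,0,4,1,2,2,3,4,1,2,0,3,2,1,4,2,2,0,4,3,4,2,3,1,0,4,1,1,1,2,1,2,0,3,3],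
[0,1,4,4,1,4,0,4,0,2,4,0,0,2,1,0,0,4,4,1,1,2,1,4,0,4,4,3,0,0,1,4,2,0,1,3,2,0,2,2,2,4,0,0,2,3,0,1,2,2,1,0,0,4,4,2,0,1,4,1,2,3,1,3,2,4,0,0,1,0,4,4,1,3,0,3,4,1,4,2,4,0,4,4,0,2,0,2,3,0,3,2,2,2,2,0,2,3,4,0,2,1,2,4,3,1,0,2,1,1,1],
[1,2,0,2,1,1,0,4,2,1,2,3,4,1,2,2,0,0,3,1,2,0,4,0,4,2,3,1,3,2,1,2,0,2,1,1,3,3,4,1,1,1,4,3,1,4,1,1,2,2,0,2,2,1,4,2,2,2,4,2,4,3,0,4,2,3,2,1,3,1,0,3,2,3,1,3,3,2,1,2,3,3,4,0,0,3,3,0,1,1,1,3,3,3,0,4,2,4,4,4,3,0,3,3,4,1,3,1,2,2,1],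
[2,3,4,4,4,3,3,3,1,4,3,3,3,4,4,0,1,3,0,1,1,2,3,2,1,0,0,1,4,1,1,2,4,4,0,0,1,1,1,4,0,4,0,4,1,2,3,4,1,3,2,4,1,4,3,2,4,2,0,2,0,2,2,0,2,3,0,3,0,4,1,4,2,4,0,2,2,2,0,1,0,2,3,2,4,2,3,3,0,4,2,3,3,3,2,1,1,2,1,4,0,3,1,2,3,4,4,0,4,3,0],
[0,2,4,1,3,0,4,1,2,3,4,4,2,3,4,1,0,0,1,3,0,4,3,1,2,4,4,3,3,0,2,1,3,4,3,1,1,4,4,0,1,0,3,1,3,4,1,1,1,2,0,4,0,2,0,3,1,2,0,2,1,0,3,0,3,2,0,1,2,3,1,4,2,3,3,3,2,3,0,3,0,4,3,0,4,3,2,3,4,1,4,1,3,1,1,0,1,2,0,4,2,0,1,2,2,1,3,2,1,0,1],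
[2,4,4,1,3,4,3,1,4,0,2,1,1,2,4,1,2,1,4,4,3,2,1,0,3,3,3,2,2,2,0,4,0,2,1,2,4,2,3,4,2,0,0,0,1,2,3,4,0,1,0,4,3,4,0,4,3,4,2,0,3,0,0,3,4,3,4,4,1,4,4,3,1,3,3,3,1,3,2,0,0,4,3,2,0,0,3,0,4,4,0,0,2,0,3,1,1,2,1,1,4,2,2,0,1,2,0,1,4,3,3],
[4,2,3,4,3,0,3,4,1,3,2,3,3,4,1,4,1,1,4,4,1,2,1,1,0,1,3,3,0,3,4,2,4,4,1,0,0,2,4,3,1,2,1,4,3,0,4,2,4,2,2,1,2,1,1,3,1,1,1,2,4,1,0,3,1,1,2,0,0,1,1,3,4,3,1,1,1,1,1,3,3,3,3,4,2,2,0,1,3,1,4,4,2,2,0,3,0,4,1,1,0,0,2,3,4,4,0,0,2,1,0],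
[0,0,1,2,1,0,4,1,0,3,0,1,1,1,2,4,0,0,2,1,1,2,4,1,4,4,2,1,2,1,4,1,4,0,2,2,3,3,2,1,1,4,1,0,3,0,2,2,2,3,0,4,2,2,3,0,0,1,2,3,4,2,1,1,3,2,4,3,3,1,1,4,1,1,1,4,2,0,2,2,0,3,0,1,1,0,3,1,0,2,3,1,2,1,4,3,4,4,1,2,4,1,3,3,4,4,2,1,0,2,1],
[4,2,0,2,0,0,1,1,2,4,1,2,4,1,2,3,3,2,4,2,3,0,0,2,0,4,3,4,1,4,3,3,4,2,0,0,2,1,1,2,1,0,3,4,4,1,4,0,3,3,2,4,1,0,1,0,2,2,0,4,1,4,0,1,4,0,3,4,4,4,2,4,0,0,2,3,4,0,4,3,1,0,1,4,3,4,0,0,0,0,3,3,4,0,4,4,1,4,2,4,4,1,3,0,0,3,1,1,2,2,2],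
[2,3,0,0,3,1,0,4,1,0,0,3,4,3,0,4,0,4,3,0,3,4,2,1,4,1,3,3,4,1,1,1,4,2,2,1,2,2,3,2,2,1,4,0,0,0,0,4,4,3,3,4,2,2,4,2,3,1,0,2,3,2,4,0,2,3,4,3,0,1,2,1,3,0,1,1,2,2,1,3,2,1,3,3,2,0,0,2,4,2,2,1,2,3,0,2,4,1,4,3,3,4,2,1,1,0,4,2,0,2,0],
[3,4,0,2,3,0,2,0,3,2,0,4,4,3,3,3,1,1,0,1,0,4,1,1,1,4,2,1,2,4,3,2,4,3,3,2,1,2,4,0,2,2,3,3,2,2,4,3,3,0,3,1,0,1,3,4,3,4,4,0,0,4,4,0,2,2,2,2,1,1,4,2,2,4,0,0,0,0,4,3,3,0,4,4,2,3,3,0,0,1,3,3,4,0,3,3,3,2,3,3,2,1,0,1,3,0,0,4,1,4,3],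
[4,3,1,1,2,2,1,4,0,1,2,2,3,3,0,4,3,3,4,2,1,4,2,4,2,3,1,1,2,0,4,3,2,2,3,2,1,4,2,4,3,4,4,1,3,1,1,4,4,2,3,1,3,1,2,0,4,3,2,2,2,0,3,3,2,2,4,1,0,2,1,3,3,2,0,2,2,2,1,3,1,3,4,2,0,2,0,0,1,1,0,1,2,4,4,0,3,1,1,1,0,2,2,1,4,2,2,2,2,0,4],
[1,1,1,2,4,0,1,1,4,1,3,4,4,4,0,4,2,4,1,1,0,2,2,0,3,4,0,2,4,4,4,3,3,3,2,4,4,0,3,0,1,4,4,3,4,1,3,1,0,3,0,3,1,4,0,1,1,2,3,2,2,3,4,0,0,2,1,1,0,4,1,4,3,3,2,2,4,3,1,0,2,3,1,3,1,0,2,1,2,4,3,3,4,2,3,0,2,2,4,2,4,4,2,1,3,0,0,0,3,0,2],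
[1,3,0,2,0,3,4,1,2,3,4,0,3,0,3,3,0,3,2,3,3,1,3,3,0,2,3,1,1,0,0,0,4,2,4,3,3,4,3,1,3,1,1,2,1,1,3,3,0,4,3,1,0,4,2,0,4,0,1,2,0,1,0,0,1,3,3,0,2,3,0,1,1,4,4,2,2,4,4,4,4,4,3,2,2,2,3,4,1,3,2,4,1,3,2,1,4,1,3,0,2,3,0,2,3,3,2,4,2,0,2],
[4,3,2,4,2,0,4,1,1,1,1,0,2,0,3,4,0,1,4,2,3,0,3,1,1,4,2,2,3,2,2,4,1,4,0,2,3,1,1,2,1,3,2,2,0,4,1,0,1,4,4,3,1,0,3,0,4,0,0,0,0,0,0,2,0,0,4,1,2,1,1,4,1,2,0,1,3,2,0,3,3,4,2,0,1,4,1,4,4,4,0,0,4,2,3,3,2,0,2,0,1,4,4,2,4,4,0,1,1,0,4],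
[2,3,3,3,0,0,0,4,0,1,2,3,4,4,4,0,3,1,3,0,1,2,3,4,3,3,1,2,3,3,4,3,0,1,0,4,1,2,4,1,1,1,1,3,0,0,1,4,1,2,3,0,2,2,3,2,1,1,4,2,4,3,0,1,0,2,3,3,4,2,2,0,1,2,0,4,2,1,2,1,0,2,4,2,3,4,4,2,2,2,3,0,0,4,2,0,1,3,3,1,2,4,3,2,4,2,3,4,2,0,0],
[4,0,0,0,0,0,0,0,3,4,2,3,1,0,4,1,2,4,1,0,1,0,1,0,0,1,0,2,4,0,1,2,0,4,2,0,0,3,2,0,4,2,2,3,0,3,1,1,4,1,1,0,0,4,4,3,1,3,0,0,3,3,3,1,4,2,4,0,4,4,2,0,1,1,0,1,4,3,0,4,2,0,3,1,3,3,0,1,4,4,3,0,2,3,3,2,4,4,4,1,1,3,0,0,3,0,0,0,0,1,3],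
[0,4,0,0,0,0,0,3,3,0,4,3,0,4,1,2,0,1,1,0,1,1,2,0,0,3,1,2,4,1,2,0,0,3,2,0,1,2,1,0,1,3,1,3,0,1,0,3,0,0,0,1,1,3,0,2,4,0,3,1,0,2,4,1,2,1,4,4,0,1,4,2,4,1,0,1,3,2,4,4,0,0,2,2,3,3,2,2,4,1,3,0,4,2,3,0,4,4,1,4,1,0,1,0,2,3,0,0,0,4,4],
[0,0,4,0,0,0,0,0,0,0,0,2,2,3,2,3,2,3,4,3,4,2,3,1,4,1,1,4,0,3,2,4,2,2,2,1,1,4,2,0,2,1,2,2,2,4,3,2,2,3,0,3,1,0,2,0,4,2,0,3,4,4,1,3,0,4,0,0,3,2,2,2,2,2,0,4,1,4,0,0,1,2,1,4,3,4,3,2,2,2,0,0,3,0,1,1,0,4,3,3,4,1,1,4,0,0,2,2,3,0,0],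
[0,0,0,4,0,0,0,0,0,0,0,2,4,2,4,3,0,1,3,1,1,1,1,3,2,0,1,4,0,3,2,1,2,0,2,3,3,2,4,2,2,0,2,1,4,0,4,1,4,2,1,4,2,0,1,0,3,0,4,2,2,3,3,0,1,2,2,1,1,0,0,3,4,2,3,0,3,2,3,0,4,1,1,4,0,2,2,0,4,1,3,2,2,1,4,4,1,1,2,1,3,1,4,1,0,0,0,3,1,0,0],
[0,0,0,0,4,0,0,0,0,0,0,0,4,1,2,1,3,0,2,2,3,3,3,3,1,2,1,3,3,2,4,0,4,0,0,0,1,0,1,3,2,2,3,1,3,2,3,1,4,4,1,0,4,1,0,1,3,3,3,1,3,2,3,2,4,1,4,0,4,0,3,1,2,4,2,4,3,1,1,2,0,1,2,3,2,4,4,0,3,0,0,3,2,4,3,2,4,3,0,0,2,4,0,1,0,0,1,0,2,0,0],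
[0,0,0,0,0,4,0,1,3,1,2,0,2,4,1,1,1,0,3,2,0,1,0,2,4,3,3,1,4,1,1,0,2,1,0,2,2,2,1,1,4,0,2,1,2,0,1,3,3,3,4,3,1,1,4,1,1,4,0,1,1,1,2,1,2,3,0,2,0,3,4,0,4,1,2,1,4,3,0,4,0,1,3,2,2,1,1,2,3,1,4,0,3,3,3,2,3,0,4,0,3,4,1,1,1,0,0,0,0,0,0],
[0,0,0,0,0,0,4,0,1,4,0,3,2,1,2,2,4,0,2,3,2,3,4,1,0,0,1,2,0,2,2,1,3,4,2,0,2,2,4,0,2,3,0,1,3,2,2,1,3,3,4,0,2,2,4,1,4,1,2,4,2,3,4,1,1,1,4,0,3,3,3,3,3,2,0,1,2,3,4,0,1,3,4,1,2,3,4,2,0,4,3,0,0,3,2,3,1,3,4,0,2,3,2,4,2,3,0,0,0,4,1]]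

noncomputable def carTab5 : List (List ℕ) := [[4,2,0,0,0,4,4,1,4,3,3,0,4,2,4,0,1,2,4,1,4,0,4,2,3,2,3,1,4,1,0,3,4,3,0,0,0,2,3,0,0,2,0,1,1,3,2,0,1,2,4,2,2,4,2,4,2,4,1,3,1,3,4,3,3,0,2,2,0,1,0,1,1,1,1,1,1,2,3,4,3,1,1,3,3,1,2,1,3,0,0,3,3,3,3,1,1,1,0,3,3,2,3,4,1,3,0,0,0,1,3],
[3,4,0,0,0,2,2,3,3,2,4,0,4,0,1,1,1,2,2,1,1,3,1,0,1,1,3,0,3,0,1,3,3,0,0,0,3,4,1,4,2,2,3,0,1,4,3,3,1,2,4,3,1,4,2,4,3,4,0,0,1,3,4,4,1,0,0,3,4,2,4,4,4,4,0,1,1,0,2,3,3,0,3,1,1,4,2,2,0,3,2,3,0,1,0,4,0,4,3,3,1,2,0,4,1,3,0,0,0,2,4],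
[0,0,2,0,3,0,0,0,0,0,0,1,2,3,1,2,3,3,1,3,3,3,0,2,0,2,1,2,4,4,3,1,0,1,1,4,0,2,0,3,2,4,4,2,2,2,1,1,2,3,2,4,1,1,1,1,1,3,4,3,4,1,2,3,1,2,4,1,1,1,0,1,1,4,2,1,4,0,1,1,4,4,4,3,4,0,2,3,4,1,3,2,1,3,2,0,3,3,4,3,4,1,2,4,0,0,1,2,1,0,0],
[0,0,0,4,2,0,0,0,0,0,0,2,1,4,3,4,2,1,3,3,2,3,4,2,3,1,0,4,4,0,1,4,0,3,2,3,0,2,1,1,4,2,4,1,2,3,3,2,1,1,1,1,3,1,0,4,1,2,1,4,0,0,3,2,2,1,3,3,0,0,4,0,3,0,2,3,0,3,3,1,1,4,3,4,1,3,3,2,0,2,4,2,4,4,4,2,4,2,4,1,3,1,3,1,0,0,4,0,1,0,0],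
[0,0,0,1,0,0,0,0,0,0,0,3,4,4,4,3,0,4,1,0,4,3,4,2,4,2,4,1,1,1,2,1,1,2,3,3,4,4,4,1,1,0,0,2,0,1,0,2,4,0,4,3,2,4,1,3,2,0,2,4,1,1,3,0,4,2,0,3,1,0,4,1,4,4,3,3,4,0,1,4,4,4,3,2,4,4,3,1,4,2,1,2,3,2,2,3,0,4,3,4,2,4,0,0,0,0,2,4,3,0,0],
[1,0,0,0,0,2,3,3,4,2,1,0,2,4,0,4,1,3,3,2,0,1,3,1,3,3,2,0,0,4,4,4,2,4,0,1,2,4,0,4,1,4,1,0,2,4,3,4,3,1,3,0,2,0,1,1,2,4,3,1,3,2,1,0,2,4,4,0,1,1,1,1,0,3,1,1,3,0,0,0,4,3,3,2,3,1,1,2,2,1,0,1,3,0,3,1,3,0,1,2,1,3,3,1,2,1,0,0,0,1,1],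
[0,4,0,0,0,0,1,1,0,0,1,1,0,0,4,0,0,4,3,3,3,0,0,3,0,2,1,4,3,0,0,0,1,3,4,4,3,3,4,0,0,2,1,4,3,4,4,4,0,1,2,0,0,3,1,4,1,0,1,0,0,1,1,2,0,2,1,1,3,1,4,1,1,1,1,2,0,0,4,3,0,4,2,2,2,1,3,4,4,3,3,1,2,2,4,0,4,2,2,1,0,1,3,4,2,1,0,0,0,2,0],
[2,1,0,3,1,3,0,3,1,2,4,1,1,2,0,4,2,2,4,4,1,2,4,2,2,2,3,1,1,1,1,4,4,4,2,1,4,0,2,4,1,4,1,1,0,0,1,2,1,1,3,4,1,3,2,3,3,1,4,3,2,1,1,2,4,3,3,2,1,3,3,0,3,3,4,2,1,3,1,2,4,2,2,0,3,3,3,0,2,2,1,0,3,1,3,0,4,2,4,1,4,3,0,4,0,2,0,0,4,0,3],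
[2,1,1,2,2,4,3,2,1,1,4,0,0,3,2,3,4,3,4,2,3,2,2,1,0,1,0,2,2,1,4,2,4,4,2,3,4,3,3,3,3,0,4,4,0,4,0,2,3,3,4,3,1,0,2,1,3,1,3,4,3,0,2,2,3,4,0,2,0,3,1,0,1,1,0,0,0,4,3,4,1,3,3,0,2,0,3,2,4,1,2,1,3,2,1,4,3,4,0,4,4,1,2,4,4,3,0,3,3,1,4],
[1,0,4,2,4,0,2,4,4,3,0,0,3,1,1,3,0,3,4,4,0,3,3,1,2,0,2,3,0,0,4,2,0,1,3,0,2,2,1,2,3,2,0,4,1,2,4,3,3,2,4,2,2,3,2,0,2,1,4,4,4,1,2,1,2,2,3,2,4,4,0,1,0,3,1,1,1,0,1,4,0,1,1,0,2,4,4,0,4,4,0,0,0,1,2,0,2,2,1,1,0,2,2,2,4,3,2,4,3,1,3],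
[3,1,1,2,3,4,3,2,2,0,1,1,0,1,4,2,3,2,1,4,1,4,4,2,3,4,0,3,2,3,4,3,4,1,1,1,3,2,3,4,1,4,0,2,2,4,3,0,3,1,4,2,1,2,4,0,0,1,2,2,4,0,4,2,4,0,1,4,3,2,4,4,3,0,2,2,4,1,3,2,1,3,0,0,1,1,1,0,3,0,0,0,1,1,0,2,4,2,4,4,4,2,3,3,1,2,3,0,1,2,3],
[2,2,0,0,4,0,2,1,2,0,2,0,0,1,2,3,4,4,4,1,0,1,3,2,2,0,3,2,2,0,0,2,0,0,0,1,4,3,3,2,1,1,3,3,1,4,3,2,0,4,3,1,3,1,0,1,0,2,3,4,0,3,4,2,2,0,4,3,0,0,0,4,2,2,4,2,4,1,1,2,3,0,2,2,0,3,2,0,1,1,3,2,2,1,2,1,0,0,0,0,3,3,0,4,3,2,1,3,1,1,4],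
[2,0,1,2,2,2,0,4,1,1,1,3,2,0,3,3,0,4,1,2,0,2,0,1,0,3,2,4,2,1,1,3,0,4,4,4,1,3,0,3,0,2,3,0,3,3,4,3,0,1,3,3,3,0,3,3,3,1,3,0,2,1,3,3,2,3,2,4,3,2,1,3,4,1,3,4,4,1,0,0,3,0,2,2,0,3,3,0,3,4,2,2,1,1,3,1,1,1,4,0,0,3,3,4,1,1,3,1,3,2,3],
[3,1,1,3,2,1,2,0,2,2,3,0,3,1,3,0,1,2,2,3,4,0,0,0,1,1,3,3,3,0,0,4,3,3,4,4,3,2,3,4,1,1,2,4,0,0,2,1,0,1,2,3,4,2,3,4,3,0,4,1,1,4,1,3,3,1,2,0,1,3,1,1,2,0,0,3,3,3,4,4,1,3,0,4,4,1,3,1,4,3,4,1,3,4,0,4,1,4,3,4,4,3,0,0,3,0,2,1,1,2,4],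
[0,0,4,0,1,1,1,1,2,2,3,1,0,2,0,4,2,1,2,1,3,3,4,1,0,1,4,4,1,4,1,4,0,0,0,1,4,3,0,4,2,4,2,0,3,2,0,4,4,1,2,4,3,0,0,2,4,3,1,4,2,3,3,3,0,2,2,1,4,1,2,1,0,4,0,3,3,1,0,0,3,4,2,4,2,4,3,4,2,0,2,2,0,0,0,1,4,4,1,0,2,0,4,2,2,4,1,0,2,4,2],
[1,4,1,2,3,4,3,0,4,0,4,3,4,3,4,2,1,3,0,0,1,0,3,2,2,1,1,3,3,1,2,4,0,4,2,2,4,0,4,0,4,4,4,1,2,0,4,2,0,2,1,3,1,1,3,2,1,4,1,2,3,1,0,4,3,3,1,1,2,3,0,4,4,2,4,4,3,1,1,3,2,4,1,1,2,4,2,4,3,4,0,2,1,2,2,4,2,4,4,0,1,1,4,1,3,3,0,1,3,1,3],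
[4,4,2,3,1,3,0,1,3,0,2,0,0,0,3,2,4,2,0,1,0,0,3,4,0,0,2,1,1,3,3,1,0,3,2,3,0,0,2,1,1,4,2,4,3,4,3,4,0,3,0,2,1,2,0,4,1,4,0,3,1,0,2,3,2,2,3,3,4,0,0,0,3,4,4,1,0,3,1,1,3,3,3,1,1,4,2,4,2,0,3,0,2,4,2,0,2,4,0,1,0,4,4,3,0,4,0,3,1,0,3],
[3,0,0,0,0,1,0,2,0,3,4,3,4,1,0,1,3,1,0,0,2,4,1,4,1,0,3,2,4,3,2,1,3,4,0,1,3,0,0,3,2,0,2,3,4,4,2,3,0,3,1,4,0,2,2,1,1,1,3,3,4,4,0,3,0,2,4,4,3,0,1,2,1,4,0,4,2,4,4,1,3,2,0,3,2,3,0,2,3,2,4,2,1,2,0,0,1,3,0,1,3,1,3,1,1,0,4,1,3,2,0],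
[3,3,2,0,2,0,1,4,2,1,0,2,1,3,3,4,3,4,0,3,3,4,2,2,4,4,4,2,3,0,3,1,2,2,0,3,2,0,4,1,4,4,2,3,3,3,4,1,2,0,4,1,2,2,3,3,2,1,3,1,1,1,1,2,4,4,2,1,2,2,4,4,1,1,1,1,0,3,0,1,4,4,2,2,4,1,4,1,2,2,0,1,2,2,0,3,1,3,2,3,0,1,3,3,3,1,2,4,1,3,3],
[0,0,4,4,2,0,4,4,4,3,2,3,0,0,3,1,4,0,4,4,3,3,2,1,1,4,1,4,1,3,1,3,3,2,2,3,3,3,3,4,3,3,2,4,4,4,4,1,2,0,3,4,4,1,3,0,1,2,1,3,1,1,1,1,3,1,1,2,4,4,3,3,3,4,0,1,2,3,0,3,0,4,4,0,3,2,0,0,3,2,4,0,4,0,2,4,0,2,2,1,3,1,3,4,0,2,2,4,4,2,0],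
[0,3,0,4,2,1,3,2,0,3,3,0,2,0,3,1,3,0,4,3,2,0,3,2,1,2,2,0,0,3,0,4,0,1,3,1,2,1,4,3,0,4,1,0,1,3,1,3,1,3,4,1,3,0,2,1,2,1,4,1,2,2,4,1,1,1,0,0,3,0,0,2,2,3,1,3,3,1,1,3,1,2,0,3,0,2,2,3,2,1,0,0,1,0,4,1,4,2,2,4,2,1,3,3,4,1,1,1,4,4,1],
[3,1,1,2,2,4,3,4,2,4,4,3,3,1,3,0,1,4,1,2,1,4,1,4,4,1,1,1,3,4,4,0,4,3,3,1,2,3,1,3,4,0,1,2,4,4,4,4,2,3,3,4,3,4,1,0,1,0,4,4,3,4,2,3,3,0,1,4,0,1,4,4,3,3,4,0,2,0,0,4,2,1,2,1,3,2,1,0,1,1,0,0,1,1,4,4,1,0,3,1,4,3,3,1,3,0,3,2,2,4,4],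
[3,0,4,4,0,0,2,2,3,3,3,2,0,3,0,2,1,1,1,0,2,4,3,0,0,0,1,1,4,3,1,0,0,1,1,4,0,3,3,0,0,1,3,3,4,1,3,2,4,1,3,2,3,3,0,4,4,3,1,2,4,4,2,0,4,1,3,2,2,4,0,0,0,0,4,3,1,2,3,2,4,4,1,4,3,2,1,3,4,3,0,4,0,0,1,4,3,0,2,4,3,3,3,3,4,3,1,2,1,1,4],
[4,3,4,0,3,1,1,0,3,3,4,1,3,2,1,0,4,2,2,0,1,2,0,2,1,1,3,2,3,1,1,0,4,4,3,2,2,3,4,1,0,3,1,2,4,3,2,3,4,3,3,3,1,3,2,0,2,1,0,4,0,0,3,0,0,0,4,2,1,1,3,2,2,0,4,0,1,1,1,1,3,2,1,1,3,3,1,3,0,1,2,1,0,1,3,0,1,1,3,3,0,2,4,0,0,0,3,2,3,0,1],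
[0,3,0,2,4,3,4,2,3,3,1,1,2,1,2,4,3,2,1,4,1,2,4,0,2,0,4,0,0,2,2,2,1,0,0,2,1,3,0,3,0,1,1,4,0,2,2,2,3,4,1,2,2,1,1,2,0,4,3,3,3,4,0,4,1,3,4,0,4,1,2,4,2,1,4,1,1,2,1,0,4,0,3,2,2,4,4,3,3,4,4,2,4,2,3,2,2,1,4,2,1,0,4,4,0,1,4,4,2,0,2],
[2,1,3,1,3,2,1,1,3,4,4,0,1,0,4,1,2,0,1,0,1,0,1,3,2,2,2,3,0,1,2,4,4,0,4,2,2,2,1,3,3,1,1,1,1,2,3,0,0,3,1,3,4,1,3,2,0,1,0,1,1,4,3,1,1,4,0,2,0,1,0,4,3,3,3,1,1,2,3,4,2,0,2,3,2,2,4,0,1,4,2,2,1,1,4,1,1,4,1,4,0,2,1,1,4,0,0,2,4,0,2],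
[3,1,0,0,3,3,2,4,1,3,2,1,3,1,2,3,3,0,4,2,2,0,4,3,1,2,3,1,1,0,2,3,4,2,0,4,2,2,4,3,0,4,0,4,2,4,4,1,2,2,0,2,4,3,3,0,0,2,2,2,0,2,3,1,2,4,0,2,1,1,3,3,0,3,0,4,4,2,4,3,1,0,1,1,0,0,2,3,1,3,1,2,2,0,2,4,1,1,4,4,0,1,4,1,2,3,1,3,2,2,2],
[1,1,2,2,3,4,3,2,1,1,0,2,3,4,3,2,1,1,2,1,1,1,0,2,2,3,0,2,0,1,3,2,0,4,0,3,3,0,3,4,1,3,4,0,1,2,2,0,4,2,4,0,3,3,0,3,3,0,3,1,0,3,0,1,2,3,1,2,4,0,2,4,3,2,1,1,2,4,4,0,3,3,0,3,4,1,0,1,3,2,0,2,1,0,3,3,1,3,3,0,3,4,1,0,2,1,2,3,1,3,2],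
[4,2,2,1,1,4,1,4,0,3,4,2,1,4,0,4,2,2,3,1,0,0,3,3,3,1,1,1,0,0,3,2,2,1,3,1,0,0,4,4,2,2,3,4,2,4,4,1,4,0,4,2,1,3,3,2,1,4,3,4,3,0,0,4,2,0,2,4,4,1,0,3,4,4,4,2,1,3,4,1,0,0,1,1,4,2,0,0,3,2,2,0,1,4,3,4,3,0,3,1,4,0,1,2,2,4,1,0,3,4,0],
[0,1,0,3,2,4,3,0,1,3,1,3,0,4,1,3,4,1,1,1,3,4,2,0,3,1,0,1,2,2,4,0,0,0,1,0,4,2,0,0,1,0,0,1,3,0,4,2,2,0,3,0,1,4,4,1,2,1,0,1,2,4,3,4,0,3,3,0,2,3,0,3,4,4,2,2,2,3,0,3,3,0,1,0,2,3,1,4,2,0,4,0,0,2,4,0,0,3,0,0,3,4,0,4,3,1,4,2,4,2,4],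
[4,3,4,1,3,3,0,0,3,2,4,1,1,3,3,4,0,4,4,3,4,1,1,2,1,1,1,3,2,2,4,1,0,0,4,4,2,3,0,4,2,4,0,2,2,2,3,1,0,4,4,3,4,1,2,3,2,1,1,0,0,1,0,0,4,0,4,1,3,4,3,2,4,4,2,0,2,0,2,1,1,1,2,0,2,1,4,3,0,0,1,2,1,0,1,1,1,1,1,2,0,4,4,3,0,0,3,0,1,2,0],
[4,1,1,1,0,2,4,1,3,2,4,0,2,0,0,4,0,1,4,1,2,1,4,0,2,0,1,0,4,4,0,4,4,1,4,3,4,3,1,4,2,2,1,4,1,4,2,1,1,3,2,4,4,1,0,0,2,2,4,4,2,4,4,4,0,3,2,4,1,1,4,0,3,3,2,1,2,0,3,0,1,3,0,0,3,2,1,3,1,4,4,4,4,4,1,3,4,3,2,4,2,0,4,0,4,3,2,0,4,4,2],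
[1,2,2,2,0,0,0,0,4,2,1,0,0,4,2,1,0,4,3,1,3,1,1,1,0,1,0,4,2,2,3,2,0,1,3,4,2,3,2,3,3,3,0,3,3,2,4,3,3,3,4,4,3,0,3,1,2,3,4,3,0,1,4,4,1,0,0,3,3,4,3,1,1,4,2,1,2,0,0,0,1,2,0,4,3,4,2,0,4,1,3,1,4,1,3,2,0,0,3,0,0,0,3,3,2,0,4,4,0,0,3],
[2,4,0,1,3,3,2,2,1,4,4,3,0,3,4,4,4,0,4,0,2,1,0,3,2,1,2,2,2,4,0,1,4,1,3,0,3,2,4,2,4,1,1,3,4,0,4,0,0,1,3,1,1,4,0,0,1,3,3,2,3,2,4,4,2,1,3,3,0,0,0,4,1,1,0,3,2,3,1,3,4,1,2,1,4,2,1,2,0,1,1,2,4,0,4,0,3,1,0,0,0,2,2,4,0,0,1,0,3,4,2],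
[4,3,1,1,1,1,0,2,3,2,0,1,3,4,3,0,3,1,2,2,0,3,0,3,3,4,4,2,1,3,3,0,2,0,0,0,0,4,0,0,4,0,0,3,0,1,1,1,3,3,1,4,4,4,4,4,3,4,3,4,0,3,1,3,0,3,3,3,1,0,4,2,4,3,0,2,3,1,3,1,2,1,1,4,0,4,4,2,4,2,2,2,4,4,4,1,2,0,1,2,2,2,0,2,4,4,3,0,4,1,0],
[0,2,0,4,1,4,2,3,3,2,4,3,0,1,1,1,3,4,3,1,4,0,3,3,1,4,2,2,0,0,2,0,3,0,3,2,2,1,2,2,0,0,4,1,3,4,2,2,2,2,2,0,4,4,1,3,2,4,2,1,3,4,2,0,4,3,1,4,3,0,4,0,3,3,2,2,0,1,1,4,4,4,2,2,3,0,1,2,1,1,1,0,0,4,1,3,3,4,0,4,0,3,2,0,4,2,2,0,1,2,2],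
[1,4,4,4,0,0,4,2,4,1,2,4,3,3,0,0,2,0,4,4,4,4,1,0,2,3,2,2,0,0,2,4,2,4,4,3,3,1,2,2,1,4,1,1,2,0,4,0,4,4,1,2,3,2,1,0,0,1,0,0,2,4,4,0,4,0,3,0,4,0,2,1,3,4,1,2,1,0,1,2,0,0,2,0,3,2,0,2,1,3,1,4,0,1,3,3,4,3,4,1,3,4,4,4,2,4,2,1,2,2,2],
[1,4,4,3,0,4,1,3,3,3,2,4,1,1,3,3,3,4,0,4,1,0,2,1,0,1,2,1,4,0,0,3,1,3,0,4,2,1,2,4,3,0,3,4,1,4,2,0,1,0,0,2,4,2,3,2,3,4,2,0,2,0,4,4,4,2,4,2,0,0,3,0,0,2,2,3,1,0,0,3,4,4,0,2,1,4,2,2,0,2,1,0,0,2,4,4,2,4,0,0,3,1,2,1,3,4,1,3,4,3,0],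
[0,3,4,2,3,3,3,2,2,4,3,1,3,3,4,0,4,4,2,2,4,4,4,0,0,3,0,3,4,4,2,2,2,4,1,0,0,1,4,4,3,0,3,4,0,4,3,2,4,1,4,0,1,2,4,3,2,4,4,2,2,0,3,3,2,3,1,2,4,2,4,1,0,1,4,4,4,2,4,1,4,4,4,0,3,2,0,2,2,0,0,2,0,1,3,0,3,3,3,0,4,4,4,0,2,2,0,3,0,2,3],
[1,0,2,3,4,0,0,4,0,2,1,0,0,2,2,2,1,1,0,2,0,0,0,3,3,0,1,2,3,2,0,3,1,3,1,1,3,0,1,4,3,0,4,0,3,2,1,1,2,0,3,4,3,1,3,0,0,1,0,1,4,1,2,2,4,2,1,1,3,0,1,2,4,2,3,4,3,1,1,3,0,4,1,3,3,4,3,1,0,0,3,0,4,0,2,1,3,4,0,1,4,1,2,3,1,0,4,3,0,0,0],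
[3,2,0,4,2,2,3,4,2,1,3,2,0,1,2,0,0,3,4,0,4,2,4,3,0,3,4,4,3,3,0,4,3,2,1,2,2,3,0,1,0,4,4,1,4,1,3,3,2,3,0,4,2,4,2,1,4,1,0,0,1,0,1,1,0,1,0,0,3,3,0,1,0,2,1,3,0,0,2,2,0,4,3,3,2,1,1,0,0,2,3,1,0,1,1,2,4,2,1,1,4,4,3,3,0,3,2,0,2,3,3],
[4,3,4,1,2,0,3,3,1,2,0,0,2,0,2,2,4,3,4,4,1,0,4,4,3,2,0,2,4,3,1,1,1,1,2,3,0,2,2,4,2,2,3,0,2,1,1,3,2,0,3,0,4,0,1,2,3,4,2,1,2,0,4,2,4,1,0,2,1,1,1,4,2,1,0,3,4,0,0,1,4,3,2,3,4,2,0,1,1,0,1,3,2,2,0,3,0,0,3,2,0,4,1,1,2,0,1,2,3,2,1],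
[4,3,1,2,4,1,0,0,4,4,2,0,3,2,4,0,3,1,2,0,3,4,2,0,3,3,4,3,0,3,4,3,1,2,1,2,1,3,4,4,1,0,4,3,4,3,2,0,3,2,1,4,1,1,4,3,2,3,0,3,4,0,0,4,1,1,3,2,4,0,2,3,3,1,4,4,0,3,3,3,0,2,4,4,1,1,1,2,0,3,1,1,1,3,4,1,2,3,3,2,4,4,2,1,3,4,3,0,4,1,3],
[2,3,4,3,2,2,0,1,0,2,3,0,2,1,4,1,4,3,0,3,0,1,1,1,4,4,4,4,3,4,2,4,2,0,0,2,1,1,3,1,3,0,3,2,4,2,4,0,3,2,1,1,1,3,0,4,1,4,4,3,4,4,4,2,1,2,1,3,1,3,1,2,2,2,4,3,1,0,0,3,2,0,1,3,0,0,4,1,0,3,0,4,4,1,1,0,4,0,0,1,3,1,0,4,1,0,4,0,0,2,0],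
[3,4,3,3,4,0,3,4,1,2,4,2,0,0,2,4,4,3,2,2,0,4,0,4,3,0,4,2,3,4,0,0,4,2,1,0,4,0,2,0,2,4,2,4,1,4,0,0,3,3,3,3,0,3,2,2,4,2,1,0,4,3,4,1,1,4,2,3,0,3,0,3,0,4,0,2,3,0,2,1,3,4,2,2,1,2,1,3,3,3,4,3,1,4,0,3,0,3,1,3,4,0,0,3,0,4,1,0,2,0,1],
[2,2,4,3,3,0,3,4,0,4,3,1,4,2,4,2,4,4,1,4,3,4,0,4,3,4,1,4,3,4,0,3,4,4,0,3,4,3,0,1,2,4,1,0,1,4,1,2,1,4,4,2,4,4,1,3,2,2,2,2,1,1,2,0,3,0,1,0,2,4,3,2,4,4,3,2,0,1,0,4,0,4,3,0,0,0,3,2,0,3,2,4,2,1,4,1,1,0,2,4,4,3,3,1,3,1,4,4,3,2,0],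
[4,0,1,3,2,0,4,4,1,4,3,2,3,0,4,1,4,1,0,3,3,4,1,3,0,2,0,4,3,2,2,2,2,3,4,2,3,3,0,2,2,0,2,3,4,3,0,0,1,3,2,4,1,0,1,4,1,0,2,3,2,1,2,1,0,3,3,3,3,0,4,0,3,2,0,1,4,1,2,0,0,1,4,1,4,0,4,1,3,2,3,2,3,1,0,0,2,0,0,3,2,2,4,4,2,3,3,0,1,1,0],
[4,1,1,2,1,3,4,2,2,2,1,1,4,4,4,3,1,1,0,1,0,3,0,2,4,4,2,3,4,4,1,0,3,2,4,0,4,3,0,0,1,4,3,3,1,2,2,4,3,1,4,2,0,2,3,1,0,0,2,3,1,1,1,3,0,0,4,1,4,4,1,4,0,0,1,2,4,1,2,1,1,2,1,3,1,1,2,2,3,0,3,2,3,0,3,3,4,4,4,4,3,0,0,2,3,0,1,1,2,2,0],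
[2,4,2,4,2,0,2,0,2,3,1,1,0,1,2,2,0,2,4,4,3,0,4,3,4,1,3,1,3,3,2,4,1,2,3,1,0,3,1,3,3,0,0,4,0,2,1,4,1,2,4,4,2,1,4,3,1,1,2,2,3,3,0,2,3,1,4,4,2,4,2,0,2,4,2,1,4,2,2,4,0,0,3,1,0,4,4,4,2,0,3,2,3,3,3,3,2,1,1,4,3,4,1,3,1,2,4,1,3,0,3],
[1,0,4,4,1,2,0,3,0,0,2,1,0,3,1,1,2,1,1,3,0,1,0,4,2,2,2,2,2,0,2,4,4,0,0,1,2,2,1,1,0,0,1,4,4,4,0,4,4,2,0,4,0,3,0,1,4,3,1,4,1,0,1,1,1,4,1,1,1,0,1,1,1,3,3,3,4,0,2,0,1,3,1,0,3,2,1,0,2,0,3,0,0,0,1,0,4,3,4,2,4,3,4,4,2,2,4,0,3,3,2],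
[4,4,1,4,4,3,0,2,1,2,3,1,3,2,0,3,3,4,2,3,2,2,0,0,1,4,0,4,3,0,1,3,2,1,2,2,3,3,4,2,2,0,4,0,3,2,4,4,4,1,0,1,2,1,4,0,1,0,3,1,2,3,0,3,4,2,3,0,2,2,1,0,4,1,1,4,2,1,3,2,3,4,4,2,0,0,3,1,0,1,0,0,1,4,0,4,2,2,2,1,3,2,4,0,0,0,2,1,2,2,0],
[3,3,1,4,2,4,1,4,2,2,2,2,3,4,0,3,2,3,3,2,2,1,2,3,0,3,2,0,1,1,3,1,2,3,0,2,0,0,1,2,1,3,2,2,3,2,4,0,2,1,4,2,1,1,1,1,1,0,3,2,4,3,4,2,3,3,3,3,4,4,4,1,4,3,4,0,2,4,1,3,2,4,4,4,2,4,1,4,0,1,1,0,2,4,4,3,3,2,0,1,0,2,4,2,1,3,2,3,3,0,4],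
[4,0,1,4,4,2,4,1,2,1,2,4,3,4,0,4,4,1,0,2,1,4,2,2,4,1,4,1,3,2,1,3,2,2,0,1,2,1,2,1,1,3,2,4,2,4,4,4,2,3,1,4,2,0,0,0,1,4,3,0,3,0,3,1,2,3,4,0,0,3,3,2,0,0,2,1,2,0,0,0,0,4,4,2,0,0,1,4,1,3,0,3,0,4,0,3,3,4,2,1,1,1,2,0,2,4,2,3,4,3,4],
[4,4,0,4,0,2,0,4,2,4,1,2,3,1,1,4,0,2,0,4,1,0,1,4,4,3,4,0,0,4,2,0,3,4,0,4,3,4,1,3,2,4,4,2,3,4,3,1,1,0,2,2,0,2,3,1,0,1,2,1,1,1,1,4,1,3,2,1,0,2,0,1,0,1,4,0,3,4,2,1,1,3,2,0,1,2,2,4,3,2,1,3,1,2,4,0,4,3,3,0,1,1,3,0,3,4,1,1,3,4,4],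
[2,0,2,3,2,4,1,1,2,3,2,3,4,4,4,0,3,3,0,3,2,4,4,2,1,4,3,0,0,3,4,1,1,2,2,3,4,1,1,3,1,3,4,0,0,1,3,3,2,1,0,0,2,0,3,0,4,1,0,4,1,0,4,4,4,3,3,3,3,1,2,4,0,0,3,1,2,2,2,0,1,2,1,1,1,4,1,4,3,0,0,0,0,1,0,1,0,2,1,3,2,4,2,2,2,4,0,0,4,3,2],
[1,3,2,3,0,4,1,4,1,1,1,1,1,2,1,2,1,0,1,2,4,3,4,2,0,2,2,4,0,4,2,2,4,1,0,3,3,1,2,1,3,1,1,2,3,1,4,2,3,2,2,2,1,4,3,1,3,4,1,4,3,0,0,0,2,0,0,0,3,0,3,1,2,0,4,4,1,4,4,4,4,1,3,4,4,2,3,0,4,3,1,4,3,0,2,1,3,4,4,4,3,1,4,0,4,3,1,4,1,2,1],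
[4,0,1,0,2,2,4,2,0,4,4,3,4,2,3,2,2,3,3,2,2,1,3,3,4,4,0,3,2,0,2,1,4,3,1,0,4,3,2,4,2,1,3,2,4,0,2,2,3,1,3,2,1,1,4,0,1,4,0,0,4,2,2,0,2,0,3,0,2,3,4,1,0,2,4,0,2,0,2,3,3,0,2,0,0,1,4,2,4,2,2,2,0,2,4,2,1,1,4,0,4,0,4,1,0,1,0,2,4,1,4],
[3,4,2,2,4,3,4,4,1,1,1,0,3,4,2,2,3,2,4,3,2,2,4,4,0,1,0,4,2,2,1,3,0,4,0,2,3,4,1,1,4,0,1,0,4,0,3,0,0,0,2,3,3,4,0,1,3,3,3,1,1,0,2,4,0,2,0,4,2,4,3,0,1,0,3,1,4,1,2,1,3,0,1,4,1,4,2,3,0,0,4,3,2,1,2,1,1,1,2,3,3,0,4,4,2,2,0,1,2,3,0],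
[3,1,3,3,4,3,2,2,0,1,1,4,4,0,3,2,0,3,3,4,3,2,2,4,1,4,1,2,2,2,2,3,2,1,0,3,0,2,2,1,1,3,4,4,2,2,0,0,2,0,3,0,4,4,4,3,0,3,1,3,4,2,4,2,3,0,1,4,2,4,2,1,1,2,3,4,0,3,1,1,2,3,4,2,2,3,1,1,4,1,1,2,4,4,2,1,3,1,2,2,1,4,2,1,1,1,2,1,0,1,4],
[4,1,3,0,0,4,1,4,0,3,1,2,0,0,2,2,2,3,0,4,2,4,4,1,0,4,3,3,1,4,2,2,1,1,4,0,0,1,0,0,2,4,0,1,4,4,4,0,1,1,2,0,4,0,3,1,2,0,0,0,3,3,0,4,1,0,0,2,2,3,1,4,3,3,2,4,3,4,1,0,3,3,1,1,4,1,3,2,0,2,3,2,1,3,3,1,0,2,0,2,0,3,1,4,1,3,4,0,2,4,3],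
[0,3,2,4,4,1,0,0,2,3,3,3,1,0,1,1,3,4,1,3,1,2,3,3,0,3,0,2,3,4,2,0,3,1,4,2,4,1,0,2,2,0,2,4,3,3,1,0,1,2,1,0,1,4,3,2,4,4,4,1,3,1,3,1,2,4,2,2,2,4,3,4,0,4,1,3,3,2,0,1,0,2,4,2,2,0,1,0,3,3,4,1,4,0,2,4,4,4,0,3,4,4,0,3,0,4,4,2,0,0,3],
[3,0,1,4,3,1,3,3,1,3,3,0,1,0,4,2,2,4,2,4,2,0,3,0,0,2,3,1,0,4,1,4,0,2,1,1,1,0,3,4,4,1,3,1,1,1,3,0,4,0,1,4,1,4,0,1,2,2,4,0,3,2,3,1,1,0,1,2,0,1,2,3,2,0,1,4,0,2,1,0,3,4,3,4,4,2,2,0,1,4,1,0,4,0,1,1,4,4,1,2,2,1,4,0,3,3,4,0,0,2,0],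
[2,1,1,2,4,1,2,2,3,3,2,1,3,1,2,4,3,0,4,4,4,2,4,4,3,1,4,3,1,0,2,2,0,2,3,3,0,0,3,0,3,3,2,1,4,0,0,3,4,1,3,0,0,1,1,4,2,3,0,2,4,2,3,3,0,3,2,3,0,0,4,3,3,2,0,2,1,1,1,2,1,3,3,4,1,4,4,1,2,0,2,0,3,3,4,2,4,1,3,0,3,4,0,2,2,2,4,3,0,3,0],
[2,4,1,3,1,4,2,0,0,3,0,4,3,3,0,0,3,1,4,2,2,2,2,4,2,1,1,3,0,2,2,1,3,1,4,1,2,2,1,4,0,3,4,3,2,0,2,3,3,0,0,2,3,3,4,2,3,0,1,2,2,4,4,4,2,3,3,0,3,2,0,0,3,2,3,4,4,2,4,0,2,4,2,3,2,4,0,1,1,2,2,2,4,0,0,3,3,0,0,3,1,2,4,0,0,2,3,4,4,0,1],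
[2,2,2,2,4,1,3,4,2,1,3,0,2,1,2,2,4,0,3,3,1,0,0,0,4,4,1,1,2,0,3,0,0,2,3,0,1,4,3,4,2,1,0,4,4,0,4,1,0,0,2,4,4,1,2,4,2,3,0,4,1,0,4,0,0,1,4,0,2,1,0,3,0,4,1,3,1,2,2,1,4,4,0,1,2,3,4,0,0,0,4,4,0,3,0,4,0,1,0,2,3,0,2,1,3,4,0,1,0,2,1],
[3,4,4,1,0,3,4,4,1,0,0,0,0,2,0,4,3,2,1,2,4,1,3,0,3,1,3,3,2,3,4,0,1,1,2,2,4,3,2,2,3,1,2,3,4,1,4,3,1,4,1,3,1,1,3,0,4,3,1,3,4,2,3,1,2,3,3,1,2,4,2,2,4,2,3,3,1,2,3,3,1,2,2,0,1,2,4,0,0,1,4,1,2,2,4,3,3,1,2,4,0,0,1,2,2,3,0,1,1,4,1],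
[3,1,2,0,2,2,3,4,1,2,2,4,3,3,2,2,4,3,1,0,1,3,2,0,4,2,1,1,3,0,1,1,2,3,4,3,2,0,3,2,4,0,0,4,2,4,4,1,1,4,0,2,1,0,4,0,2,3,4,1,2,0,3,3,0,3,4,0,2,1,2,2,0,3,0,2,1,3,1,4,3,2,4,3,2,1,2,3,4,1,4,2,3,0,2,0,4,0,2,4,1,0,4,2,2,2,3,4,4,3,2],
[3,3,4,3,0,1,3,0,0,0,0,3,3,0,0,3,2,4,4,3,0,0,3,2,3,3,2,0,4,3,4,1,4,1,2,4,1,4,3,0,1,3,4,3,3,4,4,4,1,2,0,2,3,4,4,3,4,2,2,1,3,3,0,3,1,1,4,2,2,4,0,3,1,2,4,2,0,4,3,3,3,4,3,2,3,4,1,0,1,1,1,0,2,4,1,2,0,3,4,4,3,1,3,2,3,2,4,3,2,3,2],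
[1,1,4,2,0,0,1,4,4,3,1,4,0,0,1,0,3,2,2,3,0,1,0,0,3,0,2,1,0,3,2,1,0,4,1,4,0,0,2,1,3,4,1,1,0,0,0,1,3,2,0,1,0,3,1,3,3,4,4,2,1,3,2,1,4,2,4,4,3,1,1,4,3,1,2,4,1,1,3,4,2,3,0,2,3,3,1,3,3,3,2,3,3,1,2,2,2,2,0,1,3,0,4,2,1,3,2,2,0,2,1],
[2,3,1,1,1,4,3,3,1,0,3,1,2,1,0,4,0,1,1,3,3,1,1,4,4,2,4,2,4,4,3,0,1,4,1,1,2,0,0,2,1,0,0,2,4,3,2,2,1,3,4,2,1,1,4,0,4,2,0,2,2,0,0,0,2,4,3,2,4,0,4,1,4,4,3,2,1,2,3,2,0,4,2,3,4,1,3,3,0,4,4,4,4,3,2,1,0,1,0,3,4,4,3,2,1,4,2,2,3,3,1],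
[1,2,2,1,1,2,4,4,0,4,3,4,3,0,0,2,4,1,3,0,1,3,3,0,3,1,1,3,2,3,2,2,1,2,1,3,0,4,0,2,2,0,2,4,0,1,1,1,4,2,1,2,1,4,1,1,3,3,3,4,0,4,2,1,2,0,0,1,2,0,4,0,3,0,3,0,0,2,4,4,4,4,2,4,1,4,3,2,1,1,1,0,4,4,4,0,1,4,0,4,3,1,0,4,4,0,2,1,1,2,3],
[3,0,3,4,0,2,2,4,2,1,4,2,1,3,1,2,0,4,2,1,0,4,1,3,4,1,1,3,3,1,1,0,1,2,2,0,3,4,0,4,0,3,1,1,3,0,2,3,1,4,4,4,4,3,1,0,2,3,0,2,3,3,0,1,1,4,4,0,1,4,2,2,1,1,4,0,2,4,0,2,0,3,4,0,3,3,3,3,2,1,2,1,4,3,0,0,0,1,3,0,2,4,0,4,0,4,0,4,2,4,0],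
[3,2,2,4,2,2,3,0,0,4,4,2,2,3,4,3,1,3,4,0,0,4,2,1,1,0,4,2,2,4,2,4,0,1,3,2,2,3,0,4,4,1,3,2,1,2,3,2,3,0,3,1,4,3,0,2,0,0,4,4,3,3,4,2,4,2,0,2,3,2,1,3,1,1,0,1,0,3,1,4,1,2,4,4,1,4,1,4,1,2,0,1,3,4,1,2,3,0,4,4,3,4,4,3,2,4,1,0,4,4,1],
[2,1,2,1,1,3,1,4,3,3,3,0,1,1,1,4,4,4,2,1,3,2,0,0,0,1,1,0,4,2,3,0,3,0,1,4,2,3,2,1,2,3,3,4,0,2,1,1,1,0,0,2,4,1,2,1,4,3,4,4,3,1,1,4,4,0,4,2,2,2,4,2,1,4,3,4,0,4,2,3,3,0,2,2,2,2,4,4,0,3,2,1,4,4,3,0,2,4,0,4,0,1,1,3,1,1,4,3,0,3,3],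
[4,3,0,4,0,2,3,1,4,0,1,1,2,0,1,4,2,3,1,2,3,0,3,2,2,3,3,1,1,1,1,2,3,1,0,3,1,4,3,1,2,1,2,0,1,3,2,3,0,3,1,0,3,1,4,4,4,2,2,1,0,4,4,4,0,0,1,2,3,1,1,4,1,1,0,0,1,1,4,4,2,1,4,3,0,1,3,1,4,0,4,4,1,2,3,1,2,1,4,4,2,4,0,0,0,4,3,4,4,1,0],
[3,2,2,4,0,1,1,4,1,1,3,0,0,0,2,2,1,3,1,4,4,3,2,0,3,3,3,4,0,0,1,1,3,4,3,3,3,2,1,2,1,3,3,0,4,4,3,1,4,1,4,1,3,2,0,3,3,3,1,1,4,3,0,1,0,0,0,0,0,2,1,0,4,4,4,2,4,1,2,1,1,3,1,1,0,3,3,1,4,2,1,1,2,1,3,1,2,4,3,1,0,1,4,4,4,1,1,4,0,2,3],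
[1,1,1,0,4,3,2,4,1,4,2,1,4,0,0,2,1,1,1,4,0,0,3,4,4,2,2,4,3,0,2,1,0,1,3,2,4,2,2,4,1,3,3,2,4,3,2,2,4,4,1,1,2,1,4,4,2,4,3,4,4,2,1,2,1,2,1,3,4,2,3,3,0,3,3,1,3,0,3,0,0,2,4,3,1,1,3,4,2,2,2,4,1,0,3,4,4,0,1,2,3,2,0,2,4,1,0,2,3,3,0],
[0,2,3,3,3,2,1,4,4,2,1,0,4,4,1,0,1,0,2,1,2,4,0,2,1,1,3,2,0,3,4,4,1,1,4,3,0,4,3,1,0,0,3,4,0,2,1,4,4,1,1,0,4,3,3,4,2,4,0,0,4,1,3,1,1,3,3,4,4,0,3,4,3,4,3,2,0,4,0,2,1,3,0,0,3,1,1,0,1,2,0,1,3,2,0,4,4,1,3,4,0,1,1,3,4,4,4,1,1,2,1],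
[0,2,3,3,0,4,2,2,4,4,4,4,1,4,1,3,1,1,1,1,0,2,1,3,0,0,4,0,4,4,4,4,3,0,0,0,0,3,3,1,0,3,0,0,3,4,3,0,0,0,3,1,2,1,2,4,4,1,1,4,3,4,1,4,2,4,2,2,2,0,1,2,0,2,3,4,2,1,1,1,1,3,0,3,4,4,3,4,3,2,2,1,4,3,2,2,0,2,3,4,4,2,0,1,0,3,4,2,0,3,3],
[4,4,4,2,0,4,3,4,0,3,2,4,0,1,3,1,1,4,4,3,4,3,1,2,0,3,4,2,3,3,4,3,0,2,1,4,4,1,3,3,1,3,2,3,3,0,0,1,1,0,0,2,3,3,3,2,2,4,3,0,1,2,4,3,1,0,3,3,1,0,0,4,3,4,4,4,3,1,3,0,0,2,2,3,0,4,3,3,4,2,1,3,4,1,1,3,2,1,0,0,0,2,4,1,1,1,0,3,3,1,2],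
[3,4,0,0,1,1,1,4,3,3,1,4,3,0,4,1,3,1,2,3,0,3,3,0,2,2,1,3,2,4,4,4,4,0,3,1,2,0,3,4,0,0,4,3,3,0,4,2,2,3,2,1,3,4,4,3,3,3,0,2,3,4,2,4,3,0,1,3,1,3,2,0,2,1,2,4,3,4,3,2,3,0,0,2,0,2,4,2,2,1,3,3,3,1,3,4,0,4,4,1,3,0,4,1,0,1,3,4,1,3,1],
[3,4,0,2,4,0,0,2,1,0,1,1,1,2,3,2,1,2,2,3,3,4,1,2,4,3,3,1,3,1,2,2,4,0,1,3,4,0,0,4,4,2,1,1,3,1,4,0,0,0,0,0,2,2,0,0,3,0,0,4,0,3,2,1,3,3,3,4,4,3,0,2,1,3,1,1,0,1,2,3,1,2,1,0,0,2,4,4,1,2,0,2,4,0,2,3,4,2,3,2,1,1,3,4,4,3,2,1,3,4,3],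
[3,2,0,0,1,1,3,1,0,4,0,3,4,2,1,4,3,2,2,4,3,2,1,2,3,2,2,3,4,2,0,1,2,1,2,1,0,1,2,4,2,1,3,4,0,0,4,2,4,3,1,1,2,4,2,0,1,0,0,1,4,4,2,4,1,1,0,4,1,3,0,0,0,0,2,1,1,1,0,1,1,1,2,3,4,4,4,1,4,1,2,3,4,4,3,3,2,3,4,4,0,3,3,0,2,2,0,1,2,0,0],
[2,2,1,0,3,1,0,4,1,4,1,3,0,4,0,1,4,2,1,4,2,0,2,0,4,2,2,0,4,2,4,1,3,4,2,0,0,3,2,2,1,0,1,4,2,0,3,3,0,3,4,3,0,1,0,2,2,0,4,0,3,4,3,2,4,1,1,0,4,3,0,4,0,1,0,0,2,2,0,3,0,1,4,3,2,1,4,3,2,4,1,1,1,1,2,0,0,0,1,0,0,1,3,3,1,2,0,4,3,0,2],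
[4,1,3,2,2,2,0,4,3,2,3,2,2,3,4,3,0,3,1,1,2,0,4,1,2,0,2,4,3,3,4,3,0,3,4,0,1,2,0,2,2,2,2,0,3,2,3,3,3,4,1,3,4,3,4,1,4,3,0,0,3,0,4,1,3,1,3,0,0,4,2,3,0,4,2,3,1,0,0,2,3,1,2,0,1,1,1,2,3,3,1,2,0,3,0,0,4,0,4,0,4,4,0,0,2,0,2,0,3,1,2],
[1,0,4,3,2,2,1,4,4,2,3,3,1,3,0,0,2,4,1,0,1,1,0,1,3,4,0,0,3,1,2,2,1,3,3,0,3,3,0,0,0,3,4,1,4,4,4,3,0,3,3,0,4,4,3,1,0,3,3,0,3,0,0,1,1,0,3,2,2,2,1,4,2,2,0,3,2,1,2,3,4,4,3,4,2,1,3,4,0,0,1,4,2,2,4,0,4,0,3,4,1,2,4,0,0,2,1,4,4,4,2],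
[1,3,3,1,3,1,0,2,2,0,2,4,4,4,3,2,3,3,4,0,0,1,1,2,0,2,3,0,0,2,1,4,3,1,2,4,0,3,0,4,2,4,3,3,4,1,1,2,1,0,2,1,0,3,4,3,1,1,2,1,0,2,4,2,2,1,1,0,2,2,4,4,1,4,1,1,0,1,1,4,4,3,3,1,4,3,0,3,3,3,3,3,3,1,2,4,4,2,1,3,4,2,2,4,0,1,3,0,3,0,0],
[4,0,2,4,3,1,2,4,3,4,4,1,4,4,1,1,4,2,2,1,1,0,3,4,4,4,4,1,3,4,4,4,1,4,2,2,4,0,4,4,3,2,4,2,3,2,0,2,3,2,1,1,2,4,4,3,0,2,0,4,2,3,3,4,3,2,3,3,3,4,2,3,1,4,4,0,4,2,1,4,4,0,4,0,3,4,0,3,3,1,0,1,1,0,1,1,1,4,0,4,4,3,4,0,3,3,4,2,1,1,0],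
[2,2,0,3,4,0,3,2,1,1,0,0,0,4,1,1,0,2,4,2,1,3,2,3,0,4,2,3,3,2,4,2,4,1,0,3,1,1,2,4,2,1,2,2,2,4,0,1,2,3,0,2,4,4,1,3,3,0,4,3,4,3,0,2,0,4,3,2,0,0,0,3,0,3,4,4,2,4,0,0,3,1,2,2,4,1,2,4,4,1,0,3,4,1,4,0,3,3,1,1,1,3,2,3,0,3,3,3,2,4,4],
[4,4,4,2,1,4,2,2,3,1,4,4,2,3,2,4,4,2,2,3,0,1,0,4,1,4,4,2,0,4,3,1,4,3,0,4,0,4,4,4,0,1,4,2,3,3,4,3,2,4,3,4,2,0,2,2,2,0,1,3,0,3,3,3,3,0,0,2,0,3,2,3,4,3,1,1,0,1,3,2,2,0,1,2,3,3,4,0,2,4,4,0,3,2,0,1,1,1,4,0,0,3,4,2,2,4,2,0,1,0,1],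
[3,4,4,4,3,3,3,2,2,2,4,0,2,3,3,4,2,3,2,3,4,1,0,1,4,0,3,0,1,0,3,3,0,0,2,0,0,2,0,2,4,3,1,4,1,4,2,2,4,1,0,4,3,2,1,0,2,1,3,3,0,2,2,0,3,1,0,2,2,2,1,4,3,4,3,1,0,2,4,0,0,4,0,0,1,1,1,0,4,4,3,1,0,4,4,3,3,0,0,0,3,4,4,4,4,0,1,0,1,1,4],
[4,3,3,1,0,4,1,1,2,1,1,4,4,2,1,4,4,1,3,0,4,4,3,3,3,2,2,4,3,1,1,0,3,3,1,1,4,0,0,2,4,2,2,0,0,0,0,3,3,3,3,0,3,2,1,3,1,4,3,0,2,0,0,4,0,2,3,3,2,3,2,4,4,2,0,4,4,4,4,0,4,4,0,1,4,1,0,4,0,2,1,3,1,2,0,0,4,0,3,2,3,4,3,3,1,1,4,3,2,2,1],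
[3,1,2,1,1,2,2,4,4,0,3,2,1,4,1,2,3,1,0,3,0,1,0,3,4,0,2,3,2,2,3,4,3,3,0,4,2,4,1,1,1,0,2,2,4,2,1,1,1,1,1,3,4,2,1,3,2,2,2,4,4,3,0,4,0,3,3,2,4,3,4,4,2,0,2,2,0,0,2,0,4,3,3,0,1,1,0,0,3,0,3,1,0,2,1,4,0,0,4,2,3,0,2,1,4,0,0,2,3,0,3],
[0,0,0,0,1,1,1,1,3,0,4,1,1,1,0,1,4,1,1,1,4,4,2,4,3,1,4,0,1,4,4,1,2,3,0,2,2,3,1,3,0,0,2,1,2,4,4,1,2,3,4,0,0,1,2,1,1,3,1,2,3,3,3,0,4,4,2,4,1,3,2,4,1,2,3,1,0,2,1,1,1,4,4,2,3,3,2,3,4,3,3,4,4,2,4,4,1,1,3,1,1,0,4,3,2,1,0,2,0,3,3],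
[3,3,2,3,1,3,4,2,3,3,2,3,3,2,2,3,0,0,3,3,4,2,2,1,1,4,2,3,3,2,4,2,4,1,1,4,0,0,4,4,2,3,3,1,2,2,1,3,3,1,0,4,3,4,0,3,4,4,2,4,0,2,1,3,2,4,2,0,2,4,2,3,2,1,3,3,4,2,2,3,4,4,0,4,3,4,2,0,4,4,4,1,2,2,3,3,3,3,3,0,0,0,0,0,3,3,3,2,2,2,4],
[3,1,2,1,1,2,3,2,0,4,0,1,4,0,4,1,1,1,1,2,1,0,0,2,0,3,1,2,4,4,4,1,1,1,0,2,1,1,3,4,4,1,2,2,2,4,4,4,3,1,0,3,1,0,3,2,0,3,4,4,2,3,0,3,4,3,4,3,1,4,0,2,3,4,0,4,4,2,0,0,4,2,1,2,2,0,1,3,1,4,0,0,0,1,4,4,2,1,0,2,3,4,2,0,1,2,3,0,1,2,2],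
[3,1,1,3,4,4,0,4,3,0,0,3,2,1,4,3,1,3,2,1,1,0,0,0,2,0,1,1,2,0,0,2,3,0,3,2,4,1,4,4,1,4,3,0,3,4,1,0,4,0,3,0,4,2,4,3,2,4,2,0,1,4,0,1,3,1,4,2,2,3,0,4,0,0,3,3,4,1,0,0,3,4,1,0,4,1,0,3,2,4,3,1,4,1,4,1,0,4,0,1,1,2,2,3,1,4,1,1,1,3,2],
[3,1,1,4,2,1,0,0,4,4,3,2,1,4,3,2,4,4,0,0,2,2,3,4,2,4,4,1,0,2,4,1,3,1,3,0,1,0,4,2,0,3,1,3,3,1,3,3,3,4,1,3,4,3,3,4,2,0,3,4,4,3,1,1,4,2,3,1,4,1,2,2,1,1,4,3,3,2,3,2,4,2,4,3,3,3,0,4,0,3,3,2,1,4,3,4,0,0,3,4,1,3,0,2,4,2,0,1,4,1,0],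
[4,3,0,1,2,2,0,1,3,0,1,2,4,0,0,4,1,1,2,3,2,0,4,4,1,3,1,2,4,1,2,0,0,0,2,3,1,3,1,0,1,2,4,3,2,3,0,4,0,2,0,2,2,3,0,2,1,4,4,1,1,3,4,0,0,3,0,1,1,3,3,0,1,0,0,4,4,2,0,4,1,0,0,2,3,0,4,4,3,2,0,2,0,0,0,4,3,0,3,1,0,1,1,0,1,4,0,0,1,3,3],
[1,4,3,3,3,4,4,4,3,3,2,0,3,1,0,0,2,2,3,1,2,4,0,4,3,2,4,2,3,2,0,3,3,4,1,2,3,3,0,1,1,2,3,1,0,1,3,1,0,4,1,4,2,1,4,3,4,3,2,2,0,0,4,0,1,1,4,4,1,3,2,0,0,0,1,4,4,0,0,4,3,2,2,2,2,1,4,1,0,1,4,1,2,0,1,2,1,0,3,3,1,0,1,2,1,2,3,3,3,4,0],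
[0,4,0,3,4,2,3,3,1,4,0,3,4,4,1,4,1,4,4,4,2,2,3,1,4,4,3,3,1,1,2,4,3,4,4,4,2,3,0,3,4,1,2,2,2,1,1,0,4,1,1,2,3,2,3,2,1,1,3,2,4,1,0,3,0,2,4,1,4,2,0,4,4,2,0,3,2,4,1,3,4,3,2,3,2,0,4,0,3,3,3,3,2,1,1,3,0,3,3,4,1,4,3,0,2,4,4,1,2,2,3],
[0,2,0,2,1,4,0,0,0,4,4,3,2,2,2,0,2,2,4,4,4,2,1,0,4,3,4,1,3,0,2,2,0,2,1,2,0,1,1,1,0,4,1,1,0,0,4,2,0,2,0,2,2,0,0,2,0,1,0,4,1,3,3,2,0,1,2,2,3,0,1,3,1,1,0,2,1,3,4,4,0,4,1,4,0,0,3,3,2,0,1,4,4,2,0,1,2,1,4,3,2,2,2,4,3,0,1,1,2,3,2],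
[1,2,0,3,2,4,4,3,1,3,3,0,0,2,0,1,2,1,0,3,4,2,2,2,3,4,1,2,2,1,2,2,0,0,1,2,3,3,0,2,2,2,3,1,1,4,0,0,3,3,3,4,4,3,0,4,0,3,2,4,0,0,4,4,0,4,2,4,0,3,0,1,4,0,1,3,2,4,4,3,2,3,1,3,1,3,1,2,1,0,0,0,4,0,4,2,0,4,3,2,3,1,1,1,3,1,4,3,4,4,2],
[1,3,2,2,1,2,3,3,2,1,3,2,0,4,1,3,3,2,2,3,4,4,3,0,2,4,4,1,4,3,3,1,2,4,2,0,3,0,3,0,2,1,3,3,0,0,3,1,1,2,3,3,3,2,4,1,2,2,2,2,0,1,3,3,2,1,2,0,4,0,1,4,0,0,4,3,0,1,0,0,1,0,1,0,1,0,0,3,1,2,2,2,4,2,2,4,3,0,4,0,3,3,4,3,4,2,2,4,3,1,2],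
[4,0,0,0,0,0,0,2,2,4,2,4,2,2,1,2,1,0,2,3,2,4,1,1,3,0,1,4,2,3,2,1,4,1,1,1,0,1,1,4,0,3,0,4,3,4,0,4,3,2,2,3,2,0,3,0,2,4,2,3,4,4,2,0,1,3,3,3,0,0,4,2,4,3,2,4,1,2,4,2,1,3,2,1,1,3,3,4,4,1,1,0,2,1,2,1,4,3,3,0,3,4,1,4,2,3,0,0,0,3,4],
[0,4,0,0,0,0,0,4,4,0,4,4,1,4,3,4,2,1,0,2,1,0,3,4,2,4,0,1,2,2,4,4,0,2,1,1,3,0,1,4,2,1,3,0,2,0,4,4,4,0,2,1,4,0,0,0,4,3,3,1,0,1,2,1,3,2,0,4,4,2,4,3,2,3,2,3,3,1,1,2,4,2,3,2,0,1,4,0,0,0,0,1,4,3,1,3,4,4,3,4,2,1,3,3,3,3,0,0,0,1,1],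
[0,0,4,0,0,0,0,0,0,0,0,3,0,0,4,4,1,2,4,4,1,3,0,1,3,4,1,1,1,4,1,4,0,0,3,4,3,2,2,0,3,0,4,2,1,2,2,2,0,3,1,1,3,0,2,1,2,1,1,0,3,3,1,0,3,2,4,2,4,4,2,3,4,4,2,3,1,4,0,4,1,2,3,1,2,2,0,0,1,3,3,1,1,1,2,1,4,1,3,2,1,0,4,4,0,0,2,2,1,0,0],
[0,0,0,4,0,0,0,0,0,0,0,1,2,0,4,4,3,4,1,2,2,0,0,4,2,3,2,0,4,3,1,1,0,0,1,0,0,1,3,4,1,2,3,4,3,4,3,2,2,3,3,1,3,3,2,2,3,3,3,0,3,2,3,1,1,3,4,0,3,2,2,2,4,2,0,1,4,1,0,1,4,3,3,3,2,3,3,4,2,1,1,3,1,3,3,2,2,2,2,4,4,0,1,1,0,0,0,2,2,0,0],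
[0,0,0,0,4,0,0,0,0,0,0,1,0,1,4,0,4,2,3,2,4,3,3,1,3,4,3,2,2,4,0,3,3,4,1,3,1,4,0,3,4,2,2,0,3,1,4,1,0,3,3,2,0,4,1,2,0,4,2,1,0,2,1,3,0,0,0,0,2,2,2,3,4,2,2,4,1,4,3,3,2,2,2,1,1,4,1,1,0,0,3,0,3,4,4,3,4,4,0,2,2,1,3,2,0,0,0,0,2,0,0],
[0,0,0,0,0,4,0,1,3,2,4,2,1,3,2,2,3,0,1,3,3,4,2,1,3,1,2,0,3,2,2,4,0,4,3,4,4,0,3,2,2,0,1,2,3,1,2,0,4,0,1,3,3,1,4,1,1,2,1,2,3,3,1,0,0,4,3,0,1,3,2,1,3,3,3,3,1,4,1,3,4,3,1,0,2,3,4,0,2,3,4,1,2,0,1,0,3,2,4,0,0,3,2,1,2,0,0,0,0,3,3],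
[0,0,0,0,0,0,4,0,1,2,3,0,1,1,0,0,1,0,2,2,1,4,0,1,4,3,0,4,1,4,0,3,0,1,0,4,2,3,1,2,1,2,4,3,2,4,2,4,4,4,3,3,4,2,0,0,4,4,2,4,2,1,0,2,2,1,1,2,3,4,4,1,0,3,3,1,3,4,1,1,3,3,0,4,3,0,1,0,0,0,1,1,2,2,2,4,4,4,1,0,0,0,1,2,2,4,0,0,0,4,2]]

noncomputable def carTab6 : List (List ℕ) := [[3,0,0,0,0,0,1,0,2,2,4,3,0,2,1,4,2,4,3,0,0,3,2,2,3,3,1,2,4,3,4,1,3,0,2,0,2,3,0,4,4,0,2,2,0,3,1,4,0,2,0,0,1,2,2,2,0,3,4,3,2,3,4,0,3,2,1,2,0,2,2,1,4,3,1,2,3,3,4,4,1,1,1,2,3,1,4,4,3,0,1,1,4,4,2,1,4,0,2,1,3,4,3,1,1,3,0,0,0,2,2],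
[2,2,0,0,0,2,3,0,3,4,2,3,3,1,4,0,2,0,0,2,4,3,2,1,2,3,3,0,1,3,0,0,0,3,2,3,1,4,1,3,4,1,3,4,2,1,1,4,2,2,4,2,4,2,4,1,0,3,1,4,4,1,4,0,3,4,4,3,1,0,2,3,1,0,0,1,4,3,3,1,0,3,1,0,1,1,3,4,2,1,3,4,0,1,2,1,2,1,1,0,2,4,1,0,0,3,0,0,0,3,0],
[0,0,1,2,2,0,0,0,0,0,0,2,4,2,0,3,3,2,1,3,0,2,0,2,3,2,1,4,0,2,2,4,3,1,2,4,0,4,2,1,1,2,4,0,2,4,0,0,4,0,1,3,0,0,2,3,4,3,2,2,3,2,0,3,4,0,4,4,0,0,0,3,0,1,4,0,0,2,2,0,1,4,1,0,3,0,1,1,0,3,4,2,1,4,4,1,0,0,4,2,2,4,0,4,0,0,4,1,2,0,0],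
[0,0,4,1,0,0,0,0,0,0,0,3,3,4,0,4,3,0,0,0,2,1,4,0,0,3,3,4,2,2,1,4,3,0,3,2,1,0,0,0,3,3,0,3,0,3,4,3,3,2,0,3,4,0,3,0,0,3,3,4,4,3,4,4,1,3,4,1,3,4,3,1,0,0,0,0,3,3,2,3,1,0,0,3,1,3,0,0,0,2,3,2,4,2,0,1,1,2,1,0,3,4,4,2,0,0,3,3,1,0,0],
[0,0,0,1,0,0,0,0,0,0,0,3,3,2,3,1,1,0,3,2,0,0,4,3,1,0,0,3,2,2,4,3,2,2,3,0,4,2,4,1,3,3,2,3,3,0,4,2,3,2,1,4,2,2,1,3,3,1,2,2,4,0,3,0,0,3,3,1,4,0,3,4,3,1,3,3,4,2,0,3,2,1,1,4,2,1,3,0,1,2,2,3,1,4,2,1,2,0,3,0,3,1,0,4,0,0,1,0,0,0,0],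
[3,3,0,0,0,4,3,2,1,0,1,1,2,1,2,2,1,0,4,2,3,3,0,4,4,0,4,1,3,3,2,0,4,2,4,3,3,1,4,2,2,0,0,0,2,1,2,0,3,2,1,2,4,4,4,2,3,4,2,4,1,2,4,2,0,3,4,1,0,4,0,2,3,2,4,4,1,0,1,3,0,2,2,0,2,4,4,3,3,3,3,0,3,4,0,4,0,2,2,0,0,4,1,1,0,1,0,0,0,3,4],
[2,1,0,0,0,3,4,2,3,2,0,0,3,4,4,1,0,4,3,1,4,0,3,1,3,4,1,1,4,3,1,2,3,4,0,2,2,2,0,3,4,2,1,0,1,3,2,0,2,2,2,0,2,1,0,3,1,0,2,1,4,0,2,4,0,3,2,4,4,0,4,4,1,0,4,3,2,3,4,4,2,3,2,3,1,2,3,4,1,1,1,2,0,2,3,0,4,1,2,1,3,0,1,1,2,2,0,0,0,0,1],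
[0,1,0,4,2,0,3,0,2,4,2,0,2,3,0,1,3,3,1,1,2,3,2,3,0,4,1,3,4,2,3,2,3,1,0,0,4,4,4,2,1,2,2,4,4,4,0,0,2,1,3,0,2,1,4,4,3,3,2,0,0,0,0,3,0,1,1,2,4,1,4,2,4,1,1,2,1,2,0,4,4,2,0,1,3,0,0,4,0,2,1,0,3,4,1,0,0,1,4,3,1,1,3,3,3,0,4,2,3,4,1],
[0,4,2,0,3,2,1,4,3,4,2,2,0,0,0,3,4,3,1,4,1,4,2,0,2,3,0,1,0,2,3,2,3,0,3,4,2,1,1,0,0,3,4,3,1,4,1,1,1,2,1,4,3,0,2,4,0,0,2,2,2,1,3,2,4,4,1,1,3,3,3,0,3,4,3,2,4,4,0,3,4,4,4,0,3,1,4,3,1,0,4,2,3,0,4,4,4,1,3,4,1,3,0,1,4,1,4,0,4,3,3],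
[4,3,3,3,3,1,3,3,0,2,0,1,4,3,1,0,2,0,1,0,4,2,2,2,1,4,2,2,2,0,3,2,3,3,1,2,4,3,4,4,2,1,2,2,2,3,3,4,0,4,0,4,2,4,2,2,0,4,0,4,3,2,3,0,1,1,4,4,2,4,3,3,1,3,3,1,4,2,0,4,0,4,2,0,0,4,1,4,2,1,2,1,2,2,0,1,1,4,0,1,3,4,2,2,1,4,4,4,3,4,0],
[2,0,4,1,1,0,0,3,1,4,4,2,0,2,2,2,4,0,3,1,4,1,3,2,2,3,2,0,0,3,1,4,2,2,1,0,2,2,3,2,2,2,0,4,3,2,4,2,1,2,4,1,0,2,3,1,4,2,0,1,1,1,2,2,0,2,2,2,1,0,1,3,2,0,0,4,1,3,3,1,1,3,2,4,3,4,2,4,1,0,2,2,0,1,0,1,4,2,0,0,2,0,4,2,0,0,1,4,0,4,3],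
[4,1,4,2,0,3,0,4,0,4,4,2,0,1,2,4,1,4,1,2,1,4,1,4,3,2,4,4,3,1,4,0,1,1,3,3,3,0,1,2,3,4,4,1,2,4,0,1,2,3,4,2,4,4,1,2,3,0,2,1,0,2,1,0,4,0,3,0,3,4,2,0,0,1,0,0,3,3,4,1,4,1,3,4,3,4,0,3,4,0,1,2,4,4,0,0,4,4,4,1,2,2,4,3,2,4,2,2,2,3,3],
[4,4,3,0,1,4,2,1,0,0,4,3,3,4,4,4,2,3,1,2,1,3,0,3,0,4,1,2,3,4,4,0,2,2,4,0,3,2,1,4,0,2,4,1,0,4,4,3,0,3,4,4,0,2,0,4,2,3,2,0,0,3,4,0,2,3,2,3,0,3,2,3,2,3,0,1,4,1,0,2,3,4,1,4,1,3,3,2,3,1,2,2,4,1,4,2,0,0,3,2,2,3,0,1,2,1,3,3,4,3,3],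
[4,1,2,3,0,0,1,3,2,2,2,0,1,1,1,1,3,2,1,4,2,2,4,0,4,4,2,2,1,2,2,0,0,4,3,3,1,0,1,4,2,2,0,2,1,2,2,4,2,4,0,0,1,3,1,4,1,2,4,2,4,3,2,4,3,1,4,2,2,3,4,4,4,0,1,1,4,2,3,3,0,1,1,1,1,4,2,4,0,0,3,1,3,4,0,0,1,1,2,2,1,3,4,3,0,4,3,4,1,4,2],
[1,2,2,2,2,0,4,0,4,2,4,3,3,0,4,3,0,3,2,3,1,4,1,2,3,1,0,2,0,3,4,0,0,0,3,3,0,0,4,3,3,3,2,4,1,0,3,1,0,0,4,1,3,1,2,3,2,2,3,3,4,3,0,4,3,1,4,4,2,0,1,2,1,3,3,2,0,3,3,3,1,1,3,1,2,0,4,0,0,1,4,0,1,2,2,2,3,1,0,2,2,1,1,3,2,1,2,1,1,1,2],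
[1,4,4,1,2,4,3,3,2,1,3,3,0,4,3,1,4,4,2,0,3,1,3,1,1,2,3,1,4,4,4,1,2,3,3,0,0,0,1,2,0,2,3,3,4,4,3,2,1,2,0,1,0,2,2,3,4,1,3,4,3,1,4,3,0,2,3,3,3,0,2,4,2,0,3,0,0,0,1,0,3,4,2,3,4,1,4,0,2,1,4,1,2,1,2,2,4,0,0,3,4,1,3,4,0,4,2,1,4,2,2],
[3,3,1,0,4,1,0,3,0,3,1,1,4,2,2,1,4,0,4,4,1,3,0,3,1,1,4,2,1,2,3,2,2,0,1,3,3,4,4,3,2,2,4,2,2,1,0,0,1,4,0,3,4,1,0,1,3,2,1,2,3,2,4,0,0,3,0,1,2,0,0,4,2,0,3,0,0,3,2,4,0,2,1,0,0,2,1,2,0,0,3,2,2,4,4,0,3,3,0,3,2,2,1,4,2,1,0,0,0,3,4],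
[0,0,0,4,0,1,2,1,4,2,2,1,2,2,2,2,0,0,0,3,2,0,0,4,4,2,0,2,1,1,4,1,0,1,4,4,3,2,2,3,1,2,1,4,3,1,2,3,4,0,2,2,1,0,2,0,3,1,3,4,4,2,1,4,0,4,4,4,0,1,0,1,1,4,1,2,3,2,4,3,1,0,0,3,2,0,1,4,1,2,4,4,2,1,1,2,4,0,2,3,1,0,3,0,3,2,1,3,4,0,3],
[3,2,1,0,1,0,4,1,2,2,3,3,1,0,4,1,0,0,4,0,1,3,2,4,1,0,1,4,1,2,3,4,2,1,4,4,2,1,2,4,1,0,1,1,0,2,1,1,0,2,4,4,0,3,0,3,2,3,0,4,0,2,4,4,0,0,2,3,0,0,0,2,4,3,2,4,4,1,0,1,2,1,2,0,4,0,4,3,0,3,0,1,4,0,0,0,4,4,4,1,4,1,2,1,2,1,2,3,3,3,3],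
[2,4,1,0,0,3,2,1,3,2,3,4,4,4,2,1,4,3,4,3,0,1,4,1,0,4,1,1,0,1,4,1,4,0,3,1,2,1,0,4,3,1,4,3,0,1,4,2,3,0,2,2,4,3,4,2,1,1,1,2,4,1,1,4,1,3,1,2,2,0,3,3,3,2,2,4,2,1,0,2,3,0,3,3,4,3,3,0,2,0,1,0,0,3,2,1,4,3,2,3,2,3,0,4,3,0,0,3,2,0,3],
[0,2,3,1,3,0,4,3,1,2,1,1,4,3,3,3,3,2,4,1,0,2,2,4,1,4,0,2,4,2,1,4,1,3,2,0,3,2,0,0,4,4,0,0,1,3,2,4,1,2,1,1,4,4,0,4,0,1,2,3,3,4,2,1,1,3,4,1,4,1,1,1,0,3,0,4,4,3,2,4,1,3,3,0,0,1,0,1,2,3,1,3,4,3,0,3,4,1,4,2,1,0,4,4,4,3,3,4,0,2,2],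
[2,2,3,0,1,4,0,0,3,1,2,4,3,2,0,3,0,3,2,2,2,2,4,4,1,2,3,3,0,3,1,1,0,4,1,3,0,0,4,2,4,1,1,4,0,2,1,3,0,0,0,1,0,3,1,1,1,1,3,3,4,0,2,2,2,3,1,4,4,1,0,3,1,3,2,1,4,0,2,2,1,0,4,2,4,4,1,1,0,4,3,0,4,4,1,1,3,3,1,2,1,4,2,2,0,0,1,0,0,0,2],
[3,3,3,3,2,2,2,2,1,1,4,4,3,0,4,1,2,1,1,1,3,2,1,4,4,1,3,2,4,3,2,0,2,0,1,0,3,2,0,3,0,4,2,4,2,3,0,2,0,2,2,0,1,3,0,4,3,3,1,0,4,4,3,2,0,0,1,0,0,2,0,0,4,4,3,3,1,4,0,0,1,2,0,0,4,0,1,0,4,1,2,4,1,2,4,1,0,3,1,2,3,0,4,0,2,3,2,3,1,3,4],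
[1,1,2,3,4,1,1,3,3,1,2,2,4,1,1,3,0,1,2,1,4,1,2,3,3,0,2,4,1,2,2,1,3,1,0,3,2,4,1,3,1,4,0,1,4,0,3,4,1,3,3,2,4,4,0,2,3,4,0,0,2,3,4,3,4,1,1,0,3,0,1,4,2,3,3,2,2,2,4,0,2,4,4,3,4,4,1,4,0,2,4,4,4,3,2,3,4,4,1,1,3,2,3,1,4,4,3,0,1,3,1],
[2,4,3,3,1,2,4,0,4,3,1,0,4,0,0,3,2,0,4,1,0,0,0,1,3,3,4,4,1,4,0,2,4,0,1,3,0,1,0,0,0,1,4,4,2,3,3,2,2,4,1,2,0,0,1,2,1,4,2,2,2,1,1,3,0,1,3,0,4,4,2,1,3,3,4,3,3,0,3,3,2,3,4,0,2,0,1,2,0,2,4,4,3,1,1,4,4,0,3,2,3,1,2,1,4,2,0,1,3,4,2],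
[0,1,2,2,2,4,2,3,2,2,3,3,2,2,3,1,1,4,2,1,2,0,2,0,2,4,3,0,4,3,1,4,3,0,2,1,4,2,0,1,1,0,0,2,0,0,1,1,2,0,1,4,2,0,3,4,4,3,0,4,1,2,2,4,2,4,0,4,2,0,3,0,2,1,4,0,4,4,0,1,0,3,1,0,0,1,0,3,2,3,4,1,4,2,0,4,3,1,1,3,0,2,1,1,0,3,1,1,4,4,1],
[1,2,2,2,3,3,3,0,4,4,3,2,1,4,2,0,3,2,2,0,3,4,0,3,4,1,1,0,2,2,4,0,3,2,1,3,0,2,2,4,3,2,1,3,4,4,1,4,3,1,1,3,0,4,2,0,4,4,1,1,4,3,4,3,4,2,3,1,2,1,0,4,4,1,3,2,2,4,2,3,2,0,4,2,0,1,3,4,1,2,2,1,0,1,1,2,1,0,2,1,3,0,3,2,2,0,4,1,1,4,1],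
[4,3,2,3,4,1,1,4,4,3,1,2,2,2,0,3,0,2,3,2,0,0,1,1,3,2,2,0,2,1,2,3,1,1,0,2,2,1,1,4,4,1,1,1,3,0,4,1,2,0,1,3,3,2,3,1,3,3,2,4,1,1,0,0,4,3,3,1,0,4,2,1,1,4,0,2,2,1,3,1,0,0,0,1,0,2,1,1,4,2,3,4,0,4,0,2,3,0,3,0,0,0,1,0,4,3,0,3,1,2,1],
[3,0,3,4,2,0,2,1,3,3,3,3,2,3,1,3,4,0,1,2,0,1,2,1,3,2,2,3,4,0,0,2,2,2,0,2,4,3,3,1,1,2,1,0,4,1,3,4,1,1,2,1,1,1,2,4,1,3,1,1,1,0,2,4,3,4,4,3,2,2,3,2,4,2,1,0,1,2,1,1,2,2,2,4,2,1,1,4,2,0,1,2,2,0,3,1,0,2,3,3,1,1,0,1,4,4,0,2,4,0,4],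
[0,4,2,3,2,1,0,0,4,1,4,2,3,0,3,3,4,1,0,4,3,2,0,1,1,3,1,1,0,3,2,4,0,0,0,4,2,4,4,2,1,3,0,1,4,3,3,0,0,4,2,0,3,4,0,3,1,0,3,0,3,4,0,3,0,0,1,4,2,1,2,1,3,1,1,4,1,1,1,2,3,1,2,3,3,1,2,2,3,0,2,1,2,1,0,0,2,4,3,4,2,0,4,4,4,2,2,2,2,4,0],
[1,1,3,2,1,1,3,3,2,4,2,0,0,4,2,2,4,1,3,2,1,3,4,4,3,3,0,2,4,4,2,1,2,3,1,0,0,4,2,2,3,2,3,4,1,2,3,4,4,4,4,0,0,4,1,3,4,0,0,1,0,0,1,2,3,4,3,4,0,3,2,1,3,2,2,3,3,4,4,1,3,2,2,1,0,1,0,1,2,4,1,1,3,1,3,0,3,2,1,3,4,0,4,0,0,4,0,0,1,3,2],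
[0,3,4,2,4,4,3,4,4,3,1,0,0,4,2,4,4,4,4,3,2,1,0,1,0,4,3,2,0,1,2,4,3,0,0,4,2,0,4,3,1,4,3,3,2,1,4,4,2,1,0,1,2,1,0,3,2,4,4,4,1,4,3,1,1,0,1,1,4,2,2,4,2,0,3,0,3,4,2,4,0,1,1,2,0,1,0,4,4,1,0,4,1,4,3,2,0,3,2,4,0,1,3,1,4,3,2,3,1,0,3],
[2,1,1,3,1,4,4,1,0,0,0,1,4,1,2,4,0,0,4,3,0,1,2,2,3,1,4,4,3,1,2,1,4,1,1,3,4,4,0,2,4,2,0,4,1,2,0,1,2,4,3,0,1,3,3,4,4,0,1,0,2,0,1,1,4,0,3,4,1,1,1,3,4,1,2,4,3,4,2,1,4,3,1,3,4,0,2,3,4,3,1,0,2,4,1,0,0,0,1,1,0,0,3,0,3,3,2,0,3,0,3],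
[0,0,3,2,0,3,4,2,2,1,2,2,4,0,3,4,3,2,4,4,1,1,3,4,4,0,4,2,2,3,0,0,1,1,1,4,4,2,3,3,1,1,0,1,0,2,0,4,0,1,0,4,1,0,1,0,3,3,2,0,2,2,1,1,2,1,2,4,3,1,1,4,0,0,0,4,4,3,0,1,3,2,3,0,2,1,4,2,3,1,4,1,2,1,2,2,2,2,2,3,2,4,4,2,4,1,0,0,0,3,0],
[2,4,0,2,4,4,1,3,0,2,4,4,1,3,2,3,3,3,0,0,3,2,3,0,0,1,2,3,4,2,1,0,2,1,0,4,0,4,0,0,3,0,1,1,1,3,3,3,3,4,0,0,2,0,1,0,1,1,4,1,4,2,1,1,2,3,4,1,0,2,2,1,3,0,1,0,3,0,0,0,1,1,4,0,0,1,1,4,2,1,1,0,3,1,0,4,4,3,0,1,3,0,3,4,4,0,3,4,4,2,3],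
[0,0,0,1,1,2,1,1,0,1,0,1,2,1,0,0,0,2,1,0,0,2,3,3,2,1,3,1,2,0,3,0,0,0,2,1,2,2,0,4,1,1,1,4,0,4,1,4,3,4,3,2,0,3,2,3,1,3,3,0,1,2,2,3,1,1,2,0,2,1,3,2,4,2,0,2,0,4,2,2,0,1,4,3,1,1,0,2,4,1,1,4,4,4,0,4,0,2,2,4,1,1,4,4,0,1,2,1,1,4,0],
[4,0,1,1,2,0,4,2,1,0,4,0,0,0,1,4,2,2,3,3,1,4,0,4,2,0,3,3,0,2,2,2,3,0,2,4,2,4,3,0,1,0,1,2,0,2,2,0,0,4,1,3,0,0,3,3,1,3,4,1,4,0,2,3,1,1,3,2,0,3,4,2,2,1,3,2,1,2,3,0,3,0,3,3,2,2,4,4,0,0,2,1,4,3,1,0,4,4,2,4,3,2,2,3,3,0,2,0,0,4,0],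
[3,3,1,2,0,0,2,0,1,4,4,3,0,0,0,0,2,1,2,1,2,2,2,3,2,4,2,0,2,4,4,2,2,2,3,0,4,2,4,3,0,1,0,2,2,1,3,3,4,3,0,2,4,2,3,1,4,3,3,1,4,2,3,4,1,1,4,2,4,2,1,0,2,3,3,4,2,4,3,1,1,1,3,1,1,1,1,1,3,2,0,1,2,3,2,0,3,3,4,3,0,0,4,0,1,2,3,3,2,1,1],
[4,0,4,4,2,0,1,4,2,1,4,3,3,0,2,0,1,4,1,2,3,2,0,1,3,4,3,1,3,1,0,1,0,2,0,0,2,3,4,4,0,1,4,2,3,1,1,4,2,4,4,2,1,4,3,1,2,3,2,1,3,3,0,4,0,0,1,2,2,1,4,4,2,3,2,4,4,0,4,4,3,1,3,0,1,4,0,3,2,0,3,3,4,4,2,1,0,4,4,3,1,3,3,3,0,4,3,4,3,4,2],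
[2,3,2,4,3,4,4,1,4,4,3,0,2,3,2,2,0,3,1,2,4,0,2,2,4,3,4,2,1,2,4,3,0,1,2,1,1,1,3,2,4,1,4,3,4,3,2,0,2,1,0,3,1,4,2,0,3,1,0,2,3,0,4,3,4,2,4,3,2,1,1,3,2,4,1,2,2,3,2,2,0,3,1,1,0,4,1,4,2,0,4,3,2,4,3,4,2,1,3,2,0,2,1,1,0,1,3,1,3,2,0],
[1,0,0,2,3,3,1,2,4,0,0,0,4,4,1,4,2,2,0,0,3,4,3,3,4,0,0,0,2,2,3,3,4,4,0,0,4,2,0,2,1,0,0,1,1,3,0,3,0,1,0,1,2,4,0,0,0,1,1,0,1,2,0,2,0,1,3,3,4,0,1,4,4,4,0,0,3,4,3,0,1,3,2,4,2,1,0,1,0,2,3,1,2,3,4,3,3,4,0,2,0,0,2,1,2,1,1,2,1,1,3],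
[2,1,0,3,4,4,4,0,2,2,2,2,1,0,1,2,0,0,1,0,0,1,1,2,0,2,0,4,0,0,1,4,4,4,4,0,4,2,2,1,0,3,0,2,2,4,0,4,4,2,2,2,0,1,3,3,0,4,3,4,4,0,1,4,2,4,3,0,1,2,0,3,0,4,0,2,2,1,2,2,4,1,3,2,2,1,0,0,1,2,1,0,0,4,1,0,1,1,4,2,2,1,3,0,4,0,3,1,3,2,4],
[1,0,4,1,4,0,4,3,1,4,3,3,0,2,4,0,1,0,2,4,0,0,2,3,1,1,0,3,3,4,4,0,0,3,3,2,4,1,2,0,0,3,1,0,0,3,3,4,0,0,3,4,1,1,0,3,3,1,3,0,4,1,4,3,1,1,1,3,3,2,0,3,2,1,0,2,3,1,4,3,3,0,4,0,4,3,1,2,1,4,1,0,4,0,0,2,3,1,4,0,1,2,1,1,0,0,3,3,3,3,3],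
[0,1,1,2,2,2,3,3,1,4,1,4,3,4,3,4,2,1,0,0,2,0,2,1,4,3,4,0,4,3,2,0,1,1,1,3,3,1,4,4,1,1,3,2,1,3,3,1,4,3,3,3,4,3,1,2,1,4,1,0,3,2,1,3,3,4,4,0,4,1,1,2,3,1,3,4,3,4,1,3,2,2,2,2,3,0,0,1,4,2,3,2,4,3,4,0,3,1,0,4,1,0,2,2,0,1,0,3,2,3,0],
[3,4,2,3,2,2,2,1,2,0,2,0,0,3,3,4,4,1,3,4,0,2,4,3,4,2,3,2,1,3,4,2,3,1,3,3,1,2,3,0,3,0,3,3,2,4,1,1,2,4,2,3,4,3,1,4,1,3,0,3,3,2,4,3,4,4,1,3,1,1,0,3,2,2,3,4,4,4,4,2,1,0,0,1,4,4,0,4,0,2,3,3,4,1,0,1,3,3,2,4,4,4,3,2,2,1,3,1,0,2,1],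
[3,4,3,0,3,2,3,0,0,2,0,0,1,0,4,1,1,1,1,3,3,4,1,0,0,4,4,2,4,1,3,2,0,2,0,4,2,2,3,1,3,2,3,3,3,1,3,1,3,3,2,3,3,3,3,2,0,0,3,3,0,1,1,4,0,2,0,2,3,4,0,1,0,3,2,2,3,3,1,2,0,4,0,3,4,4,4,2,2,1,1,2,1,0,1,3,0,1,1,0,2,3,4,2,0,3,3,2,4,2,4],
[1,3,1,2,4,1,0,0,2,0,2,1,2,1,4,4,1,2,3,1,1,2,2,1,0,1,3,2,3,0,0,3,3,3,3,4,4,1,3,2,3,0,0,1,4,3,3,1,2,0,0,0,1,0,2,0,0,4,4,2,2,3,1,2,0,2,0,0,3,1,3,3,2,4,1,0,0,3,1,4,0,4,2,3,3,2,3,0,0,4,2,1,4,0,1,4,3,0,2,1,2,2,0,1,4,2,0,0,2,4,0],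
[3,2,1,3,2,2,1,1,2,2,4,2,1,3,4,0,3,0,0,2,4,4,3,4,3,1,2,1,4,4,0,1,1,4,4,2,4,0,0,0,3,1,2,2,2,0,2,2,2,3,0,0,0,2,1,2,3,3,3,2,4,0,2,3,3,2,3,4,3,3,1,0,3,3,0,2,3,3,1,0,3,4,3,2,2,4,0,0,2,3,1,1,1,3,3,0,4,1,0,1,0,4,4,0,3,3,2,0,1,2,1],
[0,1,0,1,4,0,2,4,4,4,4,0,3,3,4,0,1,2,0,2,2,2,0,0,0,3,4,4,3,1,4,0,3,3,1,0,2,3,3,4,2,1,2,4,3,0,0,3,0,0,1,3,2,2,3,0,1,0,4,4,2,3,0,3,4,4,3,1,1,0,1,2,0,3,2,2,3,2,0,1,3,1,3,4,2,3,2,0,3,0,1,1,0,3,3,4,4,3,1,4,2,2,2,0,1,4,0,3,2,0,0],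
[2,1,3,0,0,1,1,3,1,2,1,4,0,0,2,1,0,3,1,2,4,4,0,2,3,3,0,1,0,0,2,0,4,2,2,3,4,4,2,2,0,3,1,4,3,0,3,1,0,1,0,1,2,4,1,4,3,4,0,4,3,4,0,0,0,3,2,4,1,0,2,4,0,1,1,2,3,1,2,1,3,1,0,3,2,0,0,3,4,2,1,1,3,3,2,0,3,0,1,4,3,2,0,3,2,2,1,3,0,2,3],
[4,4,1,0,3,3,2,4,0,4,1,3,0,1,3,1,1,0,3,4,1,0,0,0,3,1,1,4,1,1,3,3,4,3,1,1,4,4,4,1,2,1,3,2,3,2,0,3,2,0,4,1,2,4,3,1,3,1,0,0,2,2,4,1,3,1,2,1,4,3,2,1,4,4,4,4,4,3,1,2,2,0,2,4,0,4,4,1,4,2,2,1,2,1,2,1,4,2,4,0,3,1,0,4,3,0,1,1,2,0,3],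
[2,4,3,4,2,1,2,1,2,3,0,0,2,4,1,0,3,4,1,4,4,4,2,0,4,1,2,0,0,1,1,3,4,3,1,2,2,1,1,1,0,3,2,0,3,4,1,0,3,0,0,3,4,1,1,4,3,1,4,4,2,0,1,2,3,4,2,2,3,3,0,0,3,0,4,0,2,0,2,0,4,1,4,3,0,1,2,2,2,1,2,3,3,0,4,1,0,1,4,0,2,4,2,0,4,4,4,3,1,1,3],
[0,0,4,4,2,0,4,2,1,3,2,1,2,1,4,3,2,2,2,1,3,3,4,1,2,3,1,3,4,1,3,1,2,1,4,3,1,0,3,3,1,1,0,2,4,3,0,0,2,3,4,3,4,3,4,1,1,4,0,2,0,2,0,3,3,4,0,3,0,4,1,0,3,1,0,4,0,3,2,2,3,3,0,0,1,3,2,0,0,2,3,1,3,4,1,1,4,0,1,4,3,2,2,3,1,0,1,3,1,1,1],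
[3,0,1,2,3,3,4,2,0,0,4,0,4,1,1,4,4,1,3,0,3,1,0,1,0,4,3,0,2,1,4,4,4,3,4,0,3,2,0,0,1,0,0,1,2,2,4,0,3,4,2,2,0,3,3,3,0,0,3,4,4,3,1,3,2,2,3,3,2,0,1,0,0,3,3,4,0,2,2,3,1,3,1,3,3,4,4,3,2,4,3,4,3,1,4,1,0,4,2,2,2,1,1,4,1,1,2,3,0,0,1],
[2,1,1,3,4,0,4,1,1,0,1,4,0,3,2,4,2,1,0,4,3,1,1,3,2,0,0,0,0,2,4,4,2,4,0,0,4,3,0,2,1,2,1,4,1,3,2,4,3,4,3,2,2,3,2,0,2,1,0,1,1,2,0,2,2,1,2,4,2,3,0,2,2,3,3,3,4,2,0,4,4,4,3,0,1,2,2,4,2,3,4,2,1,2,1,3,4,3,2,0,1,0,3,2,1,2,3,0,2,1,2],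
[1,0,4,4,0,4,0,4,2,3,1,3,2,1,4,0,0,3,2,3,3,3,3,1,0,0,0,0,1,4,0,2,2,4,4,2,1,0,0,3,0,0,4,0,4,3,1,1,3,2,0,4,1,2,3,0,1,1,1,4,1,3,1,1,0,0,1,1,3,0,2,3,2,0,3,1,1,3,2,2,3,3,2,0,0,1,1,3,1,2,2,3,0,4,0,3,4,3,3,1,4,1,2,3,2,3,1,4,2,2,0],
[1,1,4,4,1,2,1,2,0,2,0,0,4,4,0,3,2,4,4,0,4,4,3,4,2,3,0,1,3,2,1,4,1,2,0,0,0,3,1,2,1,3,2,2,1,2,2,3,3,1,1,3,0,3,1,2,4,4,3,0,0,0,1,2,2,0,0,4,4,2,2,2,0,2,1,0,4,3,0,3,3,1,4,4,3,2,4,2,1,2,1,1,2,1,0,0,2,2,4,3,4,4,1,3,4,1,1,3,3,0,0],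
[3,1,4,1,2,2,3,4,0,4,0,4,3,3,4,2,3,3,1,4,3,1,2,2,0,3,4,3,0,4,0,0,2,3,4,4,2,3,3,0,3,1,0,3,0,3,3,4,0,2,0,3,3,4,4,2,3,1,1,3,4,2,3,2,4,0,3,2,1,1,0,0,0,0,3,1,1,1,2,4,2,3,1,0,1,4,2,1,3,0,2,1,2,2,3,1,3,2,0,3,0,1,0,2,4,2,4,1,0,2,1],
[3,1,2,1,2,3,4,4,4,4,3,1,4,1,0,4,3,1,0,4,1,2,3,3,3,3,2,0,0,2,3,1,0,2,2,4,0,2,3,0,1,1,2,4,0,1,1,2,2,3,1,2,4,3,0,0,3,4,3,1,4,0,1,3,0,3,4,1,0,4,3,2,4,2,0,0,1,1,4,3,1,0,3,2,0,2,3,3,3,1,0,3,3,0,4,1,1,0,1,2,3,0,2,1,4,3,3,4,2,0,1],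
[4,0,3,4,4,1,4,3,1,4,0,1,3,3,4,1,0,4,0,4,2,1,4,2,3,1,0,2,2,4,4,4,4,0,1,4,3,3,1,1,1,3,2,1,2,0,0,0,0,1,2,0,1,0,2,1,2,3,2,0,3,4,4,4,2,2,2,0,2,2,4,2,1,0,3,0,2,4,1,3,3,3,0,1,1,3,3,1,1,0,0,0,2,0,1,2,4,1,2,2,0,0,4,0,2,0,3,1,2,0,2],
[1,3,3,1,1,4,3,1,2,4,2,2,1,1,4,3,2,2,2,2,2,0,0,3,1,0,0,0,1,3,2,2,3,4,1,1,4,4,4,1,3,0,4,4,3,0,0,0,2,3,2,3,0,3,2,0,4,2,2,4,4,4,3,3,1,3,2,0,0,0,3,3,1,0,3,2,3,1,0,4,4,0,2,1,1,4,4,2,2,0,0,1,4,2,1,2,1,4,3,0,4,3,4,0,4,4,0,3,4,4,3],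
[0,2,3,4,0,1,1,2,3,2,3,0,3,0,4,3,0,1,1,3,0,2,0,0,3,1,3,1,2,1,0,3,4,3,0,3,3,1,4,2,2,0,3,2,2,2,4,0,4,1,3,4,1,2,3,2,1,2,3,3,4,3,4,2,0,4,0,2,0,4,2,1,2,4,1,2,3,4,2,0,1,0,4,2,0,1,4,0,4,1,2,3,1,2,1,3,4,2,2,3,3,0,2,1,3,2,4,0,1,4,4],
[2,3,1,3,3,3,2,0,2,0,1,4,1,2,1,0,0,1,1,3,0,3,1,4,0,3,4,0,1,4,4,3,4,2,3,1,3,0,0,3,1,4,0,4,1,0,4,2,3,4,2,3,1,3,1,2,2,0,1,0,2,4,3,1,3,1,3,4,4,2,0,2,1,4,0,3,2,0,4,1,2,3,0,2,3,3,1,4,1,0,3,2,1,4,1,3,4,0,0,2,2,4,2,1,3,4,4,4,1,1,0],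
[3,1,1,0,1,4,3,2,4,0,1,3,4,2,3,3,0,0,0,3,0,1,3,2,0,3,2,1,2,2,1,4,4,2,4,1,2,2,3,1,3,2,3,0,2,0,1,2,3,3,3,2,3,4,4,0,4,3,3,1,1,2,1,0,2,2,1,1,1,2,0,3,2,1,0,2,3,2,1,3,1,2,3,1,4,4,2,2,1,3,1,1,2,4,3,4,4,3,3,4,1,4,2,2,4,2,4,1,4,4,1],
[3,1,4,2,1,0,1,1,0,4,1,4,4,1,4,4,0,4,0,4,1,3,4,4,1,1,0,2,3,4,2,0,3,1,4,2,2,2,0,3,1,4,2,1,4,0,0,1,1,1,1,0,3,3,4,3,2,2,1,3,1,4,2,3,0,2,1,4,0,0,2,4,4,4,0,3,3,0,4,4,4,2,1,2,0,2,1,1,4,1,1,0,2,2,1,1,1,4,2,0,3,4,1,3,0,4,0,4,2,0,2],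
[0,2,2,0,4,0,4,2,1,4,4,0,4,2,2,2,1,3,4,0,4,1,3,1,2,1,2,4,1,3,1,0,1,2,3,2,0,0,0,1,1,0,0,0,3,1,3,3,3,1,3,1,1,2,1,1,2,4,0,1,1,1,2,1,1,1,4,1,2,3,4,1,4,3,1,0,3,2,4,0,4,2,4,4,2,2,2,0,3,4,4,3,4,2,4,0,0,1,2,2,4,2,4,0,4,2,4,4,4,1,0],
[3,1,0,2,1,3,2,2,4,2,3,0,2,0,1,0,4,3,0,1,1,1,4,1,4,2,0,2,1,4,3,1,3,1,3,4,1,4,4,0,1,1,4,0,1,0,0,3,0,4,4,3,4,4,2,4,2,0,2,4,0,1,4,1,1,2,0,1,3,3,3,1,1,2,1,3,1,4,3,4,4,0,0,3,3,4,1,3,0,4,1,3,4,1,1,1,1,0,4,2,2,1,0,3,0,1,4,2,0,2,0],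
[4,1,1,3,0,3,0,0,1,1,4,1,2,1,1,3,0,2,0,1,2,4,3,0,3,0,4,2,2,4,3,0,2,2,2,2,2,0,1,2,4,0,4,3,1,0,0,2,1,4,1,2,4,3,3,2,4,3,1,3,3,3,0,4,3,0,0,0,2,0,3,2,4,0,0,4,3,2,1,1,2,4,2,0,3,3,3,0,2,4,1,0,4,4,3,3,1,0,4,1,0,3,1,0,0,0,1,4,0,0,3],
[0,0,3,2,2,4,3,2,2,1,0,3,2,4,4,4,0,0,4,4,3,1,0,2,2,2,4,4,1,0,1,1,1,3,1,0,3,2,3,2,3,2,1,4,2,3,2,3,4,4,2,3,3,1,0,0,1,1,1,3,3,4,4,4,3,2,1,4,2,4,3,4,4,0,4,2,4,3,4,2,4,2,0,3,4,4,3,1,0,3,1,0,3,4,3,4,0,4,4,1,1,4,1,2,3,2,4,4,0,2,1],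
[2,4,0,1,2,2,0,0,4,2,4,3,4,3,0,1,1,3,3,0,1,3,1,0,1,1,0,1,0,0,2,4,1,3,2,4,2,1,0,1,3,2,2,4,3,4,0,3,4,4,3,3,4,1,3,2,3,3,0,1,1,1,4,2,2,3,4,3,4,3,3,4,0,4,1,4,0,4,0,0,2,0,3,1,1,1,0,2,3,0,0,3,4,0,1,1,3,3,3,2,3,0,3,4,0,4,1,4,2,0,0],
[0,4,2,3,0,0,4,1,3,4,3,4,4,0,3,2,2,0,0,4,3,2,4,2,4,4,2,2,1,3,4,0,1,1,3,4,2,4,0,2,2,3,4,2,3,0,2,2,0,4,2,2,3,2,3,0,0,4,1,0,3,1,3,0,2,4,3,3,1,4,2,3,2,4,0,3,4,0,0,0,0,1,3,0,1,1,3,2,3,2,4,3,3,0,2,0,1,0,1,0,3,4,3,2,3,0,1,3,1,2,3],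
[3,1,1,3,1,4,0,1,3,0,2,0,2,3,1,1,3,2,2,2,4,2,1,0,0,4,3,3,2,3,3,2,0,4,4,4,1,2,2,2,0,0,2,1,2,0,4,1,0,0,1,2,1,0,4,0,2,0,2,2,2,3,2,4,1,3,1,0,3,0,3,4,3,2,3,1,3,0,0,4,2,3,1,1,0,0,3,1,0,3,0,3,3,1,3,3,3,4,4,1,3,3,1,0,3,4,3,4,4,0,0],
[4,0,0,4,2,2,1,3,2,0,3,0,3,3,3,2,4,2,3,4,3,3,3,0,1,3,0,0,3,3,2,3,2,3,4,0,3,2,2,4,2,2,3,1,4,2,3,1,2,3,3,3,1,1,2,0,4,3,0,0,2,0,4,3,3,1,0,0,3,2,1,0,0,0,1,3,4,1,0,2,4,2,1,2,1,1,3,1,3,4,0,0,3,4,0,4,0,4,0,0,1,1,4,3,3,1,3,1,4,2,3],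
[1,4,0,1,0,3,1,0,4,3,2,1,2,0,4,3,1,2,3,2,4,2,0,4,1,1,3,0,2,3,3,0,1,4,1,3,0,4,4,4,3,1,3,1,4,0,2,0,1,0,1,1,3,2,0,0,4,1,3,3,4,1,3,3,2,0,0,0,3,1,1,4,1,4,1,2,0,4,1,2,2,0,2,2,0,0,1,2,1,3,3,1,0,3,3,0,1,0,1,0,4,4,0,3,2,1,3,2,4,2,2],
[0,2,0,1,1,4,0,1,0,0,0,4,4,1,1,4,1,3,4,0,3,2,0,3,1,3,4,0,0,4,3,1,4,3,2,4,2,3,3,4,2,4,1,1,1,4,2,0,4,4,0,1,0,3,2,2,0,1,3,2,1,2,0,1,4,1,1,3,4,2,1,4,1,2,2,4,2,2,4,2,0,0,2,4,3,0,4,2,0,0,1,3,1,3,1,4,1,0,1,2,1,1,1,2,0,3,3,4,1,3,3],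
[2,3,3,4,0,2,2,0,1,2,1,3,0,2,2,1,4,1,3,2,4,0,2,2,2,0,2,1,0,4,2,2,0,4,0,0,1,3,0,3,0,3,4,4,4,0,2,3,4,0,0,4,3,4,0,1,1,0,2,0,0,2,2,1,0,0,4,0,2,4,0,4,1,4,2,1,3,1,3,0,4,3,3,0,3,2,1,4,1,0,3,4,3,2,0,2,2,2,1,4,4,3,1,2,3,3,2,2,3,0,4],
[1,1,4,2,2,1,1,2,2,2,0,3,4,1,2,0,2,3,2,0,3,1,1,1,1,1,1,3,4,2,4,0,0,3,3,1,0,2,1,0,0,4,0,1,4,0,4,0,2,3,2,4,3,4,4,0,1,3,4,3,0,1,4,4,0,3,0,0,3,3,0,1,3,1,2,3,2,3,1,3,4,3,2,3,4,4,4,1,1,3,0,1,2,2,3,2,1,3,3,4,4,1,2,2,2,2,2,0,0,3,2],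
[2,2,3,2,0,0,0,1,0,4,0,2,2,3,2,4,1,0,3,4,2,1,3,3,0,0,4,1,4,1,0,4,4,3,2,4,4,3,0,2,0,2,1,2,3,1,4,2,0,2,0,2,4,4,3,1,0,4,3,4,4,1,3,2,1,3,3,2,0,1,0,1,3,4,0,1,1,2,2,1,4,3,2,2,0,3,2,2,2,2,0,0,3,2,0,4,1,0,3,4,4,1,4,4,3,3,4,3,2,1,3],
[4,3,1,0,3,3,4,4,2,2,1,0,2,1,2,3,0,4,1,4,3,0,0,3,2,2,4,1,3,0,3,2,0,3,4,3,3,2,1,2,0,4,3,3,1,3,0,0,4,2,2,2,0,3,3,4,2,4,1,3,4,2,4,3,3,1,1,4,3,2,3,3,2,0,4,0,3,1,4,2,3,0,0,0,2,0,0,4,0,4,3,1,1,4,2,1,3,3,1,3,3,3,0,2,1,1,3,2,4,0,3],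
[0,0,3,2,0,4,1,0,1,3,4,0,3,1,2,1,4,3,4,1,3,3,3,0,1,2,2,1,2,2,1,3,1,4,4,2,1,1,1,1,1,1,3,3,0,1,2,4,1,3,4,2,3,3,1,0,1,3,1,0,3,2,3,1,3,0,0,4,1,2,0,2,4,3,1,2,4,0,2,3,4,0,2,3,4,3,2,0,2,0,4,0,4,1,3,4,2,0,4,3,4,2,0,2,0,1,0,1,3,2,3],
[4,3,4,0,1,3,3,3,1,4,4,4,3,3,4,3,2,3,0,1,2,4,3,3,4,3,1,4,0,3,3,4,1,2,0,4,0,2,1,0,4,1,2,2,1,0,2,0,0,0,2,2,2,2,2,1,4,4,0,1,4,3,4,4,1,4,3,3,0,1,0,1,2,4,4,1,2,3,3,3,1,2,1,2,3,1,3,2,2,4,1,2,2,2,3,0,3,3,3,4,0,1,2,2,2,1,1,1,4,2,3],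
[3,1,0,2,3,3,4,3,4,2,3,1,2,4,0,0,0,2,2,2,0,3,2,1,1,3,0,2,4,3,2,1,2,4,2,1,1,0,2,0,2,0,2,1,1,3,1,0,1,1,4,2,2,3,0,0,0,3,2,4,2,1,2,2,1,3,0,2,0,3,1,3,4,2,1,3,0,3,1,0,2,1,3,1,2,1,4,3,4,2,4,4,1,4,0,2,2,3,0,2,4,2,4,2,2,2,0,0,4,3,2],
[4,2,2,2,0,2,4,2,3,2,0,4,1,4,3,4,1,2,0,2,1,4,0,2,2,1,4,0,3,3,3,0,2,4,0,1,4,0,2,2,3,0,4,1,2,1,3,1,3,1,2,1,1,1,2,1,0,0,2,4,4,0,2,1,0,3,0,4,1,2,3,4,3,1,0,2,1,4,3,3,3,0,4,2,2,3,0,4,3,2,4,1,3,1,0,2,4,2,2,4,4,2,3,4,1,1,4,4,1,3,4],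
[4,2,2,3,4,1,2,1,2,3,1,1,4,3,0,0,1,3,3,3,2,2,4,3,1,2,2,1,3,1,0,3,1,0,3,1,2,1,2,3,3,2,0,1,2,3,2,1,3,4,3,4,1,1,0,3,4,4,2,0,2,4,3,1,0,0,3,0,1,3,1,3,1,3,0,4,4,2,0,3,4,2,0,4,4,4,3,3,0,2,1,0,0,1,2,3,3,3,0,2,4,2,3,0,1,4,2,4,2,4,3],
[4,4,1,3,1,4,2,2,2,0,4,0,4,0,2,4,0,3,4,3,0,0,4,3,1,2,2,4,3,4,2,3,4,0,0,2,4,3,1,3,1,1,4,2,4,3,0,0,4,0,1,1,0,0,4,1,2,3,0,4,0,0,0,4,4,4,0,1,0,3,0,4,1,2,0,0,2,0,0,0,3,4,0,2,2,0,1,3,4,3,1,4,0,2,0,1,1,4,4,0,1,0,3,0,1,2,2,0,2,0,4],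
[2,2,1,2,1,0,3,2,4,1,3,2,1,4,3,2,2,4,1,3,1,4,2,4,2,0,0,0,4,1,0,0,1,4,2,4,1,4,4,0,1,0,4,4,3,4,4,4,2,3,2,3,0,0,4,1,1,4,1,0,0,0,3,2,0,1,4,3,0,3,0,1,2,2,4,1,2,3,4,0,0,1,1,4,3,3,4,4,3,3,1,1,2,3,3,2,0,4,3,4,0,3,4,2,3,3,0,4,0,3,3],
[4,1,2,2,4,2,0,1,0,2,3,4,1,4,1,3,2,3,4,1,4,1,0,1,4,2,4,3,3,1,2,2,0,4,2,1,3,1,3,3,1,4,4,4,0,0,0,1,1,1,1,4,1,2,4,2,1,2,4,0,3,0,4,0,2,1,3,3,1,0,2,1,1,2,0,1,0,3,0,3,2,2,1,4,1,2,4,3,2,2,3,0,2,1,3,2,4,4,4,4,4,3,1,3,0,1,4,0,1,0,2],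
[0,2,1,1,0,4,2,4,2,2,1,2,2,0,3,4,4,2,2,3,4,2,3,2,1,1,0,3,2,0,4,4,0,1,2,3,1,1,1,4,3,3,2,4,3,3,2,0,4,0,2,4,2,2,1,2,4,2,0,1,1,1,4,4,2,3,3,3,1,4,1,1,3,2,3,1,1,3,4,0,0,2,3,4,4,4,0,2,2,1,3,2,0,1,0,0,2,1,2,2,4,1,3,3,0,1,1,2,0,0,1],
[2,0,3,3,2,3,4,2,2,2,2,0,3,1,1,0,2,1,0,4,1,3,3,1,3,2,3,1,1,3,3,0,4,4,3,1,1,3,0,0,1,3,2,2,4,1,2,1,3,3,2,1,2,0,0,2,0,4,2,0,2,3,0,3,4,0,4,0,0,4,2,3,0,3,4,4,0,2,2,1,0,0,4,0,2,4,4,3,0,3,2,4,2,4,1,1,2,1,1,3,0,2,0,0,2,1,4,1,4,0,4],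
[0,0,3,0,2,1,1,0,2,2,2,2,4,3,0,1,4,1,1,4,4,3,3,0,1,4,2,3,4,1,4,2,2,4,1,1,1,1,2,2,4,2,0,1,2,0,4,0,4,2,1,4,4,2,3,4,0,4,1,0,0,3,2,1,2,0,0,2,0,0,1,3,3,2,0,0,4,3,1,1,2,3,4,1,0,4,1,4,3,0,3,4,2,4,2,3,1,0,4,1,2,3,4,4,1,4,2,2,1,4,4],
[2,3,0,2,4,0,2,3,3,2,4,1,3,0,2,1,2,1,4,4,4,3,0,2,2,1,2,2,1,2,2,3,2,2,3,4,1,0,3,1,4,3,1,3,1,1,2,0,3,3,1,4,0,0,1,1,1,0,3,1,2,1,1,0,0,4,2,2,1,4,3,4,0,1,3,1,4,3,3,3,0,2,1,3,3,0,4,4,3,3,3,4,1,4,2,1,2,2,4,3,2,3,0,1,4,2,2,2,3,0,0],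
[2,1,3,3,1,2,1,4,2,3,2,0,4,4,1,0,1,2,0,2,2,0,4,3,2,0,2,0,2,0,2,1,2,0,2,0,4,3,3,2,4,1,2,2,4,3,2,4,0,3,1,2,2,4,4,2,2,4,0,2,4,2,1,0,2,1,1,3,3,0,3,1,4,1,0,3,3,3,1,3,0,1,4,2,3,2,2,2,1,3,4,3,3,0,1,2,0,4,4,2,4,4,4,3,3,4,0,2,1,4,4],
[1,0,4,1,4,3,3,2,3,2,1,3,1,0,3,4,4,0,0,1,2,1,4,2,0,0,3,1,0,0,0,4,2,3,2,3,1,3,4,4,2,0,3,2,4,0,3,4,1,3,2,1,3,1,0,4,3,4,0,2,0,1,0,4,4,0,1,1,2,1,0,1,3,3,2,1,2,0,0,1,1,3,3,3,1,4,2,3,3,1,3,1,0,1,2,4,2,0,2,0,3,1,3,0,3,2,0,1,3,4,0],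
[2,0,1,2,0,0,3,2,3,2,0,4,0,3,1,2,1,0,1,1,0,4,1,4,1,2,1,0,3,4,3,2,0,0,1,2,0,3,1,2,0,1,3,4,2,1,1,4,3,4,1,1,2,1,2,2,4,2,3,1,0,2,4,0,1,3,0,3,4,0,1,4,1,1,4,3,2,1,1,2,0,4,2,4,0,1,4,2,0,4,0,0,0,3,3,1,2,3,0,2,4,2,0,0,2,0,3,1,2,2,0],
[3,3,3,0,1,4,1,2,0,3,4,4,4,0,3,3,4,3,1,0,0,2,1,3,1,2,2,3,0,1,2,4,1,3,0,1,2,1,4,2,3,3,2,0,4,4,4,1,0,3,3,0,1,0,0,0,0,0,4,1,0,3,3,3,4,1,2,3,4,2,3,2,2,1,0,3,0,3,1,3,3,3,1,4,0,3,0,2,3,1,3,1,1,2,3,4,2,2,1,1,0,1,2,2,3,1,2,2,4,1,4],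
[1,1,0,3,4,0,0,0,2,4,3,4,3,2,1,1,0,0,2,0,2,4,0,4,1,2,4,4,2,0,0,1,0,2,1,0,1,4,2,3,4,0,1,4,1,1,2,1,2,3,1,2,0,1,3,1,2,0,2,2,2,1,1,0,1,4,1,1,4,1,3,1,3,1,4,4,0,3,4,0,1,0,3,2,3,0,0,1,0,3,1,3,4,4,1,2,2,1,4,4,3,3,1,1,1,2,4,2,2,0,0],
[3,3,3,3,3,4,2,3,3,4,1,4,3,3,2,0,1,2,0,4,2,3,4,2,0,0,2,3,3,4,4,2,2,3,4,1,4,1,2,3,2,3,3,1,2,3,2,4,1,2,1,4,0,4,2,0,1,1,4,2,1,1,4,4,4,3,2,2,4,1,3,4,0,2,1,0,0,1,0,1,1,1,1,0,1,2,0,3,2,4,0,2,2,3,2,2,2,1,2,4,0,3,0,4,2,3,0,3,3,0,4],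
[4,4,0,2,4,4,0,2,1,3,1,4,4,2,4,3,3,4,2,1,2,0,4,4,0,3,2,3,1,0,4,3,4,2,4,3,4,2,1,3,2,2,0,0,1,3,2,0,0,0,2,3,4,1,2,3,2,4,4,4,1,0,1,1,4,0,0,0,1,1,3,4,0,4,1,3,1,1,2,2,0,0,0,4,4,4,4,1,0,4,1,2,0,2,4,0,1,3,3,3,0,2,0,0,4,4,4,4,0,4,0],
[3,3,3,1,4,2,3,2,1,2,1,2,0,4,2,1,2,3,4,4,4,4,1,0,4,1,3,0,0,2,3,3,4,3,4,2,4,2,2,0,0,4,4,0,2,2,2,3,3,2,0,2,1,4,0,3,1,1,2,4,4,1,1,1,0,0,3,1,0,0,0,2,3,3,0,3,4,0,4,2,3,3,4,2,0,2,1,4,2,0,4,0,3,1,4,3,1,4,0,4,2,1,1,2,2,2,1,4,3,1,1],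
[4,3,0,0,3,3,3,3,2,1,1,2,3,0,0,1,4,1,3,3,3,1,3,1,4,4,3,0,1,0,3,4,3,0,1,2,2,4,3,1,1,3,3,1,2,3,0,2,0,2,0,2,0,2,1,1,4,0,3,4,1,3,3,3,1,2,4,3,0,1,3,3,0,4,1,3,1,2,4,0,3,4,2,4,0,0,3,3,2,4,4,0,4,1,0,1,1,1,4,0,4,0,0,3,0,4,2,0,0,1,2],
[3,4,3,2,3,4,2,3,2,1,1,4,4,3,1,4,2,0,1,3,0,0,4,1,4,1,3,1,2,1,3,1,0,0,1,2,3,0,4,4,1,3,2,3,2,3,3,4,0,3,0,4,1,1,4,4,0,1,4,4,0,2,2,2,0,1,4,0,2,1,1,2,3,3,0,3,2,4,2,3,4,0,4,0,4,4,0,3,3,4,3,2,4,4,3,0,2,0,3,1,1,3,4,0,4,4,1,1,2,4,0],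
[1,0,4,1,2,4,4,0,0,1,1,2,4,1,2,2,0,1,4,3,0,0,1,3,2,4,4,3,0,0,2,0,4,1,2,4,3,1,0,4,1,4,0,2,2,4,3,1,2,2,2,0,3,4,2,0,2,0,4,4,0,4,3,4,1,0,3,4,1,4,2,1,0,0,1,3,3,0,4,4,1,1,1,4,3,0,3,3,0,3,1,4,4,1,1,0,0,0,0,3,3,3,1,2,4,1,1,4,0,2,3],
[0,1,4,1,1,4,4,3,3,0,2,2,2,3,0,2,1,3,4,3,0,3,2,3,1,4,0,0,4,3,2,0,4,2,2,4,1,4,0,3,2,0,0,0,3,2,0,4,4,0,2,0,0,2,4,2,3,4,2,3,4,2,0,1,4,3,1,0,2,3,2,2,1,2,2,0,0,1,1,4,3,3,2,1,3,2,2,2,4,2,3,0,2,3,4,2,4,3,0,0,0,4,0,0,2,2,4,0,2,1,4],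
[1,4,1,2,1,3,3,1,0,3,3,4,3,4,1,4,3,0,1,4,4,1,3,0,0,4,0,0,3,0,1,0,2,0,2,4,1,1,3,1,2,2,2,4,0,4,0,1,0,0,0,2,3,0,0,3,1,4,4,1,3,3,1,2,0,0,4,1,3,4,4,0,3,4,2,2,4,3,3,0,3,4,1,1,4,0,0,2,2,4,2,2,1,0,2,0,1,1,0,4,3,3,4,4,2,1,4,4,4,0,4],
[4,0,0,0,0,0,0,4,4,4,2,3,4,0,1,4,4,4,1,1,3,1,2,1,4,0,3,4,4,3,4,0,0,3,2,4,4,3,1,3,0,1,4,4,1,1,3,3,1,1,4,4,2,0,1,2,0,1,0,0,0,1,3,3,1,0,0,4,1,2,4,2,4,3,2,1,3,2,0,4,0,3,0,4,4,4,2,4,1,1,0,3,0,0,1,0,3,2,3,1,1,2,1,3,4,0,0,0,0,3,3],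
[0,4,0,0,0,0,0,2,1,0,4,1,1,0,0,1,1,0,2,3,3,4,2,2,0,2,2,1,2,1,1,3,0,1,4,3,3,2,0,2,3,1,0,1,3,0,4,3,4,2,3,1,1,4,1,0,4,4,1,0,4,4,0,3,2,1,4,2,2,1,2,1,0,1,3,2,2,2,1,2,3,1,1,2,3,1,3,0,0,1,3,2,1,0,2,4,1,2,3,0,2,3,3,4,3,2,0,0,0,2,0],
[0,0,4,0,0,0,0,0,0,0,0,4,2,1,1,1,4,3,1,4,2,2,1,2,0,0,3,4,4,0,4,0,0,0,4,2,1,2,1,2,0,4,2,3,1,4,1,0,2,0,4,0,1,2,2,0,4,4,4,1,4,2,1,4,1,1,1,4,1,1,3,4,1,4,0,0,1,3,2,1,0,4,3,2,4,2,3,2,1,3,4,1,3,0,2,3,0,2,1,3,2,3,1,1,0,0,0,1,1,0,0],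
[0,0,0,4,0,0,0,0,0,0,0,4,2,3,3,0,3,2,1,2,4,1,1,3,3,1,2,3,3,0,0,1,1,1,4,3,0,4,3,3,1,4,1,2,3,4,4,3,2,3,4,3,1,4,2,2,2,3,0,3,2,3,4,1,2,1,1,2,4,4,2,0,3,1,2,2,2,2,3,2,4,1,3,4,1,0,1,3,2,4,2,2,0,3,2,1,1,4,4,2,3,1,1,3,0,0,1,4,2,0,0],
[0,0,0,0,4,0,0,0,0,0,0,3,3,1,0,4,4,2,2,3,3,1,2,2,4,1,3,2,0,4,1,3,1,3,3,2,0,4,1,0,1,0,2,2,2,3,3,3,3,2,0,1,4,4,1,4,4,4,1,1,1,4,4,0,0,2,2,0,2,0,0,2,0,2,0,4,1,0,2,0,2,4,4,1,3,0,2,0,0,4,3,3,2,4,4,0,1,3,1,2,3,3,2,1,0,0,2,2,4,0,0],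
[0,0,0,0,0,4,0,1,3,3,0,2,4,2,1,2,4,2,4,3,4,3,1,2,2,1,2,0,3,0,2,1,2,0,3,0,4,0,2,4,4,4,4,4,3,2,2,2,1,4,3,2,4,4,0,2,0,1,0,3,1,1,3,1,1,4,2,2,0,0,4,1,4,3,2,2,4,2,1,3,1,1,1,0,1,2,3,3,2,1,0,1,0,4,0,1,1,1,1,3,4,0,3,1,2,3,0,0,0,1,0],
[0,0,0,0,0,0,4,0,1,1,4,0,2,0,4,0,2,1,0,1,3,4,3,4,0,4,1,0,4,1,0,4,0,2,0,2,2,0,1,4,3,1,2,1,1,0,2,2,3,2,1,2,4,4,3,3,3,3,1,0,2,2,1,1,0,2,1,2,0,2,1,0,1,4,4,0,1,1,3,4,4,2,3,2,4,1,0,4,1,1,0,3,4,3,1,2,2,2,1,4,2,4,4,2,3,2,0,0,0,2,4]]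

noncomputable def carTab7 : List (List ℕ) := [[4,0,0,0,0,0,0,2,0,4,1,0,0,1,3,0,3,4,4,0,1,4,2,0,4,0,4,3,3,0,0,1,1,0,0,2,3,1,3,1,1,3,0,1,0,4,3,4,0,3,2,2,4,0,0,3,3,2,4,4,0,1,2,2,3,0,1,0,3,2,0,2,2,1,0,1,3,1,0,3,1,0,0,3,4,3,2,2,2,1,1,3,3,1,1,1,4,4,2,1,0,4,0,2,4,4,0,0,0,4,1],
[1,1,0,0,0,4,3,4,0,3,4,3,3,3,1,2,3,2,1,2,3,3,4,0,3,1,3,3,2,4,2,1,3,0,2,1,3,1,0,2,3,4,4,0,2,0,4,0,2,4,1,4,3,1,2,1,4,2,0,2,0,3,1,3,4,0,0,1,4,3,2,2,4,2,0,0,2,4,0,2,1,0,2,3,4,2,1,1,1,3,4,4,2,3,3,1,0,2,1,3,4,3,0,3,1,0,0,0,0,4,4],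
[0,0,0,1,0,0,0,0,0,0,0,0,0,4,1,4,0,0,1,3,2,4,3,3,0,4,1,4,3,0,1,1,1,3,0,4,1,3,0,3,1,1,0,2,2,3,1,1,0,0,4,4,2,1,4,4,3,0,2,4,4,4,3,2,2,4,3,2,3,0,0,3,1,1,3,4,3,4,1,2,4,1,4,3,1,2,1,0,1,4,4,0,0,2,4,4,2,2,1,0,1,0,1,1,0,0,4,0,3,0,0],
[0,0,2,3,4,0,0,0,0,0,0,4,0,4,4,0,0,2,1,1,1,2,0,3,2,2,4,2,2,0,0,3,4,4,4,2,4,3,1,0,0,0,4,4,4,0,1,4,0,0,0,1,4,2,0,2,2,0,0,4,0,4,3,3,2,2,3,4,2,2,2,0,4,1,4,1,4,1,1,3,2,1,0,1,0,3,1,2,3,0,0,1,2,2,2,3,1,1,4,2,0,2,4,2,0,0,0,1,1,0,0],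
[0,0,0,4,3,0,0,0,0,0,0,1,0,1,4,3,3,0,4,2,2,2,3,1,0,1,0,1,3,1,2,1,2,2,1,0,0,0,3,0,0,0,1,2,3,2,4,2,0,1,0,2,1,2,0,0,4,3,4,1,4,1,1,0,2,0,4,0,1,3,0,0,4,0,4,3,1,4,2,2,4,2,0,0,3,1,3,1,0,0,1,0,3,0,4,3,3,2,2,0,1,0,1,3,0,0,2,1,2,0,0],
[3,0,0,0,0,1,3,1,4,4,3,2,1,4,3,1,0,1,2,3,0,1,2,4,4,2,1,4,2,4,1,1,1,4,3,2,0,4,4,1,1,3,3,1,3,2,1,3,4,4,2,4,3,4,0,1,3,0,3,1,2,2,0,3,4,4,0,1,0,3,2,0,2,1,1,3,0,3,1,2,1,2,0,1,1,4,2,4,2,0,2,0,3,2,2,2,3,0,4,4,0,3,0,2,4,2,0,0,0,0,2],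
[4,3,0,0,0,1,4,2,4,3,4,1,4,1,2,4,3,0,0,2,1,0,0,1,1,4,0,1,3,2,4,0,4,3,4,2,4,1,4,4,4,3,4,3,2,0,0,0,1,0,2,3,4,3,4,4,2,2,2,4,2,3,2,0,2,2,1,3,0,0,4,4,3,0,0,2,4,2,0,3,0,3,4,0,0,3,2,2,0,2,1,4,3,2,4,0,1,4,3,0,1,1,0,3,2,1,0,0,0,4,4],
[1,0,0,2,3,4,0,2,0,4,3,3,4,0,3,1,4,0,0,0,0,1,3,3,4,3,2,4,0,4,2,4,4,1,2,2,2,2,2,2,2,3,1,2,3,2,1,2,2,4,4,3,2,1,1,4,3,2,3,2,1,4,2,2,0,4,2,3,4,4,4,0,2,1,0,2,0,2,4,3,3,2,0,4,2,0,3,1,3,4,3,0,3,1,2,3,3,1,2,3,2,3,3,2,3,0,2,1,2,4,1],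
[1,1,4,3,3,3,3,1,2,2,0,2,2,3,2,1,4,0,4,0,2,1,4,4,3,0,4,0,4,4,1,1,2,3,2,3,0,4,0,0,1,2,2,4,3,0,0,2,1,2,3,4,4,2,3,2,0,4,2,2,2,2,3,0,2,0,4,0,4,0,3,4,1,0,1,4,0,3,0,4,2,2,0,4,4,0,0,2,1,3,0,3,3,0,4,1,4,0,0,3,0,1,3,4,0,1,1,4,4,1,3],
[3,3,4,2,1,3,2,0,0,1,3,2,4,3,0,1,0,3,2,3,0,1,1,2,0,4,4,2,1,1,2,4,2,1,0,4,3,4,2,4,0,3,0,3,2,1,1,0,4,4,0,3,4,3,0,3,1,3,2,1,1,2,2,0,1,2,4,4,3,1,1,0,1,4,1,0,0,2,1,1,4,3,4,2,4,3,0,4,3,0,1,0,1,1,3,2,2,2,4,3,2,3,3,1,4,4,1,0,4,1,4],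
[1,4,0,3,4,2,4,1,0,0,3,3,4,1,0,2,0,3,0,4,1,1,2,0,1,1,3,3,2,0,0,4,1,4,0,2,0,0,4,0,4,3,4,3,0,4,0,3,0,0,1,2,0,2,1,3,2,4,0,0,1,2,3,1,2,3,4,0,4,3,3,4,0,1,3,1,2,1,1,4,2,3,3,4,0,3,3,3,2,4,4,2,0,1,1,4,4,4,4,3,3,0,4,2,1,3,3,4,1,2,1],
[1,1,4,4,4,4,0,0,4,1,1,3,0,3,2,2,4,3,0,3,0,0,0,4,0,3,4,2,1,0,1,4,2,2,2,1,4,0,2,0,1,2,2,3,1,1,1,0,2,2,1,4,0,4,0,2,0,4,0,2,0,4,2,2,4,1,1,2,0,4,2,0,1,1,1,4,3,1,0,3,3,4,3,0,4,0,0,4,4,4,4,0,1,1,1,1,4,4,4,2,1,3,4,2,0,2,1,3,3,3,1],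
[2,0,0,0,4,0,0,4,1,0,0,3,0,0,2,4,1,0,3,4,4,1,0,4,3,1,3,2,2,3,1,2,3,1,0,2,2,4,2,2,0,4,2,3,4,1,3,1,3,1,1,3,4,4,2,0,1,3,4,3,1,2,1,4,3,0,3,1,3,2,3,1,4,3,3,0,0,0,0,1,2,2,3,0,2,4,4,0,0,0,0,0,3,4,0,2,2,0,3,4,2,1,1,4,0,3,1,3,0,3,0],
[2,0,2,3,1,2,3,2,4,0,3,4,1,2,1,2,2,4,0,3,2,2,1,3,4,0,2,2,2,4,0,0,3,3,1,1,1,2,0,0,2,4,4,2,4,0,3,0,4,3,1,1,1,0,3,0,0,3,2,0,2,1,1,1,4,1,3,2,3,2,3,2,0,1,0,1,2,1,2,1,2,3,0,0,0,4,4,3,4,2,3,3,2,0,4,0,3,1,0,0,3,3,0,2,1,2,0,3,4,2,0],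
[1,3,1,0,3,1,1,2,3,4,1,4,1,2,3,0,1,3,4,3,1,0,2,4,0,3,1,3,0,4,3,1,3,0,1,4,4,2,0,3,2,3,0,3,4,4,4,3,3,4,2,1,3,3,2,1,3,0,2,4,0,2,4,0,2,1,2,4,1,3,4,1,1,1,4,4,4,3,1,2,2,0,2,4,2,4,0,4,1,3,1,4,1,2,0,4,0,4,2,2,4,0,1,4,3,4,0,3,4,0,0],
[3,0,4,2,4,1,4,2,4,1,2,3,2,0,2,2,4,2,2,2,3,1,1,1,3,0,0,4,4,3,3,2,3,2,1,1,4,1,0,4,4,3,3,0,1,3,3,0,4,0,2,0,3,1,4,2,2,4,3,0,1,3,1,2,3,4,1,1,2,1,0,3,0,4,4,0,1,1,1,4,3,4,1,3,4,4,2,0,2,2,4,2,1,0,2,0,0,3,1,3,1,3,3,3,0,0,2,0,2,1,1],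
[1,2,2,2,1,0,4,4,4,2,2,0,1,3,3,0,2,3,4,2,1,2,4,2,0,1,1,2,1,4,2,1,0,0,4,0,4,4,3,1,4,3,2,2,1,1,2,4,0,2,1,4,4,1,4,2,0,3,1,0,0,1,2,3,3,1,0,3,0,1,4,2,4,1,2,1,3,3,1,4,4,3,1,4,0,4,2,3,0,4,3,4,1,0,4,0,1,4,4,2,4,0,2,1,3,1,0,1,3,1,1],
[3,0,3,1,3,1,2,4,1,3,0,4,4,2,3,1,3,4,4,3,4,3,4,3,3,3,4,0,4,2,0,3,1,3,4,3,3,4,3,1,2,2,4,1,0,0,0,4,1,1,3,0,1,3,0,2,0,4,0,3,3,4,3,2,1,3,3,1,0,1,1,2,0,0,2,3,4,0,3,0,2,2,2,3,0,2,4,4,4,2,2,1,2,1,3,0,2,0,1,1,2,0,3,0,3,1,0,0,0,1,1],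
[2,2,3,4,3,3,0,4,0,3,0,1,0,0,2,4,4,2,3,0,0,1,4,0,4,3,3,0,3,0,2,0,2,1,3,4,4,1,4,0,0,0,1,0,4,3,1,3,4,4,4,0,2,3,1,4,2,2,2,3,1,3,0,3,4,4,4,3,0,4,2,2,0,2,3,2,2,2,4,4,4,3,2,0,0,2,0,1,0,1,0,3,2,3,0,1,2,4,3,0,4,1,3,1,4,4,4,1,2,4,0],
[4,2,4,0,4,4,0,2,2,3,4,0,0,3,2,1,0,2,0,1,3,3,0,2,4,0,4,0,3,4,1,3,1,2,1,3,2,4,1,0,1,0,0,3,1,1,2,2,1,2,3,3,0,4,4,3,1,2,3,3,4,0,1,2,1,0,1,0,1,4,0,0,0,1,4,0,4,0,1,1,4,3,2,3,3,2,1,1,4,2,0,0,1,1,2,1,1,0,1,3,1,1,4,4,2,1,0,1,4,0,2],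
[3,0,4,2,4,0,1,4,2,1,1,1,4,0,0,3,3,1,0,1,1,0,3,4,3,4,2,1,2,2,3,1,3,1,0,2,0,1,3,2,1,1,2,3,4,0,1,2,4,3,0,4,1,4,1,0,3,2,4,1,4,3,3,1,1,4,2,3,4,0,2,3,2,0,2,2,1,3,1,2,1,0,1,3,2,2,4,2,4,0,0,2,1,2,4,1,3,2,4,2,4,0,1,3,2,2,0,0,3,0,3],
[1,1,1,0,0,4,2,0,0,0,4,3,4,2,2,1,0,0,4,3,2,3,3,0,4,3,2,3,3,2,1,2,3,4,1,0,3,3,0,3,2,2,2,1,0,1,0,1,3,0,3,2,2,1,2,3,4,1,4,2,2,0,4,4,1,2,1,2,0,3,2,3,1,1,2,3,2,2,0,3,4,1,2,0,4,3,1,1,0,4,0,1,4,2,4,1,4,0,4,0,1,0,2,3,0,3,4,1,0,3,1],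
[3,0,3,3,4,4,0,1,2,2,0,0,2,0,4,4,4,3,4,2,4,4,1,2,0,2,3,2,3,0,2,4,1,3,1,0,0,0,0,4,3,0,0,3,4,2,0,0,2,3,3,1,4,2,4,4,2,4,4,1,2,0,4,4,2,0,1,3,2,0,2,4,3,4,0,1,0,2,2,3,2,2,1,1,1,1,0,1,3,3,3,2,1,1,0,3,2,0,2,1,1,1,0,2,3,1,4,4,0,3,2],
[1,4,0,0,0,3,4,4,1,0,1,0,2,1,4,4,3,2,0,3,3,4,2,4,0,2,2,1,3,2,1,1,3,0,4,3,1,0,3,0,4,0,1,1,4,1,1,1,4,4,2,3,3,1,4,0,0,4,3,3,0,1,1,1,2,3,0,4,1,0,4,1,3,0,4,2,1,2,4,1,4,2,4,1,3,0,0,4,1,3,0,3,3,4,0,0,2,0,2,2,0,4,2,1,0,1,1,0,3,4,4],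
[0,1,3,1,2,4,0,2,3,1,3,2,4,3,1,4,1,4,0,2,1,1,1,0,3,0,3,4,0,3,2,4,0,4,2,4,4,1,3,0,2,0,4,0,4,1,3,2,4,2,2,2,3,0,3,1,1,4,3,0,3,2,2,2,0,1,4,1,0,1,3,4,2,1,4,2,3,2,1,0,4,4,3,4,2,0,0,1,4,1,1,4,3,4,1,1,2,0,2,0,4,0,1,1,4,3,2,4,3,4,1],
[2,1,2,2,0,2,2,2,2,1,0,3,3,1,3,1,1,2,2,2,1,4,4,0,2,2,2,2,2,0,4,2,2,3,4,3,4,1,2,4,1,0,3,4,0,2,3,0,0,3,4,3,1,3,2,4,2,2,3,0,4,1,3,2,0,3,2,3,3,1,3,1,0,4,1,1,1,4,2,2,0,1,1,2,2,3,0,3,4,3,1,3,1,4,4,3,2,1,4,2,2,0,2,2,2,3,4,0,0,4,0],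
[0,4,0,3,2,2,3,3,2,2,1,0,2,1,4,1,3,3,0,1,3,3,2,3,1,4,0,0,0,0,3,1,0,2,0,0,0,4,0,2,1,4,3,4,1,0,1,1,2,4,4,3,1,2,1,0,1,0,0,2,4,4,0,0,2,0,3,0,2,0,3,4,1,2,4,2,0,2,0,4,3,2,1,2,0,4,3,3,4,2,3,3,0,0,0,0,4,4,4,3,0,3,4,3,1,0,3,0,3,0,2],
[4,2,1,4,2,2,0,0,2,2,3,0,0,0,3,4,1,0,2,3,0,3,1,0,4,1,3,1,2,0,2,1,2,2,0,0,3,0,1,3,2,1,3,0,1,0,1,1,1,3,1,1,1,1,1,1,0,2,2,3,1,1,1,3,2,0,4,0,4,0,2,0,0,0,1,1,0,2,3,3,2,4,0,2,1,0,3,4,3,0,0,0,0,2,0,4,2,2,4,1,3,3,4,4,3,0,1,1,2,1,3],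
[3,4,3,1,4,3,1,1,0,1,1,2,3,3,0,2,1,2,2,1,1,0,0,4,2,1,0,1,0,1,1,4,3,4,4,4,1,2,2,0,3,3,4,0,2,0,0,4,2,0,0,3,4,0,3,1,1,0,4,0,4,2,0,3,3,1,1,1,0,2,2,4,1,3,1,0,0,3,2,3,4,2,3,0,3,1,3,2,4,2,3,2,3,0,1,4,3,3,2,0,2,1,1,0,4,3,2,2,0,2,1],
[0,3,0,4,2,0,3,3,3,1,4,3,1,1,0,3,3,2,3,4,0,0,4,4,3,1,3,2,1,3,0,0,0,1,0,3,4,3,1,4,2,2,0,1,2,1,2,1,3,0,0,0,0,3,2,3,3,2,1,0,2,2,1,4,0,3,0,2,0,1,3,4,3,4,3,4,2,0,1,0,3,2,3,1,2,4,3,0,2,4,3,2,1,4,4,3,2,1,0,4,1,4,4,0,0,0,2,1,1,3,4],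
[3,4,0,1,4,3,0,0,0,0,1,0,4,2,3,0,1,0,3,4,2,0,0,1,1,1,1,3,0,3,0,0,2,0,0,1,1,1,2,0,3,0,4,4,2,2,1,0,3,1,1,2,3,4,0,3,1,4,0,3,1,3,4,0,0,4,1,4,4,0,3,2,1,3,1,1,2,3,1,2,2,1,1,1,1,4,0,3,0,2,0,2,0,2,0,4,0,4,2,1,2,2,3,3,1,4,4,0,0,2,4],
[3,0,2,1,1,4,2,1,0,1,4,4,3,3,0,2,0,0,2,4,3,2,0,1,2,1,0,4,2,4,1,3,2,4,1,0,1,4,1,4,3,0,2,1,3,1,3,1,1,4,3,0,2,1,0,0,2,4,1,0,2,4,2,2,1,0,0,4,1,4,0,1,2,4,3,1,0,2,3,4,3,0,0,2,4,4,1,2,2,3,2,4,4,3,1,4,4,1,1,4,4,0,2,0,1,2,3,4,1,0,2],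
[4,1,2,4,3,1,1,1,2,2,3,4,3,4,4,1,1,4,4,3,4,4,3,2,4,0,0,2,2,3,4,0,3,0,0,4,0,1,0,0,1,2,1,3,2,4,0,2,0,3,3,1,0,3,2,0,3,4,3,4,0,1,0,3,0,0,4,0,4,1,1,3,4,3,0,4,1,0,0,3,1,0,4,1,3,2,1,4,3,1,4,0,3,2,3,1,3,3,3,0,0,3,1,1,2,4,2,3,1,1,0],
[0,1,0,3,1,4,2,1,4,1,2,1,1,3,3,2,1,4,0,0,3,1,2,3,1,4,1,3,4,4,4,2,1,1,0,2,3,1,3,1,0,3,0,3,4,3,0,4,0,0,2,0,0,2,4,2,2,0,1,3,1,1,0,4,2,3,3,3,0,4,3,3,0,0,2,1,4,1,1,2,0,3,0,3,4,2,3,4,0,1,1,2,0,4,3,0,1,1,3,4,0,4,3,1,0,4,1,4,0,0,2],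
[4,2,4,2,0,1,4,1,0,2,0,0,0,3,2,1,1,0,0,1,0,4,2,4,3,4,0,0,0,2,3,4,1,0,3,0,4,3,2,2,3,0,4,2,4,2,2,3,0,1,2,2,1,4,4,3,0,1,1,3,1,0,2,1,4,2,2,2,3,2,4,1,2,0,1,0,0,2,0,3,0,0,1,0,2,2,2,2,0,3,0,3,0,3,2,3,3,1,1,4,0,4,1,1,4,3,1,1,4,1,2],
[0,0,0,0,4,3,2,1,0,0,1,1,1,3,3,2,4,3,2,4,0,2,1,2,1,3,0,1,2,2,0,4,2,2,2,1,1,4,0,3,2,3,4,3,4,4,4,2,0,3,4,1,1,3,3,3,3,3,2,4,2,3,0,1,2,1,2,3,2,0,1,0,3,1,2,3,4,2,4,2,1,4,2,0,0,2,1,3,0,3,3,2,1,4,2,2,2,3,1,3,1,3,2,4,0,0,2,2,3,4,4],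
[0,2,1,3,1,0,0,1,1,0,3,2,3,4,1,2,1,0,1,4,0,2,4,0,4,4,0,0,3,3,3,4,3,2,4,3,1,1,3,2,3,2,3,2,3,4,4,3,2,3,1,2,1,1,1,2,4,2,0,4,2,2,2,4,1,4,2,1,3,0,0,1,2,0,2,4,1,0,4,2,1,1,3,2,4,3,2,1,2,2,1,2,2,3,2,4,4,2,1,3,2,1,2,4,4,3,1,4,3,4,4],
[2,1,4,0,0,1,4,2,3,0,4,1,4,2,3,2,2,4,4,3,4,1,4,3,1,2,1,0,2,4,0,1,3,2,3,1,0,2,1,3,2,2,3,4,0,4,0,1,0,2,1,4,3,4,1,2,1,4,4,4,2,0,1,2,2,1,2,1,4,4,2,1,0,4,2,0,4,3,2,0,0,0,3,0,1,0,2,3,4,1,1,3,4,0,1,3,3,2,2,2,0,2,0,1,3,0,1,1,4,4,3],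
[4,4,4,2,3,1,1,2,4,2,2,4,1,1,4,4,1,0,3,2,1,0,0,0,4,4,4,4,3,1,1,3,2,0,4,2,4,4,2,3,4,4,0,3,3,2,1,0,3,4,1,1,4,0,3,0,4,3,1,1,1,4,4,1,4,3,4,4,4,1,4,3,0,3,1,3,1,2,3,0,2,3,1,1,4,3,1,1,2,4,4,4,1,3,4,2,4,3,2,4,0,2,2,1,2,0,0,4,2,2,2],
[4,0,2,3,3,2,2,0,0,2,1,4,3,2,2,0,4,2,1,2,2,4,0,3,1,4,3,1,0,2,0,1,2,4,1,1,0,0,1,1,3,2,1,1,2,3,4,2,3,4,4,4,4,3,2,4,2,4,3,3,4,1,4,3,1,4,2,1,2,3,3,4,0,2,0,0,3,0,2,2,0,0,2,1,4,2,0,0,4,3,2,4,1,1,1,4,3,2,1,1,1,0,4,4,4,1,2,2,0,3,1],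
[2,3,3,0,1,4,1,3,1,2,3,0,2,3,3,4,0,1,1,2,3,3,4,3,4,2,1,2,4,1,0,2,3,1,0,3,4,0,1,1,0,2,3,2,1,4,4,2,4,0,0,2,1,0,2,3,0,2,3,0,1,0,4,2,3,4,2,0,2,1,4,1,1,4,3,0,0,0,4,3,2,1,1,4,4,0,3,2,2,0,4,3,0,4,0,4,0,2,0,2,4,1,0,3,1,3,1,2,3,2,4],
[4,0,0,2,2,4,4,3,2,1,0,2,4,1,1,4,4,3,1,4,3,0,2,2,3,4,0,0,1,2,1,0,3,1,1,1,4,4,4,3,4,3,0,4,1,4,0,4,3,2,3,4,0,2,0,0,1,1,3,3,2,0,2,0,3,0,0,4,2,3,4,2,2,0,4,0,0,2,1,1,2,4,1,2,2,4,1,4,0,1,4,1,1,0,1,4,0,4,1,4,0,2,4,4,0,2,4,3,3,4,1],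
[1,3,2,3,1,2,3,4,2,4,2,1,4,3,1,1,3,4,2,4,4,0,2,2,1,0,2,2,0,3,4,3,2,3,1,1,3,0,3,0,4,0,3,1,3,1,0,1,3,1,2,3,1,0,1,1,0,4,2,2,3,2,2,3,1,0,2,3,1,3,0,3,0,1,2,0,4,2,3,4,1,2,2,4,4,0,0,3,0,1,2,4,4,0,2,4,2,1,4,0,2,4,2,4,3,3,1,3,0,4,2],
[2,4,0,0,3,4,4,2,4,3,4,1,3,2,3,3,0,4,0,2,3,0,1,2,2,4,1,3,0,1,4,1,2,2,4,0,4,2,0,4,3,1,1,0,0,4,3,2,2,3,0,4,2,2,3,4,2,2,3,3,1,0,0,3,1,2,2,1,1,4,1,1,3,4,0,4,1,0,2,3,4,0,4,3,1,4,3,0,1,4,3,3,0,4,1,1,1,1,3,1,3,1,1,0,2,2,4,1,3,0,3],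
[3,3,0,2,4,1,0,4,2,1,4,4,2,0,4,1,4,4,0,1,4,4,0,2,3,3,4,4,3,1,0,4,4,3,3,4,0,4,2,4,4,0,4,3,3,3,3,2,4,2,4,0,4,3,3,2,2,0,0,3,2,2,1,2,0,0,4,1,4,2,4,4,4,1,1,4,4,2,1,2,3,4,2,3,2,2,0,0,1,4,3,0,1,2,2,4,4,0,3,0,0,3,3,1,1,4,4,2,3,0,1],
[2,1,4,2,2,4,1,1,1,1,3,1,0,0,4,1,2,1,1,2,0,2,3,2,2,4,0,4,4,1,1,2,1,1,2,1,2,0,1,3,1,4,2,1,2,2,1,3,0,3,1,2,2,3,2,3,2,1,3,4,2,4,4,4,4,0,4,2,3,3,0,3,3,1,0,4,1,2,4,1,3,3,0,4,3,2,3,4,3,3,3,3,2,2,1,2,0,2,3,1,2,2,0,4,4,1,1,1,1,2,2],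
[1,2,3,0,4,4,2,2,2,3,3,2,2,0,2,4,4,0,0,2,3,3,2,0,1,4,1,3,4,0,3,0,2,3,3,0,3,0,4,4,2,2,4,3,3,0,2,4,1,3,4,0,2,2,3,2,2,4,0,1,3,2,1,0,3,0,3,2,0,4,4,0,2,2,3,4,4,3,4,3,3,3,1,1,2,2,3,2,2,3,3,4,2,3,0,1,3,0,4,2,2,1,2,0,4,3,1,4,4,1,4],
[1,4,3,4,3,1,2,0,3,2,1,1,4,3,2,0,2,1,1,2,2,4,1,1,3,4,4,1,4,4,3,3,4,0,2,0,2,0,4,1,4,0,4,1,1,4,2,2,0,0,2,3,2,3,4,3,0,0,0,0,2,0,1,2,4,0,2,4,0,4,4,1,2,4,1,3,3,4,0,1,4,3,1,0,4,1,1,0,2,2,2,0,0,4,3,0,4,4,0,4,0,0,0,4,2,4,0,1,1,4,1],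
[1,4,0,1,4,4,0,1,4,3,2,3,2,3,2,3,2,2,0,0,2,1,1,1,0,1,0,0,3,4,1,1,0,1,2,4,0,1,2,4,4,3,3,1,2,0,3,4,3,0,0,3,0,0,2,4,4,0,0,1,1,1,3,3,1,4,4,4,3,0,3,4,4,3,3,0,2,0,4,2,3,1,2,4,4,2,0,3,4,1,3,2,3,3,2,0,0,2,1,1,0,1,4,0,2,0,3,0,1,0,4],
[3,2,4,1,0,2,4,3,4,1,2,2,4,4,2,1,3,2,4,1,4,4,0,3,4,1,2,4,0,2,2,3,2,4,4,2,0,3,2,0,1,3,4,2,3,3,2,4,4,4,2,1,1,3,3,3,0,0,0,0,4,1,4,4,2,1,1,2,3,1,4,0,0,4,3,2,2,3,0,2,0,3,4,3,3,1,4,1,3,1,1,0,3,4,0,4,1,2,3,0,4,4,3,0,2,4,1,0,3,1,1],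
[2,4,2,3,3,3,0,3,2,1,1,4,0,4,2,0,2,0,2,1,1,2,2,0,3,1,0,2,3,1,3,0,3,4,0,2,1,4,3,2,2,1,4,3,4,4,2,2,2,2,4,1,0,0,1,3,0,4,1,1,3,0,3,2,0,1,0,4,0,3,1,2,1,4,4,0,3,4,3,0,0,4,3,2,3,0,0,3,3,0,2,0,4,3,1,4,1,3,1,3,1,2,4,1,1,4,0,4,2,4,0],
[1,3,0,1,2,0,3,3,2,3,4,0,4,0,1,3,1,4,2,0,0,1,0,3,1,4,3,4,0,4,0,0,1,4,0,4,3,4,2,1,4,3,4,2,3,1,1,2,1,2,3,4,1,3,3,0,0,0,2,3,3,3,2,3,0,1,2,2,1,0,1,3,3,2,0,4,2,3,4,0,2,4,1,3,0,0,1,4,2,2,0,2,3,1,3,0,0,3,4,1,4,1,2,4,3,3,0,2,1,4,0],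
[1,0,2,0,3,1,2,1,3,1,1,3,4,3,0,0,1,0,0,0,4,4,3,4,0,3,2,0,2,1,4,4,0,4,4,1,3,0,4,3,3,0,0,4,4,3,3,4,1,2,4,3,4,4,0,2,0,4,2,1,3,0,0,2,1,0,4,2,3,2,3,3,3,2,4,4,2,2,4,0,2,2,0,4,0,4,3,0,4,1,4,0,3,1,3,4,2,4,1,0,2,0,2,1,0,2,4,2,1,3,2],
[0,0,0,2,4,3,4,2,3,4,1,2,3,1,3,1,4,1,4,0,0,2,3,2,2,3,0,3,0,4,0,3,4,3,3,1,1,1,3,2,1,3,1,2,3,2,1,2,4,4,4,1,0,2,0,3,2,3,1,3,2,4,1,1,2,0,4,1,1,2,4,4,2,3,4,3,3,4,4,0,1,3,1,4,4,0,1,0,0,2,3,4,2,3,1,1,2,2,4,0,0,0,3,0,1,1,0,1,4,2,1],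
[1,4,1,0,0,1,4,1,3,2,2,0,2,3,4,4,2,2,1,0,4,1,0,0,2,1,3,3,4,1,0,2,1,0,3,3,4,3,4,3,2,3,0,2,3,1,3,1,4,0,0,0,2,0,0,2,2,4,4,1,2,0,1,3,0,3,1,0,4,2,1,3,0,0,0,1,4,1,0,0,2,0,2,4,4,2,2,3,0,1,0,1,0,0,4,1,4,1,4,0,4,0,3,3,1,0,3,1,0,1,3],
[2,4,3,3,1,2,2,4,4,1,0,0,1,2,4,1,2,0,2,2,3,3,1,4,0,1,1,3,3,4,2,4,0,4,1,3,4,0,3,4,2,1,2,4,3,4,2,2,0,2,1,2,4,0,1,3,0,2,1,3,1,3,2,3,2,3,3,1,1,1,4,4,4,4,0,2,0,1,1,3,2,4,4,1,3,4,4,3,1,4,0,1,1,1,0,2,0,1,1,4,0,2,2,4,0,2,2,1,3,3,3],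
[0,0,3,1,3,2,1,2,3,1,2,0,0,4,4,0,1,0,1,2,2,3,4,2,3,0,1,2,3,4,2,2,0,1,2,4,2,3,3,0,3,4,0,1,1,4,1,0,2,2,1,2,2,3,0,3,3,4,3,4,4,4,3,1,4,1,3,0,4,4,3,3,3,4,4,1,1,3,0,2,4,3,1,0,0,0,3,4,0,4,4,4,3,1,2,4,0,4,4,1,2,4,4,0,0,1,3,0,2,1,3],
[1,0,3,4,1,2,1,0,1,2,1,4,4,3,0,4,1,3,4,3,2,4,0,1,3,3,4,2,4,4,0,1,4,1,1,4,4,0,3,0,3,2,4,1,1,0,4,4,4,2,2,2,3,0,1,0,3,2,0,3,4,4,2,0,4,3,2,4,4,1,0,0,2,0,3,0,0,3,2,2,4,1,4,3,1,2,1,1,0,2,0,1,3,1,2,3,0,2,4,4,2,0,2,2,0,1,0,0,3,0,2],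
[4,2,2,1,3,1,3,0,4,1,3,2,1,2,1,2,3,3,0,3,0,4,4,3,2,4,2,1,3,0,0,3,4,3,0,1,3,0,3,3,0,4,2,2,2,4,1,2,4,3,3,2,2,1,3,4,0,3,0,3,1,2,0,3,0,0,3,3,4,0,3,1,2,0,2,4,1,1,2,1,2,0,0,0,3,0,1,3,2,3,4,1,2,3,2,0,0,2,2,1,1,2,0,4,1,3,0,1,2,1,1],
[1,1,1,0,0,2,4,1,0,3,2,2,2,3,4,0,2,4,0,1,1,2,4,2,2,4,1,2,0,0,2,0,0,0,3,0,0,2,3,3,4,2,4,0,3,0,3,1,0,0,0,3,1,4,4,4,0,3,1,0,4,2,2,2,3,3,1,0,4,2,3,1,3,3,4,2,2,0,1,2,3,4,2,4,0,2,2,3,4,0,3,0,1,3,0,4,3,4,0,2,0,4,3,4,1,0,1,2,0,1,3],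
[3,0,1,2,4,4,0,2,2,3,2,2,1,0,2,1,0,4,3,0,1,2,3,1,1,4,4,1,2,3,3,3,3,0,1,0,0,3,2,3,0,0,3,4,1,4,4,0,4,4,3,0,3,0,2,4,2,0,2,4,2,1,0,4,3,0,0,3,3,2,2,3,0,0,0,0,0,0,3,0,4,4,3,1,0,4,0,0,2,1,2,3,1,0,3,3,2,2,3,0,0,3,1,0,2,1,1,1,4,4,4],
[3,4,0,0,1,0,4,0,2,3,3,1,0,3,3,2,4,3,2,2,2,1,0,2,0,2,2,3,0,0,2,2,1,1,0,1,4,3,3,1,1,1,2,2,3,0,1,0,2,3,3,2,2,2,3,2,0,0,1,0,2,0,3,2,4,3,4,4,4,4,1,0,3,0,4,2,2,3,2,2,3,4,0,3,4,2,0,1,0,1,3,3,1,3,3,4,0,3,3,2,2,0,1,1,3,0,2,3,4,4,0],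
[1,2,1,3,4,0,1,2,2,0,2,0,1,3,3,1,4,0,3,2,2,3,1,4,4,3,4,4,0,0,0,4,3,3,2,3,4,0,1,0,3,2,1,3,1,1,2,2,2,4,4,4,3,3,4,1,4,3,3,1,3,3,1,0,0,1,2,2,2,0,1,4,3,1,0,0,4,0,1,4,1,0,3,3,3,3,3,2,4,2,1,2,1,3,3,3,3,4,2,4,3,0,2,3,3,1,2,3,4,1,2],
[4,2,0,4,3,4,1,0,1,0,0,2,3,0,1,0,3,0,0,4,1,3,1,4,2,1,1,0,4,3,0,4,1,1,1,3,0,1,1,4,3,0,3,3,2,3,4,0,4,4,4,0,4,2,1,3,0,1,1,3,4,2,1,1,2,1,3,0,0,0,0,1,2,0,3,1,1,0,1,2,4,2,3,1,1,3,3,3,1,4,4,0,1,4,1,3,0,3,3,3,2,2,0,4,1,2,4,2,4,2,2],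
[0,2,1,3,2,1,0,4,2,0,2,2,2,0,4,0,0,0,3,3,4,0,0,0,0,2,1,2,4,4,1,3,3,1,0,0,2,2,0,3,1,0,1,0,4,0,4,0,1,0,0,3,3,1,0,4,3,4,3,3,0,1,3,3,2,0,4,3,1,4,2,0,1,1,3,4,3,2,2,3,3,3,3,0,3,0,2,1,4,4,1,1,4,3,4,2,0,0,1,1,4,4,1,2,4,3,3,0,4,2,1],
[0,2,4,2,4,2,2,1,4,2,3,1,3,3,0,2,1,0,2,0,3,3,1,4,4,0,3,0,2,1,3,3,0,0,4,4,3,0,4,3,3,4,3,4,1,3,2,1,2,4,3,1,1,3,2,3,1,4,4,3,3,1,2,2,2,3,0,3,1,3,1,0,3,1,3,3,0,0,4,4,0,3,3,3,3,2,4,0,1,3,2,3,2,2,0,2,4,2,2,4,3,1,0,0,3,3,1,4,1,0,0],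
[3,1,4,1,1,2,2,2,1,0,2,0,2,0,3,1,3,2,4,4,0,0,1,4,1,4,1,1,1,2,2,0,4,3,0,2,0,2,0,0,2,4,1,0,1,1,4,3,3,2,0,2,4,2,4,2,4,2,0,0,1,0,1,1,0,2,1,2,3,1,4,1,4,4,2,3,1,3,2,1,0,1,0,4,4,0,3,0,0,4,0,4,2,2,1,4,4,0,4,4,2,1,3,3,2,0,0,0,3,3,1],
[4,1,4,3,4,2,0,4,4,2,4,1,3,2,1,4,1,2,4,0,4,3,1,4,0,0,4,1,0,0,3,2,0,1,2,3,1,4,2,4,0,0,4,3,2,3,2,0,1,2,2,1,4,3,4,0,3,3,2,2,0,2,4,2,3,4,1,3,0,0,4,1,0,1,3,0,4,0,2,1,0,4,1,4,1,4,4,1,1,0,2,0,4,1,2,0,1,4,3,4,1,1,0,0,1,0,0,3,0,4,0],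
[3,3,3,4,3,0,3,1,1,0,0,0,0,3,1,0,1,2,4,0,4,2,0,1,0,2,4,4,1,3,3,0,0,4,3,4,2,2,2,3,1,2,3,2,4,0,0,2,0,4,4,1,3,4,0,0,1,1,4,1,4,0,3,0,0,2,4,3,1,4,1,2,0,3,2,1,1,1,4,2,0,0,3,2,1,4,3,2,2,0,4,4,4,1,4,1,1,1,3,4,0,0,4,1,4,2,0,3,0,1,2],
[0,4,0,1,0,1,1,2,0,4,4,0,4,1,1,2,2,0,1,3,3,2,4,2,2,0,0,3,3,2,0,3,0,1,1,1,2,2,4,1,3,4,3,4,2,0,2,0,1,4,1,4,3,3,1,4,4,0,2,3,0,0,2,4,1,0,1,4,1,4,2,2,1,3,2,4,0,0,0,2,4,4,1,4,1,0,1,4,4,4,0,3,3,1,4,3,4,4,4,1,0,3,2,3,3,3,3,3,1,3,0],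
[1,3,1,4,3,4,1,3,0,4,2,3,4,4,3,0,1,4,2,4,0,1,4,4,3,4,3,1,2,0,3,0,4,0,2,3,0,1,3,0,2,3,1,1,0,2,1,2,0,1,4,2,2,4,4,3,2,1,2,4,4,0,2,1,3,1,4,0,3,4,4,2,2,3,0,2,1,2,1,1,4,0,4,1,3,2,3,1,1,2,0,2,4,0,2,3,0,2,0,4,1,1,3,0,3,0,2,0,4,2,0],
[4,1,4,3,2,2,1,4,0,4,3,4,3,1,1,3,1,4,2,4,3,4,0,4,3,0,0,4,3,4,4,2,0,1,4,1,4,2,2,2,0,3,2,1,2,2,0,2,3,1,4,0,4,0,2,0,3,1,2,4,3,2,2,3,1,0,2,0,3,1,2,2,2,4,4,4,3,4,0,0,1,0,1,3,4,3,1,2,3,0,0,1,2,0,2,3,0,4,3,2,2,1,1,0,3,2,4,2,3,1,2],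
[4,1,4,1,2,2,3,4,2,2,1,4,0,4,4,4,3,4,0,4,3,0,1,3,0,2,4,2,1,2,3,2,1,0,3,4,2,1,4,1,0,0,2,0,0,2,2,0,1,0,0,1,2,1,1,0,0,4,4,0,4,4,3,2,1,2,2,1,1,3,0,2,1,0,1,1,0,3,0,1,1,1,1,0,3,0,1,0,0,2,1,2,0,3,2,0,4,2,2,1,1,1,0,3,1,0,3,2,0,3,0],
[2,4,3,2,2,1,3,3,3,4,1,0,2,4,4,0,0,3,3,2,2,2,4,4,1,1,2,1,3,0,2,1,2,3,0,2,4,2,0,0,0,0,3,2,2,0,4,1,2,1,0,0,4,4,1,3,0,0,1,3,2,4,1,4,3,4,1,3,2,2,1,4,1,1,3,4,0,3,2,3,0,4,3,0,4,3,0,4,2,4,1,1,2,1,4,4,0,0,1,4,3,2,2,0,1,4,1,4,1,3,3],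
[2,2,1,2,3,4,1,0,4,4,1,2,2,2,2,1,4,1,3,0,1,1,4,0,2,0,2,0,0,2,1,0,1,4,4,4,2,3,3,0,0,0,2,3,4,3,1,2,4,1,2,0,2,1,1,1,2,2,1,2,4,2,3,3,0,1,1,1,4,4,1,2,4,1,2,2,1,1,3,0,4,1,4,1,2,0,1,1,0,0,3,1,1,0,0,1,0,0,1,4,2,3,4,2,1,2,1,3,3,1,0],
[4,1,1,4,1,4,3,4,1,3,1,3,4,0,2,3,3,0,0,2,0,0,2,1,2,4,4,3,4,2,4,2,0,1,4,1,2,1,3,0,0,1,2,0,3,3,2,2,0,3,2,4,3,0,1,4,3,3,4,1,0,1,2,4,3,3,0,3,4,2,2,1,3,2,0,2,3,1,1,1,3,4,2,2,2,2,3,4,3,0,2,1,1,2,0,3,4,1,4,4,2,4,4,0,4,2,3,1,0,2,4],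
[1,2,0,4,1,0,0,3,1,0,2,0,1,4,4,1,2,0,4,0,2,1,3,1,4,4,1,2,3,1,0,2,4,2,4,0,1,3,3,1,4,2,2,4,1,1,3,4,3,1,0,4,4,0,3,3,2,2,3,0,2,0,2,2,2,4,1,2,1,4,0,4,0,3,3,3,4,4,3,3,0,2,1,3,4,2,0,0,2,0,1,4,1,0,0,3,0,0,4,2,4,0,4,4,4,3,2,0,0,3,0],
[0,3,0,3,3,2,1,1,4,3,1,0,0,4,2,2,2,1,4,3,4,4,4,1,2,2,1,1,2,4,1,0,4,1,0,1,3,1,4,3,4,0,4,4,0,1,3,1,2,0,4,2,0,1,3,2,1,3,3,0,3,1,3,3,1,1,3,1,0,4,4,2,1,2,0,0,1,4,1,2,0,3,3,1,0,4,2,2,4,0,1,2,1,1,3,3,3,2,1,1,4,4,2,4,2,1,1,3,2,3,1],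
[0,3,1,1,0,0,3,2,2,2,1,1,2,3,1,1,4,0,0,2,3,0,1,2,1,0,4,2,0,2,2,3,2,0,1,4,0,3,0,0,3,0,2,0,4,3,4,0,0,3,1,2,3,2,4,3,3,1,3,0,1,1,2,2,0,2,1,0,0,0,3,1,0,4,4,2,4,0,4,2,1,3,0,4,2,0,2,4,3,3,1,1,2,0,4,0,0,1,3,1,3,1,2,2,0,1,3,3,3,3,3],
[2,0,0,3,0,3,0,1,3,0,2,4,3,2,4,2,2,2,3,4,3,3,3,3,0,4,2,1,2,3,1,4,0,4,3,1,3,3,0,2,0,3,1,3,4,0,4,0,4,0,4,1,3,0,4,1,4,2,1,2,3,3,0,4,2,3,2,4,4,3,4,3,4,4,1,1,1,2,0,3,3,3,0,1,4,4,1,3,2,2,1,2,3,0,1,3,2,4,3,4,4,3,2,1,0,2,0,0,0,0,1],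
[4,3,2,3,4,1,4,3,0,1,1,4,2,3,4,4,2,2,2,1,2,0,4,4,2,0,2,4,1,3,2,0,3,1,2,3,3,1,0,2,0,3,1,1,1,1,0,3,4,3,2,0,0,0,0,0,2,2,2,2,4,2,2,2,0,4,0,1,4,3,1,0,3,2,4,4,4,0,3,2,1,1,2,2,1,2,4,2,3,0,1,3,1,1,3,2,3,2,1,1,2,4,4,1,4,1,3,2,2,4,1],
[1,1,0,4,4,3,4,4,1,3,4,2,1,3,1,4,4,3,4,2,0,0,4,3,2,2,4,4,2,4,0,3,4,1,0,0,2,0,1,4,4,0,0,1,4,0,1,1,4,4,3,1,0,2,1,0,2,0,2,4,4,3,0,3,2,0,2,0,1,4,0,0,0,1,2,2,4,2,4,3,2,0,4,0,4,0,2,3,2,1,1,2,2,2,4,2,0,4,4,4,0,1,3,2,3,4,4,2,1,0,1],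
[0,4,1,1,2,4,0,1,0,2,3,2,4,1,2,3,0,3,2,2,0,4,4,3,3,2,2,2,0,4,2,2,4,3,2,1,4,1,4,2,3,4,4,1,0,1,4,4,1,0,2,1,3,4,3,2,4,4,4,1,0,4,4,3,2,4,0,4,0,3,3,0,4,3,3,0,4,3,0,0,1,3,4,1,0,1,1,4,1,2,0,4,4,2,1,1,0,0,3,2,3,2,1,0,4,0,0,3,0,2,2],
[3,0,4,4,2,2,0,3,1,1,2,3,2,4,0,1,2,3,3,3,4,0,0,1,3,4,3,1,0,2,4,0,4,2,4,3,0,3,1,0,0,1,3,1,2,1,0,2,0,0,4,2,4,1,3,3,2,3,4,1,1,4,3,0,4,4,2,1,4,0,4,3,1,1,0,0,0,1,2,4,2,4,1,0,4,4,3,0,1,1,1,3,0,3,1,2,3,4,4,1,1,2,0,2,4,1,3,2,0,0,2],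
[2,2,2,4,3,1,4,0,1,3,4,3,3,0,0,0,4,2,4,0,1,3,3,4,1,4,2,1,4,2,2,0,2,4,3,2,2,0,2,2,4,4,3,0,3,2,3,4,3,3,4,4,3,2,4,0,0,1,2,0,2,0,4,0,3,0,0,0,0,4,0,0,2,0,4,2,0,4,3,4,3,3,0,0,1,4,2,1,3,4,2,0,4,1,1,2,4,0,4,3,4,2,3,3,3,4,2,0,0,4,1],
[3,1,2,3,1,1,0,0,1,2,1,4,2,3,2,0,0,3,3,4,4,0,1,0,3,1,2,4,1,1,4,2,2,3,3,3,0,2,4,1,3,4,2,4,0,3,4,0,1,4,4,0,0,0,3,3,1,3,2,0,4,3,3,2,0,4,0,4,3,0,4,1,1,4,0,1,2,2,2,2,1,3,4,1,3,0,3,0,0,3,2,0,2,1,2,0,4,0,4,3,3,3,0,2,0,4,3,0,1,1,2],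
[3,3,0,0,0,3,2,2,1,2,3,4,0,3,3,4,1,4,0,3,0,4,1,0,3,3,0,3,3,0,3,4,2,0,3,2,1,2,0,2,2,3,4,3,1,1,0,1,4,2,1,3,4,2,0,2,1,3,1,1,0,2,0,1,0,0,4,1,4,2,2,1,1,1,4,4,4,4,0,1,3,0,1,0,0,0,4,3,2,2,3,4,3,1,1,0,2,3,0,1,1,0,1,2,0,4,2,0,2,2,4],
[2,2,1,3,0,4,2,0,4,4,2,4,2,2,0,1,2,2,0,3,2,0,3,0,3,1,2,4,0,1,4,2,4,2,1,3,3,2,2,0,0,0,3,1,4,2,3,4,0,2,3,4,2,3,1,2,1,2,3,1,4,1,4,0,3,0,1,0,4,2,2,3,2,4,0,0,1,2,2,1,2,0,0,3,2,4,1,3,0,0,4,2,3,0,2,0,4,3,2,4,3,1,3,1,0,0,1,2,2,1,4],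
[4,2,4,3,0,3,0,0,3,2,4,4,0,1,1,3,2,4,0,0,1,4,2,1,0,2,1,1,0,0,3,4,2,3,0,2,1,2,3,4,1,3,4,0,0,1,2,0,0,2,3,0,1,0,4,2,0,1,0,1,4,4,2,3,4,2,3,3,1,3,3,0,0,3,4,0,2,1,2,4,1,1,1,0,4,0,2,3,3,0,0,2,2,1,0,1,3,0,3,4,3,0,3,0,1,0,1,0,1,3,3],
[4,2,1,1,0,3,4,4,1,1,0,0,1,1,0,0,3,2,1,2,0,2,2,2,2,4,0,2,1,4,3,1,0,4,1,1,0,4,4,0,4,1,3,4,3,3,1,2,4,0,3,0,2,0,3,3,4,2,1,3,0,4,3,0,0,4,3,4,2,0,2,3,0,2,2,3,3,2,2,4,0,4,0,3,4,3,0,3,4,2,3,1,0,2,4,4,2,0,0,3,2,3,4,2,0,1,0,4,0,3,0],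
[0,3,0,0,2,3,4,4,1,1,3,0,0,0,2,4,4,1,0,4,2,4,0,0,4,1,0,3,3,1,3,3,2,1,2,1,1,3,0,4,4,0,4,4,3,2,2,2,4,3,1,1,3,3,3,1,4,1,2,4,0,0,3,3,3,0,0,2,0,2,3,2,2,1,3,2,0,1,0,4,3,4,1,1,4,3,1,2,0,0,4,0,3,3,4,0,0,1,0,0,3,4,1,2,4,2,1,3,1,1,1],
[3,2,1,3,4,0,0,2,3,3,0,4,0,3,3,1,3,2,2,1,1,2,1,3,3,3,0,2,4,2,2,2,4,3,2,0,4,3,0,4,1,0,1,1,3,3,2,3,0,0,0,0,3,4,1,1,2,1,4,4,2,1,4,4,3,0,2,2,0,4,4,4,3,2,4,0,0,2,4,1,2,2,0,1,1,2,1,0,4,0,0,1,0,2,2,3,4,3,2,2,3,2,3,2,3,0,1,4,1,0,4],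
[4,4,1,2,1,3,2,3,4,1,2,0,3,3,2,2,2,3,3,0,2,2,1,0,0,1,4,3,2,2,2,2,4,1,0,2,3,1,0,0,2,4,0,1,4,0,4,1,2,3,2,2,1,3,3,3,3,1,4,3,2,4,0,4,2,2,2,2,0,0,0,2,3,0,3,0,1,0,0,4,4,2,4,4,3,0,4,2,1,1,1,2,2,1,1,2,0,1,4,2,0,3,3,3,0,3,3,4,3,0,0],
[2,1,0,3,1,2,0,3,2,3,2,3,3,2,2,2,1,4,0,1,4,1,2,1,1,4,2,4,1,4,1,2,2,3,4,2,0,2,3,1,1,0,3,3,4,2,2,4,4,3,4,0,4,1,0,4,1,1,1,0,0,2,2,4,1,2,2,4,1,4,3,0,2,2,1,0,2,4,1,0,1,0,1,0,3,4,4,0,3,3,2,2,3,2,2,4,1,1,2,2,0,3,0,3,4,4,4,2,4,2,3],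
[4,2,4,0,4,2,2,0,0,4,4,0,0,3,4,2,2,3,4,0,4,0,3,3,0,1,3,2,2,0,1,2,2,4,2,4,1,1,3,2,2,1,3,3,1,2,4,1,1,2,0,4,0,2,1,1,1,2,4,4,4,0,1,3,4,3,4,2,2,0,0,4,0,1,4,2,0,3,4,1,2,0,1,1,0,4,0,1,0,2,3,0,2,4,0,4,3,4,1,1,2,4,4,4,2,2,4,3,3,4,0],
[3,3,4,1,2,4,0,0,3,1,1,2,4,4,3,4,2,0,2,0,0,0,3,2,1,1,3,3,3,2,1,0,1,2,3,0,4,4,0,1,0,0,1,4,1,1,0,1,3,2,2,3,2,0,0,4,3,3,0,2,4,4,3,1,1,1,0,3,4,4,1,0,2,1,1,3,2,0,0,2,1,2,0,4,4,0,4,0,4,4,3,4,2,1,0,3,2,2,0,1,4,1,1,3,1,4,3,4,4,0,3],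
[2,0,1,0,3,3,4,2,2,0,3,3,0,4,0,2,4,3,2,2,1,2,3,2,2,3,3,0,4,0,0,0,4,3,1,1,1,1,1,1,4,0,0,3,3,0,3,0,2,2,2,4,3,2,2,1,2,3,1,3,1,4,1,1,1,1,0,0,4,1,1,2,3,3,2,0,0,0,1,1,0,2,1,2,2,2,1,1,2,1,4,3,2,1,1,2,1,1,3,2,3,4,0,3,1,1,2,4,3,1,2],
[4,2,1,3,1,1,4,3,2,2,0,1,1,4,1,3,1,3,0,0,1,3,3,3,2,0,2,3,3,3,3,1,4,2,3,1,0,3,2,1,3,0,1,0,2,0,2,4,4,2,4,0,2,0,4,1,4,4,1,2,0,2,0,3,4,3,2,2,1,2,4,2,4,3,3,0,3,3,2,3,0,1,3,2,2,0,3,4,2,2,2,4,2,3,2,4,1,0,0,0,1,3,3,3,1,4,2,2,0,0,2],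
[2,4,4,2,2,4,0,2,4,3,0,4,4,4,2,1,3,1,3,3,2,1,1,0,1,4,0,4,1,1,1,1,4,3,1,2,4,1,2,2,1,4,3,0,4,4,4,2,4,3,4,4,1,4,2,0,3,1,2,1,0,4,2,3,4,0,4,3,3,4,4,0,4,3,1,1,4,0,0,1,2,3,3,3,3,3,0,3,0,0,0,4,4,4,0,2,2,1,4,2,0,2,0,3,3,1,0,1,4,3,0],
[3,3,0,1,4,2,2,4,2,3,1,0,1,2,0,2,1,1,0,4,2,4,4,3,3,3,2,2,1,4,3,1,4,4,0,1,0,0,2,2,0,4,2,3,3,0,1,3,4,0,1,1,3,1,1,2,1,1,4,0,4,3,0,3,2,1,0,1,0,4,4,4,4,0,1,2,1,4,0,0,2,3,4,4,3,0,0,1,0,4,4,3,1,1,3,1,4,0,1,3,4,3,3,4,3,1,4,0,2,0,4],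
[3,2,1,2,2,3,2,0,2,2,1,1,4,2,0,0,3,0,1,2,2,4,1,4,1,1,3,1,2,3,3,0,4,3,4,2,0,2,2,4,2,2,0,2,1,4,3,0,1,4,0,4,2,1,2,1,4,0,0,4,3,2,3,1,3,1,1,1,3,1,3,1,2,4,1,2,1,3,2,1,0,2,1,4,4,0,4,1,3,0,4,2,0,0,1,4,4,2,1,3,0,3,1,3,2,3,1,0,0,0,4],
[1,3,2,3,3,0,2,4,3,2,0,2,4,2,1,2,4,0,0,1,2,2,4,2,2,3,4,3,2,3,1,4,0,0,3,4,1,1,0,0,3,1,1,2,2,3,3,3,4,4,0,2,3,1,1,0,2,3,4,4,2,1,0,3,1,3,3,2,1,1,1,4,1,3,4,0,3,4,2,1,1,4,0,0,2,4,2,4,1,4,1,3,4,3,0,1,3,4,4,0,1,2,2,1,0,3,0,3,4,2,3],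
[1,2,3,3,4,1,3,3,4,1,0,1,2,3,0,4,4,4,1,2,0,3,2,4,4,1,2,2,1,2,2,2,3,0,4,0,3,3,0,3,0,4,3,0,1,1,3,0,4,4,0,2,2,2,0,1,1,1,2,2,4,3,1,2,2,2,0,0,3,4,3,2,4,4,1,2,1,3,1,3,4,1,4,1,2,3,3,3,1,1,0,1,1,2,4,1,2,3,2,2,2,3,1,0,4,2,3,0,2,4,1],
[0,0,3,1,4,1,4,4,2,3,0,1,2,1,4,0,0,3,4,1,3,0,3,4,0,4,1,1,2,0,4,4,1,2,0,4,0,0,1,3,2,1,0,0,2,2,0,2,4,3,4,0,4,2,0,4,2,4,3,2,0,3,3,4,0,4,0,0,3,3,3,3,4,2,4,1,4,3,0,2,2,3,2,1,3,4,3,4,0,2,4,1,0,2,1,4,4,4,4,4,4,4,2,0,0,4,4,2,0,2,3],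
[4,0,0,0,0,0,0,0,4,4,2,2,2,0,3,3,3,2,4,0,3,1,0,0,2,4,1,0,4,1,3,2,3,0,3,2,4,4,0,4,3,4,2,4,0,0,0,4,3,0,0,1,2,4,4,2,4,2,3,0,4,2,2,1,1,2,4,4,0,0,4,0,2,4,3,2,0,4,2,4,2,0,3,0,1,4,4,1,3,2,3,4,3,4,4,1,4,2,1,3,2,3,0,3,4,0,0,0,0,3,3],
[0,4,0,0,0,0,0,0,4,0,4,4,4,1,4,0,0,3,1,1,1,0,1,0,3,1,1,3,3,4,0,0,1,0,1,1,4,4,3,3,1,1,2,2,1,1,3,4,1,4,1,4,3,1,1,2,4,0,4,4,2,0,2,4,4,4,4,0,3,2,4,4,1,1,3,0,4,1,0,3,0,0,4,2,3,0,3,2,1,4,1,2,2,4,3,1,4,4,2,2,2,1,1,0,1,1,0,0,0,1,1],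
[0,0,4,0,0,0,0,0,0,0,0,3,0,1,2,0,1,2,3,2,3,3,3,3,4,2,3,1,4,3,0,2,1,3,3,2,3,3,3,1,0,1,4,4,3,3,3,4,0,0,1,0,3,1,3,2,2,1,0,1,3,4,3,2,0,2,4,0,1,0,2,3,2,1,1,0,3,2,4,1,3,1,4,4,1,3,0,4,2,1,2,2,0,2,1,3,4,3,1,2,2,3,3,4,0,0,3,2,3,0,0],
[0,0,0,4,0,0,0,0,0,0,0,3,2,0,4,3,1,3,0,3,3,3,2,3,3,0,3,4,4,3,2,2,4,2,3,0,0,1,3,3,1,4,2,0,2,3,2,0,2,4,2,1,2,3,1,1,0,1,1,0,0,1,4,3,1,0,4,4,1,3,1,4,4,0,2,1,1,2,3,1,3,1,0,0,4,0,2,2,2,1,1,3,4,2,0,0,4,3,2,3,2,3,2,0,0,0,4,4,2,0,0],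
[0,0,0,0,4,0,0,0,0,0,0,0,0,3,0,4,1,2,4,4,4,3,4,2,0,1,2,3,2,3,1,0,3,2,0,0,2,3,1,4,3,3,3,0,1,3,4,2,0,4,3,2,3,2,1,0,4,1,2,3,2,1,4,0,2,3,4,0,4,1,3,3,0,1,3,3,3,4,1,3,0,4,1,0,3,2,0,0,1,3,1,4,2,1,4,4,4,4,2,2,1,3,1,1,0,0,1,2,0,0,0],
[0,0,0,0,0,4,0,1,3,1,0,0,2,3,1,4,3,0,4,0,2,3,0,2,2,0,2,4,2,1,4,1,2,0,0,4,1,0,3,0,0,2,4,2,0,0,2,1,3,1,0,1,2,3,2,0,1,2,4,2,1,4,3,1,1,0,4,4,4,4,0,0,4,3,4,4,4,4,2,2,1,1,3,0,4,2,4,0,0,4,0,2,1,4,3,0,0,3,3,0,4,3,2,0,4,2,0,0,0,3,0],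
[0,0,0,0,0,0,4,0,1,0,3,1,4,3,2,3,2,0,1,4,4,4,4,2,3,1,4,1,3,2,3,0,4,4,4,4,2,2,1,2,0,1,2,2,4,3,3,0,1,1,4,0,4,2,1,4,3,3,0,2,1,3,3,2,0,2,3,2,2,4,0,4,3,4,0,1,0,0,3,3,0,1,1,1,4,2,3,2,0,2,0,2,3,3,2,4,0,1,1,0,2,0,2,2,3,2,0,0,0,1,2]]

noncomputable def carTab8 : List (List ℕ) := [[0,1,0,0,0,0,1,0,3,0,1,4,1,0,0,4,4,0,4,2,0,1,4,1,2,1,4,4,1,2,4,1,2,3,1,1,2,0,3,0,0,4,4,2,2,4,0,3,4,1,3,0,0,0,1,3,2,1,0,0,2,3,1,3,0,2,1,0,1,4,0,1,0,0,0,1,1,4,3,1,1,3,2,1,0,4,0,3,3,1,4,3,3,4,2,1,1,0,0,0,4,2,0,3,2,4,0,0,0,0,1],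
[0,1,0,0,0,0,1,4,0,2,0,0,0,3,2,3,3,3,4,2,2,4,1,4,1,3,4,4,4,4,3,1,2,0,0,0,0,3,2,1,0,3,2,4,2,1,2,1,0,4,4,0,3,4,3,1,4,2,3,2,2,0,3,2,0,2,4,3,0,3,0,2,3,0,4,1,2,2,1,4,1,2,4,1,1,0,4,0,2,2,1,1,2,1,4,4,2,3,1,2,3,4,3,4,3,2,0,0,0,1,0],
[0,0,1,1,1,0,0,0,0,0,0,2,3,4,4,0,2,4,0,3,2,0,2,0,1,1,1,4,0,2,0,4,3,4,2,1,4,1,4,0,4,4,4,0,2,3,3,0,3,2,3,2,4,1,4,3,1,2,2,4,2,2,2,3,3,1,2,0,0,0,2,1,4,1,0,4,3,0,0,0,1,0,0,3,0,0,2,4,2,4,4,4,4,4,1,0,0,2,4,4,0,1,1,4,0,0,0,2,0,0,0],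
[0,0,1,2,0,0,0,0,0,0,0,3,4,0,3,2,2,3,4,1,2,4,4,4,2,2,2,2,1,4,3,3,2,4,3,4,3,4,2,3,1,2,0,3,4,3,1,0,4,3,3,2,4,1,3,4,2,2,4,0,2,2,1,1,4,1,1,2,0,2,3,2,3,1,4,4,4,0,4,4,2,3,0,0,1,3,0,4,2,0,4,4,4,1,3,0,0,2,2,3,3,4,3,1,0,0,0,2,1,0,0],
[0,0,3,0,2,0,0,0,0,0,0,1,2,2,0,0,2,1,2,3,3,0,0,2,0,3,1,4,1,0,0,4,0,2,1,4,3,1,4,2,2,0,2,3,2,3,4,1,2,3,4,4,3,0,3,1,3,2,3,2,2,1,3,0,3,4,0,0,3,0,2,1,0,3,2,3,1,2,3,4,1,4,3,3,4,0,1,1,4,3,3,1,2,2,2,4,2,3,2,1,3,2,1,2,0,0,0,3,2,0,0],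
[0,4,0,0,0,3,3,0,1,0,1,3,0,3,3,4,4,1,3,1,1,1,0,2,4,4,3,3,0,1,4,2,1,3,2,4,0,2,0,3,4,0,0,3,1,0,0,1,0,4,2,3,1,2,4,4,0,1,1,2,0,2,3,1,1,1,2,4,1,2,2,1,2,3,1,1,1,2,0,0,2,1,2,0,4,3,2,2,2,4,3,3,2,4,0,3,4,4,0,4,2,4,1,4,1,3,0,0,0,2,4],
[2,3,0,0,0,1,1,3,0,2,3,0,4,2,4,2,1,3,3,3,4,3,4,1,1,4,2,3,2,2,2,0,2,0,0,2,0,2,4,0,3,4,2,0,3,0,3,3,1,0,0,1,1,0,2,0,3,4,1,3,4,1,2,4,3,2,0,3,3,4,3,3,1,4,2,0,2,0,1,2,0,3,4,1,1,2,3,0,3,3,1,0,4,1,3,2,2,1,0,2,4,4,0,3,1,0,0,0,0,2,0],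
[3,1,2,3,1,4,1,0,4,0,4,4,0,4,1,3,1,0,2,1,1,4,0,2,0,0,0,4,4,1,4,0,3,1,1,3,1,2,0,4,1,3,0,2,4,1,2,3,4,3,4,1,0,2,4,1,0,1,2,3,4,0,0,3,0,2,2,4,4,4,1,3,2,1,4,4,2,2,2,3,0,1,3,4,2,0,2,3,4,2,2,4,1,2,3,1,0,2,4,2,1,0,0,1,0,4,2,2,2,2,1],
[2,4,0,4,0,4,1,2,0,1,1,3,1,3,3,0,3,2,4,0,0,1,2,3,2,1,1,4,0,3,4,3,1,4,0,0,2,3,2,2,1,0,0,4,4,0,0,3,4,0,4,3,0,1,0,0,2,2,3,4,3,4,1,2,4,4,3,0,4,4,0,0,0,3,1,4,2,0,2,1,2,4,1,2,4,4,4,4,3,1,2,0,2,3,3,4,1,3,4,2,2,3,1,2,3,1,4,3,1,2,0],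
[3,4,1,1,4,4,4,4,4,0,2,0,0,4,2,4,3,2,0,2,1,3,2,4,3,3,2,0,0,0,3,0,3,1,2,4,1,4,0,3,2,4,1,4,3,3,3,4,0,2,1,3,0,0,1,3,1,3,4,3,2,0,1,1,4,4,2,1,3,2,3,1,1,2,0,3,4,2,2,3,2,4,1,1,3,4,2,1,0,3,3,0,4,0,3,3,2,3,0,4,2,4,3,3,4,3,3,0,0,2,0],
[4,2,1,2,4,4,4,2,4,4,3,4,1,0,1,3,4,0,4,4,0,3,0,4,3,4,2,0,4,4,2,0,0,3,0,2,4,4,2,0,2,2,1,0,3,3,0,0,4,3,2,3,1,1,1,0,2,1,0,4,2,4,4,0,4,4,1,1,1,2,3,4,3,2,1,1,2,3,3,3,3,0,4,0,1,1,0,3,2,0,2,1,4,4,1,2,1,4,1,2,4,0,1,2,4,3,0,0,2,4,4],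
[2,2,3,2,0,2,2,3,1,0,0,1,2,1,4,0,2,4,2,0,0,4,4,2,2,1,1,0,4,4,2,3,0,4,2,0,1,1,2,1,3,3,1,0,3,0,3,4,0,2,4,2,4,3,4,1,4,4,0,3,4,0,0,3,4,2,2,2,4,2,1,2,3,3,4,3,2,2,3,4,2,2,0,0,2,4,0,2,1,3,0,2,0,3,1,0,3,2,0,0,2,3,1,2,2,1,0,1,4,4,2],
[1,0,4,1,4,4,4,2,2,4,2,4,1,0,4,2,1,0,4,0,2,4,1,0,2,4,0,1,2,2,2,4,1,1,2,2,4,1,1,4,4,4,2,3,3,4,0,1,0,4,3,1,1,2,4,2,0,4,0,4,2,2,1,1,2,4,1,2,3,4,3,4,2,1,0,3,2,4,1,3,0,3,0,3,2,4,0,2,1,2,1,3,0,0,3,3,0,0,3,2,0,0,2,2,2,2,3,0,4,3,0],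
[0,3,3,4,3,1,0,4,2,4,0,1,1,0,2,2,1,3,1,4,0,2,0,1,1,1,3,2,2,3,3,0,1,1,3,0,1,2,0,2,0,1,0,4,4,4,2,4,3,0,4,0,1,4,0,2,0,3,4,4,4,1,2,3,4,4,3,4,3,1,0,2,4,0,1,2,2,4,0,3,1,2,4,3,3,2,0,4,3,2,0,1,4,4,2,2,2,2,1,2,3,0,1,3,3,1,3,3,1,3,0],
[2,1,0,2,4,3,4,2,3,2,4,3,3,3,1,4,2,1,4,0,4,4,1,3,0,0,4,3,3,3,3,1,1,4,0,4,3,3,2,3,2,0,2,1,2,2,3,2,3,3,4,0,3,2,0,2,3,4,1,0,0,2,2,1,0,2,1,3,0,0,3,0,3,3,4,0,0,2,1,3,1,2,2,4,4,2,2,0,3,1,4,1,4,1,4,1,1,4,1,4,0,1,3,3,3,0,0,1,3,2,1],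
[2,1,4,2,1,0,0,4,2,1,1,2,4,3,3,1,4,0,1,2,2,4,2,3,4,4,1,3,4,0,2,4,1,1,1,1,2,0,1,2,3,4,1,3,2,3,1,0,2,1,0,2,4,2,0,2,1,3,3,4,3,2,2,2,2,1,1,3,4,3,3,4,4,4,3,2,0,2,3,1,1,3,0,2,3,3,0,3,2,4,3,0,3,2,3,4,3,0,0,0,0,1,2,4,4,0,2,0,0,4,3],
[0,4,1,2,3,2,0,1,4,1,0,2,1,1,3,0,3,1,2,0,4,1,2,3,1,2,1,4,3,1,1,0,4,0,2,4,0,1,4,1,0,4,2,1,2,3,1,4,4,2,0,3,2,0,2,3,1,2,0,2,2,2,0,0,4,4,1,0,4,3,3,3,4,1,4,0,4,3,2,1,2,3,1,4,2,2,3,0,0,1,3,4,4,0,4,0,1,3,4,4,2,3,2,1,1,0,4,0,4,3,4],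
[0,1,1,1,3,4,1,4,3,4,1,4,1,0,4,0,4,2,3,1,0,4,0,3,4,0,1,1,4,1,2,3,3,1,3,2,0,4,3,2,0,3,4,4,2,3,0,2,3,3,3,0,2,2,0,2,4,2,1,2,0,2,4,1,0,1,0,2,1,0,3,2,3,3,1,1,4,3,0,3,0,3,3,4,1,1,4,4,4,2,4,3,4,4,1,0,3,3,3,0,3,3,4,2,3,3,2,0,0,1,4],
[3,2,1,0,1,4,2,1,1,4,0,1,4,3,1,0,3,2,2,3,3,3,4,3,4,1,0,1,1,1,1,4,2,1,0,4,4,3,1,2,1,2,4,4,3,4,1,1,2,4,1,0,2,0,2,2,3,4,1,1,4,4,0,0,3,1,1,0,4,3,3,4,3,2,2,2,3,4,4,4,0,4,0,3,1,4,2,3,3,4,2,1,3,0,0,3,1,0,2,0,1,0,1,2,4,1,4,3,0,1,1],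
[0,0,0,3,0,2,4,2,0,4,3,0,3,0,0,3,4,2,3,4,1,1,4,4,4,2,4,1,3,0,0,3,4,4,1,4,0,2,4,4,3,3,0,2,4,2,4,0,4,1,2,1,2,3,3,0,1,1,1,4,4,4,4,4,2,2,4,3,3,0,4,1,2,2,2,2,3,0,1,0,4,1,4,3,0,0,4,4,2,0,1,1,1,1,3,1,2,3,3,4,3,1,2,0,2,1,1,2,0,0,3],
[2,0,1,4,3,2,3,2,2,0,2,2,1,3,0,4,2,0,0,3,0,1,0,4,1,2,1,2,3,4,0,1,3,3,0,0,4,3,1,1,1,4,0,0,3,3,1,1,1,3,2,3,2,0,3,2,3,1,1,4,1,3,3,3,2,1,4,3,0,4,3,1,0,0,1,2,4,2,2,4,0,3,4,3,1,2,0,0,1,0,3,1,3,2,4,4,3,4,1,0,1,0,0,3,4,4,1,4,1,0,0],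
[2,2,0,3,2,2,0,1,4,1,3,3,4,1,1,3,1,3,3,0,0,0,0,0,2,1,2,3,2,4,1,3,3,2,0,4,3,1,1,0,4,1,1,0,2,4,4,0,4,2,4,2,0,2,2,4,1,3,4,0,1,0,1,4,0,2,0,4,3,2,1,1,0,0,3,0,1,2,3,3,0,3,1,1,4,3,0,0,4,0,2,0,4,3,1,2,1,4,0,4,4,2,1,1,1,2,3,4,0,4,0],
[4,1,3,2,0,4,0,0,0,0,2,0,4,3,3,3,4,4,0,4,0,2,4,4,0,2,4,4,2,4,4,2,4,2,1,1,3,4,4,3,3,2,1,1,3,3,3,3,0,2,4,4,3,2,2,4,2,0,1,0,2,1,1,1,2,2,1,2,0,1,2,4,2,4,1,3,3,2,1,3,1,3,2,3,3,1,3,1,4,2,0,2,0,0,0,1,4,2,1,2,1,1,2,2,0,2,2,3,2,1,3],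
[1,1,2,3,3,4,4,0,1,3,3,1,0,4,4,0,3,1,0,1,0,2,0,3,0,1,3,2,2,3,1,1,3,3,2,4,0,0,2,4,4,0,1,0,2,3,3,0,1,4,3,3,2,1,3,3,3,2,2,1,2,3,2,1,4,2,4,1,0,1,2,3,0,1,3,1,4,2,0,0,0,4,2,0,3,1,1,1,3,2,4,1,0,4,4,2,3,4,3,1,1,3,1,0,2,4,3,3,3,2,4],
[3,1,3,0,0,1,0,2,4,4,2,2,1,2,0,0,0,0,4,0,0,1,3,1,4,2,3,3,0,2,2,1,4,2,4,0,0,3,4,3,1,1,0,2,3,3,3,0,4,2,0,4,2,1,2,3,2,4,2,4,3,0,1,0,3,2,1,1,1,2,4,1,1,1,2,4,0,2,3,1,2,1,0,2,3,4,4,4,0,3,1,3,3,2,2,1,3,4,0,1,2,2,1,4,4,1,4,2,2,4,1],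
[4,1,0,1,4,2,1,2,2,4,2,4,0,1,2,0,1,4,4,0,3,0,2,0,1,1,2,4,4,0,0,1,3,0,2,0,1,2,1,1,3,1,4,2,2,1,2,2,1,3,4,2,3,2,2,1,4,2,3,0,1,3,3,2,1,3,3,3,3,1,2,4,2,1,0,4,1,0,2,4,3,1,3,3,3,0,4,2,1,1,4,3,2,4,3,3,3,3,0,3,0,4,0,3,3,2,2,1,0,2,0],
[1,0,1,3,2,2,2,1,2,2,2,1,0,4,0,2,1,2,0,1,3,3,1,4,0,3,1,2,2,4,3,3,2,2,3,2,3,1,1,1,3,2,2,4,4,2,3,4,3,3,0,1,0,0,3,2,3,3,0,2,3,2,2,1,3,3,1,3,3,4,3,3,3,1,3,0,3,3,4,1,3,4,0,4,1,0,1,0,3,4,2,2,1,4,4,2,3,1,2,4,0,3,1,0,4,3,3,4,0,2,1],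
[1,4,1,4,2,2,1,0,4,3,0,3,4,2,2,3,4,0,1,3,3,3,3,1,1,3,0,1,2,3,1,3,1,3,3,4,4,2,2,3,3,1,1,2,4,4,4,3,2,1,0,2,0,2,0,4,3,0,2,0,1,0,4,2,1,4,4,4,1,0,1,0,2,1,1,2,2,1,4,2,4,3,1,3,4,2,4,2,2,0,3,0,0,0,2,3,2,3,3,2,4,3,1,4,0,3,4,0,2,3,4],
[3,3,3,1,4,2,2,0,2,1,3,0,0,1,4,1,3,2,3,2,4,0,0,2,3,4,2,0,1,2,2,2,2,3,0,0,0,3,4,2,1,2,4,1,1,0,3,4,2,0,4,3,0,1,0,3,0,2,4,2,4,4,1,4,4,0,2,1,3,4,0,3,1,4,4,2,4,4,4,0,0,0,1,3,3,4,2,1,3,2,3,1,4,0,3,3,2,1,4,3,4,3,3,0,3,3,0,2,3,2,2],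
[2,0,3,4,3,1,0,3,3,2,0,1,1,1,4,2,0,4,1,1,2,1,3,3,1,0,2,1,1,3,0,0,3,3,4,2,4,1,2,3,0,2,0,2,0,1,2,3,4,4,0,3,1,1,3,0,0,1,0,2,4,4,3,3,4,1,4,1,4,1,3,0,3,1,3,4,0,3,4,3,0,2,2,4,1,3,4,4,1,0,2,3,0,0,4,4,2,2,3,1,2,1,0,3,3,4,1,4,0,4,3],
[0,1,2,2,2,2,1,2,1,2,0,3,1,3,0,4,1,3,0,2,4,3,2,4,4,2,0,1,3,2,2,4,1,1,4,2,1,3,1,3,4,4,2,3,3,1,2,3,2,2,2,0,3,4,2,0,0,1,3,0,3,3,0,4,1,4,2,0,3,1,0,0,1,0,3,2,2,2,4,0,0,3,3,4,4,1,2,4,1,4,3,3,2,3,3,0,2,2,1,3,1,1,4,3,1,1,0,1,2,4,3],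
[0,1,3,3,2,3,3,0,3,4,4,3,2,3,4,4,1,3,1,2,0,0,1,1,2,2,1,0,2,1,0,0,0,3,4,2,0,0,2,1,4,4,2,2,2,1,3,1,1,4,1,1,4,1,2,0,2,4,2,4,3,3,2,0,4,1,2,2,1,3,3,3,4,4,2,1,4,4,1,2,0,4,3,3,1,4,4,4,2,0,4,2,4,1,2,1,2,3,1,4,4,0,2,4,2,2,2,1,0,2,2],
[1,2,1,2,1,4,4,2,4,1,4,1,3,4,0,0,2,3,3,0,4,4,3,3,2,3,0,3,0,1,4,4,3,1,1,3,3,4,3,3,0,0,3,2,0,1,0,4,3,0,4,0,4,1,4,0,2,4,3,1,2,1,0,1,0,0,0,1,2,1,0,0,3,2,1,1,1,2,1,3,0,3,4,1,2,3,0,1,2,4,2,3,2,0,0,1,2,2,0,1,1,3,0,4,4,3,4,2,2,0,1],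
[3,1,3,2,2,1,3,3,3,3,2,0,2,1,2,3,4,1,2,3,1,3,3,2,2,4,2,4,4,3,4,1,3,0,2,0,2,0,2,2,1,4,2,2,2,2,1,1,1,4,4,2,2,2,0,4,4,0,2,0,0,2,4,0,3,3,2,0,1,0,0,3,1,1,1,0,2,1,1,2,2,1,3,3,2,1,4,4,1,3,4,4,2,4,2,0,1,0,0,3,1,2,0,2,1,1,4,0,2,1,0],
[0,2,2,4,0,2,4,0,0,1,0,3,1,1,0,1,4,3,3,4,0,4,2,2,3,2,4,4,2,4,2,0,3,0,2,3,2,4,1,1,0,3,2,1,3,2,0,1,2,4,4,3,0,0,4,0,4,3,3,3,4,3,4,0,0,2,4,4,0,0,1,3,0,2,3,3,0,1,1,3,4,2,4,4,2,2,0,3,4,2,1,2,4,3,1,0,4,2,1,4,0,2,1,3,1,2,1,1,2,3,0],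
[3,0,2,3,0,2,2,0,0,0,2,0,3,0,2,2,2,0,2,1,1,3,4,0,0,2,0,0,2,3,4,2,0,4,2,2,2,4,0,3,1,2,1,2,2,0,4,0,1,0,4,0,1,2,0,1,1,0,4,1,2,1,4,3,3,2,3,2,3,3,4,4,0,3,3,0,1,2,1,1,4,3,2,2,2,2,2,1,4,3,2,0,4,0,2,0,4,0,0,1,1,3,3,1,4,4,0,2,2,4,4],
[0,0,3,4,2,4,3,4,1,1,2,0,0,1,1,4,2,1,0,0,1,0,3,2,4,1,2,2,0,3,3,3,1,4,0,0,3,2,0,1,0,1,3,1,0,4,0,0,1,3,0,4,1,2,3,2,1,4,2,2,3,2,0,1,0,0,1,3,0,4,3,2,3,4,1,4,1,2,1,3,4,0,1,0,3,0,1,2,2,0,2,1,4,4,1,0,0,4,1,3,4,2,2,2,2,2,2,2,0,3,2],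
[2,1,0,4,0,4,1,0,1,3,2,1,3,3,4,1,4,4,0,4,1,1,0,3,4,1,4,4,3,3,2,3,0,1,3,2,2,0,2,0,1,2,0,3,2,1,1,2,4,4,0,2,2,1,1,1,0,3,2,1,4,4,1,3,1,1,1,3,3,0,2,2,4,2,0,4,0,3,3,1,1,3,3,1,2,2,4,3,2,1,2,0,2,0,2,0,0,4,1,4,3,1,2,2,3,0,1,0,4,1,4],
[4,3,0,3,4,2,0,1,2,1,0,1,3,4,0,1,1,4,3,3,4,3,3,3,2,0,3,1,1,4,4,1,2,0,2,1,1,3,1,4,0,0,0,4,3,0,0,0,4,1,1,0,1,1,2,1,1,3,4,0,2,0,0,4,1,4,1,3,4,0,1,1,0,1,0,2,0,2,0,1,4,2,3,4,3,3,3,2,4,3,4,3,3,1,2,4,0,0,4,1,0,2,2,0,2,2,1,3,4,1,2],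
[3,4,0,1,0,2,1,4,0,0,2,4,3,0,1,0,0,1,4,4,2,0,0,0,0,4,2,2,4,4,4,2,4,1,2,1,3,2,4,0,1,4,4,3,4,2,2,4,0,0,0,0,3,4,3,1,3,4,3,1,3,4,4,1,1,3,3,0,1,0,4,4,0,0,2,4,1,4,3,0,4,2,1,0,0,1,3,3,3,2,2,3,4,1,2,0,3,0,1,2,4,4,4,1,0,4,1,3,3,3,4],
[2,0,3,2,4,0,0,0,4,3,3,3,1,1,0,1,2,4,2,3,4,1,3,0,1,3,2,3,3,4,1,0,0,1,4,2,1,2,1,4,4,0,4,1,2,2,4,2,3,1,4,3,2,2,2,1,1,3,2,0,4,0,3,3,0,4,0,3,4,3,4,1,2,4,1,2,0,4,1,0,0,4,3,1,4,3,1,0,2,3,3,4,4,3,4,4,4,3,2,0,1,0,2,4,1,0,2,2,3,2,1],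
[1,2,3,1,3,3,4,0,2,2,2,2,4,2,3,0,1,0,3,1,2,1,4,3,4,2,3,1,0,2,2,0,4,2,2,2,2,3,2,1,3,3,1,0,0,1,2,3,4,3,2,0,2,2,1,1,2,1,2,3,1,0,2,4,2,3,0,1,3,2,1,0,4,1,3,4,1,3,3,0,3,1,3,3,1,0,4,0,2,3,4,3,2,1,3,1,4,3,4,3,0,4,3,3,0,4,0,2,4,1,0],
[4,0,3,1,4,4,4,2,1,3,2,2,4,2,1,2,3,4,4,0,1,1,1,4,0,1,3,3,1,2,1,0,0,3,2,4,4,1,3,3,2,0,2,0,2,3,0,3,0,3,4,3,2,4,0,3,4,2,1,0,3,0,2,2,2,1,1,1,0,1,3,4,3,2,3,0,3,3,4,2,0,1,1,0,2,0,3,4,1,4,3,2,1,3,1,0,3,3,1,0,2,1,4,1,4,0,3,3,3,0,0],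
[1,0,1,1,0,2,3,1,0,3,1,0,0,4,2,4,2,4,1,0,4,3,1,1,3,4,0,3,3,2,4,4,2,4,0,3,4,1,2,2,1,2,2,0,4,1,2,1,2,3,3,2,2,1,0,4,3,3,3,1,3,0,0,0,2,4,4,2,1,2,4,4,1,4,2,3,3,4,4,0,0,4,1,3,4,2,2,3,2,2,1,3,3,3,3,0,4,4,4,3,3,2,0,0,4,3,4,1,4,4,4],
[2,4,3,0,2,4,1,0,1,2,4,3,3,2,0,4,2,2,3,0,3,4,4,2,1,3,4,4,1,2,3,0,4,0,4,0,1,4,3,0,3,0,4,4,1,3,0,4,1,2,3,2,1,4,0,4,1,1,1,2,0,2,1,1,2,3,0,4,2,1,0,0,3,1,4,4,2,1,1,4,0,3,2,4,3,3,3,1,0,2,1,2,0,0,0,0,3,4,4,4,1,1,0,2,0,1,0,2,0,1,2],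
[3,0,3,2,3,2,3,0,0,1,3,2,4,4,2,0,0,3,3,2,0,3,4,3,1,2,0,3,0,4,1,3,4,2,2,1,0,2,4,4,3,3,3,1,1,1,0,4,1,3,3,1,0,1,3,1,2,3,4,1,0,4,2,3,0,0,4,3,1,3,3,4,1,3,1,4,2,1,2,1,3,4,4,4,3,4,2,3,2,2,0,2,3,2,1,0,2,0,3,0,3,3,1,2,4,0,2,3,1,1,0],
[2,0,2,0,4,3,0,3,2,0,1,1,4,4,0,1,3,1,0,2,2,3,0,1,0,4,2,3,4,3,2,2,1,3,3,2,4,3,4,4,3,2,3,4,1,0,1,3,4,1,4,3,0,1,1,3,4,4,0,0,2,4,2,4,4,3,1,2,3,1,3,2,4,3,1,2,2,3,1,0,1,1,1,1,4,2,0,4,0,2,0,3,0,0,2,4,1,1,2,4,4,2,1,4,2,0,3,1,4,2,3],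
[4,1,3,0,4,4,2,3,3,4,2,2,1,2,1,3,0,3,0,1,0,0,0,3,3,4,2,1,3,1,0,3,0,3,2,3,3,1,2,4,3,0,2,2,0,3,0,1,4,3,4,3,2,0,4,3,3,4,0,3,2,2,4,0,1,1,4,1,0,1,0,1,2,0,0,0,4,1,1,4,2,2,3,3,2,2,0,4,4,0,1,4,2,2,4,0,3,1,3,4,4,1,4,0,0,3,3,1,1,2,0],
[2,2,1,4,0,4,0,2,4,3,4,4,1,4,4,4,0,4,2,3,4,4,4,1,0,2,4,2,2,3,3,3,4,0,1,4,3,3,0,4,2,1,0,1,2,0,4,3,0,4,0,0,2,3,2,1,4,4,4,0,1,3,4,3,1,0,0,3,2,2,1,3,2,0,1,1,0,3,4,3,0,3,0,0,0,0,1,0,3,4,3,0,4,1,1,3,0,2,2,2,2,0,3,4,2,4,0,3,1,2,4],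
[0,2,3,4,4,0,1,3,0,0,2,0,3,4,0,4,1,1,0,0,3,0,3,0,4,3,1,1,2,2,2,4,4,4,1,4,4,3,0,4,4,3,2,4,4,0,1,1,2,4,1,0,1,0,1,4,1,3,4,2,4,0,3,4,4,0,2,0,2,4,1,0,2,4,0,1,3,3,3,1,2,1,4,0,1,4,1,2,1,3,3,2,1,4,4,3,2,1,1,2,3,2,2,4,2,4,0,1,4,4,0],
[1,1,4,1,4,2,3,1,1,2,4,0,0,0,3,2,3,3,0,3,4,4,0,4,3,2,4,4,3,1,0,4,2,4,3,2,4,2,4,3,0,1,0,3,4,3,3,0,0,0,0,1,4,0,0,2,3,0,2,1,4,0,4,1,4,3,0,4,3,0,1,3,3,2,4,0,0,2,2,0,3,2,2,0,4,1,4,3,4,0,2,4,3,1,3,4,4,4,3,1,4,4,0,3,1,0,0,4,0,4,0],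
[1,1,4,1,4,1,3,0,0,3,4,1,1,2,0,1,0,1,3,3,4,3,3,4,2,2,1,1,4,2,2,2,2,4,4,1,3,0,1,4,1,0,2,0,2,0,1,4,2,4,0,2,4,4,3,3,1,0,0,3,0,0,2,0,3,1,1,0,3,2,4,2,1,1,4,4,3,3,4,2,2,1,4,1,2,4,3,1,4,4,2,0,2,3,2,1,2,3,3,3,2,4,3,4,3,0,3,4,1,2,3],
[1,4,1,1,1,0,4,0,3,3,2,2,4,3,4,3,1,0,1,0,3,2,1,2,2,2,2,0,2,2,3,0,1,1,3,1,0,3,0,0,4,3,3,4,4,3,0,1,1,4,3,4,1,3,0,0,3,4,4,2,0,4,3,4,2,1,4,0,1,1,4,1,1,0,1,4,1,2,4,0,3,4,2,1,0,1,0,2,0,1,1,3,0,1,2,3,0,3,1,3,4,1,4,0,4,4,1,1,4,1,3],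
[4,1,3,1,0,1,2,4,4,3,3,3,3,2,1,0,0,0,1,3,0,3,3,4,4,1,4,1,4,3,1,0,3,2,1,4,4,1,4,0,0,4,2,2,0,3,2,4,3,0,1,3,1,3,0,4,3,0,0,1,1,1,1,3,2,4,2,4,0,0,3,1,1,0,3,3,2,4,4,1,0,0,1,3,3,1,4,2,4,3,4,4,2,3,3,3,0,4,2,4,2,0,0,3,4,3,1,4,3,2,4],
[4,2,2,3,4,1,2,3,3,1,3,0,0,1,4,1,3,0,4,4,4,0,0,1,0,2,0,2,4,0,1,3,3,1,4,4,4,2,1,2,2,1,3,3,0,4,3,0,4,2,1,1,0,4,3,3,2,4,1,0,2,1,3,4,0,1,3,4,0,3,3,1,0,4,3,3,3,3,1,2,4,1,1,4,1,0,4,3,0,4,2,1,0,0,3,3,3,1,4,3,1,4,0,2,2,2,4,2,0,2,4],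
[3,1,3,1,0,3,0,0,2,3,0,4,1,2,4,2,1,0,2,1,0,3,1,4,1,0,4,1,1,2,3,4,0,1,2,4,3,3,2,1,4,4,2,3,1,2,0,4,3,2,3,2,0,3,3,4,4,4,3,2,0,4,3,1,0,3,0,3,1,0,1,2,4,1,3,2,0,2,4,1,4,1,3,4,2,1,2,4,1,0,3,3,4,3,4,4,2,1,1,0,1,4,4,4,4,1,1,1,3,1,4],
[1,0,4,1,1,4,1,2,4,3,0,0,3,4,4,4,0,1,1,4,3,0,4,2,4,1,4,0,0,2,1,3,1,3,3,3,3,3,4,3,1,3,2,1,4,0,2,3,3,2,4,1,0,2,2,2,3,2,0,0,0,3,2,3,2,2,0,1,3,1,2,2,2,0,1,0,3,2,3,2,3,1,2,0,2,1,0,2,0,1,1,3,1,4,2,4,4,0,3,4,2,2,3,4,2,2,4,3,2,1,0],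
[3,0,4,0,4,2,3,0,2,4,2,2,3,4,4,0,3,3,3,3,0,3,4,1,3,4,3,3,2,2,1,2,3,0,4,3,1,0,4,4,4,0,3,0,2,4,4,2,0,0,0,4,2,3,4,0,1,4,3,0,4,1,1,1,1,1,3,3,0,2,2,3,2,2,3,2,2,3,2,2,4,1,4,3,0,0,3,0,4,1,2,3,3,4,1,4,1,1,2,0,0,2,2,3,0,1,4,3,4,3,4],
[0,1,3,0,4,2,3,1,3,1,0,1,2,3,1,4,2,0,2,1,3,3,4,3,3,3,4,0,3,3,0,1,3,1,3,3,3,3,1,1,1,4,1,3,4,1,0,0,1,4,2,0,1,0,1,1,3,1,0,1,2,0,1,2,2,0,4,2,2,3,4,4,1,4,1,1,3,4,2,3,3,1,0,4,0,4,0,1,0,4,3,0,2,3,4,3,3,3,0,2,0,3,3,3,2,1,1,0,3,0,1],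
[3,4,3,3,0,3,2,3,3,4,3,3,0,1,1,4,2,4,4,3,3,3,4,3,2,3,4,0,3,0,4,3,0,3,3,2,2,1,3,1,4,4,0,0,3,1,2,0,4,2,4,3,3,0,2,4,2,3,0,2,0,1,3,2,0,1,2,2,0,2,4,1,2,2,0,0,3,0,0,1,4,4,2,2,0,4,0,0,4,1,3,1,2,1,4,2,0,2,0,1,2,1,2,1,3,0,3,4,2,4,4],
[3,0,1,1,2,3,2,2,2,4,1,2,4,0,2,1,3,3,0,4,3,2,3,0,1,0,4,4,1,0,3,3,1,2,0,4,0,1,4,4,4,2,2,3,4,2,3,4,3,4,2,2,3,3,3,0,1,3,2,4,1,1,2,2,0,4,1,2,0,1,0,4,1,1,3,1,4,3,3,2,2,4,0,1,0,2,2,1,1,1,0,4,0,2,3,1,2,0,2,1,0,0,1,1,0,2,2,2,1,2,3],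
[1,4,3,3,4,4,4,4,4,1,0,4,2,0,0,1,0,1,4,0,2,3,2,0,2,0,1,2,1,3,3,0,0,2,0,4,2,2,4,0,4,2,0,0,3,2,0,2,3,3,0,1,4,2,3,3,0,1,2,2,2,4,3,0,2,3,0,2,4,3,4,4,1,0,3,3,4,0,3,2,1,0,3,3,0,1,3,1,4,1,1,0,1,4,3,3,0,3,3,1,1,0,2,4,1,4,0,1,4,2,2],
[2,0,0,3,4,0,1,2,2,0,2,3,0,1,2,4,4,4,1,2,3,1,3,4,2,4,1,0,0,1,3,2,1,1,2,0,3,2,4,3,3,1,2,0,4,2,1,3,4,0,3,1,1,4,0,3,2,3,4,1,3,1,3,1,0,1,2,3,4,3,0,1,3,4,4,2,4,0,0,4,4,4,0,2,0,0,2,0,2,1,0,3,3,3,0,4,1,0,3,1,2,0,3,0,2,3,0,3,4,0,2],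
[1,0,2,0,2,4,2,1,4,2,3,3,4,0,0,3,2,2,2,4,2,1,2,0,3,2,3,1,3,0,4,4,3,3,1,2,4,2,4,2,4,0,0,3,4,2,1,3,1,4,2,2,4,0,0,2,1,3,4,0,2,2,0,0,4,0,0,3,4,0,4,3,3,0,0,4,3,4,3,4,4,2,4,3,4,0,2,4,2,3,2,3,0,2,4,1,0,3,0,1,3,2,2,2,4,1,2,3,4,3,3],
[3,2,4,1,0,0,4,4,2,4,4,4,3,3,0,0,4,1,4,3,3,1,2,2,4,4,0,2,2,2,1,1,4,2,2,0,1,1,2,3,2,4,1,1,4,2,2,4,1,2,3,4,0,3,3,1,3,3,2,4,4,3,0,1,2,3,4,4,3,1,1,4,4,4,1,4,0,2,3,2,3,2,3,2,3,3,2,1,0,1,3,4,0,3,2,2,4,2,4,3,1,3,0,1,3,0,1,2,1,3,0],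
[1,3,0,3,3,3,4,3,3,2,4,2,1,1,0,1,0,2,3,0,0,1,3,0,2,4,1,2,0,0,1,1,2,3,0,4,3,3,2,2,2,4,2,0,4,4,0,0,2,3,4,0,1,3,2,4,2,0,2,3,3,1,2,2,2,2,0,2,2,1,4,4,0,0,1,0,1,1,4,2,0,2,4,3,1,2,3,0,0,4,2,0,1,2,4,1,4,1,3,0,0,3,2,3,1,4,2,1,2,3,4],
[4,2,4,0,1,0,4,1,1,0,4,3,0,2,2,3,2,1,4,1,1,4,2,1,0,1,0,4,0,4,2,3,3,3,2,2,2,1,4,4,3,1,3,2,1,0,4,1,1,4,2,4,3,1,0,0,3,2,0,4,4,2,4,1,4,1,1,1,0,1,0,3,4,2,0,1,0,1,3,4,0,1,4,3,1,2,3,3,3,2,2,2,1,0,1,2,3,4,3,2,2,2,2,2,2,0,1,2,2,0,4],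
[3,4,1,1,2,3,4,3,3,4,2,4,4,1,3,1,0,0,2,1,2,4,2,3,3,1,0,1,2,2,1,0,2,4,0,4,1,0,2,4,2,0,4,4,4,2,2,1,0,2,3,3,2,4,2,2,4,2,1,1,3,1,1,4,0,2,0,1,3,3,1,2,2,4,0,2,3,0,2,2,3,4,2,2,2,1,3,0,0,2,1,2,1,4,1,2,0,3,4,2,4,1,2,0,2,1,4,4,0,3,1],
[0,4,4,2,2,2,3,0,2,3,1,0,0,3,0,2,0,0,1,3,1,1,1,2,0,4,0,2,2,0,4,0,1,2,3,3,2,3,0,4,3,4,1,4,0,4,4,1,0,4,0,4,3,0,2,3,4,3,4,0,3,4,3,1,0,2,0,1,1,0,0,1,2,3,2,4,1,4,1,4,4,0,1,4,2,1,2,3,2,3,2,4,2,2,4,2,0,4,1,3,3,3,1,1,2,4,0,2,2,0,4],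
[4,4,4,0,1,1,1,4,2,4,1,3,4,1,1,0,2,2,2,0,3,1,3,0,3,0,2,4,4,0,2,3,4,3,1,1,2,4,3,3,2,2,0,1,2,2,0,3,2,1,1,3,1,3,1,1,4,3,2,3,0,0,2,1,4,0,0,2,3,3,1,2,0,4,2,0,2,2,1,2,1,4,4,4,1,1,3,1,1,0,1,3,2,1,2,2,3,0,3,3,2,2,3,0,1,3,2,1,3,4,4],
[3,2,0,4,1,4,0,1,2,2,1,4,0,1,0,0,4,1,0,2,2,3,4,4,4,4,2,1,0,3,2,0,4,0,4,0,3,1,0,4,2,2,4,1,3,1,3,1,3,1,3,0,3,4,3,4,0,3,4,4,4,0,2,0,0,0,1,4,1,4,1,3,1,1,1,1,0,0,0,0,3,1,4,4,2,0,2,3,2,4,4,0,2,3,4,0,3,0,3,3,4,4,4,1,2,2,3,4,2,4,1],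
[1,1,3,2,1,3,0,1,2,2,1,4,0,0,2,2,1,1,1,3,1,1,1,3,4,1,0,1,1,2,3,4,3,0,1,2,2,3,4,3,4,3,2,2,2,2,4,0,3,2,0,1,3,3,2,1,2,4,3,4,3,3,4,0,2,4,1,2,0,2,1,4,0,1,3,4,2,4,0,1,0,2,0,4,2,2,0,1,2,0,3,2,1,2,0,1,4,2,0,0,3,1,2,0,0,1,3,0,2,3,0],
[4,0,4,1,4,0,3,0,1,1,2,4,0,2,4,3,3,0,4,3,0,3,0,0,4,2,2,3,3,1,3,3,3,3,1,4,2,4,3,3,4,3,4,2,2,1,2,3,0,2,4,4,0,1,3,1,3,1,2,0,4,3,3,0,1,1,4,3,0,1,0,0,1,2,1,2,0,0,3,0,3,1,2,2,1,4,1,3,0,3,1,1,1,4,4,3,2,4,3,3,4,4,2,1,3,2,3,3,3,4,4],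
[4,1,2,3,2,0,0,0,3,0,4,0,4,3,1,1,2,2,3,4,1,4,0,2,1,4,2,1,0,1,4,0,4,4,2,3,1,4,0,0,2,1,4,4,0,1,2,3,1,2,0,4,0,0,2,2,4,1,1,0,0,1,3,3,3,0,0,2,3,3,4,3,1,2,3,0,4,1,0,2,0,3,4,2,1,4,4,0,2,0,3,4,3,0,4,2,0,1,4,1,3,2,0,2,4,1,4,4,0,3,0],
[4,0,0,1,4,3,2,4,4,0,3,1,2,1,4,0,4,2,2,3,1,1,1,1,4,2,1,0,4,3,0,4,4,2,1,2,0,2,0,1,0,3,0,1,1,4,3,3,1,4,1,3,2,1,2,1,0,4,3,3,2,1,3,1,4,3,2,2,1,2,0,1,3,0,0,3,2,2,0,2,2,1,3,4,4,2,0,1,0,0,2,2,3,2,4,2,4,1,3,2,2,2,2,1,1,4,2,4,2,1,0],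
[3,2,2,1,3,2,2,3,0,1,2,2,3,2,3,0,1,2,0,4,2,4,4,4,4,4,3,4,0,1,3,3,2,4,4,1,2,0,3,3,3,1,4,1,1,4,3,0,4,4,1,0,0,1,1,2,1,3,1,3,1,0,1,2,3,0,0,2,2,1,1,3,1,4,2,4,1,0,2,2,4,2,3,3,4,2,1,1,0,4,1,2,1,2,0,1,3,3,0,3,1,1,2,0,1,1,3,2,4,4,2],
[1,2,3,3,2,1,4,1,0,3,1,2,4,1,3,3,3,2,2,3,0,1,1,3,4,3,3,1,0,2,4,2,1,2,3,0,2,4,4,2,4,4,2,1,3,0,1,1,0,2,4,0,1,0,3,4,1,4,3,0,2,3,1,2,1,4,1,0,1,3,4,4,0,0,3,4,1,0,3,4,1,3,3,0,2,0,3,2,1,4,1,4,3,3,3,4,1,1,0,1,1,1,1,4,2,2,2,2,0,0,2],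
[1,2,2,4,2,0,1,2,2,4,1,1,4,1,4,3,2,4,1,0,1,0,4,0,2,3,0,1,3,0,2,3,1,3,2,0,3,3,1,3,3,4,1,0,2,1,3,1,3,3,3,3,3,4,2,0,2,1,0,2,4,0,2,4,1,4,2,3,3,3,4,1,1,1,1,3,1,1,2,0,0,4,2,4,0,1,4,1,2,3,4,3,2,3,4,2,4,3,0,2,3,2,0,2,4,3,0,2,2,0,1],
[4,0,3,1,1,4,3,0,4,2,3,2,0,1,2,1,3,0,2,3,0,0,4,3,1,1,2,1,2,0,3,4,0,1,2,3,1,1,2,4,1,4,1,1,1,2,2,4,0,1,3,3,2,0,4,3,2,4,2,3,4,3,3,1,3,0,4,2,3,2,1,2,3,0,3,4,3,1,2,0,2,4,2,3,2,3,3,2,0,2,2,3,4,4,3,0,0,0,0,2,1,0,3,1,0,3,0,0,1,0,2],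
[4,4,0,3,1,3,1,2,3,2,0,1,4,2,1,3,3,3,2,3,2,4,1,2,1,0,1,0,2,3,4,0,1,1,3,4,4,1,2,2,4,3,3,1,1,0,4,2,1,3,2,1,3,0,3,1,0,0,0,0,4,1,3,3,4,4,2,4,4,2,2,2,0,4,4,1,2,1,4,3,3,3,3,2,0,3,4,2,0,4,1,0,2,0,2,4,4,3,1,0,0,0,2,1,4,1,3,2,3,2,3],
[0,2,4,4,3,4,1,0,2,4,1,0,2,0,0,4,3,0,4,3,4,2,3,4,1,0,0,3,4,2,4,3,1,1,1,0,4,3,2,2,0,1,0,3,2,1,3,3,1,3,3,4,0,1,3,3,3,3,4,1,1,4,2,0,3,4,3,3,4,4,0,0,0,2,1,4,0,0,1,2,1,4,2,4,3,3,4,3,2,2,1,2,3,1,4,0,3,3,0,4,3,1,3,2,2,2,0,4,3,1,4],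
[3,1,2,3,3,1,2,3,2,4,0,1,3,3,2,2,3,0,4,1,4,2,4,1,1,3,3,1,4,3,2,1,4,0,0,1,2,0,4,0,1,4,1,2,0,2,2,3,0,4,2,1,3,1,2,1,3,1,0,0,2,2,3,0,2,1,3,2,4,4,0,3,0,0,3,0,0,0,4,1,0,2,2,0,0,3,2,3,2,1,2,1,0,4,2,0,4,1,1,1,4,1,4,0,4,2,2,0,0,1,2],
[1,1,0,4,1,0,0,0,4,4,2,3,4,2,0,4,4,0,0,2,2,2,4,3,2,2,0,3,0,0,2,1,1,4,4,4,0,3,4,1,2,1,2,1,3,2,2,1,0,4,3,3,1,2,2,1,3,0,1,3,1,1,2,3,3,1,0,3,0,0,0,1,0,0,2,1,3,1,3,1,0,2,0,2,2,4,1,4,3,0,3,0,1,2,3,2,0,4,1,0,3,3,0,1,2,3,3,3,2,0,4],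
[3,0,3,1,3,3,3,2,1,1,1,2,3,2,3,3,1,2,3,3,4,2,4,2,0,0,3,2,0,4,0,0,0,2,2,2,0,2,0,1,3,3,3,3,4,3,0,2,3,2,3,4,1,0,2,4,3,2,0,3,1,1,3,2,4,1,4,1,1,0,1,4,0,0,0,1,4,4,4,2,2,3,1,4,0,0,4,3,1,3,2,4,4,2,3,1,1,4,0,3,0,0,3,2,1,0,4,1,2,4,1],
[0,2,0,1,1,3,4,2,1,4,3,0,3,1,3,2,0,1,4,3,1,0,3,2,1,2,2,0,1,4,1,0,4,4,1,2,4,1,0,3,0,0,0,4,2,3,0,2,1,0,2,4,1,1,1,2,1,1,1,3,0,1,3,4,4,3,0,1,2,2,4,4,0,0,1,3,3,0,0,3,1,0,0,0,3,4,0,4,1,2,4,2,3,4,4,2,0,1,0,1,3,2,2,0,4,4,2,1,3,4,2],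
[0,4,1,4,4,2,1,2,4,2,0,0,0,3,0,0,1,0,3,1,2,0,1,2,4,1,4,4,3,0,0,4,0,1,2,3,4,0,2,0,2,4,4,4,1,1,3,3,1,3,3,0,4,0,0,0,4,4,4,2,4,0,3,1,4,0,3,3,0,0,2,4,0,3,1,3,4,1,4,3,1,2,2,3,4,3,3,3,3,0,1,0,1,3,1,3,2,4,2,4,0,3,1,3,0,4,3,2,1,0,0],
[3,4,1,1,3,4,1,2,1,4,1,4,2,3,2,0,2,2,1,3,0,4,1,0,4,1,0,2,2,4,0,2,0,1,0,0,4,3,4,3,3,2,4,1,1,3,2,3,0,0,4,1,1,3,1,4,4,2,2,0,1,3,2,2,2,1,0,3,1,1,4,2,1,2,1,1,4,0,0,0,1,2,1,1,4,1,4,0,0,3,3,0,1,2,3,1,0,3,2,3,4,3,3,4,2,3,3,2,1,3,2],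
[1,1,0,1,3,2,3,1,3,3,2,2,1,3,1,2,0,4,1,1,2,0,0,4,4,0,1,2,0,3,3,3,4,4,3,0,2,3,3,2,1,3,3,1,2,3,3,3,1,2,0,3,4,4,3,3,2,2,1,1,2,0,2,4,1,1,0,3,3,1,4,1,1,0,0,1,0,1,2,0,3,0,0,0,1,3,3,0,2,3,0,0,1,2,3,1,0,0,4,4,1,1,2,2,4,0,3,1,1,4,4],
[3,2,2,3,1,3,1,4,2,2,1,1,0,1,1,0,2,4,4,2,1,3,4,0,4,2,4,3,3,3,3,1,4,0,4,2,1,1,2,2,0,0,1,0,2,3,0,2,0,0,1,3,4,0,2,0,0,2,0,2,4,3,2,1,2,3,1,4,3,2,4,0,2,3,4,0,2,1,0,0,3,2,3,0,4,0,0,1,4,0,4,4,3,1,1,1,0,4,1,1,3,1,3,3,4,0,0,0,3,4,1],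
[4,0,3,3,1,0,0,3,3,4,3,1,1,0,3,2,0,1,0,3,1,0,0,0,1,2,4,1,1,2,2,4,0,2,1,4,1,2,1,4,3,3,3,3,3,1,0,1,1,1,2,2,0,3,0,1,3,3,2,3,2,1,4,3,4,4,3,3,1,3,2,1,1,4,4,4,4,2,2,3,1,4,4,0,1,0,0,2,3,1,1,1,3,2,2,4,4,2,0,2,0,0,0,0,1,3,0,3,3,2,0],
[2,3,1,2,0,1,1,3,0,2,4,2,3,3,1,1,0,3,4,4,2,2,3,3,1,0,0,3,2,4,2,4,1,0,0,4,2,2,2,0,4,0,3,2,2,0,0,3,0,3,0,0,0,4,1,1,1,4,0,0,4,1,1,3,2,2,1,0,2,3,1,1,4,2,0,1,4,4,3,4,1,1,4,3,4,1,3,0,0,4,3,3,2,2,0,1,0,1,2,2,0,0,3,0,2,2,0,4,2,2,1],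
[3,1,4,4,1,0,0,4,4,3,3,2,3,0,0,0,1,1,0,0,3,2,1,1,3,4,0,3,4,1,4,4,4,0,0,2,1,1,3,0,1,2,3,4,4,4,3,2,3,0,2,2,3,0,2,0,4,1,2,4,2,4,4,0,3,0,0,3,0,0,3,3,3,0,0,0,0,3,4,3,4,1,1,0,3,0,1,3,0,1,3,1,1,1,1,0,0,1,3,4,0,3,0,0,2,4,0,4,4,3,1],
[0,2,4,0,1,0,3,3,3,3,0,4,3,1,4,1,2,2,3,3,4,3,3,3,4,0,3,3,4,4,3,1,1,0,4,0,1,4,2,4,4,2,0,1,4,4,0,4,1,2,1,1,0,1,1,3,0,3,3,4,0,4,0,4,2,2,4,2,2,0,0,3,3,2,4,2,1,2,4,3,0,3,0,4,3,0,3,2,2,1,4,2,1,4,0,4,1,4,3,4,0,4,0,2,0,3,0,3,3,2,2],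
[3,0,0,4,0,2,3,3,0,0,4,1,1,1,2,4,4,0,2,1,2,0,2,2,4,4,3,0,0,1,0,1,0,2,0,3,2,1,4,4,4,2,0,1,4,3,1,4,0,4,4,4,4,0,2,3,3,4,4,0,4,0,2,3,0,0,2,2,2,2,1,4,0,1,3,0,2,4,4,2,3,0,4,3,0,4,2,3,1,1,0,2,3,2,1,4,0,4,3,0,3,3,1,4,3,2,2,2,1,0,1],
[1,1,3,3,1,1,1,2,2,1,3,1,2,1,3,4,1,1,3,3,4,1,0,4,4,0,2,2,0,1,2,2,4,3,4,4,3,1,1,1,1,0,0,4,0,2,3,2,3,1,2,4,3,2,4,1,0,2,3,4,2,2,3,2,2,1,1,4,3,1,2,2,1,3,2,3,2,3,0,3,3,2,2,4,3,1,2,0,2,1,0,3,0,1,0,0,1,0,1,3,1,4,4,3,4,0,1,4,1,2,1],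
[3,1,3,3,2,4,4,3,0,1,2,0,0,3,4,4,2,4,4,2,1,0,0,4,3,0,4,0,1,0,0,0,3,0,2,1,3,2,1,3,1,4,1,0,3,3,1,3,2,2,1,4,1,1,2,2,0,0,3,4,0,2,0,0,2,0,2,4,3,1,0,2,2,3,4,0,2,2,2,1,0,1,1,2,2,0,3,4,2,0,1,1,4,1,0,1,4,1,0,2,3,0,3,2,4,3,0,4,0,3,4],
[4,0,0,2,0,0,4,4,1,0,0,0,4,2,1,4,4,4,1,0,4,1,2,0,3,0,0,4,4,1,3,0,2,3,0,2,1,2,2,2,0,3,4,1,4,1,3,3,2,3,4,3,0,4,1,3,0,0,4,1,0,3,0,0,4,2,3,3,1,2,4,0,2,0,0,4,0,3,1,0,3,1,1,3,1,1,1,2,1,3,3,3,0,1,0,0,2,4,4,2,1,2,2,4,4,1,4,1,1,2,1],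
[1,1,3,1,0,2,2,4,3,0,2,0,0,1,1,3,1,1,1,1,0,2,0,1,1,4,1,3,3,0,0,2,4,0,1,2,1,3,4,2,4,0,3,1,1,0,2,0,0,0,0,4,4,3,4,4,1,0,4,4,1,3,2,4,1,0,0,2,3,3,4,3,2,1,1,2,2,1,0,3,3,0,4,4,2,3,2,3,2,4,4,3,1,4,1,2,3,3,2,2,2,3,3,4,4,1,3,3,1,4,2],
[2,2,3,4,4,1,1,0,1,3,3,4,3,2,4,2,0,1,1,4,2,3,2,4,3,1,4,4,4,3,2,4,3,0,0,0,2,1,2,3,2,3,3,2,3,4,3,1,4,2,3,3,4,4,0,3,3,2,0,3,3,0,1,1,4,2,3,0,0,4,1,2,4,4,1,2,0,1,0,0,1,4,3,1,0,1,1,2,4,1,0,2,4,0,0,1,3,2,0,2,3,0,3,1,2,0,3,0,2,4,4],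
[1,2,1,0,3,2,0,1,3,3,1,1,4,1,3,4,2,1,0,0,3,2,1,2,4,2,3,1,4,2,3,1,3,0,1,3,2,4,1,2,2,2,4,1,4,3,1,1,4,4,0,3,1,3,1,1,1,1,3,2,3,2,2,2,3,1,0,2,3,0,3,1,2,4,0,2,4,1,3,4,2,3,4,3,2,0,0,2,2,0,1,3,1,3,4,3,2,2,4,4,4,4,2,3,0,1,1,3,3,4,0],
[0,3,0,1,2,3,1,0,1,0,1,1,0,2,4,0,3,3,1,2,0,1,2,0,4,2,0,2,0,4,3,3,4,3,2,0,2,3,1,2,3,0,4,3,1,2,1,1,2,3,3,3,3,3,3,1,1,0,4,2,4,4,1,1,1,0,0,2,0,2,4,4,3,1,0,1,3,1,2,3,4,2,0,0,2,0,3,3,0,0,2,4,4,4,3,1,2,4,4,3,0,4,4,0,0,3,1,3,4,4,1],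
[0,3,4,2,4,2,1,4,3,0,4,4,2,0,2,2,2,0,0,0,4,2,2,3,3,4,2,2,0,0,1,2,0,3,3,0,0,3,2,3,2,2,3,0,4,2,3,0,1,4,3,2,4,4,1,1,4,1,1,0,3,1,0,0,2,3,1,4,4,3,3,4,0,4,4,3,1,3,4,3,0,1,0,3,4,3,1,2,1,0,3,1,3,2,0,0,0,1,0,1,0,0,0,1,3,1,1,0,4,2,1],
[2,0,1,4,1,4,3,0,4,2,2,3,3,0,0,2,1,1,4,1,2,1,3,2,1,0,0,2,3,0,2,1,0,1,1,1,1,4,1,0,1,2,0,1,2,0,2,3,3,1,3,3,4,1,2,1,3,4,1,3,1,2,2,2,3,1,2,0,0,4,2,1,2,3,2,4,0,3,4,1,1,3,1,4,0,3,1,2,3,1,0,0,4,2,3,4,1,3,1,3,4,2,1,4,0,1,4,3,0,3,0],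
[4,0,1,2,4,2,0,0,3,2,1,1,0,3,4,0,0,4,0,2,3,0,3,4,0,4,3,2,2,1,4,2,4,0,1,1,0,1,2,1,2,1,4,3,4,4,2,2,4,1,0,1,2,4,3,2,3,0,1,2,3,0,0,3,1,0,3,3,4,2,3,1,1,2,3,4,4,2,3,1,4,4,0,4,4,0,1,2,4,0,2,3,4,4,3,3,0,4,0,3,4,4,4,3,3,0,4,1,1,0,4],
[4,0,0,0,0,0,0,4,2,4,2,1,3,3,1,2,2,0,2,4,4,1,3,3,2,2,3,0,1,3,2,3,3,4,4,1,3,4,0,2,4,0,2,0,4,4,1,1,2,3,2,2,2,2,1,1,3,3,2,2,4,4,4,2,2,2,2,2,1,1,1,3,4,2,3,1,0,2,4,1,3,4,0,0,3,1,1,2,0,0,4,3,0,2,4,3,4,1,4,0,3,4,4,3,4,2,0,0,0,0,2],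
[0,4,0,0,0,0,0,1,3,0,4,0,2,3,4,1,0,3,4,1,1,2,3,2,4,2,4,1,2,0,1,0,0,2,0,3,2,4,1,4,1,1,1,1,1,1,3,3,3,0,1,3,4,0,4,0,0,0,0,2,3,4,3,2,1,2,1,2,4,2,0,3,1,2,4,0,1,2,1,2,0,1,2,3,0,1,1,4,3,3,1,0,1,2,4,0,1,4,1,2,4,4,1,2,2,4,0,0,0,0,2],
[0,0,4,0,0,0,0,0,0,0,0,3,1,0,1,2,2,0,3,2,0,0,3,3,4,3,2,0,1,0,3,0,2,0,3,1,2,4,2,2,0,4,3,4,3,2,1,2,1,4,4,1,2,2,1,2,3,2,0,0,1,2,4,1,1,1,1,4,1,3,1,3,1,4,2,3,4,2,4,4,0,1,4,4,0,4,4,2,4,1,1,1,3,2,4,2,2,0,2,0,1,3,1,2,0,0,3,3,2,0,0],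
[0,0,0,4,0,0,0,0,0,0,0,0,0,0,0,0,3,0,0,2,0,0,1,2,0,1,2,4,4,1,0,0,3,2,0,4,2,2,2,3,0,0,2,3,3,4,2,4,0,3,0,1,2,0,4,0,2,3,2,0,3,1,1,0,0,4,4,3,1,1,0,1,0,0,3,1,0,3,1,1,0,4,3,4,3,0,2,1,0,3,3,0,3,1,1,3,2,0,0,0,3,0,2,0,0,0,0,2,3,0,0],
[0,0,0,0,4,0,0,0,0,0,0,1,3,4,4,1,3,4,4,4,1,0,3,2,2,2,1,0,3,2,4,4,4,1,1,0,1,4,2,0,0,3,0,2,1,1,1,3,3,2,3,0,4,4,2,3,4,3,2,4,4,1,3,0,4,4,0,0,3,2,2,1,4,1,3,0,2,1,3,2,1,4,1,0,1,0,3,4,1,3,3,0,1,2,0,1,2,1,2,4,2,4,4,0,0,0,1,1,2,0,0],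
[0,0,0,0,0,4,0,1,3,3,4,0,2,3,0,2,0,3,3,1,0,0,3,3,2,1,0,0,3,1,2,3,4,1,0,4,2,3,3,2,3,4,4,1,1,3,3,3,3,3,4,1,4,1,4,0,2,0,1,2,4,3,3,3,3,1,0,1,3,1,0,4,0,4,4,2,1,1,1,3,3,4,1,1,2,2,3,1,4,0,0,1,0,4,0,3,0,0,3,2,4,3,0,1,2,0,0,0,0,3,2],
[0,0,0,0,0,0,4,0,1,3,0,2,0,1,3,4,0,3,4,1,1,1,2,1,0,3,3,2,1,0,4,3,1,3,3,4,1,4,1,1,3,4,3,4,1,0,3,4,0,3,4,0,0,4,0,4,4,0,3,4,0,4,0,2,3,4,0,0,1,1,4,1,2,1,4,0,3,1,0,1,3,3,3,0,4,2,1,1,3,0,0,4,2,2,2,1,0,4,3,2,2,0,3,2,3,3,0,0,0,3,0]]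

/-- word of the first element -/
def carBase : List ℕ := [1, 3, 4, 0, 0, 0, 0, 8, 7, 8, 1, 5, 6, 7, 8, 5, 7, 0, 7, 5, 2, 0, 1, 1, 2, 0, 0, 0, 0, 7, 6, 6, 5, 7, 0, 2, 5, 2, 0, 3, 2, 1, 0, 6, 3, 2, 3, 0, 1, 3, 4, 0, 0, 0, 0, 8, 7, 8, 1, 5, 6, 7, 8, 5, 7, 0, 7, 5, 2, 0, 1, 1, 2, 0, 0, 0, 0, 7, 6, 6, 5, 7, 0, 2, 5, 2, 0, 3, 2, 1, 0, 6, 3, 2, 3, 0, 1, 3, 4, 0, 0, 0, 0, 8, 7, 8, 1, 5, 6, 7, 8, 5, 7, 0, 7, 5, 2, 0, 1, 1, 2, 0, 0, 0, 0, 7, 6, 6, 5, 7, 0, 2, 5, 2, 0, 3, 2, 1, 0, 6, 3, 2, 3, 0, 1, 3, 4, 0, 0, 0, 0, 8, 7, 8, 1, 5, 6, 7, 8, 5, 7, 0, 7, 5, 2, 0, 1, 1, 2, 0, 0, 0, 0, 7, 6, 6, 5, 7, 0, 2, 5, 2,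 0, 3, 2, 1, 0, 6, 3, 2, 3, 0, 1, 3, 4, 0, 0, 0, 0, 8, 7, 8, 1, 5, 6, 7, 8, 5, 7, 0, 7, 5, 2, 0, 1, 1, 2, 0, 0, 0, 0, 7, 6, 6, 5, 7, 0, 2, 5, 2, 0, 3, 2, 1, 0, 6, 3, 2, 3, 0, 1, 3, 4, 0, 0, 0, 0, 8, 7, 8, 1, 5, 6, 7, 8, 5, 7, 0, 7, 5, 2, 0, 1, 1, 2, 0, 0, 0, 0, 7, 6, 6, 5, 7, 0, 2, 5, 2, 0, 3, 2, 1, 0, 6, 3, 2, 3, 0, 1, 3, 4, 0, 0, 0, 0, 8, 7, 8, 1, 5, 6, 7, 8, 5, 7, 0, 7, 5, 2, 0, 1, 1, 2, 0, 0, 0, 0, 7, 6, 6, 5, 7, 0, 2, 5, 2, 0, 3, 2, 1, 0, 6, 3, 2, 3, 0]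

/-- conjugating words -/
def carConj : List (List ℕ) := [[],
  [0],
  [0, 0, 0, 0, 0, 8, 7, 8, 1, 5, 6, 7, 8, 5, 7, 0, 7, 5, 2, 0, 1, 1, 2, 0, 0, 0, 0, 7, 6, 6, 5, 7, 0, 2, 5, 2, 0, 3, 2, 1, 0, 6, 3, 2, 3, 0],
  [0, 0, 0, 0, 8, 7, 8, 1, 5, 6, 7, 8, 5, 7, 0, 7, 5, 2, 0, 1, 1, 2, 0, 0, 0, 0, 7, 6, 6, 5, 7, 0, 2, 5, 2, 0, 3, 2, 1, 0, 6, 3, 2, 3, 0, 0, 0, 8, 7, 8, 1, 5, 6, 7, 8, 5, 7, 0, 7, 5, 2, 0, 1, 1, 2, 0, 0, 0, 0, 7, 6, 6, 5, 7, 0, 2, 5, 2, 0, 3, 2, 1, 0, 6, 3, 2, 3, 3],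
  [0, 0, 0, 0, 0, 0, 8, 7, 8, 1, 5, 6, 7, 8, 5, 7, 0, 7, 5, 2, 0, 1, 1, 2, 0, 0, 0, 0, 7, 6, 6, 5, 7, 0, 2, 5, 2, 0, 3, 2, 1, 0, 6, 3, 2, 3, 3, 4],
  [0, 0, 0, 0, 0, 0, 8, 7, 8, 1, 5, 6, 7, 8, 5, 7, 0, 7, 5, 2, 0, 1, 1, 2, 0, 0, 0, 0, 7, 6, 6, 5, 7, 0, 2, 5, 2, 0, 3, 2, 1, 0, 6, 3, 2, 3, 3, 4, 6],
  [0, 0, 0, 0, 0, 0, 8, 7, 8, 1, 5, 6, 7, 8, 5, 7, 0, 7, 5, 2, 0, 1, 1, 2, 0, 0, 0, 0, 7, 6, 6, 5, 7, 0, 2, 5, 2, 0, 3, 2, 1, 0, 6, 3, 2, 3, 3, 4, 1],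
  [0, 0, 0, 0, 0, 0, 8, 7, 8, 1, 5, 6, 7, 8, 5, 7, 0, 7, 5, 2, 0, 1, 1, 2, 0, 0, 0, 0, 7, 6, 6, 5, 7, 0, 2, 5, 2, 0, 3, 2, 1, 0, 6, 3, 2, 3, 3, 4, 6, 6],
  [0, 0, 0, 0, 0, 0, 8, 7, 8, 1, 5, 6, 7, 8, 5, 7, 0, 7, 5, 2, 0, 1, 1, 2, 0, 0, 0, 0, 7, 6, 6, 5, 7, 0, 2, 5, 2, 0, 3, 2, 1, 0, 6, 3, 2, 3, 3, 4, 1, 1]]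

end H65.LyPerm.Data
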