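import Cfsg.Agent.H68.Ly.RepWord
import Cfsg.Agent.H65.LyPerm.CarRows

/-!
The nine elements of order three satisfy Carmichael's relations modulo `a ^ 4`, as matrices.
-/

set_option autoImplicit false
set_option maxRecDepth 100000
set_option maxHeartbeats 0
set_option Elab.async false

namespace H65.LyPerm

open H68.Ly (tab tabOK toM invWord rows isOneR packTab rows_eq isOneR_spec Mat)
open Data

/-- the nine tables -/
noncomputable def carTab : ℕ → List (List ℕ)
  | 0 => carTab0 | 1 => carTab1 | 2 => carTab2 | 3 => carTab3 | 4 => carTab4
  | 5 => carTab5 | 6 => carTab6 | 7 => carTab7 | _ => carTab8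

/-- the same with packed rows -/
noncomputable def carRows : ℕ → List ℕ
  | 0 => carRows0 | 1 => carRows1 | 2 => carRows2 | 3 => carRows3 | 4 => carRows4
  | 5 => carRows5 | 6 => carRows6 | 7 => carRows7 | _ => carRows8

theorem carRows_eq : ∀ k, carRows k = packTab (carTab k)
  | 0 => carRows0_eq | 1 => carRows1_eq | 2 => carRows2_eq | 3 => carRows3_eq | 4 => carRows4_eq
  | 5 => carRows5_eq | 6 => carRows6_eq | 7 => carRows7_eq | _ + 8 => carRows8_eq

/-- `t = a ^ 4` -/
def tW : List ℕ := [0, 0, 0, 0]

/-- word of the `i`-th element -/
def carWord (i : ℕ) : List ℕ :=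
  invWord (carConj.getD i []) ++ carBase ++ carConj.getD i []

theorem tab_ok : (List.range 10).all (fun k => tabOK (tab k)) = true := by decide +kernel

theorem carTab_ok : (List.range 9).all (fun k => tabOK (carTab k)) = true := by decide +kernel

theorem carWord_lt :
    (List.range 9).all (fun i => (carWord i).all fun l => decide (l < 10)) = true := by
  decide +kernel

/-- the word conjugating the first element to the `i`-th -/
noncomputable def conjChk (i : ℕ) : Bool :=
  isOneR ((invWord (carConj.getD i [])).map rows ++ [carRows 0] ++ (carConj.getD i []).map rows ++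
    [carRows i, carRows i])

/-- the `i`-th element commutes with `t` -/
noncomputable def commChk (i : ℕ) : Bool :=
  isOneR ([carRows i] ++ tW.map rows ++ [carRows i, carRows i] ++ tW.map rows)

/-- `(xᵢ xⱼ)² = t` -/
noncomputable def pairChk (i : ℕ) : Bool :=
  (List.range 9).all fun j =>
    Nat.beq i j || isOneR ([carRows i, carRows j, carRows i, carRows j] ++ tW.map rows)

end H65.LyPerm
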