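import Cfsg.Agent.H65.LyPerm.CarCheck

/-!
The nine words satisfy Carmichael's relations modulo `a ^ 4` in every group that embeds in the
111-dimensional matrices with the given letters.
-/

set_option autoImplicit false

namespace H65.LyPerm

open H68.Ly (tab tabOK toM isOneR isOneR_spec invWord Mat rows rows_eq packTab)
open Data

variable {G : Type*} [Group G]

/-- the product of the letters of a word -/
def wval (gs : ℕ → G) (w : List ℕ) : G := (w.map gs).prod

/-- the data needed from a faithful representation -/
structure Letters (ρ : G →* Mat) (gs : ℕ → G) : Prop where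
  inj : Function.Injective ρ
  tab_eq : ∀ l < 10, ρ (gs l) = toM (tab l)

variable {ρ : G →* Mat} {gs : ℕ → G}

theorem all_tabOK {w : List ℕ} (hw : ∀ l ∈ w, l < 10) : ∀ S ∈ w.map tab, tabOK S = true := by
  intro S hS
  obtain ⟨l, hl, rfl⟩ := List.mem_map.mp hS
  have := tab_ok
  simp only [List.all_eq_true, List.mem_range] at this
  exact this l (hw l hl)

theorem Letters.word (L : Letters ρ gs) {w : List ℕ} (hw : ∀ l ∈ w, l < 10) :
    ((w.map tab).map toM).prod = ρ (wval gs w) := by
  induction w with
  | nil => simp [wval]
  | cons l w ih =>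
    simp only [List.mem_cons, forall_eq_or_imp] at hw
    simp only [List.map_cons, List.prod_cons, wval, map_mul, L.tab_eq l hw.1]
    rw [ih hw.2]
    rfl

theorem carTab_tabOK {i : ℕ} (hi : i < 9) : tabOK (carTab i) = true := by
  have := carTab_ok
  simp only [List.all_eq_true, List.mem_range] at this
  exact this i hi

theorem rows_map (w : List ℕ) : w.map rows = (w.map tab).map packTab := by
  simp [rows_eq]

theorem tW_lt : ∀ l ∈ tW, l < 10 := by decide

/-- the `i`-th element -/
def carEl (gs : ℕ → G) (i : ℕ) : G := wval gs (carWord i)

theorem base_lt : (carBase.all fun l => decide (l < 10)) = true := by decide +kernel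

theorem conj_lt : (List.range 9).all (fun i =>
    ((invWord (carConj.getD i [])) ++ carConj.getD i []).all fun l => decide (l < 10)) = true := by
  decide +kernel

theorem mul_eq_one_cancel {X Y : Mat} (h : Y * Y * Y = 1) (h2 : X * (Y * Y) = 1) : X = Y :=
  calc X = X * (Y * Y * Y) := by rw [h, mul_one]
    _ = X * (Y * Y) * Y := by simp only [mul_assoc]
    _ = Y := by rw [h2, one_mul]

theorem Letters.cube_mat {i : ℕ} (hi : i < 9) :
    toM (carTab i) * toM (carTab i) * toM (carTab i) = 1 := by
  have h := cube_val
  simp only [List.all_eq_true, List.mem_range] at h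
  have h' := isOneR_spec (w := [carTab i, carTab i, carTab i]) (by simp [carTab_tabOK hi])
    (by simp only [List.map_cons, List.map_nil, ← carRows_eq]; exact h i hi)
  simpa [mul_assoc] using h'

theorem Letters.el_mat (L : Letters ρ gs) {i : ℕ} (hi : i < 9) :
    ρ (carEl gs i) = toM (carTab i) := by
  have hb : ∀ l ∈ carBase, l < 10 := by
    have := base_lt
    simpa [List.all_eq_true] using this
  have hc := conj_lt
  simp only [List.all_eq_true, List.mem_range, List.mem_append, decide_eq_true_eq] at hc
  have h0 : ρ (wval gs carBase) = toM (carTab 0) := by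
    refine mul_eq_one_cancel (Letters.cube_mat (by omega)) ?_
    have := isOneR_spec (w := carBase.map tab ++ [carTab 0, carTab 0]) (fun S hS => by
      rcases List.mem_append.mp hS with h | h
      · exact all_tabOK hb S h
      · simp only [List.mem_cons, List.not_mem_nil, or_false] at h
        rcases h with rfl | rfl <;> exact carTab_tabOK (by omega))
      (by simp only [List.map_append, List.map_cons, List.map_nil, ← rows_map, ← carRows_eq]; exact base_val)
    rw [List.map_append, List.prod_append, L.word hb] at this
    simpa using this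
  have h1 : ∀ l ∈ invWord (carConj.getD i []), l < 10 := fun l hl => hc i hi l (Or.inl hl)
  have h2 : ∀ l ∈ carConj.getD i [], l < 10 := fun l hl => hc i hi l (Or.inr hl)
  refine mul_eq_one_cancel (Letters.cube_mat hi) ?_
  have h := conj_val hi
  rw [conjChk] at h
  have := isOneR_spec (w := (invWord (carConj.getD i [])).map tab ++ [carTab 0] ++
      (carConj.getD i []).map tab ++ [carTab i, carTab i]) (fun S hS => by
    simp only [List.mem_append, List.mem_cons, List.not_mem_nil, or_false] at hS
    rcases hS with ((h | rfl) | h) | rfl | rfl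
    · exact all_tabOK h1 S h
    · exact carTab_tabOK (by omega)
    · exact all_tabOK h2 S h
    · exact carTab_tabOK hi
    · exact carTab_tabOK hi) (by simp only [List.map_append, List.map_cons, List.map_nil, ← rows_map, ← carRows_eq]; exact h)
  simp only [List.map_append, List.prod_append, List.map_cons, List.map_nil, List.prod_cons,
    List.prod_nil, mul_one, L.word h1, L.word h2, ← h0] at this
  simp only [carEl, carWord, wval, List.map_append, List.prod_append, map_mul] at this ⊢
  exact this

theorem Letters.t_word (L : Letters ρ gs) :
    ((tW.map tab).map toM).prod = ρ (wval gs tW) := L.word tW_lt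

theorem Letters.t_sq (L : Letters ρ gs) : wval gs tW * wval gs tW = 1 := by
  apply L.inj
  have := isOneR_spec (w := tW.map tab ++ tW.map tab) (fun S hS => by
    rcases List.mem_append.mp hS with h | h <;> exact all_tabOK tW_lt S h)
    (by rw [List.map_append, ← rows_map]; exact t_sq_val)
  rw [List.map_append, List.prod_append, L.t_word, ← map_mul] at this
  rw [this, map_one]

theorem Letters.cube (L : Letters ρ gs) {i : ℕ} (hi : i < 9) : carEl gs i ^ 3 = 1 := by
  apply L.inj
  rw [map_pow, L.el_mat hi, map_one, pow_succ, pow_two, Letters.cube_mat hi]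

theorem Letters.comm (L : Letters ρ gs) {i : ℕ} (hi : i < 9) :
    carEl gs i * wval gs tW = wval gs tW * carEl gs i := by
  have h := comm_val
  simp only [List.all_eq_true, List.mem_range] at h
  have := isOneR_spec (w := [carTab i] ++ tW.map tab ++ [carTab i, carTab i] ++ tW.map tab)
    (fun S hS => by
    simp only [List.mem_append, List.mem_cons, List.not_mem_nil, or_false] at hS
    rcases hS with ((rfl | h) | rfl | rfl) | h
    all_goals first
      | exact carTab_tabOK hi
      | exact all_tabOK tW_lt S h) (by simp only [List.map_append, List.map_cons, List.map_nil, ← rows_map, ← carRows_eq]; exact h i hi)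
  simp only [List.map_append, List.prod_append, List.map_cons, List.map_nil, List.prod_cons,
    List.prod_nil, mul_one, L.t_word, ← L.el_mat hi, ← map_mul] at this
  have h1 : carEl gs i * wval gs tW * (carEl gs i * carEl gs i) * wval gs tW = 1 :=
    L.inj (this.trans (map_one _).symm)
  have h3 := L.cube hi
  calc carEl gs i * wval gs tW
      = carEl gs i * wval gs tW * (carEl gs i * carEl gs i) * wval gs tW *
          ((wval gs tW)⁻¹ * (carEl gs i * carEl gs i)⁻¹) := by group
    _ = (wval gs tW)⁻¹ * (carEl gs i * carEl gs i)⁻¹ := by rw [h1, one_mul]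
    _ = wval gs tW * carEl gs i := by
      rw [inv_eq_of_mul_eq_one_right L.t_sq,
        inv_eq_of_mul_eq_one_right (a := carEl gs i * carEl gs i) (b := carEl gs i)
          (by rw [← h3, pow_succ, pow_two])]

theorem Letters.pair (L : Letters ρ gs) {i j : ℕ} (hi : i < 9) (hj : j < 9) (hij : i ≠ j) :
    carEl gs i * carEl gs j * (carEl gs i * carEl gs j) = wval gs tW := by
  have h := pair_val hi
  simp only [pairChk, List.all_eq_true, List.mem_range, Bool.or_eq_true, Nat.beq_eq] at h
  have := isOneR_spec (w := [carTab i, carTab j, carTab i, carTab j] ++ tW.map tab) (fun S hS => by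
    simp only [List.mem_append, List.mem_cons, List.not_mem_nil, or_false] at hS
    rcases hS with (rfl | rfl | rfl | rfl) | h
    all_goals first
      | exact carTab_tabOK hi
      | exact carTab_tabOK hj
      | exact all_tabOK tW_lt S h) (by simp only [List.map_append, List.map_cons, List.map_nil, ← rows_map, ← carRows_eq]; exact (h j hj).resolve_left hij)
  simp only [List.map_append, List.prod_append, List.map_cons, List.map_nil, List.prod_cons,
    List.prod_nil, mul_one, L.t_word, ← L.el_mat hi, ← L.el_mat hj, ← map_mul] at this
  have h1 : carEl gs i * (carEl gs j * (carEl gs i * carEl gs j)) * wval gs tW = 1 :=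
    L.inj (this.trans (map_one _).symm)
  rw [← mul_assoc] at h1
  rw [← inv_eq_of_mul_eq_one_left h1, inv_eq_of_mul_eq_one_right L.t_sq]

theorem Letters.ne_one (L : Letters ρ gs) (ht : wval gs tW ≠ 1) : carEl gs 0 ≠ 1 := by
  intro h0
  apply ht
  have h01 := L.pair (i := 0) (j := 1) (by omega) (by omega) (by omega)
  have h3 := L.cube (i := 1) (by omega)
  rw [h0, one_mul] at h01
  have hc := L.t_sq
  rw [← h01] at hc ⊢
  calc carEl gs 1 * carEl gs 1
      = carEl gs 1 * carEl gs 1 * (carEl gs 1 ^ 3) := by rw [h3, mul_one]
    _ = carEl gs 1 * carEl gs 1 * (carEl gs 1 * carEl gs 1) * carEl gs 1 := by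
      simp only [pow_succ, pow_zero, one_mul, mul_assoc]
    _ = carEl gs 1 := by rw [hc, one_mul]
    _ = carEl gs 1 ^ 3 * carEl gs 1 := by rw [h3, one_mul]
    _ = carEl gs 1 * carEl gs 1 * (carEl gs 1 * carEl gs 1) := by
      simp only [pow_succ, pow_zero, one_mul, mul_assoc]
    _ = 1 := hc

end H65.LyPerm
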