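import Cfsg.Agent.H65.LyPerm.Lists
import Cfsg.Agent.H23.Ly.Data.Tab
import Cfsg.Agent.H65.LyPerm.ConjData

/-! The fixed points of `t` and its conjugates in a point stabiliser. -/

set_option autoImplicit false
set_option maxRecDepth 100000
set_option maxHeartbeats 0

namespace H65.LyPerm

open Data

/-- points fixed by `t` -/
def tFix : List ℕ := [0, 1, 2, 3, 4, 12, 13, 28, 34, 41, 42, 48, 54, 75, 86, 87, 93, 99, 105, 113, 114, 115, 118, 129, 130, 136, 142, 168, 169, 176, 177, 178, 185, 186, 219, 426, 443, 444, 581, 582, 591, 853, 870, 880, 892, 893, 901, 902, 918, 919, 920, 921, 922, 931, 1501, 1926, 1931, 1932, 1935, 5531, 6436, 11304, 13047, 13051, 13053, 16329]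

theorem t_fix_0 : fixOK H23.Ly.Data.T [0, 0, 0, 0] tFix 0 2500 = true := by decide +kernel

theorem t_fix_1 : fixOK H23.Ly.Data.T [0, 0, 0, 0] tFix 2500 2500 = true := by decide +kernel

theorem t_fix_2 : fixOK H23.Ly.Data.T [0, 0, 0, 0] tFix 5000 2500 = true := by decide +kernel

theorem t_fix_3 : fixOK H23.Ly.Data.T [0, 0, 0, 0] tFix 7500 2500 = true := by decide +kernel

theorem t_fix_4 : fixOK H23.Ly.Data.T [0, 0, 0, 0] tFix 10000 2500 = true := by decide +kernel

theorem t_fix_5 : fixOK H23.Ly.Data.T [0, 0, 0, 0] tFix 12500 2500 = true := by decide +kernel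

theorem t_fix_6 : fixOK H23.Ly.Data.T [0, 0, 0, 0] tFix 15000 2500 = true := by decide +kernel

theorem t_fix_7 : fixOK H23.Ly.Data.T [0, 0, 0, 0] tFix 17500 2030 = true := by decide +kernel

theorem t_fix : ∀ k < 19530, ∃ lo m, lo ≤ k ∧ k < lo + m ∧ fixOK H23.Ly.Data.T [0, 0, 0, 0] tFix lo m = true := by
  intro k hk
  by_cases h0 : k < 2500
  · exact ⟨0, 2500, by omega, by omega, t_fix_0⟩
  by_cases h1 : k < 5000
  · exact ⟨2500, 2500, by omega, by omega, t_fix_1⟩
  by_cases h2 : k < 7500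
  · exact ⟨5000, 2500, by omega, by omega, t_fix_2⟩
  by_cases h3 : k < 10000
  · exact ⟨7500, 2500, by omega, by omega, t_fix_3⟩
  by_cases h4 : k < 12500
  · exact ⟨10000, 2500, by omega, by omega, t_fix_4⟩
  by_cases h5 : k < 15000
  · exact ⟨12500, 2500, by omega, by omega, t_fix_5⟩
  by_cases h6 : k < 17500
  · exact ⟨15000, 2500, by omega, by omega, t_fix_6⟩
  exact ⟨17500, 2030, by omega, by omega, t_fix_7⟩

theorem cj_codes_0 : conjE.codesOK H23.Ly.Data.T [0, 66, 193, 194, 195] 0 700 = true := by decide +kernel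

theorem cj_codes_1 : conjE.codesOK H23.Ly.Data.T [0, 66, 193, 194, 195] 700 675 = true := by decide +kernel

theorem cj_codes : ∀ k < 1375, ∃ lo m, lo ≤ k ∧ k < lo + m ∧ conjE.codesOK H23.Ly.Data.T [0, 66, 193, 194, 195] lo m = true := by
  intro k hk
  by_cases h0 : k < 700
  · exact ⟨0, 700, by omega, by omega, cj_codes_0⟩
  exact ⟨700, 675, by omega, by omega, cj_codes_1⟩

theorem cj_fix_0 : fixWords conjE H23.Ly.Data.T 0 0 700 = true := by decide +kernel

theorem cj_fix_1 : fixWords conjE H23.Ly.Data.T 0 700 675 = true := by decide +kernel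

theorem cj_fix : ∀ k < 1375, ∃ lo m, lo ≤ k ∧ k < lo + m ∧ fixWords conjE H23.Ly.Data.T 0 lo m = true := by
  intro k hk
  by_cases h0 : k < 700
  · exact ⟨0, 700, by omega, by omega, cj_fix_0⟩
  exact ⟨700, 675, by omega, by omega, cj_fix_1⟩

theorem cj_srt : conjE.srtOK = true := by decide +kernel

end H65.LyPerm
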