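import Mathlib.Tactic.Group
import Mathlib.Tactic.Ring
import Mathlib.GroupTheory.Coset.Card
import Mathlib.GroupTheory.GroupAction.Quotient
import Mathlib.GroupTheory.Index

/-!
Counting fixed cosets of an element: `|Fix| · |K| = |class ∩ K| · |centraliser|`, and the resulting
bounds for a centraliser in a group covered by cells of a subgroup.
-/

set_option autoImplicit false

namespace H65.LyPerm

variable {G : Type*} [Group G]

/-- the cosets of `K` fixed by `t` -/
def fixCos (K : Subgroup G) (t : G) : Set (G ⧸ K) := {x | t • x = x}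

/-- the conjugates of `t` lying in `K` -/
def conjIn (K : Subgroup G) (t : G) : Set G := {v | v ∈ K ∧ ∃ g, g⁻¹ * t * g = v}

theorem mem_fixCos {K : Subgroup G} {t g : G} :
    (g : G ⧸ K) ∈ fixCos K t ↔ g⁻¹ * t * g ∈ K := by
  show t • (g : G ⧸ K) = g ↔ _
  rw [MulAction.Quotient.smul_coe, smul_eq_mul, QuotientGroup.eq, mul_inv_rev]
  constructor
  · intro h
    have := K.inv_mem h
    simpa [mul_assoc] using this
  · intro h
    have := K.inv_mem h
    simpa [mul_assoc] using this

theorem fix_mul_card [Finite G] (K : Subgroup G) (t : G) :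
    Nat.card (fixCos K t) * Nat.card K =
      Nat.card (conjIn K t) * Nat.card (Subgroup.centralizer ({t} : Set G)) := by
  classical
  set C := Subgroup.centralizer ({t} : Set G)
  let S : Set G := QuotientGroup.mk ⁻¹' fixCos K t
  have h1 : Nat.card S = Nat.card K * Nat.card (fixCos K t) := by
    rw [Nat.card_congr (QuotientGroup.preimageMkEquivSubgroupProdSet K _), Nat.card_prod]
  have hpick : ∀ v : conjIn K t, ∃ g, g⁻¹ * t * g = (v : G) := fun v => v.2.2
  choose pick hpick' using hpick
  have hmemC : ∀ c : C, (c : G)⁻¹ * t * c = t := fun c => by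
    rw [mul_assoc, ← Subgroup.mem_centralizer_singleton_iff.mp c.2, inv_mul_cancel_left]
  let f : conjIn K t × C → S := fun p => ⟨(p.2 : G) * pick p.1, mem_fixCos.mpr (by
    rw [mul_inv_rev,
      show (pick p.1)⁻¹ * (p.2 : G)⁻¹ * t * ((p.2 : G) * pick p.1) =
        (pick p.1)⁻¹ * ((p.2 : G)⁻¹ * t * (p.2 : G)) * pick p.1 by simp only [mul_assoc],
      hmemC, hpick' p.1]
    exact p.1.2.1)⟩
  have hf : Function.Bijective f := by
    constructor
    · rintro ⟨v, c⟩ ⟨w, d⟩ h
      have h' : (c : G) * pick v = (d : G) * pick w := congrArg Subtype.val h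
      have hvw : v = w := by
        apply Subtype.ext
        rw [← hpick' v, ← hpick' w]
        have hv : (pick v)⁻¹ * t * pick v = ((c : G) * pick v)⁻¹ * t * ((c : G) * pick v) := by
          conv_lhs => rw [← hmemC c]
          group
        have hw : (pick w)⁻¹ * t * pick w = ((d : G) * pick w)⁻¹ * t * ((d : G) * pick w) := by
          conv_lhs => rw [← hmemC d]
          group
        rw [hv, hw, h']
      subst hvw
      simp only [Prod.mk.injEq, true_and]
      exact Subtype.ext (mul_right_cancel h')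
    · rintro ⟨g, hg⟩
      let v : conjIn K t := ⟨g⁻¹ * t * g, mem_fixCos.mp hg, g, rfl⟩
      have hc : g * (pick v)⁻¹ ∈ C := Subgroup.mem_centralizer_singleton_iff.mpr (by
        calc g * (pick v)⁻¹ * t = g * ((pick v)⁻¹ * t * pick v) * (pick v)⁻¹ := by group
          _ = g * (g⁻¹ * t * g) * (pick v)⁻¹ := by rw [hpick' v]
          _ = t * (g * (pick v)⁻¹) := by group)
      exact ⟨⟨v, ⟨_, hc⟩⟩, Subtype.ext (inv_mul_cancel_right g (pick v))⟩
  rw [mul_comm, ← h1, ← Nat.card_prod, Nat.card_congr (Equiv.ofBijective f hf)]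

/-- lower bound for the class gives an upper bound for the centraliser -/
theorem cent_mul_le [Finite G] (K : Subgroup G) (t : G) {s : Set G} (hs : s ⊆ conjIn K t) :
    Nat.card (Subgroup.centralizer ({t} : Set G)) * Nat.card s ≤
      Nat.card (fixCos K t) * Nat.card K := by
  rw [fix_mul_card, mul_comm]
  exact Nat.mul_le_mul_right _ (Nat.card_mono (Set.toFinite _) hs)

/-- upper bound for the involutions gives an upper bound for the fixed cosets -/
theorem fix_mul_le [Finite G] (K : Subgroup G) {t : G} (ht : t * t = 1) (ht1 : t ≠ 1) :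
    Nat.card (fixCos K t) * Nat.card K ≤
      Nat.card {v : G | v ∈ K ∧ v * v = 1 ∧ v ≠ 1} *
        Nat.card (Subgroup.centralizer ({t} : Set G)) := by
  rw [fix_mul_card]
  refine Nat.mul_le_mul_right _ (Nat.card_mono (Set.toFinite _) ?_)
  rintro v ⟨hv, g, rfl⟩
  refine ⟨hv, ?_, ?_⟩
  · calc g⁻¹ * t * g * (g⁻¹ * t * g) = g⁻¹ * (t * t) * g := by group
      _ = 1 := by rw [ht]; group
  · intro h
    apply ht1
    calc t = g * (g⁻¹ * t * g) * g⁻¹ := by group
      _ = 1 := by rw [h]; group

/-- centraliser of the image of an element of `N`, counted on the cosets of `N` -/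
theorem cent_le_fix_mul {N : Type*} [Group N] [Finite N] [Finite G] (ι : N →* G)
    (hι : Function.Injective ι) (t : N) :
    Nat.card (Subgroup.centralizer ({ι t} : Set G)) ≤
      Nat.card (fixCos ι.range (ι t)) * Nat.card (Subgroup.centralizer ({t} : Set N)) := by
  set C := Subgroup.centralizer ({ι t} : Set G)
  let D := ι.range.subgroupOf C
  have h1 : Nat.card C = D.index * Nat.card D := (D.index_mul_card).symm
  have h2 : D.index ≤ Nat.card (fixCos ι.range (ι t)) := by
    let g : C ⧸ D → fixCos ι.range (ι t) := fun x => ⟨((x.out : C) : G), mem_fixCos.mpr (by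
      have hc := Subgroup.mem_centralizer_singleton_iff.mp (x.out : C).2
      rw [mul_assoc, ← hc, inv_mul_cancel_left]
      exact ⟨t, rfl⟩)⟩
    refine Nat.card_le_card_of_injective g fun x y h => ?_
    have h' : (((x.out : C) : G) : G ⧸ ι.range) = ((y.out : C) : G) := congrArg Subtype.val h
    rw [QuotientGroup.eq] at h'
    rw [← x.out_eq', ← y.out_eq', QuotientGroup.eq, Subgroup.mem_subgroupOf]
    simpa using h'
  have h3 : Nat.card D ≤ Nat.card (Subgroup.centralizer ({t} : Set N)) := by
    have hsurj : ∀ d : D, ∃ n : Subgroup.centralizer ({t} : Set N), ι n = ((d : C) : G) := by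
      rintro ⟨⟨c, hc⟩, hd⟩
      obtain ⟨n, hn⟩ := Subgroup.mem_subgroupOf.mp hd
      have hn' : ι n = c := hn
      refine ⟨⟨n, Subgroup.mem_centralizer_singleton_iff.mpr (hι ?_)⟩, hn'⟩
      rw [map_mul, map_mul, hn']
      exact Subgroup.mem_centralizer_singleton_iff.mp hc
    choose pre hpre using hsurj
    refine Nat.card_le_card_of_injective pre fun a b h => ?_
    exact Subtype.ext (Subtype.ext ((hpre a).symm.trans ((congrArg (fun n : Subgroup.centralizer
      ({t} : Set N) => ι (n : N)) h).trans (hpre b))))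
  rw [h1]
  exact Nat.mul_le_mul h2 h3

/-- fixed cosets when the cosets are covered exactly by cells -/
theorem fix_le_sum {N : Type*} [Group N] [Finite N] [Finite G] (ι : N →* G) (r : ℕ)
    (K : Fin r → Subgroup N) (q : Fin r → G ⧸ ι.range)
    (hfix : ∀ i, ∀ k ∈ K i, ι k • q i = q i)
    (hcov : ∀ y : G ⧸ ι.range, ∃ i n, ι n • q i = y)
    (hsum : ∑ i, (K i).index ≤ ι.range.index) (t : N) :
    Nat.card (fixCos ι.range (ι t)) ≤ ∑ i, Nat.card (fixCos (K i) t) := by
  classical
  let f : (Σ i, N ⧸ K i) → G ⧸ ι.range := fun x => ι x.2.out • q x.1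
  have hf : ∀ i (n : N), f ⟨i, (n : N ⧸ K i)⟩ = ι n • q i := by
    intro i n
    obtain ⟨u, hu⟩ := QuotientGroup.mk_out_eq_mul (K i) n
    show ι (QuotientGroup.mk n : N ⧸ K i).out • q i = _
    rw [hu, map_mul, mul_smul, hfix i _ u.2]
  have hsurj : Function.Surjective f := fun y => by
    obtain ⟨i, n, rfl⟩ := hcov y
    exact ⟨⟨i, n⟩, hf i n⟩
  have hbij : Function.Bijective f := by
    have : Fintype (Σ i, N ⧸ K i) := Fintype.ofFinite _
    have : Fintype (G ⧸ ι.range) := Fintype.ofFinite _
    have hle : Fintype.card (Σ i, N ⧸ K i) ≤ Fintype.card (G ⧸ ι.range) := by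
      rw [← Nat.card_eq_fintype_card, ← Nat.card_eq_fintype_card, Nat.card_sigma]
      exact hsum
    exact hsurj.bijective_of_nat_card_le (by simpa [Nat.card_eq_fintype_card] using hle)
  have hpre : ∀ y : fixCos ι.range (ι t), ∃ x : Σ i, fixCos (K i) t,
      f ⟨x.1, x.2.1⟩ = (y : G ⧸ ι.range) := by
    rintro ⟨y, hy⟩
    obtain ⟨⟨i, c⟩, rfl⟩ := hsurj y
    obtain ⟨n, rfl⟩ := QuotientGroup.mk_surjective c
    refine ⟨⟨i, ⟨(n : N ⧸ K i), ?_⟩⟩, rfl⟩
    show t • (n : N ⧸ K i) = n
    have h2 : f ⟨i, ((t * n : N) : N ⧸ K i)⟩ = f ⟨i, (n : N ⧸ K i)⟩ := by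
      rw [hf, map_mul, mul_smul, ← hf]
      exact hy
    have h3 := hbij.1 h2
    simp only [Sigma.mk.injEq, heq_eq_eq, true_and] at h3
    rw [MulAction.Quotient.smul_coe, smul_eq_mul]
    exact h3
  choose pre hpre' using hpre
  rw [← Nat.card_sigma]
  refine Nat.card_le_card_of_injective pre fun a b h => Subtype.ext ?_
  rw [← hpre' a, ← hpre' b, h]

end H65.LyPerm
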