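import Cfsg.Prelude.Def_SporadicB
import Cfsg.Agent.H24.AltStar
import Mathlib.GroupTheory.SpecificGroups.Alternating
import Mathlib.GroupTheory.SpecificGroups.Alternating.Simple
import Mathlib.Tactic.FinCases

/-!
A centraliser of an involution containing nine Carmichael elements modulo the involution, and no
larger than the double cover of `A₁₁`, is the non-split double cover.
-/

set_option autoImplicit false

namespace H65.LyPerm

open Equiv H24.AltPres

theorem double_cover {G : Type*} [Group G] [Finite G] (t : G) (ht : orderOf t = 2) (x : ℕ → G)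
    (hcomm : ∀ i < 9, x i * t = t * x i) (hcube : ∀ i < 9, x i ^ 3 = 1)
    (hne : x 0 ≠ 1) (hpair : ∀ i < 9, ∀ j < 9, i ≠ j → (x i * x j) * (x i * x j) = t)
    (hcard : Nat.card (Subgroup.centralizer ({t} : Set G)) ≤ 39916800) :
    Cfsg.IsNonsplitDoubleCover (Subgroup.centralizer ({t} : Set G))
      (alternatingGroup (Fin 11)) := by
  classical
  set C := Subgroup.centralizer ({t} : Set G) with hCdef
  have ht2 : t * t = 1 := by
    have := pow_orderOf_eq_one t
    rwa [ht, pow_two] at this
  have ht1 : t ≠ 1 := by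
    rintro rfl
    simp at ht
  let tC : C := ⟨t, Subgroup.mem_centralizer_singleton_iff.mpr rfl⟩
  have htc : ∀ c : C, c * tC = tC * c := fun c =>
    Subtype.ext (Subgroup.mem_centralizer_singleton_iff.mp c.2)
  have htC2 : tC ^ 2 = 1 := Subtype.ext (by simpa [pow_two] using ht2)
  set Z := Subgroup.zpowers tC with hZdef
  have hZle : Z ≤ Subgroup.center C := by
    rw [hZdef, Subgroup.zpowers_le, Subgroup.mem_center_iff]
    exact htc
  haveI hZn : Z.Normal := ⟨fun z hz g => by
    rw [Subgroup.mem_center_iff.mp (hZle hz) g, mul_inv_cancel_right]; exact hz⟩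
  have hord : orderOf tC = 2 := orderOf_eq_prime htC2 fun h => ht1 (congrArg Subtype.val h)
  have hZmem : ∀ z ∈ Z, z = 1 ∨ z = tC := by
    intro z hz
    obtain ⟨k, rfl⟩ := Subgroup.mem_zpowers_iff.mp hz
    rw [← zpow_mod_orderOf, hord]
    rcases Int.emod_two_eq k with h | h
    · exact Or.inl (by rw [show k % ((2 : ℕ) : ℤ) = 0 from h, zpow_zero])
    · exact Or.inr (by rw [show k % ((2 : ℕ) : ℤ) = 1 from h, zpow_one])
  let xC : ℕ → C := fun i => if h : i < 9 then
    ⟨x i, Subgroup.mem_centralizer_singleton_iff.mpr (hcomm i h)⟩ else 1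
  have hxC : ∀ i < 9, (xC i : G) = x i := fun i hi => by simp [xC, hi]
  let ξ : Fin 11 → C ⧸ Z := fun s => QuotientGroup.mk (xC (s.val - 2))
  let S : Finset (Fin 11) := Finset.univ.filter fun s => 2 ≤ s.val
  obtain ⟨Φ, hΦ, hval⟩ := star_hom (0 : Fin 11) 1 (by decide) S (by simp [S]) (by simp [S]) ξ
    (fun s _ => by
      show (QuotientGroup.mk (xC (s.val - 2)) : C ⧸ Z) ^ 3 = 1
      rw [← QuotientGroup.mk_pow,
        show xC (s.val - 2) ^ 3 = 1 from Subtype.ext (by
          rw [SubmonoidClass.coe_pow, hxC _ (by omega)]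
          exact hcube _ (by omega)), QuotientGroup.mk_one])
    (fun s hs u hu hsu => by
      simp only [S, Finset.mem_filter, Finset.mem_univ, true_and] at hs hu
      show ((QuotientGroup.mk (xC (s.val - 2)) : C ⧸ Z) * QuotientGroup.mk (xC (u.val - 2))) ^ 2 = 1
      rw [← QuotientGroup.mk_mul, ← QuotientGroup.mk_pow, QuotientGroup.eq_one_iff,
        show (xC (s.val - 2) * xC (u.val - 2)) ^ 2 = tC from Subtype.ext (by
          rw [pow_two]
          simp only [Subgroup.coe_mul, hxC _ (show s.val - 2 < 9 by omega),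
            hxC _ (show u.val - 2 < 9 by omega)]
          exact hpair _ (by omega) _ (by omega) fun h => hsu (Fin.ext (by omega)))]
      exact Subgroup.mem_zpowers _)
  have hall : ∀ g ∈ alternatingGroup (Fin 11), g ∈ evenIn (insert (0 : Fin 11) (insert 1 S)) := by
    intro g hg
    refine mem_evenIn.2 ⟨fun y hy => absurd ?_ hy, Perm.mem_alternatingGroup.mp hg⟩
    simp only [S, Finset.mem_insert, Finset.mem_filter, Finset.mem_univ, true_and]
    fin_cases y <;> simp
  let φ : alternatingGroup (Fin 11) →* C ⧸ Z := MonoidHom.mk' (fun g => Φ g.1)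
    (fun g h => hΦ g.1 (hall _ g.2) h.1 (hall _ h.2))
  haveI : IsSimpleGroup (alternatingGroup (Fin 11)) := alternatingGroup.isSimpleGroup (by simp)
  have hx0Z : (QuotientGroup.mk (xC 0) : C ⧸ Z) ≠ 1 := by
    rw [Ne, QuotientGroup.eq_one_iff]
    intro h
    have h3 := hcube 0 (by omega)
    rcases hZmem _ h with h0 | h0 <;> have h' := congrArg Subtype.val h0
    · rw [hxC 0 (by omega)] at h'
      exact hne h'
    · rw [hxC 0 (by omega)] at h'
      have h'' : x 0 = t := h'
      rw [h'', pow_succ, pow_two, ht2, one_mul] at h3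
      exact ht1 h3
  have hinj : Function.Injective φ := by
    rw [← MonoidHom.ker_eq_bot_iff]
    refine (φ.normal_ker.eq_bot_or_eq_top).resolve_right fun h => hx0Z ?_
    have hcyc : cyc (0 : Fin 11) 1 2 ∈ alternatingGroup (Fin 11) :=
      Perm.mem_alternatingGroup.mpr (sign_cyc (by decide) (by decide))
    have hk : (⟨_, hcyc⟩ : alternatingGroup (Fin 11)) ∈ φ.ker := h ▸ Subgroup.mem_top _
    rw [MonoidHom.mem_ker] at hk
    rw [← hk]
    exact (hval 2 (by simp [S])).symm
  have hA : Nat.card (alternatingGroup (Fin 11)) = 19958400 := by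
    rw [nat_card_alternatingGroup, Nat.card_fin]
    rfl
  have hZc : Nat.card Z = 2 := by rw [hZdef, Nat.card_zpowers, hord]
  have hP : Nat.card (C ⧸ Z) ≤ 19958400 := by
    have h := Z.card_eq_card_quotient_mul_card_subgroup
    rw [hZc] at h
    omega
  have hbij : Function.Bijective φ := by
    refine (Nat.bijective_iff_injective_and_card φ).mpr ⟨hinj, ?_⟩
    have h := Nat.card_le_card_of_injective φ hinj
    omega
  let eP : alternatingGroup (Fin 11) ≃* C ⧸ Z := MulEquiv.ofBijective φ hbij
  have hnc : ¬ IsMulCommutative (alternatingGroup (Fin 11)) := by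
    intro h
    have h1 : (⟨cyc (0 : Fin 11) 1 2, Perm.mem_alternatingGroup.mpr (sign_cyc (by decide) (by decide))⟩ :
        alternatingGroup (Fin 11)) * ⟨cyc (0 : Fin 11) 1 3,
          Perm.mem_alternatingGroup.mpr (sign_cyc (by decide) (by decide))⟩ =
        ⟨cyc (0 : Fin 11) 1 3, Perm.mem_alternatingGroup.mpr (sign_cyc (by decide) (by decide))⟩ *
          ⟨cyc (0 : Fin 11) 1 2, Perm.mem_alternatingGroup.mpr (sign_cyc (by decide) (by decide))⟩ :=
      h.is_comm.comm _ _
    have h2 := congrArg (fun g : alternatingGroup (Fin 11) => g.1 0) h1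
    simp [cyc] at h2
    exact absurd h2 (by decide)
  have hcen : Subgroup.center C = Z := by
    refine le_antisymm (fun c hc => ?_) hZle
    have h1 : eP.symm (QuotientGroup.mk c) ∈ Subgroup.center (alternatingGroup (Fin 11)) := by
      rw [Subgroup.mem_center_iff]
      intro g
      apply eP.injective
      rw [map_mul, map_mul, eP.apply_symm_apply]
      obtain ⟨d, hd⟩ := QuotientGroup.mk_surjective (eP g)
      rw [← hd, ← QuotientGroup.mk_mul, ← QuotientGroup.mk_mul, Subgroup.mem_center_iff.mp hc d]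
    have h2 : Subgroup.center (alternatingGroup (Fin 11)) = ⊥ := by
      refine ((inferInstance : (Subgroup.center (alternatingGroup (Fin 11))).Normal).eq_bot_or_eq_top).resolve_right
        fun h => hnc ⟨⟨fun a b => ?_⟩⟩
      exact (Subgroup.mem_center_iff.mp (h ▸ Subgroup.mem_top b : b ∈ Subgroup.center _) a)
    rw [h2, Subgroup.mem_bot] at h1
    rw [← QuotientGroup.eq_one_iff, ← eP.apply_symm_apply (QuotientGroup.mk c), h1, map_one]
  refine ⟨by rw [hcen, hZc], ⟨(QuotientGroup.quotientMulEquivOfEq hcen).trans eP.symm⟩, ?_⟩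
  intro L hL
  rw [hcen] at hL
  obtain ⟨⟨⟨z, hz⟩, ⟨l, hl⟩⟩, he, -⟩ := hL.existsUnique (xC 0 * xC 1)
  have he' : z * l = xC 0 * xC 1 := he
  have hl2 : l * l = tC := by
    have hz2 : z * z = 1 := by
      rcases hZmem z hz with rfl | rfl
      · simp
      · rw [← pow_two]; exact htC2
    have hzc := Subgroup.mem_center_iff.mp (hZle hz) l
    calc l * l = (z * z) * (l * l) := by rw [hz2, one_mul]
      _ = z * (z * l) * l := by simp only [mul_assoc]
      _ = z * (l * z) * l := by rw [hzc]
      _ = (z * l) * (z * l) := by simp only [mul_assoc]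
      _ = (xC 0 * xC 1) * (xC 0 * xC 1) := by rw [he']
      _ = tC := Subtype.ext (by
        simp only [Subgroup.coe_mul, hxC 0 (by omega), hxC 1 (by omega)]
        exact hpair 0 (by omega) 1 (by omega) (by omega))
  have htL : tC ∈ L := hl2 ▸ mul_mem hl hl
  have h1 : tC = 1 := (Subgroup.disjoint_def.mp hL.disjoint) (Subgroup.mem_zpowers _) htL
  exact ht1 (congrArg Subtype.val h1)

end H65.LyPerm
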