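import Cfsg.Agent.H77.HN.Words
import Cfsg.Agent.H52.TCert.Basic

/-!
Certificates for lists of elements given by their images of a base: all elements of a subgroup
generated by words, or some conjugates of an element.
-/

set_option autoImplicit false

namespace H65.LyPerm

open H77.HN (evw run runK runK_eq agree Rep frc frc_eq)

/-- five points packed in fields of 15 bits, least significant first -/
def pack5 : List ℕ → ℕ
  | [] => 0
  | p :: ps => p + 32768 * pack5 ps

theorem pack5_inj : ∀ {l m : List ℕ}, l.length = m.length → (∀ x ∈ l, x < 32768) →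
    (∀ x ∈ m, x < 32768) → pack5 l = pack5 m → l = m
  | [], [], _, _, _, _ => rfl
  | a :: l, b :: m, hlen, hl, hm, h => by
    simp only [List.mem_cons, forall_eq_or_imp] at hl hm
    simp only [pack5] at h
    have h1 : a = b := by omega
    subst h1
    rw [pack5_inj (by simpa using hlen) hl.2 hm.2 (by omega)]

/-- the images of the base under a word -/
noncomputable def keyK (T : ℕ → ℕ → ℕ) (B : List ℕ) (w : List ℕ) : ℕ :=
  pack5 (B.map fun b => runK T w b)

/-- data of an enumeration -/
structure Enum where
  /-- number of elements -/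
  num : ℕ
  /-- words of the moves -/
  move : List (List ℕ)
  /-- prefix put before the word of the parent (empty for subgroup lists) -/
  pre : List (List ℕ)
  /-- word of the first element -/
  seed : List ℕ
  /-- parent and move, packed `16` bits for the parent -/
  par : H52.TCert.Tr
  /-- packed images of the base -/
  code : H52.TCert.Tr
  /-- position in increasing order -/
  srt : H52.TCert.Tr
  /-- depth of the trees -/
  depth : ℕ
  /-- bound for the length of parent chains -/
  fuel : ℕ

namespace Enum

variable (E : Enum)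

def parOf (k : ℕ) : ℕ := (E.par.get E.depth k) % 65536
def movOf (k : ℕ) : ℕ := (E.par.get E.depth k) / 65536
def codeOf (k : ℕ) : ℕ := E.code.get E.depth k
def srtOf (k : ℕ) : ℕ := E.srt.get E.depth k

/-- the word of an element, following parents -/
def word : ℕ → ℕ → List ℕ
  | 0, _ => E.seed
  | f + 1, k => if k = 0 then E.seed else
      E.pre.getD (E.movOf k) [] ++ word f (E.parOf k) ++ E.move.getD (E.movOf k) []

def wordOf (k : ℕ) : List ℕ := E.word E.fuel k

/-- every word has the images recorded -/
noncomputable def codesOK (T : ℕ → ℕ → ℕ) (B : List ℕ) (lo n : ℕ) : Bool :=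
  (List.range' lo n).all fun k => Nat.beq (keyK T B (E.wordOf k)) (E.codeOf k)

/-- the codes are increasing along the sorting -/
def srtOK : Bool :=
  (List.range E.num).all fun j => decide (E.srtOf j < E.num) &&
    (decide (j + 1 = E.num) || decide (E.codeOf (E.srtOf j) < E.codeOf (E.srtOf (j + 1))))

end Enum

variable {G : Type*} [Group G] {gen : ℕ → G} {n : ℕ} {T : ℕ → ℕ → ℕ} {B : List ℕ}

theorem key_inj (R : Rep gen n T) (hB : R.IsBase B) (hn : n ≤ 32768) {u v : List ℕ}
    (h : keyK T B u = keyK T B v) : evw gen u = evw gen v := by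
  have hlt : ∀ w : List ℕ, ∀ x ∈ B.map (fun b => runK T w b), x < 32768 := by
    intro w x hx
    obtain ⟨b, hb, rfl⟩ := List.mem_map.mp hx
    rw [runK_eq]
    exact lt_of_lt_of_le (R.run_lt w (hB.1 b hb)) hn
  have h1 := pack5_inj (by simp) (hlt u) (hlt v) h
  refine R.evw_eq_of_agree hB ?_
  simp only [agree, List.all_eq_true, Nat.beq_eq]
  intro b hb
  exact List.map_inj_left.mp h1 b hb

theorem codes_mem {E : Enum} {lo m k : ℕ} (h : E.codesOK T B lo m = true) (h1 : lo ≤ k)
    (h2 : k < lo + m) : keyK T B (E.wordOf k) = E.codeOf k := by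
  simp only [Enum.codesOK, List.all_eq_true, List.mem_range'_1, Nat.beq_eq] at h
  exact h k ⟨h1, h2⟩

/-- the listed elements are pairwise distinct -/
theorem num_le_card [Finite G] (R : Rep gen n T) {E : Enum} (hB : R.IsBase B)
    (hc : ∀ k < E.num, keyK T B (E.wordOf k) = E.codeOf k) (hs : E.srtOK = true) {s : Set G}
    (hmem : ∀ k < E.num, evw gen (E.wordOf k) ∈ s) : E.num ≤ Nat.card s := by
  simp only [Enum.srtOK, List.all_eq_true, List.mem_range, Bool.and_eq_true, Bool.or_eq_true,
    decide_eq_true_eq] at hs
  have hmono : ∀ d j, j + (d + 1) < E.num → E.codeOf (E.srtOf j) < E.codeOf (E.srtOf (j + (d + 1))) := by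
    intro d
    induction d with
    | zero =>
      intro j hj
      exact (hs j (by omega)).2.resolve_left (by omega)
    | succ d ih =>
      intro j hj
      refine (ih j (by omega)).trans ?_
      rw [← Nat.add_assoc j (d + 1) 1]
      exact (hs (j + (d + 1)) (by omega)).2.resolve_left (by omega)
  let f : Fin E.num → s := fun j => ⟨evw gen (E.wordOf (E.srtOf j)), hmem _ (hs j j.2).1⟩
  have hf : Function.Injective f := by
    intro i j hij
    have he : evw gen (E.wordOf (E.srtOf i)) = evw gen (E.wordOf (E.srtOf j)) :=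
      congrArg Subtype.val hij
    have hk : E.codeOf (E.srtOf i) = E.codeOf (E.srtOf j) := by
      rw [← hc _ (hs i i.2).1, ← hc _ (hs j j.2).1]
      unfold keyK
      refine congrArg pack5 (List.map_congr_left fun b hb => ?_)
      have hbn := hB.1 b hb
      rw [runK_eq, runK_eq, ← R.evw_apply _ ⟨b, hbn⟩, ← R.evw_apply _ ⟨b, hbn⟩, he]
    rcases Nat.lt_trichotomy i j with h | h | h
    · obtain ⟨d, hd⟩ := Nat.exists_eq_add_of_lt h
      have := hmono d i (by omega)
      rw [show (i : ℕ) + (d + 1) = j by omega] at this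
      omega
    · exact Fin.ext h
    · obtain ⟨d, hd⟩ := Nat.exists_eq_add_of_lt h
      have := hmono d j (by omega)
      rw [show (j : ℕ) + (d + 1) = i by omega] at this
      omega
  have := Nat.card_le_card_of_injective f hf
  rwa [Nat.card_fin] at this

/-- unpack five points -/
def unpack5 : ℕ → ℕ → List ℕ
  | 0, _ => []
  | m + 1, c => (c % 32768) :: unpack5 m (c / 32768)

theorem unpack5_pack5 : ∀ l : List ℕ, (∀ x ∈ l, x < 32768) → unpack5 l.length (pack5 l) = l
  | [], _ => rfl
  | a :: l, h => by
    simp only [List.mem_cons, forall_eq_or_imp] at h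
    simp only [pack5, List.length_cons, unpack5]
    rw [show (a + 32768 * pack5 l) % 32768 = a by omega,
      show (a + 32768 * pack5 l) / 32768 = pack5 l by omega, unpack5_pack5 l h.2]

/-- the images of packed points under a word -/
noncomputable def moveK (T : ℕ → ℕ → ℕ) (m c : ℕ) (g : List ℕ) : ℕ :=
  pack5 ((unpack5 m c).map fun p => runK T g p)

theorem moveK_key (R : Rep gen n T) (hB : R.IsBase B) (hn : n ≤ 32768) (u g : List ℕ) :
    moveK T B.length (keyK T B u) g = keyK T B (u ++ g) := by
  have hlt : ∀ x ∈ B.map (fun b => runK T u b), x < 32768 := by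
    intro x hx
    obtain ⟨b, hb, rfl⟩ := List.mem_map.mp hx
    rw [runK_eq]
    exact lt_of_lt_of_le (R.run_lt u (hB.1 b hb)) hn
  unfold moveK keyK
  rw [← List.length_map (fun b => runK T u b), unpack5_pack5 _ hlt, List.map_map]
  refine congrArg pack5 (List.map_congr_left fun b _ => ?_)
  simp only [Function.comp, runK_eq, H77.HN.run_append]

/-- every code comes from the parent by its move -/
noncomputable def stepsOK (E : Enum) (T : ℕ → ℕ → ℕ) (B : List ℕ) (lo m : ℕ) : Bool :=
  (List.range' lo m).all fun k =>
    (Nat.beq k 0 && Nat.beq (E.codeOf 0) (pack5 B)) ||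
      frc (E.parOf k) fun p => decide (p < k) &&
        Nat.beq (moveK T B.length (E.codeOf p) (E.move.getD (E.movOf k) [])) (E.codeOf k)

theorem step_mem {E : Enum} {lo m k : ℕ} (h : stepsOK E T B lo m = true) (h1 : lo ≤ k)
    (h2 : k < lo + m) : (k = 0 ∧ E.codeOf 0 = pack5 B) ∨ (E.parOf k < k ∧
      moveK T B.length (E.codeOf (E.parOf k)) (E.move.getD (E.movOf k) []) = E.codeOf k) := by
  simp only [stepsOK, List.all_eq_true, List.mem_range'_1, Bool.or_eq_true, Bool.and_eq_true,
    frc_eq, Nat.beq_eq, decide_eq_true_eq] at h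
  exact h k ⟨h1, h2⟩

/-- the codes of a subgroup list are the images of its words -/
theorem codes_of_steps (R : Rep gen n T) (hB : R.IsBase B) (hn : n ≤ 32768) {E : Enum}
    (hseed : E.seed = []) (hpre : E.pre = []) (hfuel : E.num ≤ E.fuel)
    (hst : ∀ k < E.num, (k = 0 ∧ E.codeOf 0 = pack5 B) ∨ (E.parOf k < k ∧
      moveK T B.length (E.codeOf (E.parOf k)) (E.move.getD (E.movOf k) []) = E.codeOf k)) :
    ∀ k < E.num, keyK T B (E.wordOf k) = E.codeOf k := by
  suffices h : ∀ f k, k ≤ f → k < E.num → keyK T B (E.word f k) = E.codeOf k from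
    fun k hk => h _ k (by omega) hk
  have h0 : ∀ hk : 0 < E.num, keyK T B [] = E.codeOf 0 := by
    intro hk
    rcases hst 0 hk with ⟨-, h⟩ | ⟨h, -⟩
    · rw [h]
      unfold keyK
      simp [runK_eq, run]
    · omega
  intro f
  induction f with
  | zero =>
    intro k hk hk'
    obtain rfl : k = 0 := by omega
    simp only [Enum.word, hseed]
    exact h0 hk'
  | succ f ih =>
    intro k hk hk'
    by_cases h : k = 0
    · subst h
      simp only [Enum.word, if_true, hseed]
      exact h0 hk'
    · rcases hst k hk' with ⟨rfl, -⟩ | ⟨hp, hm⟩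
      · exact absurd rfl h
      · simp only [Enum.word, if_neg h, hpre, List.getD_nil, List.nil_append]
        rw [← moveK_key R hB hn, ih _ (by omega) (by omega), hm]

/-- closure data: the successor of element `k` under move `g`, packed -/
noncomputable def nextOK (E : Enum) (T : ℕ → ℕ → ℕ) (B : List ℕ) (nxt : H52.TCert.Tr)
    (lo m : ℕ) : Bool :=
  (List.range' lo m).all fun k => (List.range E.move.length).all fun g =>
    frc ((nxt.get E.depth k >>> (16 * g)) % 65536) fun j =>
      decide (j < E.num) &&
        Nat.beq (moveK T B.length (E.codeOf k) (E.move.getD g [])) (E.codeOf j)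

/-- witnesses that a word is no involution -/
noncomputable def squareOK (E : Enum) (T : ℕ → ℕ → ℕ) (B : List ℕ) (wit : H52.TCert.Tr)
    (inv : List ℕ) (lo m : ℕ) : Bool :=
  (List.range' lo m).all fun k => frc (wit.get E.depth k) fun j =>
    bif decide (j < B.length) then
      frc (B.getD j 0) fun b => frc (runK T (E.wordOf k) b) fun p =>
        frc (runK T (E.wordOf k) p) fun q => !(Nat.beq q b)
    else (Nat.beq k 0 || inv.contains k)

/-- the list is the whole subgroup generated by the moves -/
theorem exists_index [Finite G] (R : Rep gen n T) (hn : n ≤ 32768) {E : Enum} (hB : R.IsBase B)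
    (hc : ∀ k < E.num, keyK T B (E.wordOf k) = E.codeOf k) (h0 : 0 < E.num) (hseed : E.seed = [])
    (hnx : ∀ k < E.num, ∀ g < E.move.length, ∃ j < E.num,
      keyK T B (E.wordOf k ++ E.move.getD g []) = E.codeOf j)
    {K : Subgroup G} (hK : K ≤ Subgroup.closure ((fun w => evw gen w) '' {w | w ∈ E.move})) :
    ∀ x ∈ K, ∃ k < E.num, x = evw gen (E.wordOf k) := by
  intro x hx
  have hx' := hK hx
  rw [← Subgroup.mem_toSubmonoid, Subgroup.closure_toSubmonoid_of_finite] at hx'
  clear hx
  induction hx' using Submonoid.closure_induction_left with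
  | one =>
    refine ⟨0, h0, ?_⟩
    have : E.wordOf 0 = [] := by
      unfold Enum.wordOf
      cases E.fuel <;> simp [Enum.word, hseed]
    rw [this, H77.HN.evw_nil]
  | mul_left a ha y _ hy =>
    obtain ⟨w, hw, rfl⟩ := ha
    obtain ⟨k, hk, rfl⟩ := hy
    obtain ⟨g, hg, rfl⟩ := List.getElem_of_mem hw
    obtain ⟨j, hj, he⟩ := hnx k hk g hg
    refine ⟨j, hj, ?_⟩
    rw [← hc j hj] at he
    have := key_inj R hB hn he
    rw [H77.HN.evw_append, List.getD_eq_getElem _ _ hg] at this
    exact this

theorem next_mem (R : Rep gen n T) (hB : R.IsBase B) (hn : n ≤ 32768) {E : Enum} {nxt : H52.TCert.Tr} {lo m : ℕ} (h : nextOK E T B nxt lo m = true)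
    {k : ℕ} (h1 : lo ≤ k) (h2 : k < lo + m) (hk : keyK T B (E.wordOf k) = E.codeOf k)
    {g : ℕ} (hg : g < E.move.length) :
    ∃ j < E.num, keyK T B (E.wordOf k ++ E.move.getD g []) = E.codeOf j := by
  simp only [nextOK, List.all_eq_true, List.mem_range'_1, List.mem_range, frc_eq, Bool.and_eq_true,
    Nat.beq_eq, decide_eq_true_eq] at h
  obtain ⟨hj, he⟩ := h k ⟨h1, h2⟩ g hg
  exact ⟨_, hj, by rw [← moveK_key R hB hn, hk, he]⟩

/-- elements without witness are in the given list -/
theorem mem_inv_of_sq [Finite G] (R : Rep gen n T) {E : Enum} (hB : R.IsBase B)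
    {wit : H52.TCert.Tr} {inv : List ℕ} {lo m : ℕ} (h : squareOK E T B wit inv lo m = true)
    {k : ℕ} (h1 : lo ≤ k) (h2 : k < lo + m)
    (hsq : evw gen (E.wordOf k) * evw gen (E.wordOf k) = 1) : k = 0 ∨ k ∈ inv := by
  simp only [squareOK, List.all_eq_true, List.mem_range'_1, frc_eq, runK_eq] at h
  have h' := h k ⟨h1, h2⟩
  by_cases hj : wit.get E.depth k < B.length
  · simp only [decide_eq_true hj, cond_true, Bool.not_eq_true'] at h'
    exfalso
    rw [List.getD_eq_getElem _ _ hj] at h'
    have hb := hB.1 _ (List.getElem_mem hj)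
    have key : run T (E.wordOf k) (run T (E.wordOf k) B[wit.get E.depth k]) =
        B[wit.get E.depth k] := by
      rw [← H77.HN.run_append, ← R.evw_apply _ ⟨_, hb⟩, H77.HN.evw_append, hsq, map_one]
      rfl
    rw [key] at h'
    simp at h'
  · simp only [decide_eq_false hj, cond_false, Bool.or_eq_true, Nat.beq_eq,
      List.contains_iff_mem] at h'
    exact h'

end H65.LyPerm
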