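import Cfsg.Agent.H65.LyPerm.Main
import Cfsg.Agent.H11.Ly3A.Glue
import Cfsg.Agent.H52.Simple

/-!
The permutation group of degree 8835156 from simplicity, order and the G₂(5) identification.
-/

set_option autoImplicit false

namespace H65.LyPerm

theorem isG2_abcd (hLy : Cfsg.IsLy Cfsg.Spor.Ly) (hidx : H97.Ly.abcd.index = 8835156)
    (hG : ∃ (K : Type) (_ : Field K) (_ : Fintype K), Fintype.card K = 5 ∧
      Nonempty (H97.Ly.abcd ≃* Cfsg.Lie.chevG2.group K)) :
    Cfsg.IsG2 H97.Ly.abcd := by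
  obtain ⟨K, hF, hK, hcard, ⟨e⟩⟩ := hG
  have h2 : ∃ a : K, a ≠ 0 ∧ a ≠ 1 := by
    classical
    by_contra h
    push Not at h
    have hsub : (Finset.univ : Finset K) ⊆ {0, 1} := fun a _ => by
      by_cases ha : a = 0
      · simp [ha]
      · simp [h a ha]
    have := Finset.card_le_card hsub
    rw [Finset.card_univ, hcard] at this
    exact absurd (this.trans Finset.card_le_two) (by norm_num)
  have hs : IsSimpleGroup (Cfsg.Lie.chevG2.group K) :=
    (H52.group_simple (by simp) fun _ => h2).1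
  haveI := hs
  haveI : Nontrivial H97.Ly.abcd := e.toEquiv.nontrivial
  refine ⟨IsSimpleGroup.isSimpleGroup_of_surjective e.symm.toMonoidHom e.symm.surjective,
    5, Nat.prime_five.isPrimePow, by norm_num, ?_⟩
  have h1 := H97.Ly.abcd.card_mul_index
  rw [hidx, hLy.2] at h1
  exact Nat.eq_of_mul_eq_mul_right (show 0 < 8835156 by norm_num) (h1.trans (by norm_num))

theorem exists_of_isLy (hLy : Cfsg.IsLy Cfsg.Spor.Ly)
    (hG : ∃ (K : Type) (_ : Field K) (_ : Fintype K), Fintype.card K = 5 ∧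
      Nonempty (H97.Ly.abcd ≃* Cfsg.Lie.chevG2.group K)) :
    ∃ H : Subgroup (Equiv.Perm (Fin 8835156)), Cfsg.IsLy H ∧
      MulAction.IsPretransitive H (Fin 8835156) ∧
      Cfsg.IsG2 (MulAction.stabilizer H (0 : Fin 8835156)) ∧ ∃ t : H, orderOf t = 2 ∧
        Cfsg.IsNonsplitDoubleCover (Subgroup.centralizer ({t} : Set H))
          (alternatingGroup (Fin 11)) :=
  exists_lyons hLy (H11.Ly3A.exact_of_isLy lyModel hLy).2
    (isG2_abcd hLy (H11.Ly3A.exact_of_isLy lyModel hLy).2 hG)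

end H65.LyPerm
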