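import Cfsg.Agent.H68.Ly.RepHom
import Cfsg.Agent.H65.LyPerm.CarElems
import Cfsg.Agent.H23.Ly.ToLy

/-!
The five letters in the presented group, their matrices, and `t = a ^ 4`.
-/

set_option autoImplicit false

namespace H65.LyPerm

open H68.Ly (Mat toM tab genWord img W coe_U)
open H23.Ly (N0 pres)
open H77.HN (evw)

/-- a, b, c, d, z, then their inverses -/
def lyLet : ℕ → Cfsg.Spor.Ly
  | 0 => pres Cfsg.Spor.Ly.a
  | 1 => pres Cfsg.Spor.Ly.b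
  | 2 => pres Cfsg.Spor.Ly.c
  | 3 => pres Cfsg.Spor.Ly.d
  | 4 => pres Cfsg.Spor.Ly.z
  | 5 => (pres Cfsg.Spor.Ly.a)⁻¹
  | 6 => (pres Cfsg.Spor.Ly.b)⁻¹
  | 7 => (pres Cfsg.Spor.Ly.c)⁻¹
  | 8 => (pres Cfsg.Spor.Ly.d)⁻¹
  | _ => (pres Cfsg.Spor.Ly.z)⁻¹

/-- the representation into matrices -/
noncomputable def lyMat : Cfsg.Spor.Ly →* Mat := (Units.coeHom Mat).comp H68.Ly.rep

theorem rep_pres (g : Cfsg.Spor.Ly.Gen) : H68.Ly.rep (pres (FreeGroup.of g)) = img g :=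
  PresentedGroup.toGroup.of _

theorem rep_let : ∀ l, l < 10 → H68.Ly.rep (lyLet l) = H68.Ly.U l := by
  intro l hl
  interval_cases l <;>
    simp only [lyLet, map_inv, Cfsg.Spor.Ly.a, Cfsg.Spor.Ly.b, Cfsg.Spor.Ly.c, Cfsg.Spor.Ly.d,
      Cfsg.Spor.Ly.z, rep_pres, img, genWord, W, List.map_cons, List.map_nil, List.prod_cons,
      List.prod_nil, mul_one, ← H68.Ly.U_inv (show (0 : ℕ) < 10 by norm_num),
      ← H68.Ly.U_inv (show (1 : ℕ) < 10 by norm_num), ← H68.Ly.U_inv (show (2 : ℕ) < 10 by norm_num),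
      ← H68.Ly.U_inv (show (3 : ℕ) < 10 by norm_num), ← H68.Ly.U_inv (show (4 : ℕ) < 10 by norm_num)] <;>
    rfl

theorem rep_injective [IsSimpleGroup Cfsg.Spor.Ly] : Function.Injective H68.Ly.rep := by
  rw [← MonoidHom.ker_eq_bot_iff]
  refine H68.Ly.rep.normal_ker.eq_bot_or_eq_top.resolve_right fun h => H68.Ly.rep_a_ne_one ?_
  rw [← MonoidHom.mem_ker, h]
  exact Subgroup.mem_top _

theorem letters [IsSimpleGroup Cfsg.Spor.Ly] : Letters lyMat lyLet where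
  inj := fun _ _ h => rep_injective (Units.ext h)
  tab_eq l hl := by
    show ((H68.Ly.rep (lyLet l) : GL (Fin 111) (ZMod 5)) : Mat) = _
    rw [rep_let l hl, coe_U hl]

theorem t_sq_n0 : evw H23.Ly.gen [0, 0, 0, 0] * evw H23.Ly.gen [0, 0, 0, 0] = 1 := by
  have h := H23.Ly.n0_rels.r1
  simp only [H77.HN.evw_cons, H77.HN.evw_nil, mul_one, H23.Ly.gen, H23.Ly.genOf]
  have h' : H23.Ly.na⁻¹ ^ 8 = 1 := by rw [inv_pow, h, inv_one]
  simpa only [pow_succ, pow_zero, one_mul, mul_assoc] using h'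

theorem t_toLy : H23.Ly.toLy (evw H23.Ly.gen [0, 0, 0, 0]) = wval lyLet tW := by
  have h := congrArg H23.Ly.toLy t_sq_n0
  rw [map_mul, map_one] at h
  rw [eq_inv_of_mul_eq_one_left h]
  simp [H77.HN.evw_cons, H77.HN.evw_nil, H23.Ly.gen, H23.Ly.genOf, H23.Ly.toLy, H23.Ly.toG_a,
    wval, tW, lyLet, mul_assoc]

end H65.LyPerm
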