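import Cfsg.Agent.H65.LyPerm.Count
import Cfsg.Agent.H65.LyPerm.Enum

/-!
Consequences of certified lists: exact order of a generated subgroup, a bound for its fixed cosets,
and a bound for a centraliser from conjugates inside a point stabiliser.
-/

set_option autoImplicit false

namespace H65.LyPerm

open H77.HN (evw run runK runK_eq Rep frc frc_eq)

variable {G : Type*} [Group G] {gen : ℕ → G} {n : ℕ} {T : ℕ → ℕ → ℕ} {B : List ℕ}

/-- the subgroup generated by the moves of a list -/
def moveGrp (gen : ℕ → G) (E : Enum) : Subgroup G :=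
  Subgroup.closure ((fun w => evw gen w) '' {w | w ∈ E.move})

/-- the checks of a subgroup list, chunk by chunk -/
structure SubCert (E : Enum) (T : ℕ → ℕ → ℕ) (B : List ℕ) (nxt wit : H52.TCert.Tr)
    (inv : List ℕ) : Prop where
  pos : 0 < E.num
  seed : E.seed = []
  pre : E.pre = []
  fuel : E.num ≤ E.fuel
  steps : ∀ k < E.num, ∃ lo m, lo ≤ k ∧ k < lo + m ∧ stepsOK E T B lo m = true
  next : ∀ k < E.num, ∃ lo m, lo ≤ k ∧ k < lo + m ∧ nextOK E T B nxt lo m = true
  square : ∀ k < E.num, ∃ lo m, lo ≤ k ∧ k < lo + m ∧ squareOK E T B wit inv lo m = true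
  srt : E.srtOK = true

variable {E : Enum} {nxt wit : H52.TCert.Tr} {inv : List ℕ}

theorem evw_word_mem (hpre : E.pre = []) (hseed : E.seed = []) :
    ∀ f k, evw gen (E.word f k) ∈ moveGrp gen E := by
  intro f
  induction f with
  | zero => intro k; simp [Enum.word, hseed]
  | succ f ih =>
    intro k
    by_cases hk : k = 0
    · simp [Enum.word, hk, hseed]
    · simp only [Enum.word, if_neg hk, hpre, List.getD_nil, List.nil_append, H77.HN.evw_append]
      refine mul_mem ?_ (ih _)
      by_cases h : E.movOf k < E.move.length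
      · rw [List.getD_eq_getElem _ _ h]
        exact Subgroup.subset_closure ⟨_, List.getElem_mem h, rfl⟩
      · rw [List.getD_eq_default _ _ (Nat.le_of_not_lt h), H77.HN.evw_nil]
        exact one_mem _

theorem SubCert.codes (C : SubCert E T B nxt wit inv) (R : Rep gen n T) (hB : R.IsBase B)
    (hn : n ≤ 32768) : ∀ k < E.num, keyK T B (E.wordOf k) = E.codeOf k :=
  codes_of_steps R hB hn C.seed C.pre C.fuel fun k hk => by
    obtain ⟨lo, m, h1, h2, h⟩ := C.steps k hk
    exact step_mem h h1 h2

theorem SubCert.exists_index [Finite G] (C : SubCert E T B nxt wit inv) (R : Rep gen n T)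
    (hB : R.IsBase B) (hn : n ≤ 32768) {x : G} (hx : x ∈ moveGrp gen E) :
    ∃ k < E.num, x = evw gen (E.wordOf k) :=
  H65.LyPerm.exists_index R hn hB (C.codes R hB hn) C.pos C.seed (fun k hk g hg => by
    obtain ⟨lo, m, h1, h2, h⟩ := C.next k hk
    exact next_mem R hB hn h h1 h2 (C.codes R hB hn k hk) hg) le_rfl x hx

theorem SubCert.card_eq [Finite G] (C : SubCert E T B nxt wit inv) (R : Rep gen n T)
    (hB : R.IsBase B) (hn : n ≤ 32768) : Nat.card (moveGrp gen E) = E.num := by
  refine le_antisymm ?_ ?_
  · choose f hf hval using fun x : moveGrp gen E => C.exists_index R hB hn x.2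
    have := Nat.card_le_card_of_injective (fun x => (⟨f x, hf x⟩ : Fin E.num)) fun a b h => by
      apply Subtype.ext
      have h' : f a = f b := congrArg Fin.val h
      rw [hval a, hval b, h']
    rwa [Nat.card_fin] at this
  · exact num_le_card R hB (C.codes R hB hn) C.srt
      (s := (moveGrp gen E : Set G)) fun k _ => evw_word_mem C.pre C.seed _ _

theorem SubCert.invol_le [Finite G] (C : SubCert E T B nxt wit inv) (R : Rep gen n T)
    (hB : R.IsBase B) (hn : n ≤ 32768) :
    Nat.card {v : G | v ∈ moveGrp gen E ∧ v * v = 1 ∧ v ≠ 1} ≤ inv.length := by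
  classical
  have h : {v : G | v ∈ moveGrp gen E ∧ v * v = 1 ∧ v ≠ 1} ⊆
      ↑(inv.map fun k => evw gen (E.wordOf k)).toFinset := by
    rintro v ⟨hv, hv2, hv1⟩
    obtain ⟨k, hk, rfl⟩ := C.exists_index R hB hn hv
    obtain ⟨lo, m, h1, h2, h⟩ := C.square k hk
    simp only [Finset.mem_coe, List.mem_toFinset, List.mem_map]
    rcases mem_inv_of_sq R hB h h1 h2 hv2 with rfl | hmem
    · exfalso
      apply hv1
      have : E.wordOf 0 = [] := by
        unfold Enum.wordOf
        cases E.fuel <;> simp [Enum.word, C.seed]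
      rw [this, H77.HN.evw_nil]
    · exact ⟨k, hmem, rfl⟩
  refine (Nat.card_mono (Finset.finite_toSet _) h).trans ?_
  rw [← List.length_map (fun k => evw gen (E.wordOf k))]
  refine le_trans (le_of_eq ?_) (List.toFinset_card_le _)
  rw [Finset.coe_sort_coe, Nat.card_eq_fintype_card, Fintype.card_coe]

/-- fixed cosets of a generated subgroup -/
theorem SubCert.fix_le [Finite G] (C : SubCert E T B nxt wit inv) (R : Rep gen n T)
    (hB : R.IsBase B) (hn : n ≤ 32768) {t : G} (ht : t * t = 1) (ht1 : t ≠ 1) :
    Nat.card (fixCos (moveGrp gen E) t) * E.num ≤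
      inv.length * Nat.card (Subgroup.centralizer ({t} : Set G)) := by
  have h := fix_mul_le (moveGrp gen E) ht ht1
  rw [C.card_eq R hB hn] at h
  exact h.trans (Nat.mul_le_mul_right _ (C.invol_le R hB hn))

/-- points fixed by a word lie in a list -/
noncomputable def fixOK (T : ℕ → ℕ → ℕ) (w F : List ℕ) (lo m : ℕ) : Bool :=
  (List.range' lo m).all fun p => !(Nat.beq (runK T w p) p) || F.contains p

theorem fixCos_fixPt_le [Finite G] (R : Rep gen n T) (p0 : Fin n) {w F : List ℕ}
    (hF : ∀ p < n, ∃ lo m, lo ≤ p ∧ p < lo + m ∧ fixOK T w F lo m = true) :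
    Nat.card (fixCos (R.fixPt p0) (evw gen w)) ≤ F.length := by
  classical
  let f : fixCos (R.fixPt p0) (evw gen w) → F.toFinset := fun x =>
    ⟨((R.φ x.1.out p0 : Fin n) : ℕ), by
      set g := x.1.out
      have hfix : (g : G ⧸ R.fixPt p0) ∈ fixCos (R.fixPt p0) (evw gen w) := by
        rw [QuotientGroup.out_eq']
        exact x.2
      rw [mem_fixCos, H77.HN.Rep.mem_fixPt, map_mul, map_mul, map_inv, Equiv.Perm.mul_apply,
        Equiv.Perm.mul_apply, Equiv.Perm.inv_eq_iff_eq] at hfix
      have hrun : run T w (R.φ g p0 : ℕ) = (R.φ g p0 : ℕ) := by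
        rw [← R.evw_apply]
        exact congrArg Fin.val hfix
      obtain ⟨lo, m, h1, h2, h⟩ := hF _ (R.φ g p0).2
      simp only [fixOK, List.all_eq_true, List.mem_range'_1, Bool.or_eq_true, Bool.not_eq_true',
        runK_eq, List.contains_iff_mem] at h
      rcases h _ ⟨h1, h2⟩ with h' | h'
      · rw [hrun] at h'
        simp at h'
      · exact List.mem_toFinset.mpr h'⟩
  have hf : Function.Injective f := by
    intro x y h
    apply Subtype.ext
    have h' : R.φ x.1.out p0 = R.φ y.1.out p0 := Fin.ext (congrArg Subtype.val h)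
    rw [← x.1.out_eq', ← y.1.out_eq', QuotientGroup.eq, H77.HN.Rep.mem_fixPt, map_mul, map_inv,
      Equiv.Perm.mul_apply, Equiv.Perm.inv_eq_iff_eq]
    exact h'.symm
  refine (Nat.card_le_card_of_injective f hf).trans ?_
  rw [Nat.card_eq_fintype_card, Fintype.card_coe]
  exact List.toFinset_card_le _

/-- every word of a list of conjugates is conjugate to the seed and fixes the point -/
def conjShape (E : Enum) (iv : ℕ → ℕ) : Bool :=
  Nat.beq E.pre.length E.move.length &&
    (List.range E.move.length).all fun g =>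
      decide (E.move.getD g [] = (E.pre.getD g []).reverse.map iv)

/-- all recorded words fix a point -/
noncomputable def fixWords (E : Enum) (T : ℕ → ℕ → ℕ) (p0 lo m : ℕ) : Bool :=
  (List.range' lo m).all fun k => Nat.beq (runK T (E.wordOf k) p0) p0

theorem evw_word_conj {iv : ℕ → ℕ} (hiv : ∀ w ∈ E.pre, ∀ l ∈ w, gen (iv l) = (gen l)⁻¹)
    (hs : conjShape E iv = true) :
    ∀ f k, ∃ g, g⁻¹ * evw gen E.seed * g = evw gen (E.word f k) := by
  simp only [conjShape, Bool.and_eq_true, Nat.beq_eq, List.all_eq_true, List.mem_range,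
    decide_eq_true_eq] at hs
  intro f
  induction f with
  | zero => intro k; exact ⟨1, by simp [Enum.word]⟩
  | succ f ih =>
    intro k
    by_cases hk : k = 0
    · exact ⟨1, by simp [Enum.word, hk]⟩
    · obtain ⟨g, hg⟩ := ih (E.parOf k)
      simp only [Enum.word, if_neg hk, H77.HN.evw_append]
      rw [← hg]
      by_cases h : E.movOf k < E.move.length
      · have h2 : evw gen (E.move.getD (E.movOf k) []) =
            (evw gen (E.pre.getD (E.movOf k) []))⁻¹ := by
          rw [hs.2 _ h]
          have hmem : E.pre.getD (E.movOf k) [] ∈ E.pre := by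
            rw [List.getD_eq_getElem _ _ (hs.1 ▸ h)]
            exact List.getElem_mem _
          generalize E.pre.getD (E.movOf k) [] = w at hmem ⊢
          have key : ∀ v : List ℕ, (∀ l ∈ v, gen (iv l) = (gen l)⁻¹) →
              evw gen (v.reverse.map iv) = (evw gen v)⁻¹ := by
            intro v
            induction v with
            | nil => simp
            | cons l v ihv =>
              intro hv
              simp only [List.mem_cons, forall_eq_or_imp] at hv
              rw [List.reverse_cons, List.map_append, H77.HN.evw_append, H77.HN.evw_cons,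
                mul_inv_rev, ihv hv.2]
              simp [hv.1]
          exact key w (hiv w hmem)
        refine ⟨g * evw gen (E.pre.getD (E.movOf k) []), ?_⟩
        rw [h2]
        group
      · have h' : ¬ E.movOf k < E.pre.length := by omega
        refine ⟨g, ?_⟩
        rw [List.getD_eq_default _ _ (Nat.le_of_not_lt h),
          List.getD_eq_default _ _ (Nat.le_of_not_lt h')]
        simp

/-- a list of conjugates inside a point stabiliser bounds the centraliser -/
theorem cent_le_of_list [Finite G] (R : Rep gen n T) (hB : R.IsBase B) (p0 : Fin n)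
    {iv : ℕ → ℕ} (hiv : ∀ w ∈ E.pre, ∀ l ∈ w, gen (iv l) = (gen l)⁻¹)
    (hs : conjShape E iv = true)
    (hc : ∀ k < E.num, ∃ lo m, lo ≤ k ∧ k < lo + m ∧ E.codesOK T B lo m = true)
    (hf : ∀ k < E.num, ∃ lo m, lo ≤ k ∧ k < lo + m ∧ fixWords E T p0 lo m = true)
    (hsrt : E.srtOK = true) :
    Nat.card (Subgroup.centralizer ({evw gen E.seed} : Set G)) * E.num ≤
      Nat.card (fixCos (R.fixPt p0) (evw gen E.seed)) * Nat.card (R.fixPt p0) := by
  refine le_trans (Nat.mul_le_mul_left _ ?_) (cent_mul_le (R.fixPt p0) (evw gen E.seed) subset_rfl)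
  refine num_le_card R hB (fun k hk => ?_) hsrt fun k hk => ⟨?_, evw_word_conj hiv hs _ _⟩
  · obtain ⟨lo, m, h1, h2, h⟩ := hc k hk
    exact codes_mem h h1 h2
  · obtain ⟨lo, m, h1, h2, h⟩ := hf k hk
    simp only [fixWords, List.all_eq_true, List.mem_range'_1, Nat.beq_eq, runK_eq] at h
    rw [H77.HN.Rep.mem_fixPt]
    exact Fin.ext (by rw [R.evw_apply]; exact h k ⟨h1, h2⟩)

end H65.LyPerm
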