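import Cfsg.Agent.H97.Ly.NInst
import Cfsg.Agent.H97.Ly.Upper
import Cfsg.Agent.H68.Ly.QBound
import Cfsg.Agent.H65.LyPerm.Bound

/-!
The five cells of cosets over the group on a, b, c, d, as used for the fixed point count.
-/

set_option autoImplicit false
set_option maxRecDepth 100000

namespace H65.LyPerm

open Data
open H77.HN (evw Rep)
open H23.Ly (N0 gen)
open H97.Ly.Inst (g10 evw_low gen_swap)

theorem n0_finite : Finite N0 := by
  haveI := H23.Ly.n0_rels.closure_finite
  rw [H23.Ly.n0_closure] at this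
  exact Finite.of_equiv _ Subgroup.topEquiv.toEquiv

theorem n0_le : Nat.card N0 ≤ 5859000000 := by
  have h := H23.Ly.n0_rels.card_le
  rwa [H23.Ly.n0_closure, Subgroup.card_top] at h

theorem n0_facts : Nat.card N0 = 5859000000 ∧
    H23.Ly.rep.IsBase [0, 66, 193, 194, 195] ∧
      Nat.card (H23.Ly.rep.fixPt ⟨0, by decide⟩) = 300000 := by
  haveI := n0_finite
  obtain ⟨h1, -, h3, h4⟩ := H23.Ly.exact_facts n0_le
  exact ⟨h1, h3, h4⟩

/-- the model of the group on a, b, c, d -/
noncomputable def lyModel : H97.Ly.NModel N0 :=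
  haveI := n0_finite
  H97.Ly.Inst.model n0_le

theorem lyModel_gen (l : ℕ) (hl : (H97.Ly.wordOf l).all (fun x => decide (x < 10)) = true) :
    lyModel.gen l = evw gen (H97.Ly.wordOf l) := by
  refine evw_low _ fun x hx => ?_
  simpa using List.all_eq_true.mp hl x hx

theorem stab_one_fix : (H97.Ly.cert.sg 1).all (fun l =>
    (H97.Ly.wordOf l).all (fun x => decide (x < 10)) &&
      Nat.beq (H77.HN.run H23.Ly.Data.T (H97.Ly.wordOf l) 0) 0) = true := by decide +kernel

theorem fixPt_le_stab_one :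
    H23.Ly.rep.fixPt ⟨0, by decide⟩ ≤ lyModel.setting.stab 1 := by
  haveI := n0_finite
  have hle : lyModel.setting.stab 1 ≤ H23.Ly.rep.fixPt ⟨0, by decide⟩ := by
    rw [H23.DC.Setting.stab, Subgroup.closure_le]
    rintro _ ⟨l, hl, rfl⟩
    have h := List.all_eq_true.mp stab_one_fix l hl
    simp only [Bool.and_eq_true, Nat.beq_eq] at h
    show lyModel.gen l ∈ H23.Ly.rep.fixPt _
    rw [lyModel_gen l h.1, Rep.mem_fixPt]
    refine Fin.ext ?_
    rw [Rep.evw_apply]
    exact h.2
  refine (Subgroup.eq_of_le_of_card_ge hle ?_).ge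
  have h1 := lyModel.stab_index H97.Ly.levels1_ok
  have h2 := (lyModel.setting.stab 1).card_mul_index
  rw [lyModel.card] at h2
  rw [n0_facts.2.2]
  have hpos : 0 < (lyModel.setting.stab 1).index := Nat.pos_of_ne_zero fun h => by
    rw [h, mul_zero] at h2; omega
  refine Nat.le_of_mul_le_mul_left ?_ hpos
  rw [mul_comm _ (Nat.card _), h2]
  exact h1

theorem moves_cover :
    (k2E.move.all fun w => (H97.Ly.cert.sg 2).any fun l => decide (H97.Ly.wordOf l = w)) = true ∧
    (k3E.move.all fun w => (H97.Ly.cert.sg 3).any fun l => decide (H97.Ly.wordOf l = w)) = true ∧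
    (k4E.move.all fun w => (H97.Ly.cert.sg 4).any fun l => decide (H97.Ly.wordOf l = w)) = true ∧
    ([2, 3, 4].all fun i => (H97.Ly.cert.sg i).all fun l =>
      (H97.Ly.wordOf l).all fun x => decide (x < 10)) = true := by decide +kernel

theorem moveGrp_le_stab (E : Enum) (i : ℕ)
    (h : (E.move.all fun w => (H97.Ly.cert.sg i).any fun l => decide (H97.Ly.wordOf l = w)) = true)
    (hi : ∀ l ∈ H97.Ly.cert.sg i, (H97.Ly.wordOf l).all (fun x => decide (x < 10)) = true) :
    moveGrp gen E ≤ lyModel.setting.stab i := by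
  rw [moveGrp, Subgroup.closure_le]
  rintro _ ⟨w, hw, rfl⟩
  obtain ⟨l, hl, h'⟩ := List.any_eq_true.mp (List.all_eq_true.mp h w hw)
  simp only [decide_eq_true_eq] at h'
  show evw gen w ∈ lyModel.setting.stab i
  rw [← h', ← lyModel_gen l (hi l hl)]
  exact Subgroup.subset_closure ⟨l, hl, rfl⟩

theorem cell_le_stab (i : Fin 5) :
    cell H23.Ly.rep i ≤ lyModel.setting.stab i.val := by
  obtain ⟨h2, h3, h4, h⟩ := moves_cover
  simp only [List.all_eq_true (l := [2, 3, 4])] at h
  have hs : ∀ k ∈ ([2, 3, 4] : List ℕ), ∀ l ∈ H97.Ly.cert.sg k,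
      (H97.Ly.wordOf l).all (fun x => decide (x < 10)) = true :=
    fun k hk l hl => List.all_eq_true.mp (h k hk) l hl
  fin_cases i
  · exact le_of_le_of_eq le_top lyModel.stab_zero.symm
  · exact fixPt_le_stab_one
  · exact moveGrp_le_stab _ 2 h2 (hs 2 (by simp))
  · exact moveGrp_le_stab _ 3 h3 (hs 3 (by simp))
  · exact moveGrp_le_stab _ 4 h4 (hs 4 (by simp))

/-- the centraliser of the image of `a ^ 4`, given the exact index -/
theorem cent_ly_le {F : List ℕ} (hT : TableFacts H23.Ly.Data.T F) [Finite Cfsg.Spor.Ly]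
    (hinj : Function.Injective H23.Ly.toLy)
    (hidx : H97.Ly.abcd.index = 8835156)
    (ht2 : evw gen [0, 0, 0, 0] * evw gen [0, 0, 0, 0] = 1) (ht1 : evw gen [0, 0, 0, 0] ≠ 1) :
    Nat.card (Subgroup.centralizer
      ({H23.Ly.toLy (evw gen [0, 0, 0, 0])} : Set Cfsg.Spor.Ly)) ≤ 39916800 := by
  haveI := n0_finite
  obtain ⟨hN, hB, hfix0⟩ := n0_facts
  refine cent_G_le hT H23.Ly.rep hB (fun l hl => gen_swap hl) hN hfix0 lyModel.amalgam.ι hinj
    (lyModel.range_eq ▸ hidx) (fun i => lyModel.amalgam.q H97.Ly.Data.treeList i.val) ?_ ?_ ht2 ht1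
  · intro i k hk
    exact lyModel.amalgam.stab_fix lyModel.valid H97.Ly.done_ok i.2 (cell_le_stab i hk)
  · intro y
    obtain ⟨i, hi, n, h⟩ := lyModel.amalgam.reached_all lyModel.valid H97.Ly.done_ok
      (show 0 < 5 by norm_num) y
    exact ⟨⟨i, hi⟩, n, h⟩

end H65.LyPerm
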