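import Cfsg.Agent.H65.LyPerm.Cover
import Mathlib.GroupTheory.GroupAction.Quotient
import Mathlib.GroupTheory.GroupAction.Transitive
import Mathlib.GroupTheory.Subgroup.Simple

/-!
A simple group acting on the cosets of a subgroup of index `n` as a transitive subgroup of `S_n`,
with the double cover of `A₁₁` as the centraliser of an involution.
-/

set_option autoImplicit false

namespace H65.LyPerm

theorem exists_perm_group {G : Type*} [Group G] [Finite G] [IsSimpleGroup G] (N : Subgroup G)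
    (n : ℕ) [NeZero n] (hn : N.index = n) (hN : N ≠ ⊤) :
    ∃ H : Subgroup (Equiv.Perm (Fin n)), ∃ _e : G ≃* H, MulAction.IsPretransitive H (Fin n) ∧
      Nonempty (N ≃* MulAction.stabilizer H (0 : Fin n)) := by
  classical
  let e0 : G ⧸ N ≃ Fin n := Nat.equivFinOfCardPos (by
    rw [← Subgroup.index_eq_card, hn]; exact NeZero.ne n) |>.trans
      (finCongr (by rw [← Subgroup.index_eq_card, hn]))
  let ε : G ⧸ N ≃ Fin n := e0.trans (Equiv.swap (e0 (1 : G)) 0)
  have hε : ε ((1 : G) : G ⧸ N) = 0 := by simp [ε]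
  let ρ : G →* Equiv.Perm (Fin n) :=
    ε.permCongrHom.toMonoidHom.comp (MulAction.toPermHom G (G ⧸ N))
  have hρ : ∀ g x, ρ g (ε x) = ε (g • x) := fun g x => by
    simp [ρ, Equiv.permCongrHom, Equiv.permCongr_apply]
  have hinj : Function.Injective ρ := by
    rw [← MonoidHom.ker_eq_bot_iff]
    refine ρ.normal_ker.eq_bot_or_eq_top.resolve_right fun h => hN ?_
    rw [eq_top_iff]
    intro g _
    have hg : g ∈ ρ.ker := h ▸ Subgroup.mem_top g
    rw [MonoidHom.mem_ker] at hg
    have h1 := hρ g ((1 : G) : G ⧸ N)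
    rw [hg, Equiv.Perm.one_apply] at h1
    have h2 := ε.injective h1
    rw [MulAction.Quotient.smul_coe, smul_eq_mul, mul_one, QuotientGroup.eq, inv_one, one_mul] at h2
    exact h2
  let e : G ≃* ρ.range := MonoidHom.ofInjective hinj
  have hact : ∀ g x, (e g) • ε x = ε (g • x) := fun g x => hρ g x
  refine ⟨ρ.range, e, ⟨fun a b => ?_⟩, ⟨(MulEquiv.subgroupMap e N).trans
    (MulEquiv.subgroupCongr ?_)⟩⟩
  · obtain ⟨g, hg⟩ := MulAction.exists_smul_eq G (ε.symm a) (ε.symm b)
    exact ⟨e g, by rw [← ε.apply_symm_apply a, hact, hg, ε.apply_symm_apply]⟩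
  · ext h
    obtain ⟨g, rfl⟩ := e.surjective h
    rw [MulAction.mem_stabilizer_iff, ← hε, hact, ε.injective.eq_iff, MulAction.Quotient.smul_coe,
      smul_eq_mul, mul_one, QuotientGroup.eq, mul_one, inv_mem_iff]
    exact ⟨fun ⟨y, hy, hye⟩ => e.injective hye ▸ hy, fun hg => ⟨g, hg, rfl⟩⟩

theorem double_cover_map {G H : Type*} [Group G] [Finite G] [Group H] (e : G ≃* H) (t : G)
    (ht : orderOf t = 2) (x : ℕ → G) (hcomm : ∀ i < 9, x i * t = t * x i)
    (hcube : ∀ i < 9, x i ^ 3 = 1) (hne : x 0 ≠ 1)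
    (hpair : ∀ i < 9, ∀ j < 9, i ≠ j → (x i * x j) * (x i * x j) = t)
    (hcard : Nat.card (Subgroup.centralizer ({t} : Set G)) ≤ 39916800) :
    ∃ s : H, orderOf s = 2 ∧ Cfsg.IsNonsplitDoubleCover (Subgroup.centralizer ({s} : Set H))
      (alternatingGroup (Fin 11)) := by
  haveI : Finite H := Finite.of_equiv G e.toEquiv
  refine ⟨e t, (MulEquiv.orderOf_eq e t).trans ht, double_cover (e t) ((MulEquiv.orderOf_eq e t).trans ht)
    (fun i => e (x i)) (fun i hi => by rw [← map_mul, ← map_mul, hcomm i hi])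
    (fun i hi => by rw [← map_pow, hcube i hi, map_one]) (by simpa using hne)
    (fun i hi j hj h => by rw [← map_mul, ← map_mul, hpair i hi j hj h]) ?_⟩
  refine le_trans (le_of_eq ?_) hcard
  symm
  refine Nat.card_congr (Equiv.subtypeEquiv e.toEquiv fun g => ?_)
  show g ∈ Subgroup.centralizer ({t} : Set G) ↔ e g ∈ Subgroup.centralizer ({e t} : Set H)
  rw [Subgroup.mem_centralizer_singleton_iff, Subgroup.mem_centralizer_singleton_iff, ← map_mul,
    ← map_mul, e.injective.eq_iff]

end H65.LyPerm
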