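import Cfsg.Agent.H65.LyPerm.Lists
import Cfsg.Agent.H23.Ly.Data.Tab
import Cfsg.Agent.H65.LyPerm.Stab4Data

/-! The involutions of the cell stabiliser 4. -/

set_option autoImplicit false
set_option maxRecDepth 100000
set_option maxHeartbeats 0
set_option Elab.async false

namespace H65.LyPerm

open Data

theorem k4_square_12 : squareOK k4E H23.Ly.Data.T [0, 66, 193, 194, 195] k4Wit k4Inv 3024 252 = true := by decide +kernel

theorem k4_square_13 : squareOK k4E H23.Ly.Data.T [0, 66, 193, 194, 195] k4Wit k4Inv 3276 252 = true := by decide +kernel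

theorem k4_square_14 : squareOK k4E H23.Ly.Data.T [0, 66, 193, 194, 195] k4Wit k4Inv 3528 252 = true := by decide +kernel

theorem k4_square_15 : squareOK k4E H23.Ly.Data.T [0, 66, 193, 194, 195] k4Wit k4Inv 3780 252 = true := by decide +kernel

theorem k4_square_16 : squareOK k4E H23.Ly.Data.T [0, 66, 193, 194, 195] k4Wit k4Inv 4032 252 = true := by decide +kernel

theorem k4_square_17 : squareOK k4E H23.Ly.Data.T [0, 66, 193, 194, 195] k4Wit k4Inv 4284 252 = true := by decide +kernel

end H65.LyPerm
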