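import Cfsg.Agent.H65.LyPerm.Stab4SquareA
import Cfsg.Agent.H65.LyPerm.Stab4SquareB
import Cfsg.Agent.H65.LyPerm.Stab4SquareC
import Cfsg.Agent.H65.LyPerm.Stab4SquareD

/-! The involutions of the cell stabiliser 4. -/

set_option autoImplicit false

namespace H65.LyPerm

open Data

theorem k4_square : ∀ k < 6048, ∃ lo m, lo ≤ k ∧ k < lo + m ∧ squareOK k4E H23.Ly.Data.T [0, 66, 193, 194, 195] k4Wit k4Inv lo m = true := by
  intro k hk
  by_cases h0 : k < 252
  · exact ⟨0, 252, by omega, by omega, k4_square_0⟩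
  by_cases h1 : k < 504
  · exact ⟨252, 252, by omega, by omega, k4_square_1⟩
  by_cases h2 : k < 756
  · exact ⟨504, 252, by omega, by omega, k4_square_2⟩
  by_cases h3 : k < 1008
  · exact ⟨756, 252, by omega, by omega, k4_square_3⟩
  by_cases h4 : k < 1260
  · exact ⟨1008, 252, by omega, by omega, k4_square_4⟩
  by_cases h5 : k < 1512
  · exact ⟨1260, 252, by omega, by omega, k4_square_5⟩
  by_cases h6 : k < 1764
  · exact ⟨1512, 252, by omega, by omega, k4_square_6⟩
  by_cases h7 : k < 2016
  · exact ⟨1764, 252, by omega, by omega, k4_square_7⟩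
  by_cases h8 : k < 2268
  · exact ⟨2016, 252, by omega, by omega, k4_square_8⟩
  by_cases h9 : k < 2520
  · exact ⟨2268, 252, by omega, by omega, k4_square_9⟩
  by_cases h10 : k < 2772
  · exact ⟨2520, 252, by omega, by omega, k4_square_10⟩
  by_cases h11 : k < 3024
  · exact ⟨2772, 252, by omega, by omega, k4_square_11⟩
  by_cases h12 : k < 3276
  · exact ⟨3024, 252, by omega, by omega, k4_square_12⟩
  by_cases h13 : k < 3528
  · exact ⟨3276, 252, by omega, by omega, k4_square_13⟩
  by_cases h14 : k < 3780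
  · exact ⟨3528, 252, by omega, by omega, k4_square_14⟩
  by_cases h15 : k < 4032
  · exact ⟨3780, 252, by omega, by omega, k4_square_15⟩
  by_cases h16 : k < 4284
  · exact ⟨4032, 252, by omega, by omega, k4_square_16⟩
  by_cases h17 : k < 4536
  · exact ⟨4284, 252, by omega, by omega, k4_square_17⟩
  by_cases h18 : k < 4788
  · exact ⟨4536, 252, by omega, by omega, k4_square_18⟩
  by_cases h19 : k < 5040
  · exact ⟨4788, 252, by omega, by omega, k4_square_19⟩
  by_cases h20 : k < 5292
  · exact ⟨5040, 252, by omega, by omega, k4_square_20⟩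
  by_cases h21 : k < 5544
  · exact ⟨5292, 252, by omega, by omega, k4_square_21⟩
  by_cases h22 : k < 5796
  · exact ⟨5544, 252, by omega, by omega, k4_square_22⟩
  exact ⟨5796, 252, by omega, by omega, k4_square_23⟩

end H65.LyPerm
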