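import Cfsg.Agent.H65.LyPerm.Stab4Closed
import Cfsg.Agent.H65.LyPerm.Stab4Square

/-! The certificate of the cell stabiliser 4. -/

set_option autoImplicit false

namespace H65.LyPerm

open Data

theorem k4_cert : SubCert k4E H23.Ly.Data.T [0, 66, 193, 194, 195] k4Next k4Wit k4Inv :=
  ⟨by decide, rfl, rfl, le_rfl, k4_steps, k4_next, k4_square, k4_srt⟩

end H65.LyPerm
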