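import Cfsg.Prelude.Def_Sporadic
import Cfsg.Prelude.Def_Exceptional
import Cfsg.Agent.H65.LyPerm.Letters
import Cfsg.Agent.H65.LyPerm.Model
import Cfsg.Agent.H65.LyPerm.Realise
import Cfsg.Agent.H65.LyPerm.ConjFacts
import Cfsg.Agent.H65.LyPerm.Stab2Cert
import Cfsg.Agent.H65.LyPerm.Stab3Cert
import Cfsg.Agent.H65.LyPerm.Stab4Cert

/-!
The Lyons group as a permutation group of degree 8835156 with an involution centraliser `2.A₁₁`,
from simplicity, the index and the identification of the point stabiliser.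
-/

set_option autoImplicit false
set_option maxRecDepth 100000

namespace H65.LyPerm

open Data
open H77.HN (evw)

theorem table_facts : TableFacts H23.Ly.Data.T tFix where
  k2 := k2_cert
  k3 := k3_cert
  k4 := k4_cert
  fix := t_fix
  fix_len := by decide
  cj_codes := cj_codes
  cj_fix := cj_fix
  cj_srt := cj_srt

theorem t_ne_one : evw H23.Ly.gen [0, 0, 0, 0] ≠ 1 := by
  intro h
  have h1 : (H23.Ly.rep.φ (evw H23.Ly.gen [0, 0, 0, 0]) ⟨5, by decide⟩ : ℕ) ≠ 5 := by
    rw [H77.HN.Rep.evw_apply]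
    decide +kernel
  rw [h, map_one] at h1
  exact h1 rfl

theorem exists_lyons (hLy : Cfsg.IsLy Cfsg.Spor.Ly) (hidx : H97.Ly.abcd.index = 8835156)
    (hG2 : Cfsg.IsG2 H97.Ly.abcd) :
    ∃ H : Subgroup (Equiv.Perm (Fin 8835156)), Cfsg.IsLy H ∧
      MulAction.IsPretransitive H (Fin 8835156) ∧
      Cfsg.IsG2 (MulAction.stabilizer H (0 : Fin 8835156)) ∧ ∃ t : H, orderOf t = 2 ∧
        Cfsg.IsNonsplitDoubleCover (Subgroup.centralizer ({t} : Set H))
          (alternatingGroup (Fin 11)) := by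
  haveI : IsSimpleGroup Cfsg.Spor.Ly := hLy.1
  haveI : Finite Cfsg.Spor.Ly := Nat.finite_of_card_ne_zero (by rw [hLy.2]; norm_num)
  haveI := n0_finite
  have hne : H97.Ly.abcd ≠ ⊤ := by
    intro h
    rw [h, Subgroup.index_top] at hidx
    norm_num at hidx
  obtain ⟨H, e, htr, ⟨eN⟩⟩ := exists_perm_group H97.Ly.abcd 8835156 hidx hne
  haveI : Nontrivial H := e.toEquiv.symm.nontrivial
  have hS : IsSimpleGroup H := IsSimpleGroup.isSimpleGroup_of_surjective e.toMonoidHom e.surjective
  have hrange : lyModel.ι.range = H97.Ly.abcd := lyModel.range_eq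
  have hinj : Function.Injective H23.Ly.toLy := by
    have h1 := H97.Ly.abcd.card_mul_index
    rw [hidx, hLy.2] at h1
    have h2 : Nat.card H23.Ly.toLy.range = Nat.card H23.Ly.N0 := by
      rw [show H23.Ly.toLy.range = H97.Ly.abcd from hrange, n0_facts.1]
      exact Nat.eq_of_mul_eq_mul_right (show 0 < 8835156 by norm_num) (h1.trans (by norm_num))
    have hb := ((Nat.bijective_iff_surjective_and_card H23.Ly.toLy.rangeRestrict).mpr
      ⟨H23.Ly.toLy.rangeRestrict_surjective, h2.symm⟩).1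
    exact fun a b hab => hb (Subtype.ext hab)
  have hL := letters
  have ht2 := t_sq_n0
  have htne : wval lyLet tW ≠ 1 := by
    intro h
    rw [← t_toLy, ← map_one H23.Ly.toLy] at h
    exact t_ne_one (hinj h)
  have ht1 : evw H23.Ly.gen [0, 0, 0, 0] ≠ 1 := t_ne_one
  have hcent := cent_ly_le table_facts hinj hidx ht2 ht1
  rw [t_toLy] at hcent
  have hord : orderOf (wval lyLet tW) = 2 :=
    orderOf_eq_prime (by rw [pow_two]; exact hL.t_sq) htne
  refine ⟨H, ⟨hS, by rw [← Nat.card_congr e.toEquiv, hLy.2]⟩, htr, ?_,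
    double_cover_map e (wval lyLet tW) hord (carEl lyLet) (fun i hi => hL.comm hi)
      (fun i hi => hL.cube hi) (hL.ne_one htne) (fun i hi j hj h => hL.pair hi hj h) hcent⟩
  obtain ⟨hs, q, hq, h3, hc⟩ := hG2
  haveI := hs
  haveI : Nontrivial (MulAction.stabilizer H (0 : Fin 8835156)) := eN.toEquiv.symm.nontrivial
  exact ⟨IsSimpleGroup.isSimpleGroup_of_surjective eN.toMonoidHom eN.surjective, q, hq, h3,
    (Nat.card_congr eN.toEquiv).symm.trans hc⟩

end H65.LyPerm
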