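import Cfsg.Agent.H65.LyPerm.Lists
import Cfsg.Agent.H23.Ly.Data.Tab
import Cfsg.Agent.H65.LyPerm.Stab2Data

/-! The list of the cell stabiliser 2 is closed. -/

set_option autoImplicit false
set_option maxRecDepth 100000
set_option maxHeartbeats 0

namespace H65.LyPerm

open Data

theorem k2_steps_0 : stepsOK k2E H23.Ly.Data.T [0, 66, 193, 194, 195] 0 1000 = true := by decide +kernel

theorem k2_steps_1 : stepsOK k2E H23.Ly.Data.T [0, 66, 193, 194, 195] 1000 1000 = true := by decide +kernel

theorem k2_steps_2 : stepsOK k2E H23.Ly.Data.T [0, 66, 193, 194, 195] 2000 880 = true := by decide +kernel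

theorem k2_steps : ∀ k < 2880, ∃ lo m, lo ≤ k ∧ k < lo + m ∧ stepsOK k2E H23.Ly.Data.T [0, 66, 193, 194, 195] lo m = true := by
  intro k hk
  by_cases h0 : k < 1000
  · exact ⟨0, 1000, by omega, by omega, k2_steps_0⟩
  by_cases h1 : k < 2000
  · exact ⟨1000, 1000, by omega, by omega, k2_steps_1⟩
  exact ⟨2000, 880, by omega, by omega, k2_steps_2⟩

theorem k2_next_0 : nextOK k2E H23.Ly.Data.T [0, 66, 193, 194, 195] k2Next 0 1000 = true := by decide +kernel

theorem k2_next_1 : nextOK k2E H23.Ly.Data.T [0, 66, 193, 194, 195] k2Next 1000 1000 = true := by decide +kernel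

theorem k2_next_2 : nextOK k2E H23.Ly.Data.T [0, 66, 193, 194, 195] k2Next 2000 880 = true := by decide +kernel

theorem k2_next : ∀ k < 2880, ∃ lo m, lo ≤ k ∧ k < lo + m ∧ nextOK k2E H23.Ly.Data.T [0, 66, 193, 194, 195] k2Next lo m = true := by
  intro k hk
  by_cases h0 : k < 1000
  · exact ⟨0, 1000, by omega, by omega, k2_next_0⟩
  by_cases h1 : k < 2000
  · exact ⟨1000, 1000, by omega, by omega, k2_next_1⟩
  exact ⟨2000, 880, by omega, by omega, k2_next_2⟩

theorem k2_srt : k2E.srtOK = true := by decide +kernel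

end H65.LyPerm
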