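import Cfsg.Agent.H65.LyPerm.Lists
import Cfsg.Agent.H23.Ly.Data.Tab
import Cfsg.Agent.H65.LyPerm.Stab3Data

/-! The list of the cell stabiliser 3 is closed. -/

set_option autoImplicit false
set_option maxRecDepth 100000
set_option maxHeartbeats 0

namespace H65.LyPerm

open Data

theorem k3_steps_0 : stepsOK k3E H23.Ly.Data.T [0, 66, 193, 194, 195] 0 1008 = true := by decide +kernel

theorem k3_steps : ∀ k < 1008, ∃ lo m, lo ≤ k ∧ k < lo + m ∧ stepsOK k3E H23.Ly.Data.T [0, 66, 193, 194, 195] lo m = true := by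
  intro k hk
  exact ⟨0, 1008, by omega, by omega, k3_steps_0⟩

theorem k3_next_0 : nextOK k3E H23.Ly.Data.T [0, 66, 193, 194, 195] k3Next 0 1008 = true := by decide +kernel

theorem k3_next : ∀ k < 1008, ∃ lo m, lo ≤ k ∧ k < lo + m ∧ nextOK k3E H23.Ly.Data.T [0, 66, 193, 194, 195] k3Next lo m = true := by
  intro k hk
  exact ⟨0, 1008, by omega, by omega, k3_next_0⟩

theorem k3_srt : k3E.srtOK = true := by decide +kernel

end H65.LyPerm
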