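import Cfsg.Agent.H65.LyPerm.Lists
import Cfsg.Agent.H23.Ly.Data.Tab
import Cfsg.Agent.H65.LyPerm.Stab4Data

/-! The list of the cell stabiliser 4 is closed. -/

set_option autoImplicit false
set_option maxRecDepth 100000
set_option maxHeartbeats 0

namespace H65.LyPerm

open Data

theorem k4_steps_0 : stepsOK k4E H23.Ly.Data.T [0, 66, 193, 194, 195] 0 1008 = true := by decide +kernel

theorem k4_steps_1 : stepsOK k4E H23.Ly.Data.T [0, 66, 193, 194, 195] 1008 1008 = true := by decide +kernel

theorem k4_steps_2 : stepsOK k4E H23.Ly.Data.T [0, 66, 193, 194, 195] 2016 1008 = true := by decide +kernel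

theorem k4_steps_3 : stepsOK k4E H23.Ly.Data.T [0, 66, 193, 194, 195] 3024 1008 = true := by decide +kernel

theorem k4_steps_4 : stepsOK k4E H23.Ly.Data.T [0, 66, 193, 194, 195] 4032 1008 = true := by decide +kernel

theorem k4_steps_5 : stepsOK k4E H23.Ly.Data.T [0, 66, 193, 194, 195] 5040 1008 = true := by decide +kernel

theorem k4_steps : ∀ k < 6048, ∃ lo m, lo ≤ k ∧ k < lo + m ∧ stepsOK k4E H23.Ly.Data.T [0, 66, 193, 194, 195] lo m = true := by
  intro k hk
  by_cases h0 : k < 1008
  · exact ⟨0, 1008, by omega, by omega, k4_steps_0⟩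
  by_cases h1 : k < 2016
  · exact ⟨1008, 1008, by omega, by omega, k4_steps_1⟩
  by_cases h2 : k < 3024
  · exact ⟨2016, 1008, by omega, by omega, k4_steps_2⟩
  by_cases h3 : k < 4032
  · exact ⟨3024, 1008, by omega, by omega, k4_steps_3⟩
  by_cases h4 : k < 5040
  · exact ⟨4032, 1008, by omega, by omega, k4_steps_4⟩
  exact ⟨5040, 1008, by omega, by omega, k4_steps_5⟩

theorem k4_next_0 : nextOK k4E H23.Ly.Data.T [0, 66, 193, 194, 195] k4Next 0 1008 = true := by decide +kernel

theorem k4_next_1 : nextOK k4E H23.Ly.Data.T [0, 66, 193, 194, 195] k4Next 1008 1008 = true := by decide +kernel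

theorem k4_next_2 : nextOK k4E H23.Ly.Data.T [0, 66, 193, 194, 195] k4Next 2016 1008 = true := by decide +kernel

theorem k4_next_3 : nextOK k4E H23.Ly.Data.T [0, 66, 193, 194, 195] k4Next 3024 1008 = true := by decide +kernel

theorem k4_next_4 : nextOK k4E H23.Ly.Data.T [0, 66, 193, 194, 195] k4Next 4032 1008 = true := by decide +kernel

theorem k4_next_5 : nextOK k4E H23.Ly.Data.T [0, 66, 193, 194, 195] k4Next 5040 1008 = true := by decide +kernel

theorem k4_next : ∀ k < 6048, ∃ lo m, lo ≤ k ∧ k < lo + m ∧ nextOK k4E H23.Ly.Data.T [0, 66, 193, 194, 195] k4Next lo m = true := by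
  intro k hk
  by_cases h0 : k < 1008
  · exact ⟨0, 1008, by omega, by omega, k4_next_0⟩
  by_cases h1 : k < 2016
  · exact ⟨1008, 1008, by omega, by omega, k4_next_1⟩
  by_cases h2 : k < 3024
  · exact ⟨2016, 1008, by omega, by omega, k4_next_2⟩
  by_cases h3 : k < 4032
  · exact ⟨3024, 1008, by omega, by omega, k4_next_3⟩
  by_cases h4 : k < 5040
  · exact ⟨4032, 1008, by omega, by omega, k4_next_4⟩
  exact ⟨5040, 1008, by omega, by omega, k4_next_5⟩

theorem k4_srt : k4E.srtOK = true := by decide +kernel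

end H65.LyPerm
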